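import Cfsg.Agent.Lib.Transfer.ZJ

/-!
Normal `p`-complement theorems of Thompson and Glauberman; the subgroup `W(S)`.
-/

set_option autoImplicit false
set_option linter.unusedSectionVars false
set_option linter.style.haveILetI false

namespace Cfsg.Agent.Transfer

open Subgroup
open scoped commutatorElement

universe u

section
variable {G : Type*} [Group G] [Finite G] {p : ℕ} [hp : Fact p.Prime]

theorem res_eq_bot_of_hasNPC (hO : pPrimeCore p G = ⊥) {D : Subgroup G} [D.Normal]
    (h : HasNormalPComplement p D) : res p D = ⊥ := by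
  haveI : (res p D).Normal := Solv.instNormalMapSubtypeOfChar D _
  exact le_bot_iff.1 (hO ▸ Solv.le_pPrimeCore
    ((hp.out.coprime_iff_not_dvd.2 (hasNPC_sub_iff.1 h)).symm))

theorem centralizer_pCore_le_of_hasNPC (hO : pPrimeCore p G = ⊥)
    (h : HasNormalPComplement p (G ⧸ pCore p G)) : centralizer (pCore p G : Set G) ≤ pCore p G := by
  have h1 : IsSyl p (pCore p G) (pCore p G ⊔ pResidual p G) := ⟨le_sup_left, Solv.isPGroup_pCore p G, by
    rw [← Solv.card_map_mk_eq_relIndex, Subgroup.map_sup, (Solv.map_mk_eq_bot_iff _).2 le_rfl, bot_sup_eq,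
      map_pResidual_eq _ (QuotientGroup.mk'_surjective _)]
    exact hasNPC_iff_not_dvd.1 h⟩
  have h2 := h1.inf_of_le_normalizer
    (inf_le_right : centralizer (pCore p G : Set G) ⊓ (pCore p G ⊔ pResidual p G) ≤ _)
    le_normalizer_of_normal
  have h3 := res_eq_bot_of_hasNPC hO (h2.hasNPC_of_le_centralizer
    (inf_le_left.trans (inf_le_left.trans (centralizer_le fun _ h => h.1))))
  refine Solv.le_pCore (isPGroup_iff_res_eq_bot.2 (le_bot_iff.1 ?_))
  rw [← h3, ← res_res]
  exact res_mono (le_inf (res_le _) ((res_le_pResidual _).trans le_sup_right))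

theorem comm_of_map {G' : Type*} [Group G'] {f : G →* G'} {S : Subgroup G} (hf : S ⊓ f.ker = ⊥)
    (h : IsMulCommutative (S.map f)) : IsMulCommutative S :=
  comm_iff.2 fun a ha b hb => eq_of_map_eq hf (mul_mem ha hb) (mul_mem hb ha) (by
    rw [map_mul, map_mul]; exact comm_iff.1 h _ ⟨a, ha, rfl⟩ _ ⟨b, hb, rfl⟩)

theorem inf_eq_bot_of_isPGroup {q : ℕ} [hq : Fact q.Prime] (h : p ≠ q) {A B : Subgroup G}
    (hA : IsPGroup p A) (hB : IsPGroup q B) : A ⊓ B = ⊥ :=
  disjoint_iff.1 (IsPGroup.disjoint_of_ne p q h A B hA hB)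

theorem abelian_sylow_of_maximal (P : Sylow p G) (h : HasNormalPComplement p G)
    (hmax : ∀ H, (P : Subgroup G) ≤ H → H = P ∨ H = ⊤) {q : ℕ} [hq : Fact q.Prime] (hne : p ≠ q)
    {Q : Subgroup G} (hQ : IsPGroup q Q) : IsMulCommutative Q := by
  obtain ⟨k, hk⟩ := P.isPGroup'.exists_card_eq
  haveI := P.isPGroup'.isNilpotent
  obtain ⟨T, hT, hn⟩ := Solv.coprime_exists_sylowIn (A := P) (K := pResidual p G) le_normalizer_of_normal
    (by rw [hk]; exact (hp.out.coprime_iff_not_dvd.2 (hasNPC_iff_not_dvd.1 h)).pow_left k)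
    (Or.inl inferInstance) q
  obtain ⟨T', hT'⟩ := (IsSyl.trans ⟨hT.1, hT.2, hT.3⟩ le_top (by
    obtain ⟨n, hn⟩ := index_pResidual (p := p) (G := G)
    rw [relIndex_top_right, hn]
    exact fun h => hne ((Nat.prime_dvd_prime_iff_eq hq.out hp.out).1 (hq.out.dvd_of_dvd_pow h)).symm)
    ).exists_sylow
  refine comm_of_isPGroup_of_sylow T' (hT' ▸ ?_) hQ
  by_cases hb : T = ⊥
  · rw [hb]; infer_instance
  have h1 := inf_eq_bot_of_isPGroup hne P.isPGroup' hT.2
  rcases hmax (T ⊓ centralizer (T : Set G) ⊔ P) le_sup_right with h2 | h2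
  · exact absurd (le_bot_iff.1 (h1 ▸ le_inf (le_sup_left.trans h2.le) inf_le_left))
      (inf_centralizer_ne_bot hT.2 le_rfl le_normalizer hb)
  · have := Solv.dedekind (A := T ⊓ centralizer (T : Set G)) (B := P) (C := T) inf_le_left
      (Solv.le_normalizer_inf hn (Solv.le_normalizer_centralizer hn))
    rw [h2, top_inf_eq, h1, sup_bot_eq] at this
    rw [this]
    exact comm_inf_centralizer T

end

theorem npc_framework {p : ℕ} [hp : Fact p.Prime] (hp2 : p ≠ 2)
    (Hyp : ∀ (G : Type u) [Group G], Subgroup G → Prop)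
    (hsub : ∀ (G : Type u) [Group G] [Finite G] (P H : Subgroup G), P ≤ H → Hyp G P →
      Hyp H (P.subgroupOf H))
    (hquo : ∀ (G : Type u) [Group G] [Finite G] (P N : Subgroup G) [N.Normal], IsPGroup p P →
      (Nat.card N).Coprime p → Hyp G P → Hyp (G ⧸ N) (P.map (QuotientGroup.mk' N)))
    (hloc : ∀ (G : Type u) [Group G] [Finite G] (T : Subgroup G), IsPGroup p T → T ≠ ⊥ →
      (∀ W ≤ T, W ≠ ⊥ → normalizer (T : Set G) ≤ normalizer (W : Set G) →
        HasNormalPComplement p (normalizer (W : Set G))) → Hyp G T)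
    (hbase : ∀ (G : Type u) [Group G] [Finite G] (P : Sylow p G),
      centralizer (pCore p G : Set G) ≤ pCore p G → (∀ T : Sylow 2 G, IsMulCommutative T) →
      (∀ H, (P : Subgroup G) ≤ H → H = P ∨ H = ⊤) → Hyp G P → HasNormalPComplement p G)
    (G : Type u) [i1 : Group G] [i2 : Finite G] :
    ∀ P : Sylow p G, Hyp G P → HasNormalPComplement p G := by
  induction G, i1, i2 using Solv.card_induction' with
  | h G ih =>
  intro P hP
  have ihsub : ∀ H T : Subgroup G, IsSyl p T H → H ≠ ⊤ → Hyp G T → HasNormalPComplement p H := by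
    intro H T h1 h2 h3
    obtain ⟨S, hS⟩ := h1.exists_sylow_sub
    exact ih H (Solv.card_lt_of_ne_top h2) S (hS ▸ hsub G T H h1.le h3)
  have hN := Solv.coprime_card_pPrimeCore (G := G) p
  by_cases hO : pPrimeCore p G = ⊥
  swap
  · exact hasNPC_of_quotient_coprime (Solv.not_dvd_card_pPrimeCore) (ih _ (Solv.card_quotient_lt hO)
      (P.mapSurjective (QuotientGroup.mk'_surjective _)) (hquo G P _ P.isPGroup' hN hP))
  by_cases hU : pCore p G = ⊥
  · have key : ∀ n, ∀ U ≤ (P : Subgroup G), U ≠ ⊥ →
        Nat.card P - Nat.card ((P : Subgroup G) ⊓ normalizer (U : Set G) : Subgroup G) < n →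
        HasNormalPComplement p (normalizer (U : Set G)) := by
      intro n
      induction n with
      | zero => intro U _ _ h; omega
      | succ n ihn =>
        intro U h1 h2 h3
        obtain ⟨g, h4, h5, h6⟩ := exists_cj_fullyNormalized P (P.isPGroup'.to_le h1)
          (P.isPGroup'.to_le inf_le_left) (inf_le_right : (P : Subgroup G) ⊓ normalizer (U : Set G) ≤ _)
        have h7 := card_le_of_le (le_inf h5 (cj_normalizer g U ▸ cj_mono g inf_le_right))
        rw [card_cj] at h7
        rw [← hasNPC_cj g, cj_normalizer]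
        have h8 : cj g U ≠ ⊥ := mt cj_eq_bot_iff.1 h2
        generalize cj g U = U' at *
        refine ihsub _ _ h6 (fun h => h8 (le_bot_iff.1 ?_)) ?_
        · haveI := normalizer_eq_top_iff.1 h
          exact hU ▸ Solv.le_pCore (P.isPGroup'.to_le h4)
        rcases (inf_le_left : (P : Subgroup G) ⊓ normalizer (U' : Set G) ≤ P).lt_or_eq with h9 | h9
        · refine hloc G _ h6.pgroup (fun h => h8 (le_bot_iff.1 (h ▸ le_inf h4 le_normalizer)))
            fun W h10 h11 h12 => ihn W (h10.trans inf_le_left) h11 ?_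
          have := card_lt_of_lt ((lt_inf_normalizer P.isPGroup' h9).trans_le (inf_le_inf_left _ h12))
          have := card_le_of_le (inf_le_left : (P : Subgroup G) ⊓ normalizer (W : Set G) ≤ P)
          omega
        · rwa [h9]
    exact hasNPC_of_local P fun B h1 h2 => key _ B h1 h2 (Nat.lt_succ_self _)
  have hf := QuotientGroup.mk'_surjective (pCore p G)
  have h1 : HasNormalPComplement p (G ⧸ pCore p G) := by
    by_cases hb : (P.mapSurjective hf : Subgroup (G ⧸ pCore p G)) = ⊥
    · exact hasNPC_of_not_dvd (by simpa using (isSyl_top _).eq_bot_iff.1 hb)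
    refine ih _ (Solv.card_quotient_lt hU) (P.mapSurjective hf) (hloc _ _ (Sylow.isPGroup' _) hb
      fun W h2 h3 h4 => ?_)
    rw [← map_comap_eq_self_of_surjective hf (normalizer (W : Set _)),
      comap_normalizer_eq_of_surjective _ hf]
    refine hasNPC_map _ (ihsub _ P ((isSyl_top P).mono ?_ le_top) (fun h => h3 ?_) hP)
    · rw [← comap_normalizer_eq_of_surjective _ hf, ← map_le_iff_le_comap]
      exact le_normalizer.trans h4
    · haveI := normalizer_eq_top_iff.1 h
      rw [← Solv.map_comap_mk _ W, Solv.map_mk_eq_bot_iff]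
      exact Solv.le_pCore (Solv.isPGroup_comap_mk (Solv.isPGroup_pCore p G) ((Sylow.isPGroup' _).to_le h2))
  have hc := centralizer_pCore_le_of_hasNPC hO h1
  have hmax : ∀ H, (P : Subgroup G) ≤ H → H = P ∨ H = ⊤ := fun H h => by
    refine or_iff_not_imp_right.2 fun h2 => ?_
    have h3 := ihsub H P ((isSyl_top P).mono h le_top) h2 hP
    refine (isSyl_top P).eq_of_le (isPGroup_iff_res_eq_bot.2 ?_) le_top h
    rw [← res_res]
    refine res_eq_bot_of_isPGroup ((Solv.isPGroup_pCore p G).to_le (le_trans ?_ hc))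
    exact res_le_iff.2 fun g h4 h5 => mem_centralizer_of_hasNPC h3 (Solv.isPGroup_pCore p G)
      ((Solv.pCore_le_sylow P).trans h) h4 (le_normalizer_of_normal (mem_top g)) h5
  refine hbase G P hc (fun T => comm_of_map (f := QuotientGroup.mk' (pCore p G)) ?_
    (abelian_sylow_of_maximal (P.mapSurjective hf) h1 (fun H h => ?_) hp2 (T.isPGroup'.map _))) hmax hP
  · rw [QuotientGroup.ker_mk', inf_comm]
    exact inf_eq_bot_of_isPGroup hp2 (Solv.isPGroup_pCore p G) T.isPGroup'
  · rw [← Solv.map_comap_mk _ H]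
    exact (hmax _ (map_le_iff_le_comap.1 h)).imp (fun h => by rw [h]; rfl)
      fun h => by rw [h, map_top_of_surjective _ hf]

section
variable {G : Type*} [Group G] [Finite G] {p : ℕ} [hp : Fact p.Prime]

theorem hasNPC_of_map_subtype_le {H : Subgroup G} {K : Subgroup H} {L : Subgroup G}
    (h : K.map H.subtype ≤ L) (hL : HasNormalPComplement p L) : HasNormalPComplement p K :=
  (hasNPC_congr (K.equivMapOfInjective _ H.subtype_injective)).2 (hasNPC_mono hL h)

theorem hasNPC_normalizer_subgroupOf {H W : Subgroup G} (h : W ≤ H)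
    (hL : HasNormalPComplement p (normalizer (W : Set G))) :
    HasNormalPComplement p (normalizer (W.subgroupOf H : Set H)) :=
  hasNPC_of_map_subtype_le ((le_normalizer_map _).trans (by rw [map_subgroupOf_eq_of_le h])) hL

theorem hasNPC_centralizer_subgroupOf {H W : Subgroup G} (h : W ≤ H)
    (hL : HasNormalPComplement p (centralizer (W : Set G))) :
    HasNormalPComplement p (centralizer (W.subgroupOf H : Set H)) :=
  hasNPC_of_map_subtype_le (by
    rw [Comp.map_subtype_centralizer, map_subgroupOf_eq_of_le h]; exact inf_le_right) hL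

omit hp [Finite G] in
theorem eq_subgroupOf_of_map {H : Subgroup G} {K : Subgroup H} {W : Subgroup G}
    (h : K.map H.subtype = W) : K = W.subgroupOf H := by
  rw [← h, Solv.map_subtype_subgroupOf]

theorem hasNPC_of_normalizer_of_normal {W : Subgroup G} (hW : W.Normal)
    (h : HasNormalPComplement p (normalizer (W : Set G))) : HasNormalPComplement p G := by
  rwa [normalizer_eq_top_iff.2 hW, hasNPC_top] at h

end

/-- normal `p`-complement theorem for a natural subgroup functor that is normal in stable groups -/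
theorem npc_of_functor {p : ℕ} [hp : Fact p.Prime] (hp2 : p ≠ 2)
    (W : ∀ {G : Type u} [Group G], Subgroup G → Subgroup G)
    (hmap : ∀ {G G' : Type u} [Group G] [Group G'] (f : G →* G') (S : Subgroup G), S ⊓ f.ker = ⊥ →
      (W S).map f = W (S.map f))
    (hle : ∀ {G : Type u} [Group G] (S : Subgroup G), W S ≤ S)
    (hne : ∀ {G : Type u} [Group G] [Finite G] (S : Subgroup G), IsPGroup p S → S ≠ ⊥ → W S ≠ ⊥)
    (hbase : ∀ (G : Type u) [Group G] [Finite G] (P : Sylow p G),
      centralizer (pCore p G : Set G) ≤ pCore p G → (∀ T : Sylow 2 G, IsMulCommutative T) →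
      (W (P : Subgroup G)).Normal)
    {G : Type u} [Group G] [Finite G] (P : Sylow p G)
    (h : HasNormalPComplement p (normalizer (W (P : Subgroup G) : Set G))) :
    HasNormalPComplement p G := by
  refine npc_framework hp2 (fun G _ S => HasNormalPComplement p (normalizer (W S : Set G)))
    ?_ ?_ ?_ ?_ G P h
  · intro G _ _ P H h1 h2
    rw [eq_subgroupOf_of_map ((hmap H.subtype _ (inf_ker_eq_bot_of_injective H.subtype_injective _)).trans
      (by rw [map_subgroupOf_eq_of_le h1]))]
    exact hasNPC_normalizer_subgroupOf ((hle P).trans h1) h2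
  · intro G _ _ P N _ h1 h2 h3
    rw [← hmap _ _ (inf_ker_mk_eq_bot h2 h1), ← map_mk_normalizer h2 (h1.to_le (hle P))]
    exact hasNPC_map _ h3
  · intro G _ _ T h1 h2 h3
    refine h3 _ (hle T) (hne T h1 h2) fun g hg => ?_
    rw [mem_normalizer_iff_cj] at hg ⊢
    exact (hmap _ _ (inf_ker_eq_bot_of_injective (MulAut.conj g).injective _)).trans (congrArg W hg)
  · intro G _ _ P h1 h2 _ h3
    exact hasNPC_of_normalizer_of_normal (hbase G P h1 h2) h3

theorem glauberman_thompson {G : Type u} [Group G] [Finite G] {p : ℕ} [hp : Fact p.Prime]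
    (hp2 : p ≠ 2) {n : ℕ} (hn : n = p ∨ n = 0) (P : Sylow p G)
    (h : HasNormalPComplement p (normalizer (centerThompsonOf n (P : Subgroup G) : Set G))) :
    HasNormalPComplement p G :=
  npc_of_functor hp2 (centerThompsonOf n) (fun _ _ h => map_ZJ h) ZJ_le (fun _ => ZJ_ne_bot hn)
    (fun _ _ _ P h1 h2 => ZJ_normal hp2 hn h1
      (fun B _ hB => isPStableOn_of_abelian hp2 default (h2 _) B hB) P) P h

theorem thompson_npc {G : Type u} [Group G] [Finite G] {p : ℕ} [hp : Fact p.Prime]
    (hp2 : p ≠ 2) (P : Sylow p G)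
    (h1 : HasNormalPComplement p (normalizer (thompsonSubgroupOf p (P : Subgroup G) : Set G)))
    (h2 : HasNormalPComplement p (centralizer
      (((P : Subgroup G) ⊓ centralizer ((P : Subgroup G) : Set G) : Subgroup G) : Set G))) :
    HasNormalPComplement p G := by
  refine npc_framework hp2 (fun G _ S =>
    HasNormalPComplement p (normalizer (thompsonSubgroupOf p S : Set G)) ∧
    HasNormalPComplement p (centralizer ((S ⊓ centralizer (S : Set G) : Subgroup G) : Set G)))
    ?_ ?_ ?_ ?_ G P ⟨h1, h2⟩
  · intro G _ _ P H h1 h2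
    rw [J_subgroupOf h1, eq_subgroupOf_of_map ((map_inf_centralizer
      (inf_ker_eq_bot_of_injective H.subtype_injective (P.subgroupOf H)) le_rfl le_rfl).trans
      (by rw [map_subgroupOf_eq_of_le h1]))]
    exact ⟨hasNPC_normalizer_subgroupOf ((J_le P).trans h1) h2.1,
      hasNPC_centralizer_subgroupOf (inf_le_left.trans h1) h2.2⟩
  · intro G _ _ P N _ h1 h2 h3
    rw [← map_J (inf_ker_mk_eq_bot h2 h1), ← map_mk_normalizer h2 (h1.to_le (J_le P)),
      ← map_inf_centralizer (inf_ker_mk_eq_bot h2 h1) le_rfl le_rfl,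
      ← map_mk_centralizer h2 (h1.to_le inf_le_left)]
    exact ⟨hasNPC_map _ h3.1, hasNPC_map _ h3.2⟩
  · intro G _ _ T h1 h2 h3
    exact ⟨h3 _ (J_le T) (J_ne_bot (Or.inl rfl) h1 h2) (normalizer_le_normalizer_J T),
      hasNPC_mono (h3 _ inf_le_left (inf_centralizer_ne_bot h1 le_rfl le_normalizer h2)
        fun g hg => mem_normalizer_inf hg (mem_normalizer_centralizer hg)) (centralizer_le_normalizer _)⟩
  · intro G _ _ P hc h2 hmax h3
    have hU := Solv.isPGroup_pCore p G
    have hV := elem_OZ (p := p) (pCore p G)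
    haveI : (OZ p (pCore p G)).Normal := normal_of_cj_le fun g => by rw [cj_OZ, cj_eq_of_normal]
    rcases hmax ((P : Subgroup G) ⊔ centralizer (OZ p (pCore p G) : Set G)) le_sup_left with h4 | h4
    · have h5 : centralizer (OZ p (pCore p G) : Set G) ≤ pCore p G :=
        Solv.le_pCore (P.isPGroup'.to_le (le_sup_right.trans h4.le))
      have h6 : thompsonSubgroupOf p (P : Subgroup G) ≤ centralizer (OZ p (pCore p G) : Set G) := by
        by_contra h
        obtain ⟨A, -, h7, h8⟩ := exists_quad_of_not_J_le hV ((OZ_le _).trans (Solv.pCore_le_sylow P))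
          le_normalizer_of_normal h
        refine h8 fun a ha => le_centralizer_iff.1 (OZ_le_centralizer _) ?_
        have := (IsPStableOn.res_le (isPStableOn_of_abelian hp2 default (h2 _) _ (elem_isPGroup hV))
          (quad_mono le_rfl (zpowers_le.2 ha) h7)).trans h5
        rw [mem_pCore_iff_normalClosure, isPGroup_iff_res_eq_bot, ← res_res]
        exact res_eq_bot_of_isPGroup (hU.to_le this)
      refine hasNPC_of_normalizer_of_normal (normal_of_cj_le fun g => ?_) h3.1
      rw [← J_eq_of_le (h6.trans h5) (Solv.pCore_le_sylow P), cj_J, cj_eq_of_normal]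
    · have h5 : pResidual p G ≤ centralizer (OZ p (pCore p G) : Set G) := by
        refine pResidual_le_of_quotient ?_
        have := P.isPGroup'.map (QuotientGroup.mk' (centralizer (OZ p (pCore p G) : Set G)))
        rw [← sup_bot_eq (map _ _), ← (Solv.map_mk_eq_bot_iff _).2 le_rfl, ← Subgroup.map_sup, h4,
          Solv.map_top_mk] at this
        exact this.of_equiv topEquiv
      have h6 : centralizer (((P : Subgroup G) ⊓ centralizer ((P : Subgroup G) : Set G) : Subgroup G) :
          Set G) = ⊤ := by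
        rw [eq_top_iff, ← pResidual_sup_sylow P]
        refine sup_le ?_ (le_centralizer_iff.1 inf_le_right)
        rw [← res_top, res_le_iff]
        intro g _ hg
        have h7 : (P : Subgroup G) ⊓ centralizer ((P : Subgroup G) : Set G) ≤
            centralizer (pCore p G : Set G) := inf_le_right.trans (centralizer_le (Solv.pCore_le_sylow P))
        refine centralizer_le (le_inf (h7.trans hc) h7) (mem_centralizer_of_omega hp2 hg _
          (hU.to_le inf_le_left) (le_normalizer_of_normal (mem_top g)) fun x h8 h9 => ?_)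
        exact h5 (mem_pResidual_of_coprime hg) x (mem_omegaOne h8 h9)
      rw [← hasNPC_top, ← h6]
      exact h3.2

end Cfsg.Agent.Transfer
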