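import Cfsg.Agent.Lib.Transfer.Count
import Cfsg.Agent.Lib.Solv.Frattini
import Cfsg.Prelude.Def_CaseTheorems

/-!
Elementary abelian subgroups, ranks, centres of subgroups.
-/

set_option autoImplicit false
set_option linter.unusedSectionVars false
set_option linter.style.haveILetI false

namespace Cfsg.Agent.Transfer

open Subgroup

variable {G : Type*} [Group G] {p : ℕ}

theorem comm_iff {H : Subgroup G} : IsMulCommutative H ↔ ∀ a ∈ H, ∀ b ∈ H, a * b = b * a :=
  Solv.isMulCommutative_iff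

theorem comm_iff_le_centralizer {H : Subgroup G} : IsMulCommutative H ↔ H ≤ centralizer (H : Set G) :=
  le_centralizer_iff_isMulCommutative.symm

theorem elem_iff {A : Subgroup G} : IsElementaryAbelian p A ↔
    (∀ a ∈ A, ∀ b ∈ A, a * b = b * a) ∧ ∀ a ∈ A, a ^ p = 1 := and_congr comm_iff Iff.rfl

theorem elem_commute {A : Subgroup G} (h : IsElementaryAbelian p A) {a b : G} (ha : a ∈ A)
    (hb : b ∈ A) : Commute a b := comm_iff.1 h.1 a ha b hb

theorem elem_two_of_mul_self {A : Subgroup G} (h : ∀ a ∈ A, a * a = 1) : IsElementaryAbelian 2 A := by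
  refine elem_iff.2 ⟨fun a ha b hb => ?_, fun a ha => by rw [pow_two, h a ha]⟩
  have := inv_eq_of_mul_eq_one_right (h _ (mul_mem ha hb))
  rw [mul_inv_rev, inv_eq_of_mul_eq_one_right (h a ha), inv_eq_of_mul_eq_one_right (h b hb)] at this
  exact this.symm

theorem elem_mul_self {A : Subgroup G} (h : IsElementaryAbelian 2 A) {a : G} (ha : a ∈ A) :
    a * a = 1 := by rw [← pow_two]; exact h.2 a ha

theorem elem_mono {A B : Subgroup G} (h : IsElementaryAbelian p B) (hAB : A ≤ B) :
    IsElementaryAbelian p A :=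
  elem_iff.2 ⟨fun _ ha _ hb => elem_commute h (hAB ha) (hAB hb), fun a ha => h.2 a (hAB ha)⟩

theorem elem_map {G' : Type*} [Group G'] {A : Subgroup G} (h : IsElementaryAbelian p A)
    (f : G →* G') : IsElementaryAbelian p (A.map f) := by
  refine elem_iff.2 ⟨?_, ?_⟩
  · rintro _ ⟨a, ha, rfl⟩ _ ⟨b, hb, rfl⟩
    exact (elem_commute h ha hb).map f
  · rintro _ ⟨a, ha, rfl⟩
    rw [← map_pow, h.2 a ha, map_one]

theorem elem_comap {G' : Type*} [Group G'] {A : Subgroup G} (h : IsElementaryAbelian p A)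
    {f : G' →* G} (hf : Function.Injective f) : IsElementaryAbelian p (A.comap f) :=
  elem_iff.2 ⟨fun a ha b hb => hf (by rw [map_mul, map_mul]; exact elem_commute h ha hb),
    fun a ha => hf (by rw [map_pow, map_one]; exact h.2 _ ha)⟩

theorem elem_subgroupOf {A : Subgroup G} (h : IsElementaryAbelian p A) (H : Subgroup G) :
    IsElementaryAbelian p (A.subgroupOf H) := elem_comap h H.subtype_injective

theorem elem_cj {A : Subgroup G} (h : IsElementaryAbelian p A) (g : G) :
    IsElementaryAbelian p (cj g A) := elem_map h _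

theorem elem_isPGroup {A : Subgroup G} (h : IsElementaryAbelian p A) : IsPGroup p A :=
  isPGroup_of_forall_mem fun x hx => ⟨1, by rw [pow_one, h.2 x hx]⟩

theorem elem_bot : IsElementaryAbelian p (⊥ : Subgroup G) :=
  elem_iff.2 ⟨by simp, by simp⟩

theorem elem_zpowers {a : G} (h : a ^ p = 1) : IsElementaryAbelian p (zpowers a) := by
  refine ⟨inferInstance, ?_⟩
  rintro _ ⟨k, rfl⟩
  simp only
  rw [← zpow_natCast, ← zpow_mul, mul_comm, zpow_mul, zpow_natCast, h, one_zpow]

theorem elem_sup {A B : Subgroup G} (hA : IsElementaryAbelian p A) (hB : IsElementaryAbelian p B)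
    (h : A ≤ centralizer (B : Set G)) : IsElementaryAbelian p (A ⊔ B) := by
  have hm : ∀ x, x ∈ A ⊔ B ↔ ∃ a ∈ A, ∃ b ∈ B, x = a * b := fun x =>
    mem_sup_iff_of_le_normalizer (h.trans (centralizer_le_normalizer _))
  have hc : ∀ a ∈ A, ∀ b ∈ B, Commute a b := fun a ha b hb => (h ha b hb).symm
  refine elem_iff.2 ⟨fun x hx y hy => ?_, fun x hx => ?_⟩
  · obtain ⟨a, ha, b, hb, rfl⟩ := (hm x).1 hx
    obtain ⟨c, hc', d, hd, rfl⟩ := (hm y).1 hy
    exact ((elem_commute hA ha hc').mul_right (hc a ha d hd)).mul_left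
      ((hc c hc' b hb).symm.mul_right (elem_commute hB hb hd))
  · obtain ⟨a, ha, b, hb, rfl⟩ := (hm x).1 hx
    rw [(hc a ha b hb).mul_pow, hA.2 a ha, hB.2 b hb, one_mul]

theorem comm_sup {A B : Subgroup G} (hA : IsMulCommutative A) (hB : IsMulCommutative B)
    (h : A ≤ centralizer (B : Set G)) : IsMulCommutative (A ⊔ B : Subgroup G) :=
  (elem_sup (p := 0) ⟨hA, by simp⟩ ⟨hB, by simp⟩ h).1

theorem klein_elem {V : Subgroup G} (hV : IsKleinFour V) : IsElementaryAbelian 2 V :=
  elem_two_of_mul_self fun a ha => congrArg Subtype.val (IsKleinFour.mul_self (⟨a, ha⟩ : V))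

theorem klein_of_elem {V : Subgroup G} (hV : IsElementaryAbelian 2 V) (h4 : Nat.card V = 4) :
    IsKleinFour V := by
  haveI : Finite V := Nat.finite_of_card_ne_zero (by omega)
  haveI : Nontrivial V := Finite.one_lt_card_iff_nontrivial.1 (by omega)
  exact ⟨h4, (Monoid.exponent_eq_prime_iff Nat.prime_two).2 fun g hg =>
    orderOf_eq_prime (Subtype.ext (hV.2 g g.2)) hg⟩

theorem klein_cj {V : Subgroup G} (hV : IsKleinFour V) (g : G) : IsKleinFour (cj g V) :=
  klein_of_elem (elem_cj (klein_elem hV) g) (by rw [card_cj, hV.card_four])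

theorem klein_map {G' : Type*} [Group G'] {V : Subgroup G} (hV : IsKleinFour V) {f : G →* G'}
    (hf : Function.Injective f) : IsKleinFour (V.map f) :=
  klein_of_elem (elem_map (klein_elem hV) f) (by rw [card_map_of_injective hf, hV.card_four])

theorem card_sup_zpowers_of_commute {A : Subgroup G} {x : G} (hx : x ∈ centralizer (A : Set G))
    (h2 : x * x = 1) (hA : x ∉ A) : Nat.card (A ⊔ zpowers x : Subgroup G) = 2 * Nat.card A :=
  card_sup_zpowers (centralizer_le_normalizer _ hx) (by rw [pow_two, h2]; exact one_mem _) hA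

theorem elem_sup_zpowers {A : Subgroup G} (hA : IsElementaryAbelian p A) {x : G}
    (hx : x ∈ centralizer (A : Set G)) (h2 : x ^ p = 1) : IsElementaryAbelian p (A ⊔ zpowers x) :=
  elem_sup hA (elem_zpowers h2) (le_centralizer_iff.1 (zpowers_le.2 hx))

theorem klein_closure {a b : G} (ha : orderOf a = 2) (hb : orderOf b = 2) (hab : a ≠ b)
    (h : Commute a b) : IsKleinFour (zpowers a ⊔ zpowers b : Subgroup G) := by
  have hc : b ∈ centralizer (zpowers a : Set G) := by
    rintro _ ⟨k, rfl⟩; exact (h.zpow_left k).eq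
  refine klein_of_elem (elem_sup_zpowers (elem_zpowers (sq_eq_one_of_orderOf ha)) hc
    (sq_eq_one_of_orderOf hb)) ?_
  rw [card_sup_zpowers_of_commute hc (mul_self_of_orderOf hb), Nat.card_zpowers, ha]
  rw [mem_zpowers_iff_of_sq (mul_self_of_orderOf ha)]
  rintro (h | h)
  exacts [ne_one_of_orderOf hb h, hab h.symm]

theorem pRankLE_sub_iff {k : ℕ} {X : Subgroup G} : PRankLE p k X ↔
    ∀ A : Subgroup G, A ≤ X → IsElementaryAbelian p A → Nat.card A ≤ p ^ k := by
  constructor
  · intro h A hA he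
    rw [← Solv.card_subgroupOf_of_le hA]
    exact h _ (elem_subgroupOf he X).1 (elem_subgroupOf he X).2
  · intro h A h1 h2
    rw [← card_subtype]
    exact h _ (map_subtype_le _) (elem_map ⟨h1, h2⟩ _)

theorem pRankLE_iff {k : ℕ} : PRankLE p k G ↔
    ∀ A : Subgroup G, IsElementaryAbelian p A → Nat.card A ≤ p ^ k :=
  ⟨fun h A hA => h A hA.1 hA.2, fun h A h1 h2 => h A ⟨h1, h2⟩⟩

theorem pRankLE_mono {k : ℕ} {X Y : Subgroup G} (h : PRankLE p k Y) (hXY : X ≤ Y) : PRankLE p k X :=
  pRankLE_sub_iff.2 fun A hA => pRankLE_sub_iff.1 h A (hA.trans hXY)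

theorem pRankLE_of_injective {G' : Type*} [Group G'] {k : ℕ} (f : G →* G') (hf : Function.Injective f)
    (h : PRankLE p k G') : PRankLE p k G :=
  pRankLE_iff.2 fun A hA => by
    rw [← card_map_of_injective hf]
    exact pRankLE_iff.1 h _ (elem_map hA f)

theorem pRankLE_congr {G' : Type*} [Group G'] {k : ℕ} (e : G ≃* G') : PRankLE p k G ↔ PRankLE p k G' :=
  ⟨pRankLE_of_injective e.symm.toMonoidHom e.symm.injective,
    pRankLE_of_injective e.toMonoidHom e.injective⟩

theorem pRankLE_cj {k : ℕ} {X : Subgroup G} (g : G) : PRankLE p k (cj g X) ↔ PRankLE p k X :=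
  (pRankLE_congr (cjEquiv g X)).symm

theorem pRankLE_map_subtype {k : ℕ} {H : Subgroup G} (X : Subgroup H) :
    PRankLE p k (X.map H.subtype) ↔ PRankLE p k X :=
  (pRankLE_congr (equivMapOfInjective X _ H.subtype_injective)).symm

theorem map_center_eq (S : Subgroup G) : (center S).map S.subtype = S ⊓ centralizer (S : Set G) := by
  ext x
  constructor
  · rintro ⟨z, hz, rfl⟩
    exact mem_inf.2 ⟨z.2, fun y hy => congrArg Subtype.val (mem_center_iff.1 hz ⟨y, hy⟩)⟩
  · intro hx
    exact ⟨⟨x, (mem_inf.1 hx).1⟩, mem_center_iff.2 fun y => Subtype.ext ((mem_inf.1 hx).2 y y.2), rfl⟩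

theorem mem_map_center {S : Subgroup G} {x : G} :
    x ∈ (center S).map S.subtype ↔ x ∈ S ∧ ∀ y ∈ S, y * x = x * y := by
  rw [map_center_eq, mem_inf]; rfl

theorem map_commutator_eq' (S : Subgroup G) : (_root_.commutator S).map S.subtype = ⁅S, S⁆ := by
  rw [_root_.commutator_def, map_commutator, ← MonoidHom.range_eq_map, range_subtype]

variable [Finite G]

/-- An involution acting on an elementary abelian two-group has many fixed points. -/
theorem card_le_sq_of_invol {E : Subgroup G} (hE : IsElementaryAbelian 2 E) {x : G}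
    (hx : x ∈ normalizer (E : Set G)) (h2 : x * x ∈ centralizer (E : Set G)) :
    Nat.card E ≤ Nat.card (E ⊓ centralizer ({x} : Set G) : Subgroup G) ^ 2 := by
  rw [pow_two]
  refine cnt_le_mul (p := fun e => e ∈ E) (q := fun c => c ∈ E ⊓ centralizer ({x} : Set G))
    (fun e c => e * (x * e * x⁻¹) = c) (fun e he => ⟨_, ?_, rfl⟩) fun c _ => ?_
  · have h1 := conj_mem_of_mem_normalizer hx he
    refine mem_inf.2 ⟨mul_mem he h1, mem_centralizer_singleton'.2 (commute_iff_conj.2 ?_).symm⟩
    calc x * (e * (x * e * x⁻¹)) * x⁻¹ = (x * e * x⁻¹) * ((x * x) * e * (x * x)⁻¹) := by group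
      _ = _ := by rw [← h2 e he, mul_inv_cancel_right, (elem_commute hE he h1).eq]
  · by_cases hne : ∃ e₀ ∈ E, e₀ * (x * e₀ * x⁻¹) = c
    · obtain ⟨e₀, he₀, h₀⟩ := hne
      refine cnt_le_of_injOn (fun e => e₀ * e) (fun e he => mem_inf.2 ⟨mul_mem he₀ he.1,
        mem_centralizer_singleton'.2 (commute_iff_conj.2 ?_).symm⟩) fun a b _ _ h => by simpa using h
      have h3 : x * e * x⁻¹ = e * c := by
        rw [← he.2, ← mul_assoc, elem_mul_self hE he.1, one_mul]
      have h4 : x * e₀ * x⁻¹ = e₀ * c := by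
        rw [← h₀, ← mul_assoc, elem_mul_self hE he₀, one_mul]
      have hc : c ∈ E := h₀ ▸ mul_mem he₀ (conj_mem_of_mem_normalizer hx he₀)
      rw [← conj_mul, h3, h4, mul_assoc, ← mul_assoc c, ← (elem_commute hE he.1 hc).eq, mul_assoc,
        elem_mul_self hE hc, mul_one]
    · rw [cnt_eq_zero fun e he => hne ⟨e, he⟩]
      exact Nat.zero_le _

theorem IsSyl.inf_centralizer {p : ℕ} [Fact p.Prime] (S : Sylow p G) {A : Subgroup G}
    (h : (S : Subgroup G) ≤ normalizer (A : Set G)) :
    IsSyl p ((S : Subgroup G) ⊓ centralizer (A : Set G)) (centralizer (A : Set G)) :=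
  ((isSyl_top S).mono h le_top).inf_of_le_normalizer (centralizer_le_normalizer _)
    (normalizer_le_normalizer_centralizer A)

/-- Burnside: conjugate subgroups normal in a Sylow subgroup are conjugate in its normalizer. -/
theorem exists_normalizer_cj_eq {p : ℕ} [Fact p.Prime] (S : Sylow p G) {A : Subgroup G} {g : G}
    (h1 : (S : Subgroup G) ≤ normalizer (A : Set G))
    (h2 : (S : Subgroup G) ≤ normalizer (cj g A : Set G)) :
    ∃ n ∈ normalizer ((S : Subgroup G) : Set G), cj n A = cj g A := by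
  have h3 : IsSyl p (cj g S) (normalizer (cj g A : Set G)) := by
    rw [← cj_normalizer]; exact ((isSyl_top S).mono h1 le_top).cj g
  obtain ⟨k, hk, he⟩ := ((isSyl_top S).mono h2 le_top).exists_cj_eq h3
  refine ⟨k * g, mem_normalizer_iff_cj.2 (by rw [← cj_cj, he]), ?_⟩
  rw [← cj_cj, cj_eq_of_mem_normalizer hk]

end Cfsg.Agent.Transfer
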