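import Cfsg.Agent.Lib.Transfer.Hall
import Mathlib.GroupTheory.SpecificGroups.Dihedral
import Mathlib.GroupTheory.SpecificGroups.Quaternion
import Mathlib.Tactic.LinearCombination
import Mathlib.Tactic.IntervalCases
import Mathlib.Tactic.Linarith

/-!
Groups with a cyclic subgroup of index two: normal forms, recognition of dihedral and quaternion
groups; pairs of involutions.
-/

set_option autoImplicit false
set_option linter.unusedSectionVars false
set_option linter.style.haveILetI false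

namespace Cfsg.Agent.Transfer

open Subgroup

variable {G : Type*} [Group G]

/-- The graph trick: a subgroup of a product meeting both factors trivially is the graph of an
isomorphism between its projections. -/
theorem exists_mulEquiv_of_graph {G' : Type*} [Group G'] (D : Subgroup (G × G'))
    (h1 : ∀ x ∈ D, x.1 = 1 → x.2 = 1) (h2 : ∀ x ∈ D, x.2 = 1 → x.1 = 1) :
    ∃ e : D.map (MonoidHom.fst G G') ≃* D.map (MonoidHom.snd G G'),
      ∀ (x : G × G') (hx : x ∈ D), (e ⟨x.1, mem_map_of_mem (MonoidHom.fst G G') hx⟩ : G') = x.2 := by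
  have i1 : Function.Injective ((MonoidHom.fst G G').subgroupMap D) := by
    rw [injective_iff_map_eq_one]
    intro x hx
    have h : x.1.1 = 1 := congrArg Subtype.val hx
    exact Subtype.ext (Prod.ext h (h1 _ x.2 h))
  have i2 : Function.Injective ((MonoidHom.snd G G').subgroupMap D) := by
    rw [injective_iff_map_eq_one]
    intro x hx
    have h : x.1.2 = 1 := congrArg Subtype.val hx
    exact Subtype.ext (Prod.ext (h2 _ x.2 h) h)
  let e1 := MulEquiv.ofBijective _ ⟨i1, MonoidHom.subgroupMap_surjective _ D⟩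
  let e2 := MulEquiv.ofBijective _ ⟨i2, MonoidHom.subgroupMap_surjective _ D⟩
  refine ⟨e1.symm.trans e2, fun x hx => ?_⟩
  have : e1.symm ⟨x.1, mem_map_of_mem (MonoidHom.fst G G') hx⟩ = ⟨x, hx⟩ := by
    rw [MulEquiv.symm_apply_eq]; rfl
  rw [MulEquiv.trans_apply, this]
  rfl

theorem mem_sup_zpowers_iff {C : Subgroup G} {s : G} (hs : s ∈ normalizer (C : Set G))
    (h2 : s ^ 2 ∈ C) {x : G} : x ∈ C ⊔ zpowers s ↔ x ∈ C ∨ x * s⁻¹ ∈ C := by
  rw [mem_sup_iff_of_le_normalizer' (zpowers_le.2 hs)]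
  constructor
  · rintro ⟨c, hc, _, ⟨k, rfl⟩, rfl⟩
    have h3 : ∀ m : ℤ, s ^ (2 * m) ∈ C := fun m => by
      rw [zpow_mul]; exact zpow_mem (by simpa using h2) m
    rcases Int.even_or_odd' k with ⟨m, rfl | rfl⟩
    · exact Or.inl (mul_mem hc (h3 m))
    · right
      simp only [zpow_add, zpow_one, mul_assoc, mul_inv_cancel, mul_one]
      exact mul_mem hc (h3 m)
  · rintro (h | h)
    · exact ⟨x, h, 1, one_mem _, by simp⟩
    · exact ⟨_, h, s, mem_zpowers s, by simp⟩

theorem relIndex_sup_zpowers {C : Subgroup G} {s : G} (hs : s ∈ normalizer (C : Set G))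
    (h2 : s ^ 2 ∈ C) (h3 : s ∉ C) : C.relIndex (C ⊔ zpowers s) = 2 := by
  rw [relIndex_eq_two_iff_exists_notMem_and]
  refine ⟨s⁻¹, inv_mem (mem_sup_right (mem_zpowers s)), by simpa using h3, fun b hb => ?_⟩
  exact ((mem_sup_zpowers_iff hs h2).1 hb).symm

theorem card_sup_zpowers {C : Subgroup G} {s : G} (hs : s ∈ normalizer (C : Set G))
    (h2 : s ^ 2 ∈ C) (h3 : s ∉ C) : Nat.card (C ⊔ zpowers s : Subgroup G) = 2 * Nat.card C := by
  rw [← card_mul_relIndex (le_sup_left : C ≤ C ⊔ zpowers s), relIndex_sup_zpowers hs h2 h3, mul_comm]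

theorem closure_pair_eq (a s : G) : closure ({a, s} : Set G) = zpowers a ⊔ zpowers s := by
  rw [zpowers_eq_closure, zpowers_eq_closure, ← closure_union]; rfl

theorem conj_zpow_eq {a s : G} {r : ℤ} (h : s * a * s⁻¹ = a ^ r) (i : ℤ) :
    s * a ^ i * s⁻¹ = a ^ (r * i) := by
  rw [← conj_zpow, h, zpow_mul]

theorem mem_normalizer_zpowers [Finite G] {a s : G} (h : s * a * s⁻¹ ∈ zpowers a) :
    s ∈ normalizer (zpowers a : Set G) :=
  mem_normalizer_of_cj_le (by rw [cj_zpowers]; exact zpowers_le.2 h)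

theorem mem_normalizer_zpowers_of_inv {a s : G} (h : s * a * s⁻¹ = a⁻¹) :
    s ∈ normalizer (zpowers a : Set G) := by
  rw [mem_normalizer_iff_cj, cj_zpowers, h, zpowers_inv]

theorem mem_closure_pair_iff {a s : G} (hs : s ∈ normalizer (zpowers a : Set G))
    (h2 : s ^ 2 ∈ zpowers a) {x : G} :
    x ∈ closure ({a, s} : Set G) ↔ ∃ i : ℤ, x = a ^ i ∨ x = a ^ i * s := by
  rw [closure_pair_eq, mem_sup_zpowers_iff hs h2]
  constructor
  · rintro (⟨i, hi⟩ | ⟨i, hi⟩)
    · exact ⟨i, Or.inl hi.symm⟩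
    · exact ⟨i, Or.inr (by simp only at hi; rw [hi]; simp)⟩
  · rintro ⟨i, rfl | rfl⟩
    · exact Or.inl ⟨i, rfl⟩
    · exact Or.inr ⟨i, by simp⟩

theorem card_closure_pair {a s : G} (hs : s ∈ normalizer (zpowers a : Set G))
    (h2 : s ^ 2 ∈ zpowers a) (h3 : s ∉ zpowers a) :
    Nat.card (closure ({a, s} : Set G)) = 2 * orderOf a := by
  rw [closure_pair_eq, card_sup_zpowers hs h2 h3, Nat.card_zpowers]

/-- Two cyclic extensions of index two with the same parameters are isomorphic. -/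
theorem exists_mulEquiv_closure_pair {G' : Type*} [Group G'] [Finite G] [Finite G'] {a s : G}
    {a' s' : G'} {r t : ℤ} (ho : orderOf a = orderOf a') (h1 : s * a * s⁻¹ = a ^ r)
    (h1' : s' * a' * s'⁻¹ = a' ^ r) (h2 : s ^ 2 = a ^ t) (h2' : s' ^ 2 = a' ^ t)
    (h3 : s ∉ zpowers a) (h3' : s' ∉ zpowers a') :
    Nonempty (closure ({a, s} : Set G) ≃* closure ({a', s'} : Set G')) := by
  have hn : ((s, s') : G × G') ∈ normalizer (zpowers ((a, a') : G × G') : Set (G × G')) :=
    mem_normalizer_zpowers ⟨r, Prod.ext h1.symm h1'.symm⟩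
  have hsq : ((s, s') : G × G') ^ 2 ∈ zpowers ((a, a') : G × G') :=
    ⟨t, Prod.ext h2.symm h2'.symm⟩
  obtain ⟨e, -⟩ := exists_mulEquiv_of_graph (closure ({(a, a'), (s, s')} : Set (G × G'))) (by
    intro x hx h
    obtain ⟨i, rfl | rfl⟩ := (mem_closure_pair_iff hn hsq).1 hx
    · change a ^ i = 1 at h
      change a' ^ i = 1
      rwa [← orderOf_dvd_iff_zpow_eq_one, ho, orderOf_dvd_iff_zpow_eq_one] at h
    · change a ^ i * s = 1 at h
      exact absurd ⟨-i, by simp only [zpow_neg]; exact inv_eq_of_mul_eq_one_right h⟩ h3) (by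
    intro x hx h
    obtain ⟨i, rfl | rfl⟩ := (mem_closure_pair_iff hn hsq).1 hx
    · change a' ^ i = 1 at h
      change a ^ i = 1
      rwa [← orderOf_dvd_iff_zpow_eq_one, ← ho, orderOf_dvd_iff_zpow_eq_one] at h
    · change a' ^ i * s' = 1 at h
      exact absurd ⟨-i, by simp only [zpow_neg]; exact inv_eq_of_mul_eq_one_right h⟩ h3')
  rw [MonoidHom.map_closure, MonoidHom.map_closure, Set.image_pair, Set.image_pair] at e
  exact ⟨e⟩

theorem dihedral_closure_eq_top (n : ℕ) [NeZero n] :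
    closure ({DihedralGroup.r 1, DihedralGroup.sr 0} : Set (DihedralGroup n)) = ⊤ := by
  rw [eq_top_iff]
  have h : ∀ i : ZMod n, DihedralGroup.r i ∈
      closure ({DihedralGroup.r 1, DihedralGroup.sr 0} : Set (DihedralGroup n)) := by
    intro i
    rw [← ZMod.natCast_zmod_val i, ← DihedralGroup.r_one_pow]
    exact pow_mem (subset_closure (by simp)) _
  rintro (i | i) -
  · exact h i
  · have := mul_mem (subset_closure (by simp) : DihedralGroup.sr 0 ∈ _) (h i)
    simpa using this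

theorem dihedral_sr_notMem (n : ℕ) (j : ZMod n) :
    DihedralGroup.sr j ∉ zpowers (DihedralGroup.r (1 : ZMod n)) := by
  rintro ⟨k, hk⟩
  simp only [DihedralGroup.r_zpow] at hk
  cases hk

theorem nonempty_dihedral_closure [Finite G] {a s : G} (h1 : s * a * s⁻¹ = a⁻¹) (h2 : s ^ 2 = 1)
    (h3 : s ∉ zpowers a) : Nonempty (closure ({a, s} : Set G) ≃* DihedralGroup (orderOf a)) := by
  haveI : NeZero (orderOf a) := ⟨(orderOf_pos a).ne'⟩
  obtain ⟨e⟩ := exists_mulEquiv_closure_pair (a' := DihedralGroup.r (1 : ZMod (orderOf a)))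
    (s' := DihedralGroup.sr 0) (r := -1) (t := 0) DihedralGroup.orderOf_r_one.symm
    (by simpa using h1) (by simp) (by simpa using h2) (by simp [pow_two]) h3
    (dihedral_sr_notMem _ _)
  rw [dihedral_closure_eq_top] at e
  exact ⟨e.trans topEquiv⟩

theorem quaternion_closure_eq_top (n : ℕ) [NeZero n] :
    closure ({QuaternionGroup.a 1, QuaternionGroup.xa 0} : Set (QuaternionGroup n)) = ⊤ := by
  rw [eq_top_iff]
  have h : ∀ i : ZMod (2 * n), QuaternionGroup.a i ∈
      closure ({QuaternionGroup.a 1, QuaternionGroup.xa 0} : Set (QuaternionGroup n)) := by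
    intro i
    rw [← ZMod.natCast_zmod_val i, ← QuaternionGroup.a_one_pow]
    exact pow_mem (subset_closure (by simp)) _
  rintro (i | i) -
  · exact h i
  · have := mul_mem (subset_closure (by simp) : QuaternionGroup.xa 0 ∈ _) (h i)
    simpa using this

theorem quaternion_xa_notMem (n : ℕ) [NeZero n] (j : ZMod (2 * n)) :
    QuaternionGroup.xa j ∉ zpowers (QuaternionGroup.a (1 : ZMod (2 * n))) := by
  intro h
  obtain ⟨k, hk⟩ := (mem_powers_iff_mem_zpowers.2 h)
  simp only [QuaternionGroup.a_one_pow] at hk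
  cases hk

theorem nonempty_quaternion_closure [Finite G] {a s : G} {n : ℕ} (ho : orderOf a = 2 * n)
    (h1 : s * a * s⁻¹ = a⁻¹) (h2 : s ^ 2 = a ^ n)
    (h3 : s ∉ zpowers a) : Nonempty (closure ({a, s} : Set G) ≃* QuaternionGroup n) := by
  haveI : NeZero n := ⟨by rintro rfl; exact (orderOf_pos a).ne' ho⟩
  obtain ⟨e⟩ := exists_mulEquiv_closure_pair (a' := QuaternionGroup.a (1 : ZMod (2 * n)))
    (s' := QuaternionGroup.xa 0) (r := -1) (t := n) (ho.trans QuaternionGroup.orderOf_a_one.symm)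
    (by simpa using h1) (by
      rw [zpow_neg_one, mul_inv_eq_iff_eq_mul, eq_inv_mul_iff_mul_eq]; simp)
    (by simpa using h2) (by rw [zpow_natCast, QuaternionGroup.a_one_pow, QuaternionGroup.xa_sq]) h3
    (quaternion_xa_notMem _ _)
  rw [quaternion_closure_eq_top] at e
  exact ⟨e.trans topEquiv⟩

/-- Generators of a subgroup isomorphic to a dihedral group. -/
theorem exists_gens_of_dihedral {S : Subgroup G} {n : ℕ} [NeZero n] (e : S ≃* DihedralGroup n) :
    ∃ a s : G, orderOf a = n ∧ s * a * s⁻¹ = a⁻¹ ∧ s ^ 2 = 1 ∧ s ∉ zpowers a ∧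
      S = closure {a, s} := by
  let f : DihedralGroup n →* G := S.subtype.comp e.symm.toMonoidHom
  have hf : Function.Injective f := S.subtype_injective.comp e.symm.injective
  refine ⟨f (DihedralGroup.r 1), f (DihedralGroup.sr 0), ?_, ?_, ?_, ?_, ?_⟩
  · rw [orderOf_injective f hf, DihedralGroup.orderOf_r_one]
  · rw [← map_inv, ← map_mul, ← map_mul, ← map_inv]; congr 1; simp
  · rw [← map_pow, pow_two, DihedralGroup.sr_mul_self, map_one]
  · rintro ⟨k, hk⟩
    simp only [← map_zpow] at hk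
    exact dihedral_sr_notMem n 0 ⟨k, hf hk⟩
  · rw [← Set.image_pair, ← MonoidHom.map_closure, dihedral_closure_eq_top, ← MonoidHom.range_eq_map,
      MonoidHom.range_comp, MonoidHom.range_eq_top.2 e.symm.surjective, ← MonoidHom.range_eq_map,
      range_subtype]

/-- Generators of a subgroup isomorphic to a quaternion group. -/
theorem exists_gens_of_quaternion {S : Subgroup G} {n : ℕ} [NeZero n] (e : S ≃* QuaternionGroup n) :
    ∃ a s : G, orderOf a = 2 * n ∧ s * a * s⁻¹ = a⁻¹ ∧ s ^ 2 = a ^ n ∧ s ∉ zpowers a ∧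
      S = closure {a, s} := by
  let f : QuaternionGroup n →* G := S.subtype.comp e.symm.toMonoidHom
  have hf : Function.Injective f := S.subtype_injective.comp e.symm.injective
  refine ⟨f (QuaternionGroup.a 1), f (QuaternionGroup.xa 0), ?_, ?_, ?_, ?_, ?_⟩
  · rw [orderOf_injective f hf, QuaternionGroup.orderOf_a_one]
  · rw [← map_inv, ← map_mul, ← map_mul, ← map_inv]; congr 1
    rw [mul_inv_eq_iff_eq_mul, eq_inv_mul_iff_mul_eq]; simp
  · rw [← map_pow, ← map_pow, QuaternionGroup.a_one_pow, QuaternionGroup.xa_sq]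
  · rintro ⟨k, hk⟩
    simp only [← map_zpow] at hk
    exact quaternion_xa_notMem n 0 ⟨k, hf hk⟩
  · rw [← Set.image_pair, ← MonoidHom.map_closure, quaternion_closure_eq_top,
      ← MonoidHom.range_eq_map, MonoidHom.range_comp, MonoidHom.range_eq_top.2 e.symm.surjective,
      ← MonoidHom.range_eq_map, range_subtype]

/-! ### Involutions -/

theorem sq_eq_one_of_orderOf {x : G} (hx : orderOf x = 2) : x ^ 2 = 1 := by
  rw [← hx, pow_orderOf_eq_one]

theorem mul_self_of_orderOf {x : G} (hx : orderOf x = 2) : x * x = 1 := by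
  rw [← pow_two, sq_eq_one_of_orderOf hx]

theorem inv_eq_of_orderOf {x : G} (hx : orderOf x = 2) : x⁻¹ = x :=
  inv_eq_of_mul_eq_one_right (mul_self_of_orderOf hx)

theorem ne_one_of_orderOf {x : G} (hx : orderOf x = 2) : x ≠ 1 := by
  rintro rfl; simp at hx

theorem orderOf_eq_two {x : G} (h1 : x * x = 1) (h2 : x ≠ 1) : orderOf x = 2 :=
  orderOf_eq_prime (by rwa [pow_two]) h2

theorem invol_iff {x : G} : orderOf x = 2 ↔ x * x = 1 ∧ x ≠ 1 :=
  ⟨fun h => ⟨mul_self_of_orderOf h, ne_one_of_orderOf h⟩, fun h => orderOf_eq_two h.1 h.2⟩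

theorem mem_zpowers_iff_of_sq {x y : G} (hx : x * x = 1) : y ∈ zpowers x ↔ y = 1 ∨ y = x := by
  constructor
  · rintro ⟨k, rfl⟩
    have h2 : x ^ (2 : ℤ) = 1 := by rw [zpow_two, hx]
    rcases Int.even_or_odd' k with ⟨m, rfl | rfl⟩
    · left; simp only [zpow_mul, h2, one_zpow]
    · right; simp only [zpow_add, zpow_mul, h2, one_zpow, one_mul, zpow_one]
  · rintro (rfl | rfl)
    · exact one_mem _
    · exact mem_zpowers _

theorem isPGroup_two_zpowers {x : G} (hx : x * x = 1) : IsPGroup 2 (zpowers x) :=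
  isPGroup_zpowers (k := 1) (by rwa [pow_one, pow_two])

theorem inverts_mul_left {x y : G} (hx : x * x = 1) (hy : y * y = 1) :
    x * (x * y) * x⁻¹ = (x * y)⁻¹ := by
  rw [← mul_assoc, hx, one_mul, mul_inv_rev, inv_eq_of_mul_eq_one_right hy]

theorem inverts_mul_right {x y : G} (hx : x * x = 1) (hy : y * y = 1) :
    y * (x * y) * y⁻¹ = (x * y)⁻¹ := by
  rw [mul_inv_rev, inv_eq_of_mul_eq_one_right hy, inv_eq_of_mul_eq_one_right hx, mul_assoc,
    mul_assoc, hy, mul_one]

theorem conj_zpow_of_inverts {a s : G} (h : s * a * s⁻¹ = a⁻¹) (i : ℤ) :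
    s * a ^ i * s⁻¹ = (a ^ i)⁻¹ := by
  rw [← conj_zpow, h, inv_zpow]

theorem conj_pow_of_inverts {a s : G} (h : s * a * s⁻¹ = a⁻¹) (i : ℕ) :
    s * a ^ i * s⁻¹ = (a ^ i)⁻¹ := by
  rw [← conj_pow, h, inv_pow]

theorem inverts_of_mem_zpowers {a s x : G} (h : s * a * s⁻¹ = a⁻¹) (hx : x ∈ zpowers a) :
    s * x * s⁻¹ = x⁻¹ := by
  obtain ⟨i, rfl⟩ := hx
  exact conj_zpow_of_inverts h i

theorem mul_self_of_inverts {c s : G} (h : s * c * s⁻¹ = c⁻¹) : c * s * (c * s) = s * s := by
  calc c * s * (c * s) = c * (s * c * s⁻¹) * s * s := by group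
    _ = s * s := by rw [h]; group

theorem conj_eq_of_inverts {c s : G} (h : s * c * s⁻¹ = c⁻¹) : c * s * c⁻¹ = c * c * s := by
  calc c * s * c⁻¹ = c * (s * c * s⁻¹)⁻¹ * s := by group
    _ = _ := by rw [h, inv_inv]

theorem closure_pair_invol (x y : G) :
    closure ({x, y} : Set G) = closure ({x * y, x} : Set G) := by
  apply le_antisymm
  · rw [closure_le]
    have h1 : x * y ∈ closure ({x * y, x} : Set G) := subset_closure (Set.mem_insert _ _)
    have h2 : x ∈ closure ({x * y, x} : Set G) :=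
      subset_closure (Set.mem_insert_of_mem _ (Set.mem_singleton _))
    rintro z (hz | hz)
    · rw [hz]; exact h2
    · rw [Set.mem_singleton_iff.1 hz]
      simpa using mul_mem (inv_mem h2) h1
  · rw [closure_le]
    rintro _ (rfl | rfl)
    · exact mul_mem (subset_closure (by simp)) (subset_closure (by simp))
    · exact subset_closure (by simp)

theorem mem_closure_invol_iff {x y : G} (hx : x * x = 1) (hy : y * y = 1) {d : G} :
    d ∈ closure ({x, y} : Set G) ↔ ∃ i : ℤ, d = (x * y) ^ i ∨ d = (x * y) ^ i * x := by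
  rw [closure_pair_invol, mem_closure_pair_iff
    (mem_normalizer_zpowers_of_inv (inverts_mul_left hx hy)) (by rw [pow_two, hx]; exact one_mem _)]

theorem notMem_zpowers_invol {x y : G} (hx : orderOf x = 2) (hy : orderOf y = 2) (hxy : x ≠ y) :
    x ∉ zpowers (x * y) := by
  intro h
  have hx2 := mul_self_of_orderOf hx
  have hy2 := mul_self_of_orderOf hy
  have h1 : Commute x (x * y) := by
    obtain ⟨k, hk⟩ := h
    simp only at hk
    have := (Commute.refl (x * y)).zpow_left k
    rwa [hk] at this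
  have h2 := inverts_mul_left hx2 hy2
  rw [h1.eq, mul_inv_cancel_right] at h2
  have h3 : x * y * (x * y) = 1 := by
    conv_lhs => enter [2]; rw [h2]
    exact mul_inv_cancel _
  rcases (mem_zpowers_iff_of_sq h3).1 h with h4 | h4
  · exact ne_one_of_orderOf hx h4
  · exact ne_one_of_orderOf hy (left_eq_mul.1 h4)

/-- An element of odd order is the square of one of its powers. -/
theorem exists_sq_eq_of_odd {a : G} (h : Odd (orderOf a)) : ∃ k : ℕ, a ^ k * a ^ k = a := by
  obtain ⟨m, hm⟩ := h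
  refine ⟨m + 1, ?_⟩
  rw [← pow_add, show m + 1 + (m + 1) = 2 * m + 1 + 1 by ring, ← hm, pow_succ, pow_orderOf_eq_one,
    one_mul]

/-- If `s` inverts `a` of odd order then `a s` is conjugate to `s` by a power of `a`. -/
theorem exists_conj_of_inverts_odd {a s : G} (h : s * a * s⁻¹ = a⁻¹) (ho : Odd (orderOf a)) :
    ∃ c ∈ zpowers a, c * s * c⁻¹ = a * s := by
  obtain ⟨k, hk⟩ := exists_sq_eq_of_odd ho
  exact ⟨a ^ k, pow_mem (mem_zpowers a) k, by rw [conj_eq_of_inverts (conj_pow_of_inverts h k), hk]⟩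

theorem exists_conj_of_odd {x y : G} (hx : x * x = 1) (hy : y * y = 1)
    (ho : Odd (orderOf (x * y))) : ∃ c ∈ zpowers (x * y), c * y * c⁻¹ = x := by
  obtain ⟨c, hc, h⟩ := exists_conj_of_inverts_odd (inverts_mul_right hx hy) ho
  exact ⟨c, hc, by rw [h, mul_assoc, hy, mul_one]⟩

theorem exists_conj_of_odd' {x y : G} (hx : x * x = 1) (hy : y * y = 1)
    (ho : Odd (orderOf (x * y))) : ∃ c ∈ zpowers (x * y), c * x * c⁻¹ = y := by
  obtain ⟨c, hc, h⟩ := exists_conj_of_odd hx hy ho
  exact ⟨c⁻¹, inv_mem hc, by rw [← h]; group⟩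

theorem orderOf_pow_half [Finite G] {a : G} (h : Even (orderOf a)) :
    orderOf (a ^ (orderOf a / 2)) = 2 := by
  obtain ⟨m, hm⟩ := h
  have h0 := orderOf_pos a
  rw [orderOf_pow' _ (by omega), hm, show (m + m) / 2 = m by omega, ← two_mul,
    Nat.gcd_mul_left_left, Nat.mul_div_cancel _ (by omega)]

theorem commute_of_inverts_of_sq {c s : G} (h : s * c * s⁻¹ = c⁻¹) (hc : c * c = 1) :
    Commute c s := by
  rw [inv_eq_of_mul_eq_one_right hc, mul_inv_eq_iff_eq_mul] at h
  exact h.symm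

/-- Two involutions with product of even order have a common commuting involution. -/
theorem exists_invol_of_even [Finite G] {x y : G} (hx : x * x = 1) (hy : y * y = 1)
    (h : Even (orderOf (x * y))) :
    ∃ z ∈ zpowers (x * y), orderOf z = 2 ∧ Commute z x ∧ Commute z y :=
  ⟨_, pow_mem (mem_zpowers _) _, orderOf_pow_half h,
    commute_of_inverts_of_sq (conj_pow_of_inverts (inverts_mul_left hx hy) _)
      (mul_self_of_orderOf (orderOf_pow_half h)),
    commute_of_inverts_of_sq (conj_pow_of_inverts (inverts_mul_right hx hy) _)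
      (mul_self_of_orderOf (orderOf_pow_half h))⟩

theorem exists_invol_mem [Finite G] {H : Subgroup G} (h : Even (Nat.card H)) :
    ∃ t ∈ H, orderOf t = 2 := by
  obtain ⟨t, ht⟩ := exists_prime_orderOf_dvd_card' (G := H) 2 (even_iff_two_dvd.1 h)
  exact ⟨t, t.2, by simpa using ht⟩

theorem even_card_of_invol_mem {H : Subgroup G} {t : G} (ht : orderOf t = 2) (h : t ∈ H) :
    Even (Nat.card H) := even_iff_two_dvd.2 (ht ▸ orderOf_dvd_card_of_mem h)

theorem odd_card_iff [Finite G] {H : Subgroup G} :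
    Odd (Nat.card H) ↔ ∀ t ∈ H, orderOf t ≠ 2 := by
  rw [← Nat.not_even_iff_odd]
  exact ⟨fun h t ht h2 => h (even_card_of_invol_mem h2 ht), fun h he => by
    obtain ⟨t, h1, h2⟩ := exists_invol_mem he; exact h t h1 h2⟩

theorem exists_invol_mem_zpowers [Finite G] {a : G} (h : Even (orderOf a)) :
    ∃ t ∈ zpowers a, orderOf t = 2 := ⟨_, pow_mem (mem_zpowers a) _, orderOf_pow_half h⟩

theorem exists_invol_mem_of_isPGroup [Finite G] {H : Subgroup G} (h : IsPGroup 2 H) (hne : H ≠ ⊥) :
    ∃ t ∈ H, orderOf t = 2 :=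
  exists_invol_mem (even_iff_two_dvd.2 (h.card_eq_or_dvd.resolve_left (by rwa [card_eq_one])))

/-- A cyclic group has at most one involution. -/
theorem invol_eq_of_mem_zpowers [Finite G] {a x y : G} (hx : x ∈ zpowers a) (hy : y ∈ zpowers a)
    (hx2 : orderOf x = 2) (hy2 : orderOf y = 2) : x = y := by
  classical
  have key : ∀ x ∈ zpowers a, orderOf x = 2 → x = a ^ (orderOf a / 2) := by
    intro x hx hx2
    obtain ⟨k, hk, rfl⟩ := (mem_zpowers_iff_mem_range_orderOf.1 hx |> Finset.mem_image.1)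
    have hk := Finset.mem_range.1 hk
    have h1 : orderOf a ∣ k * 2 := by
      apply orderOf_dvd_of_pow_eq_one
      rw [pow_mul, sq_eq_one_of_orderOf hx2]
    have h2 : k ≠ 0 := by rintro rfl; simp at hx2
    obtain ⟨c, hc⟩ := h1
    have : c = 1 := by
      rcases c with _ | _ | c
      · omega
      · rfl
      · nlinarith
    subst this
    congr 1
    omega
  rw [key x hx hx2, key y hy hy2]

end Cfsg.Agent.Transfer
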