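import Cfsg.Agent.Lib.Transfer.Alperin
import Mathlib.GroupTheory.IndexNormal
import Mathlib.Data.Set.Finite.Lemmas

/-!
Transfer computations, Burnside's theorem, weakly closed subgroups, Hall subgroups and normal
complements, Thompson's transfer lemma.
-/

set_option autoImplicit false
set_option linter.unusedSectionVars false
set_option linter.style.haveILetI false

namespace Cfsg.Agent.Transfer

open Subgroup
open scoped commutatorElement

variable {G : Type*} [Group G]

theorem orderOf_dvd_card_of_mem {H : Subgroup G} {x : G} (hx : x ∈ H) : orderOf x ∣ Nat.card H := by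
  have := orderOf_dvd_natCard (⟨x, hx⟩ : H)
  simpa using this

theorem orderOf_conj (g x : G) : orderOf (g * x * g⁻¹) = orderOf x :=
  MulEquiv.orderOf_eq (MulAut.conj g) x

theorem orderOf_conj' (g x : G) : orderOf (g⁻¹ * x * g) = orderOf x := by
  simpa using orderOf_conj g⁻¹ x

theorem isPGroup_zpowers {p k : ℕ} {x : G} (hx : x ^ p ^ k = 1) : IsPGroup p (zpowers x) := by
  rintro ⟨y, hy⟩
  refine ⟨k, Subtype.ext ?_⟩
  obtain ⟨n, hn⟩ := mem_zpowers_iff.1 hy
  change y ^ p ^ k = 1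
  rw [← hn, ← zpow_natCast, ← zpow_mul, mul_comm, zpow_mul, zpow_natCast, hx, one_zpow]

theorem isPGroup_zpowers_of_orderOf {p k : ℕ} {x : G} (hx : orderOf x = p ^ k) :
    IsPGroup p (zpowers x) := isPGroup_zpowers (k := k) (by rw [← hx, pow_orderOf_eq_one])

theorem IsPGroup.pow_eq_one_of_mem {p : ℕ} {H : Subgroup G} (h : IsPGroup p H) {x : G} (hx : x ∈ H) :
    ∃ k, x ^ p ^ k = 1 := by
  obtain ⟨k, hk⟩ := h ⟨x, hx⟩
  exact ⟨k, by simpa using congrArg Subtype.val hk⟩

theorem isPGroup_of_forall_mem {p : ℕ} {H : Subgroup G} (h : ∀ x ∈ H, ∃ k, x ^ p ^ k = 1) :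
    IsPGroup p H := fun x => by
  obtain ⟨k, hk⟩ := h x x.2
  exact ⟨k, Subtype.ext (by simpa using hk)⟩

theorem transfer_eq_pow_of_mem {A : Type*} [CommGroup A] {H : Subgroup G} [H.FiniteIndex]
    (φ : H →* A) {g : G} (hg : g ∈ H)
    (key : ∀ (k : ℕ) (a : G) (h : a⁻¹ * g ^ k * a ∈ H), φ ⟨_, h⟩ = φ ⟨g, hg⟩ ^ k) :
    MonoidHom.transfer φ g = φ ⟨g, hg⟩ ^ H.index := by
  have : Fintype (Quotient (MulAction.orbitRel (zpowers g) (G ⧸ H))) := Fintype.ofFinite _
  rw [index_eq_sum_minimalPeriod H g, ← Finset.prod_pow_eq_pow_sum,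
    MonoidHom.transfer_eq_prod_quotient_orbitRel_zpowers_quot]
  exact Finset.prod_congr rfl fun q _ => key _ _ _

variable [Finite G]

/-- A subgroup containing all elements of prime power order of `H` contains `H`. -/
theorem le_of_forall_primePow_mem {H K : Subgroup G}
    (h : ∀ q : ℕ, q.Prime → q ∣ Nat.card H → ∀ x ∈ H, (∃ k, x ^ q ^ k = 1) → x ∈ K) : H ≤ K := by
  rw [← relIndex_eq_one]
  by_contra hne
  obtain ⟨q, hq, hd⟩ := Nat.exists_prime_and_dvd hne
  haveI := Fact.mk hq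
  obtain ⟨S, hS⟩ := exists_isSyl q H
  have h1 : S ≤ K := fun x hx => h q hq (hd.trans (relIndex_dvd_card _ _)) x (hS.le hx)
    (IsPGroup.pow_eq_one_of_mem hS.pgroup hx)
  exact hS.not_dvd (hd.trans (relIndex_dvd_of_le_left H h1))

theorem le_of_forall_isSyl_le {H K : Subgroup G}
    (h : ∀ q : ℕ, q.Prime → q ∣ Nat.card H → ∃ S, IsSyl q S H ∧ S ≤ K) : H ≤ K := by
  rw [← relIndex_eq_one]
  by_contra hne
  obtain ⟨q, hq, hd⟩ := Nat.exists_prime_and_dvd hne
  obtain ⟨S, hS, h1⟩ := h q hq (hd.trans (relIndex_dvd_card _ _))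
  exact hS.not_dvd (hd.trans (relIndex_dvd_of_le_left H h1))

theorem res_le_of_primePow {p : ℕ} [hp : Fact p.Prime] {H K : Subgroup G}
    (h : ∀ q : ℕ, q.Prime → q ≠ p → q ∣ Nat.card H → ∀ x ∈ H, (∃ k, x ^ q ^ k = 1) → x ∈ K) :
    res p H ≤ K := by
  rw [res_le_iff]
  intro g hg hc
  rw [← zpowers_le]
  refine le_of_forall_primePow_mem fun q hq hd x hx hk => h q hq ?_ ?_ x (zpowers_le.2 hg hx) hk
  · rintro rfl
    rw [Nat.card_zpowers] at hd
    exact (Nat.Prime.coprime_iff_not_dvd hq).1 hc.symm hd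
  · exact hd.trans (card_dvd_of_le (zpowers_le.2 hg))

/-- Fixed points of a `q`-group acting on a subgroup by conjugation. -/
theorem card_modEq_card_inf_centralizer {q : ℕ} [Fact q.Prime] {Q H : Subgroup G}
    (hQ : IsPGroup q Q) (hn : Q ≤ normalizer (H : Set G)) :
    Nat.card H ≡ Nat.card (H ⊓ centralizer (Q : Set G) : Subgroup G) [MOD q] := by
  letI : MulAction Q H := MulAction.compHom H (inclusion hn)
  have := hQ.card_modEq_card_fixedPoints H
  convert this using 1
  refine Nat.card_congr ⟨fun x => ⟨⟨x.1, (mem_inf.1 x.2).1⟩, ?_⟩,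
    fun x => ⟨x.1.1, mem_inf.2 ⟨x.1.2, ?_⟩⟩, fun _ => rfl, fun _ => rfl⟩
  · intro a
    apply Subtype.ext
    change (a : G) * x * (a : G)⁻¹ = x
    rw [mem_centralizer_iff.1 (mem_inf.1 x.2).2 a a.2, mul_inv_cancel_right]
  · rw [mem_centralizer_iff]
    intro a ha
    have : a * x.1.1 * a⁻¹ = x.1.1 := congrArg Subtype.val (x.2 ⟨a, ha⟩)
    rw [mul_inv_eq_iff_eq_mul] at this
    exact this

/-- If some `p'`-element of `H` normalizes but does not centralize the `p`-group `B` of order `p^n`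
then a prime `q ≠ p` divides `|H|` and some `p^n - p^j`, `j < n`. -/
theorem exists_prime_of_not_res_le {p : ℕ} [hp : Fact p.Prime] {B H : Subgroup G} {n : ℕ}
    (hB : Nat.card B = p ^ n) (hH : H ≤ normalizer (B : Set G))
    (h : ¬ res p H ≤ centralizer (B : Set G)) :
    ∃ q j : ℕ, q.Prime ∧ q ≠ p ∧ q ∣ Nat.card H ∧ j < n ∧ q ∣ p ^ (n - j) - 1 := by
  by_contra hcon
  refine h (res_le_of_primePow fun q hq hqp hd x hx ⟨k, hk⟩ => ?_)
  by_contra hxc
  haveI := Fact.mk hq
  have h1 := card_modEq_card_inf_centralizer (isPGroup_zpowers hk) (zpowers_le.2 (hH hx))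
  have h2 : B ⊓ centralizer (zpowers x : Set G) < B := by
    refine lt_of_le_of_ne inf_le_left fun he => hxc ?_
    have : B ≤ centralizer (zpowers x : Set G) := inf_eq_left.1 he
    exact le_centralizer_iff.1 this (mem_zpowers x)
  obtain ⟨j, hj, hj'⟩ := (Nat.dvd_prime_pow hp.out).1 (hB ▸ card_dvd_of_le h2.le)
  have h3 := card_lt_of_lt h2
  rw [hj', hB] at h3 h1
  have hjn : j < n := (Nat.pow_lt_pow_iff_right hp.out.one_lt).1 h3
  refine hcon ⟨q, j, hq, hqp, hd, hjn, ?_⟩
  have h4 : q ∣ p ^ n - p ^ j := (Nat.modEq_iff_dvd' h3.le).1 h1.symm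
  have e : p ^ n - p ^ j = p ^ j * (p ^ (n - j) - 1) := by
    rw [Nat.mul_sub, ← pow_add, Nat.add_sub_cancel' hj, mul_one]
  rw [e] at h4
  refine ((Nat.Prime.dvd_mul hq).1 h4).resolve_left fun h5 => hqp ?_
  exact (Nat.prime_dvd_prime_iff_eq hq hp.out).1 (hq.dvd_of_dvd_pow h5)

section

variable {p : ℕ} [hp : Fact p.Prime]

/-- Burnside's normal `p`-complement theorem. -/
theorem hasNPC_of_normalizer_le_centralizer (P : Sylow p G)
    (h : normalizer ((P : Subgroup G) : Set G) ≤ centralizer ((P : Subgroup G) : Set G)) :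
    HasNormalPComplement p G :=
  ⟨P, _, inferInstance, MonoidHom.ker_transferSylow_isComplement' P h⟩

theorem IsSyl.hasNPC_of_le_centralizer {P H : Subgroup G} (hP : IsSyl p P H)
    (h : H ⊓ normalizer (P : Set G) ≤ centralizer (P : Set G)) : HasNormalPComplement p H := by
  obtain ⟨S, hS⟩ := hP.exists_sylow_sub
  refine hasNPC_of_normalizer_le_centralizer S fun x hx => ?_
  rw [hS, ← subgroupOf_normalizer_eq hP.le, mem_subgroupOf] at hx
  have := h (mem_inf.2 ⟨x.2, hx⟩)
  rw [mem_centralizer_iff] at this ⊢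
  intro y hy
  rw [hS] at hy
  exact Subtype.ext (this y hy)

theorem hasNPC_of_abelian_sylow (P : Sylow p G) (hP : IsMulCommutative P)
    (h : res p (normalizer ((P : Subgroup G) : Set G)) ≤ centralizer ((P : Subgroup G) : Set G)) :
    HasNormalPComplement p G := by
  refine hasNPC_of_normalizer_le_centralizer P ?_
  have hS : IsSyl p (P : Subgroup G) (normalizer ((P : Subgroup G) : Set G)) :=
    (isSyl_top P).mono le_normalizer le_top
  rw [← hS.res_sup]
  exact sup_le h (le_centralizer_iff_isMulCommutative.2 hP)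

/-- The normalizer of a weakly closed subgroup `W` controls fusion in `C(W)`, strongly. -/
theorem exists_normalizer_of_weaklyClosed (T : Sylow p G) {W : Subgroup G}
    (hW : IsWeaklyClosed W (T : Subgroup G)) {A : Subgroup G} {g : G}
    (h1 : A ≤ centralizer (W : Set G)) (h2 : cj g A ≤ centralizer (W : Set G)) :
    ∃ n ∈ normalizer (W : Set G), ∀ a ∈ A, n * a * n⁻¹ = g * a * g⁻¹ := by
  have hWp : IsPGroup p W := T.2.to_le hW.1
  have h3 : W ≤ centralizer (cj g A : Set G) := le_centralizer_iff.1 h2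
  have h4 : cj g W ≤ centralizer (cj g A : Set G) := by
    rw [← cj_centralizer]; exact cj_mono g (le_centralizer_iff.1 h1)
  obtain ⟨R, hR, hWR⟩ := exists_isSyl_ge hWp h3
  obtain ⟨c, hc, hcR⟩ := hR.exists_cj_le (hWp.map _) h4
  obtain ⟨h, hh⟩ := exists_cj_le_sylow T hR.pgroup
  have e1 : cj h W = W := hW.2 h ((cj_mono h hWR).trans hh)
  have e2 : cj (h * (c * g)) W = W := hW.2 _ (by
    have := (cj_mono h hcR).trans hh
    rwa [cj_cj, cj_cj, mul_assoc] at this)
  refine ⟨c * g, ?_, fun a ha => ?_⟩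
  · rw [mem_normalizer_iff_cj, ← cj_inj (g := h), cj_cj, e1, e2]
  · have := mem_centralizer_iff.1 hc _ (conj_mem_cj (g := g) ha)
    calc c * g * a * (c * g)⁻¹ = c * (g * a * g⁻¹) * c⁻¹ := by group
      _ = _ := by rw [← this]; group

theorem exists_normalizer_conj_of_weaklyClosed (T : Sylow p G) {W : Subgroup G}
    (hW : IsWeaklyClosed W (T : Subgroup G)) {d g : G}
    (h1 : d ∈ centralizer (W : Set G)) (h2 : g * d * g⁻¹ ∈ centralizer (W : Set G)) :
    ∃ n ∈ normalizer (W : Set G), n * d * n⁻¹ = g * d * g⁻¹ := by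
  obtain ⟨n, hn, h⟩ := exists_normalizer_of_weaklyClosed T hW (A := zpowers d) (g := g)
    (zpowers_le.2 h1) (by rw [cj_zpowers]; exact zpowers_le.2 h2)
  exact ⟨n, hn, h d (mem_zpowers d)⟩

theorem isWeaklyClosed_self (P : Sylow p G) : IsWeaklyClosed (P : Subgroup G) P :=
  ⟨le_rfl, fun g h => eq_of_le_of_card_ge h (card_cj g _).ge⟩

/-- Burnside's fusion theorem for abelian Sylow subgroups. -/
theorem exists_normalizer_conj_of_abelian (P : Sylow p G) (hP : IsMulCommutative P) {x g : G}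
    (hx : x ∈ P) (hg : g * x * g⁻¹ ∈ P) :
    ∃ n ∈ normalizer ((P : Subgroup G) : Set G), n * x * n⁻¹ = g * x * g⁻¹ :=
  exists_normalizer_conj_of_weaklyClosed P (isWeaklyClosed_self P)
    (le_centralizer_iff_isMulCommutative.2 hP hx) (le_centralizer_iff_isMulCommutative.2 hP hg)

theorem commute_of_coprime_of_nilpotent [Group.IsNilpotent G] {x y : G}
    (h : (orderOf x).Coprime (orderOf y)) : Commute x y := by
  have key : ∀ q r : ℕ, q.Prime → r.Prime → q ≠ r → ∀ a b : G, (∃ k, a ^ q ^ k = 1) →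
      (∃ k, b ^ r ^ k = 1) → Commute a b := by
    rintro q r hq hr hne a b ⟨k, hk⟩ ⟨l, hl⟩
    haveI := Fact.mk hq
    haveI := Fact.mk hr
    obtain ⟨Q, hQ⟩ := (isPGroup_zpowers hk).exists_le_sylow
    obtain ⟨R, hR⟩ := (isPGroup_zpowers hl).exists_le_sylow
    exact commute_of_normal_of_disjoint (Q : Subgroup G) (R : Subgroup G) inferInstance inferInstance
      (IsPGroup.disjoint_of_ne q r hne _ _ Q.2 R.2) a b (hQ (mem_zpowers a)) (hR (mem_zpowers b))
  have h1 : zpowers x ≤ centralizer (zpowers y : Set G) := by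
    refine le_of_forall_primePow_mem fun q hq hqd a ha hak => ?_
    rw [← zpowers_le, le_centralizer_iff]
    refine le_of_forall_primePow_mem fun r hr hrd b hb hbk => ?_
    rw [← zpowers_le, le_centralizer_iff, zpowers_le, mem_centralizer_iff]
    rintro _ ⟨n, rfl⟩
    refine ((key q r hq hr ?_ a b hak hbk).symm.zpow_left n).eq
    rintro rfl
    rw [Nat.card_zpowers] at hqd hrd
    exact hq.one_lt.ne' (Nat.eq_one_of_dvd_coprimes h hqd hrd)
  exact (mem_centralizer_iff.1 (h1 (mem_zpowers x)) y (mem_zpowers y)).symm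

theorem hasNPC_of_nilpotent [Group.IsNilpotent G] : HasNormalPComplement p G := by
  rw [← hasNPC_top]
  refine hasNPC_sub_of_forall fun B _ hB _ g _ _ hc => ?_
  rw [mem_centralizer_iff]
  intro b hb
  obtain ⟨k, hk⟩ := IsPGroup.pow_eq_one_of_mem hB hb
  exact (commute_of_coprime_of_nilpotent (Nat.Coprime.coprime_dvd_right
    (orderOf_dvd_of_pow_eq_one hk) (Nat.Coprime.pow_right k hc))).symm.eq

end

theorem index_inf_dvd (A B : Subgroup G) [A.Normal] : (A ⊓ B).index ∣ A.index * B.index := by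
  rw [← relIndex_mul_index (inf_le_right : A ⊓ B ≤ B), inf_relIndex_right]
  exact mul_dvd_mul_right (relIndex_dvd_index_of_normal A B) _

/-- If `G` has a normal `p`-complement for each prime dividing the order of the Hall subgroup `H`,
then `H` has a normal complement. -/
theorem exists_normal_complement_of_forall_hasNPC {H : Subgroup G}
    (hHall : (Nat.card H).Coprime H.index)
    (h : ∀ p : ℕ, p.Prime → p ∣ Nat.card H → HasNormalPComplement p G) :
    ∃ N : Subgroup G, N.Normal ∧ N.IsComplement' H := by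
  have key : ∀ s : Finset ℕ, (∀ p ∈ s, p.Prime ∧ p ∣ Nat.card H) → ∃ N : Subgroup G, N.Normal ∧
      N.index.Coprime H.index ∧ ∀ p ∈ s, ¬ p ∣ Nat.card N := by
    intro s
    induction s using Finset.induction_on with
    | empty => exact fun _ => ⟨⊤, inferInstance, by simp, by simp⟩
    | insert p s _ ih =>
      intro hs
      obtain ⟨N, hN, h1, h2⟩ := ih fun q hq => hs q (Finset.mem_insert_of_mem hq)
      obtain ⟨hp, hpd⟩ := hs p (Finset.mem_insert_self _ _)
      haveI := Fact.mk hp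
      refine ⟨N ⊓ pResidual p G, inferInstance, ?_, ?_⟩
      · refine Nat.Coprime.coprime_dvd_left (index_inf_dvd _ _) (Nat.Coprime.mul_left h1 ?_)
        obtain ⟨n, hn⟩ := index_pResidual (G := G) (p := p)
        rw [hn]
        exact Nat.Coprime.pow_left _ (Nat.Coprime.coprime_dvd_left hpd hHall)
      · intro q hq hd
        rcases Finset.mem_insert.1 hq with rfl | hq
        · exact hasNPC_iff_not_dvd.1 (h q hp hpd) (hd.trans (card_dvd_of_le inf_le_right))
        · exact h2 q hq (hd.trans (card_dvd_of_le inf_le_left))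
  obtain ⟨N, hN, h1, h2⟩ := key (Nat.card H).primeFactors fun p hp =>
    ⟨Nat.prime_of_mem_primeFactors hp, Nat.dvd_of_mem_primeFactors hp⟩
  refine ⟨N, hN, isComplement'_of_disjoint_and_mul_eq_univ (disjoint_of_coprime_natCard ?_) ?_⟩
  · refine Nat.coprime_of_dvd fun q hq hqN hqH => h2 q ?_ hqN
    exact Nat.mem_primeFactors.2 ⟨hq, hqH, Nat.card_pos.ne'⟩
  · rw [← normal_mul, ← coe_top]
    congr 1
    rw [← index_eq_one]
    exact Nat.eq_one_of_dvd_coprimes h1 (index_dvd_of_le le_sup_left) (index_dvd_of_le le_sup_right)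

theorem IsSyl.of_hall {p : ℕ} [hp : Fact p.Prime] {P H L : Subgroup G} (hP : IsSyl p P H)
    (hHL : H ≤ L) (hHall : (Nat.card H).Coprime (H.relIndex L)) (hd : p ∣ Nat.card H) :
    IsSyl p P L :=
  hP.trans hHL fun h => hp.out.one_lt.ne' (Nat.eq_one_of_dvd_coprimes hHall hd h)

/-- Abelian Hall subgroups of the same order are conjugate. -/
theorem exists_cj_eq_of_abelian_hall {H K L : Subgroup G} (hH : IsMulCommutative H)
    (hK : IsMulCommutative K) (hHL : H ≤ L) (hKL : K ≤ L) (hc : Nat.card H = Nat.card K)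
    (hHall : (Nat.card H).Coprime (H.relIndex L)) : ∃ c ∈ L, cj c K = H := by
  obtain ⟨g, hg, hmax⟩ := Set.exists_max_image (L : Set G)
    (fun g => Nat.card (H ⊓ cj g K : Subgroup G)) (Set.toFinite _) ⟨1, one_mem _⟩
  refine ⟨g, hg, (eq_of_le_of_card_ge ?_ (by rw [card_cj, hc])).symm⟩
  by_contra hne
  have hne' : (H ⊓ cj g K).relIndex H ≠ 1 := by
    rw [Ne, relIndex_eq_one]; exact fun h => hne (h.trans inf_le_right)
  obtain ⟨q, hq, hd⟩ := Nat.exists_prime_and_dvd hne'
  haveI := Fact.mk hq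
  have hqH : q ∣ Nat.card H := hd.trans (relIndex_dvd_card _ _)
  have hKg : cj g K ≤ L := (cj_mono g hKL).trans (cj_eq_of_mem hg).le
  have hKc : cj g K ≤ centralizer (cj g K : Set G) := by
    rw [← cj_centralizer]; exact cj_mono g (le_centralizer_iff_isMulCommutative.2 hK)
  have hHall' : (Nat.card (cj g K)).Coprime ((cj g K).relIndex L) := by
    have e1 := card_mul_relIndex hHL
    have e2 := card_mul_relIndex hKg
    rw [card_cj, ← hc] at e2 ⊢
    rwa [Nat.eq_of_mul_eq_mul_left Nat.card_pos (e2.trans e1.symm)]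
  obtain ⟨S, hS⟩ := exists_isSyl q H
  obtain ⟨T, hT⟩ := exists_isSyl q (cj g K)
  have hS' : IsSyl q S (L ⊓ centralizer ((H ⊓ cj g K : Subgroup G) : Set G)) :=
    (hS.of_hall hHL hHall hqH).mono (le_inf (hS.le.trans hHL) (hS.le.trans
      ((le_centralizer_iff_isMulCommutative.2 hH).trans (centralizer_le fun x hx => hx.1))))
      inf_le_left
  have hT' : IsSyl q T (L ⊓ centralizer ((H ⊓ cj g K : Subgroup G) : Set G)) :=
    (hT.of_hall hKg hHall' (by rwa [card_cj, ← hc])).mono (le_inf (hT.le.trans hKg) (hT.le.trans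
      (hKc.trans (centralizer_le fun x hx => hx.2)))) inf_le_left
  obtain ⟨c, hcm, he⟩ := hS'.exists_cj_eq hT'
  have h1 : H ⊓ cj g K < H ⊓ cj (c * g) K := by
    refine lt_of_le_of_ne (le_inf inf_le_left ?_) fun h => ?_
    · rw [← cj_cj, ← cj_eq_of_mem_normalizer (centralizer_le_normalizer _ (mem_inf.1 hcm).2)]
      exact cj_mono c inf_le_right
    · refine hS.not_dvd (hd.trans (relIndex_dvd_of_le_left H ?_))
      rw [h]
      refine le_inf hS.le ?_
      rw [← cj_cj, ← he]
      exact cj_mono c hT.le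
  exact (card_lt_of_lt h1).not_ge (hmax (c * g) (mul_mem (mem_inf.1 hcm).1 hg))

/-- A homomorphism onto the group of order two with a given kernel of relative index two. -/
theorem exists_signHom {P Q : Subgroup G} (h : Q.relIndex P = 2) :
    ∃ φ : P →* ℤˣ, ∀ x : P, (φ x = 1 ↔ (x : G) ∈ Q) ∧ (φ x = -1 ↔ (x : G) ∉ Q) := by
  classical
  have hm : ∀ a b : P, ((a * b : P) : G) ∈ Q ↔ ((a : G) ∈ Q ↔ (b : G) ∈ Q) := fun a b =>
    mul_mem_iff_of_index_two (H := Q.subgroupOf P) h
  refine ⟨MonoidHom.mk' (fun x => if (x : G) ∈ Q then 1 else -1) fun a b => ?_, fun x => ?_⟩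
  · by_cases ha : (a : G) ∈ Q <;> by_cases hb : (b : G) ∈ Q <;> simp only [hm, ha, hb] <;> simp
  · by_cases hx : (x : G) ∈ Q <;> simp [hx]

theorem index_ker_eq_two {φ : G →* ℤˣ} {u : G} (hu : φ u = -1) : φ.ker.index = 2 := by
  rw [index_ker, MonoidHom.range_eq_top.2, card_top]
  · simp
  · intro y
    rcases Int.units_eq_one_or y with rfl | rfl
    · exact ⟨1, map_one φ⟩
    · exact ⟨u, hu⟩

/-- Generalized Thompson transfer lemma: `H` of odd index, `Q` of index two in `H`, `u ∈ H \ Q` such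
that no conjugate of `u` lies in `Q` and all conjugates in `H` of even powers of `u` lie in `Q`. -/
theorem thompson_transfer_gen {H Q : Subgroup G} (hH : Odd H.index) (hQ : Q.relIndex H = 2) {u : G}
    (huH : u ∈ H) (h1 : ∀ (g : G) (k : ℕ), Odd k → g * u ^ k * g⁻¹ ∉ Q)
    (h2 : ∀ (g : G) (k : ℕ), Even k → g * u ^ k * g⁻¹ ∈ H → g * u ^ k * g⁻¹ ∈ Q) :
    ∃ M : Subgroup G, M.Normal ∧ M.index = 2 ∧ u ∉ M := by
  obtain ⟨φ, hφ⟩ := exists_signHom hQ
  have hu : φ ⟨u, huH⟩ = -1 := (hφ _).2.2 (by simpa using h1 1 1 odd_one)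
  have key : MonoidHom.transfer φ u = -1 := by
    rw [transfer_eq_pow_of_mem φ huH, hu, hH.neg_one_pow]
    intro k a h
    rw [hu]
    rcases Nat.even_or_odd k with hk | hk
    · rw [hk.neg_one_pow]
      exact (hφ _).1.2 (by simpa using h2 a⁻¹ k hk (by simpa using h))
    · rw [hk.neg_one_pow]
      exact (hφ _).2.2 (by simpa using h1 a⁻¹ k hk)
  refine ⟨(MonoidHom.transfer φ).ker, inferInstance, index_ker_eq_two key, ?_⟩
  rw [MonoidHom.mem_ker, key]
  decide

theorem odd_index_sylow_two (P : Sylow 2 G) : Odd (P : Subgroup G).index :=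
  Nat.not_even_iff_odd.1 fun h => P.not_dvd_index (even_iff_two_dvd.1 h)

/-- **Thompson's transfer lemma**. -/
theorem thompson_transfer {H Q : Subgroup G} (hH : Odd H.index) (hQ : Q.relIndex H = 2) {u : G}
    (hu : u ^ 2 = 1) (huH : u ∈ H) :
    (∃ M : Subgroup G, M.Normal ∧ M.index = 2 ∧ u ∉ M) ∨ ∃ g : G, g * u * g⁻¹ ∈ Q := by
  by_cases h : ∃ g : G, g * u * g⁻¹ ∈ Q
  · exact Or.inr h
  refine Or.inl (thompson_transfer_gen hH hQ huH ?_ ?_)
  · rintro g _ ⟨k, rfl⟩ hk
    rw [pow_succ, pow_mul, hu, one_pow, one_mul] at hk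
    exact h ⟨g, hk⟩
  · rintro g _ ⟨k, rfl⟩ _
    rw [← two_mul, pow_mul, hu, one_pow, mul_one, mul_inv_cancel]
    exact one_mem _

theorem pResidual_two_eq_top_iff : pResidual 2 G = ⊤ ↔ ∀ H : Subgroup G, H.index ≠ 2 := by
  constructor
  · intro h H hH
    haveI := normal_of_index_eq_two hH
    have := pResidual_le_of_index (p := 2) (N := H) (n := 1) (by simpa using hH)
    rw [h, top_le_iff] at this
    rw [this, index_top] at hH
    exact absurd hH (by decide)
  · intro h
    by_contra hne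
    have hP := isPGroup_quotient_pResidual (G := G) (p := 2)
    obtain ⟨n, hn⟩ := hP.exists_card_eq
    have hn0 : n ≠ 0 := by
      rintro rfl
      exact hne (index_eq_one.1 (by rw [index_eq_card, hn, pow_zero]))
    obtain ⟨K, hK⟩ := Sylow.exists_subgroup_card_pow_prime (G := G ⧸ pResidual 2 G) 2 (n := n - 1)
      (by rw [hn]; exact pow_dvd_pow _ (Nat.sub_le _ _))
    refine h (K.comap (QuotientGroup.mk' _)) ?_
    rw [index_comap_of_surjective _ (QuotientGroup.mk'_surjective _)]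
    have := K.card_mul_index
    rw [hK, hn] at this
    obtain ⟨m, rfl⟩ := Nat.exists_eq_succ_of_ne_zero hn0
    rw [Nat.succ_sub_one, pow_succ] at this
    exact Nat.eq_of_mul_eq_mul_left (by positivity) this

end Cfsg.Agent.Transfer
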