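import Cfsg.Agent.Lib.Transfer.Thom
import Mathlib.GroupTheory.SemidirectProduct

/-!
The holomorph of a group: automorphisms as conjugations.
-/

set_option autoImplicit false
set_option linter.unusedSectionVars false
set_option linter.style.haveILetI false

namespace Cfsg.Agent.Transfer

open Subgroup SemidirectProduct
open scoped commutatorElement

abbrev Hol (V : Type*) [Group V] := V ⋊[MonoidHom.id (MulAut V)] MulAut V

variable {V : Type*} [Group V]

instance instFiniteMulAut [Finite V] : Finite (MulAut V) :=
  Finite.of_injective (fun a : MulAut V => (a : V → V)) DFunLike.coe_injective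

instance instFiniteHol [Finite V] : Finite (Hol V) :=
  Finite.of_equiv _ (SemidirectProduct.equivProd (N := V) (G := MulAut V)).symm

abbrev hl : V →* Hol V := inl
abbrev hr : MulAut V →* Hol V := inr

theorem hl_injective : Function.Injective (hl : V → Hol V) := inl_injective
theorem hr_injective : Function.Injective (hr : MulAut V → Hol V) := inr_injective

theorem hol_conj (a : MulAut V) (v : V) : hr a * hl v * (hr a)⁻¹ = hl (a v) := by
  rw [← map_inv]; exact (inl_aut a v).symm

theorem hol_commute_iff {a : MulAut V} {v : V} : Commute (hr a) (hl v) ↔ a v = v := by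
  rw [commute_iff_conj', hol_conj, hl_injective.eq_iff]
where commute_iff_conj' {G : Type _} [Group G] {x a : G} : Commute x a ↔ x * a * x⁻¹ = a :=
  mul_inv_eq_iff_eq_mul.symm

theorem hol_commutator (a : MulAut V) (v : V) : ⁅hr a, hl v⁆ = hl (a v * v⁻¹) := by
  rw [commutatorElement_def, hol_conj, map_mul, map_inv]

theorem cj_hr_map (a : MulAut V) (H : Subgroup V) :
    cj (hr a) (H.map hl) = (H.map a.toMonoidHom).map hl := by
  rw [cj, map_map, map_map]
  congr 1
  ext1 v
  exact hol_conj a v

theorem hr_mem_normalizer {a : MulAut V} {H : Subgroup V} (h : H.map a.toMonoidHom = H) :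
    hr a ∈ normalizer ((H.map hl : Subgroup (Hol V)) : Set (Hol V)) := by
  rw [mem_normalizer_iff_cj, cj_hr_map, h]

theorem hr_mem_normalizer_char (a : MulAut V) (H : Subgroup V) [hH : H.Characteristic] :
    hr a ∈ normalizer ((H.map hl : Subgroup (Hol V)) : Set (Hol V)) :=
  hr_mem_normalizer (characteristic_iff_map_eq.1 hH a)

theorem hr_mem_centralizer_iff {a : MulAut V} {H : Subgroup V} :
    hr a ∈ centralizer ((H.map hl : Subgroup (Hol V)) : Set (Hol V)) ↔ ∀ v ∈ H, a v = v := by
  constructor
  · exact fun h v hv => hol_commute_iff.1 (h _ ⟨v, hv, rfl⟩).symm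
  · rintro h _ ⟨v, hv, rfl⟩
    exact (hol_commute_iff.2 (h v hv)).symm

theorem hr_eq_one_of_mem_centralizer {a : MulAut V}
    (h : hr a ∈ centralizer (((⊤ : Subgroup V).map hl : Subgroup (Hol V)) : Set (Hol V))) : a = 1 :=
  MulEquiv.ext fun v => hr_mem_centralizer_iff.1 h v (mem_top v)

theorem characteristic_of_normal_map_hl {H : Subgroup V} (h : (H.map hl).Normal) : H.Characteristic :=
  characteristic_iff_map_eq.2 fun a => map_injective hl_injective (by
    rw [← cj_hr_map]; exact cj_eq_of_normal _ _)

instance instNormalMapHl (H : Subgroup V) [hH : H.Characteristic] : (H.map hl).Normal := by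
  refine normalizer_eq_top_iff.1 (eq_top_iff.2 fun x _ => ?_)
  rw [← inl_left_mul_inr_right x]
  exact mul_mem (le_normalizer_map hl ⟨_, le_normalizer_of_normal (mem_top _), rfl⟩)
    (hr_mem_normalizer_char _ H)

end Cfsg.Agent.Transfer
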