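import Cfsg.Agent.Lib.Transfer.PG
import Cfsg.Agent.Lib.Comp.SPE

set_option autoImplicit false
set_option linter.unusedSectionVars false

namespace Cfsg.Agent.Transfer
open Subgroup Cfsg.Agent.MS
open scoped commutatorElement

universe u
variable {G : Type u} [Group G] [Finite G] {p : ℕ} [hp : Fact p.Prime]

theorem psol_cc_le {H : Subgroup G} (h : Comp.PSol p H) (hO : O {p} H = ⊥) : H ⊓ CC (O {p}ᶜ H) ≤ O {p}ᶜ H := by
  set D := H ⊓ CC (O {p}ᶜ H)
  have hn : H ≤ NN D := nn_inf (le_nn H) (nn_cc (nn_O (le_nn H)))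
  have h1 : O {p}ᶜ D ≤ O {p}ᶜ H := O_le_O inf_le_left hn
  obtain ⟨T, hT⟩ := exists_isSyl p (Comp.Oppp p D)
  have h2 := (syl_in hT).Opp_sup_eq_Oppp
  rw [← O1c_eq] at h2
  have h3 : T = ⊥ := by
    have h4 := syl_eq_O hT (h2 ▸ sup_le (nn_of_cc (cc_symm ((hT.le.trans (Comp.Oppp_le D)).trans
      (inf_le_right.trans (cc_anti h1))))) (le_nn T))
    exact eq_bot_iff.2 (hO ▸ h4.le.trans ((O_le_O (Comp.Oppp_le D) (Comp.le_normalizer_Oppp_self D)).trans
      (O_le_O inf_le_left hn)))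
  rw [h3, sup_bot_eq] at h2
  refine le_trans ?_ h1
  rw [h2]
  refine Comp.le_Oppp_of_commutator_le (h.PLay_eq_bot inf_le_left) le_rfl ?_
  rw [← h2, ← O1c_eq]
  exact comm_le_right (nn_O (le_nn D))

theorem psol_sub {G' : Type u} [Group G'] [Finite G'] {f : G' →* G} (hf : Function.Injective f) {H : Subgroup G'}
    (h : Comp.PSol p (H.map f)) : Comp.PSol p H := fun K hK h1 h2 =>
  (map_eq_bot_iff_of_injective K hf).1 (h _ (map_mono hK) (by rw [← Comp.map_Res, h1]) (by rw [← Comp.map_Resp, h2]))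

theorem psol_subtype {H : Subgroup G} (h : Comp.PSol p H) : Comp.PSol p (⊤ : Subgroup H) :=
  psol_sub H.subtype_injective (by rwa [← MonoidHom.range_eq_map, range_subtype])

theorem psol_surj {G' : Type u} [Group G'] [Finite G'] {f : G →* G'} (hf : Function.Surjective f)
    (h : Comp.PSol p (⊤ : Subgroup G)) : Comp.PSol p (⊤ : Subgroup G') :=
  map_top_of_surjective f hf ▸ h.map f

theorem psol_of_sub {H : Subgroup G} (h : IsPSolvable p H) : Comp.PSol p H := by
  have := (Comp.pSol_top_of_isPSolvable h).map H.subtype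
  rwa [← MonoidHom.range_eq_map, range_subtype] at this

theorem psol_charP (h : Comp.PSol p (⊤ : Subgroup G)) (hO : pPrimeCore p G = ⊥) : CC (pCore p G) ≤ pCore p G :=
  Comp.charP_top_iff.1 (h.charP (by rw [← O1c_eq, O_top, ← Solv.pPrimeCore_eq_piCore, hO]))

theorem res_le_of_pow {H K : Subgroup G} (h : ∀ x ∈ H, ∃ k, x ^ p ^ k ∈ K) : res p H ≤ K :=
  res_le_iff.2 fun x hx hc => by
    obtain ⟨k, hk⟩ := h x hx
    exact mem_of_pow_mem_coprime (hc.pow_right k) hk

theorem exists_pow_mem_of_res_le {H K : Subgroup G} (h : res p H ≤ K) {x : G} (hx : x ∈ H) : ∃ k, x ^ p ^ k ∈ K :=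
  (exists_pow_mem_res hx).imp fun _ hk => h hk

/-- the largest normal subgroup of `L` which is a `p`-group modulo `C` -/
theorem exists_opMod {L C : Subgroup G} (hL : L ≤ NN C) : ∃ N, L ⊓ C ≤ N ∧ N ≤ L ∧ L ≤ NN N ∧ res p N ≤ C ∧
    ∀ D ≤ L, L ≤ NN D → res p D ≤ N → D ≤ N := by
  obtain ⟨Q, _, _, f, q⟩ := exists_qm (inf_le_left : L ⊓ C ≤ L) (nn_inf (le_nn L) hL)
  have h1 : res p (pre f (O {p} ⊤)) ≤ C := by
    obtain ⟨n, hn⟩ := (O_pg (p := p) (⊤ : Subgroup Q)).exists_card_eq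
    exact (res_le_of_relIndex ((pre_le _ _).trans q.nn) ((q.relIndex_pre _).trans hn)).trans inf_le_right
  refine ⟨pre f (O {p} ⊤), q.le_pre _, pre_le _ _, q.nn_pre le_rfl (le_top.trans (nn_O (le_nn _))), h1,
    fun D hD hn h => (le_pre_iff hD).2 (le_O le_top (q.im_top ▸ im_nn le_rfl hD hn) (pi1_of_pg ?_))⟩
  refine isPGroup_of_forall_mem fun y hy => ?_
  obtain ⟨x, hx, rfl⟩ := mem_im.1 hy
  obtain ⟨k, hk⟩ := exists_pow_mem_res (p := p) hx
  have h2 : res p D ≤ C := by rw [← res_res]; exact (res_mono h).trans h1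
  exact ⟨k, by rw [← map_pow]; exact (q.eq_one_iff (x ^ p ^ k).2).2 ⟨(x ^ p ^ k).2, h2 hk⟩⟩

/-- `SL₂(3)` is a section of `L` -/
def Sec3 (L : Subgroup G) : Prop :=
  ∃ (K M : Subgroup G) (_ : (M.subgroupOf K).Normal), K ≤ L ∧ Nonempty ((K ⧸ M.subgroupOf K) ≃* SL2 (ZMod 3))

theorem quad_dichot (hp2 : p ≠ 2) {B L : Subgroup G} (hB : IsPGroup p B) (hL : L ≤ NN B) (hs : Comp.PSol p L)
    {a : G} (ha : a ∈ L) (hq : ⁅⁅B, zpowers a⁆, zpowers a⁆ = ⊥) :
    (∃ N, a ∈ N ∧ N ≤ L ∧ L ≤ NN N ∧ res p N ≤ CC B) ∨ (p = 3 ∧ Sec3 L) := by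
  obtain ⟨N, h1, h2, h3, h4, h5⟩ := exists_opMod (p := p) (nn_cc hL)
  by_cases haN : a ∈ N
  · exact Or.inl ⟨N, haN, h2, h3, h4⟩
  obtain ⟨Q, _, _, f, q⟩ := exists_qm h2 h3
  have hO : O {p} (⊤ : Subgroup Q) = ⊥ := by
    obtain ⟨n, hn⟩ := (O_pg (p := p) (⊤ : Subgroup Q)).exists_card_eq
    refine q.pre_inj (le_antisymm ?_ (pre_mono bot_le))
    rw [q.pre_bot]
    exact h5 _ (pre_le _ _) (q.nn_pre le_rfl (le_top.trans (nn_O (le_nn _))))
      (res_le_of_relIndex ((pre_le _ _).trans h3) ((q.relIndex_pre _).trans hn))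
  obtain ⟨x, hx, h6⟩ : ∃ x ∈ pre f (O {p}ᶜ ⊤), ⁅x, a⁆ ∉ N := by
    by_contra h
    push Not at h
    have h7 : f ⟨a, ha⟩ ∈ O {p}ᶜ (⊤ : Subgroup Q) := psol_cc_le (psol_surj q.surj (psol_subtype hs)) hO
      ⟨mem_top _, mem_CC.2 fun y hy => by
        obtain ⟨x, rfl⟩ := q.surj y
        rw [← commutatorElement_eq_one_iff_mul_comm, ← map_commutatorElement]
        exact (q.eq_one_iff (⁅x, ⟨a, ha⟩⁆ : L).2).2 (h x (mem_pre.2 ⟨x.2, hy⟩))⟩
    obtain ⟨k, hk⟩ := exists_pow_mem_centralizer_of_quad hB (hL ha) hq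
    have h8 : f ⟨a, ha⟩ ^ p ^ k = 1 := by
      rw [← map_pow]; exact (q.eq_one_iff (pow_mem ha _)).2 (h1 ⟨pow_mem ha _, hk⟩)
    exact haN ((q.eq_one_iff ha).1 (eq_one_of_inf (pg_inf (isPGroup_zpowers h8) (O_pi {p}ᶜ ⊤) (by simp))
      (mem_zpowers _) h7))
  obtain ⟨e, K, M, hM, h7, h8⟩ := sl2_three_of_quadratic hp2 hB hL h3
    (q.nn_pre le_rfl (le_top.trans (nn_O (le_nn _)))) h1 (fun n hn => exists_pow_mem_of_res_le h4 hn)
    (pi_compl_iff_coprime.1 (O_pi {p}ᶜ (⊤ : Subgroup Q))) (fun r hr => by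
      obtain ⟨hr1, hr2⟩ := mem_pre.1 hr
      refine (q.eq_one_iff (pow_mem hr1 _)).1 ?_
      exact (map_pow f ⟨r, hr1⟩ _).trans (Solv.pow_card_eq_one_of_mem hr2)) ha (pre_le _ _ hx) hx hq h6
  refine Or.inr ⟨e, K, M, hM, h7.trans ((closure_le _).2 ?_), h8⟩
  rintro _ (rfl | rfl)
  exacts [ha, mul_mem (mul_mem (pre_le _ _ hx) ha) (inv_mem (pre_le _ _ hx))]

theorem mk_mem_pCore_of {C N : Subgroup G} [C.Normal] [N.Normal] {a : G} (ha : a ∈ N) (h : res p N ≤ C) :
    (QuotientGroup.mk a : G ⧸ C) ∈ pCore p (G ⧸ C) :=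
  mk_mem_pCore_iff.2 ((res_mono (normalClosure_le_normal (by simpa using ha))).trans h)

theorem stableOn_of_psol (hp5 : 5 ≤ p) (hs : Comp.PSol p (⊤ : Subgroup G)) (B : Subgroup G) [B.Normal]
    (hB : IsPGroup p B) : IsPStableOn p B := fun a hq => by
  obtain ⟨N, h1, -, h2, h3⟩ := (quad_dichot (by omega) hB nn_normal hs (mem_top a) hq).resolve_right (by omega)
  haveI := normal_of_top_le fun g => h2 (mem_top g)
  exact mk_mem_pCore_of h1 h3

theorem actionStable_of (h1 : ∀ (B : Subgroup G) [B.Normal], IsPGroup p B → IsPStableOn p B)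
    (h2 : ∀ (N : Subgroup G) [N.Normal] (B : Subgroup (G ⧸ N)) [B.Normal], IsPGroup p B → IsPStableOn p B)
    (h3 : ∀ (H : Subgroup G) (B : Subgroup H) [B.Normal], IsPGroup p B → IsPStableOn p B) : IsActionPStable p G := by
  refine ⟨fun V _ hV => h1 V (elem_isPGroup hV), fun a hq => ?_, fun S V _ hV => h3 _ V ?_⟩
  · set N := (frattini (pCore p G)).map (pCore p G).subtype
    set K := (pCore p G).map (QuotientGroup.mk' N)
    haveI : K.Normal := Normal.map inferInstance _ (QuotientGroup.mk'_surjective N)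
    have := h2 N K ((Solv.isPGroup_pCore _ _).map _) (QuotientGroup.mk' N a) (by
      rw [← MonoidHom.map_zpowers, ← map_commutator, ← map_commutator, Subgroup.map_eq_bot_iff, QuotientGroup.ker_mk']
      exact hq)
    let f := (QuotientGroup.mk' (CC K)).comp (QuotientGroup.mk' N)
    have hf : Function.Surjective f := (QuotientGroup.mk'_surjective _).comp (QuotientGroup.mk'_surjective N)
    have hk : f.ker = sectionKernel (pCore p G) N := by
      rw [← MonoidHom.comap_ker, QuotientGroup.ker_mk']; rfl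
    refine ⟨(pCore p _).comap f, inferInstance, hk ▸ ker_le_comap _ _, ?_, this⟩
    obtain ⟨k, hk'⟩ := (Solv.isPGroup_pCore p ((G ⧸ N) ⧸ CC K)).exists_card_eq
    exact ⟨k, by rw [← hk, relIndex_ker, map_comap_eq_self_of_surjective hf, hk']⟩
  · exact (S.2.to_le (hV.trans (map_subtype_le _))).of_equiv (V.equivMapOfInjective _ (subtype_injective _)).symm

theorem actionStable_of_psol (hp5 : 5 ≤ p) (hs : Comp.PSol p (⊤ : Subgroup G)) : IsActionPStable p G :=
  actionStable_of (stableOn_of_psol hp5 hs)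
    (fun N _ => stableOn_of_psol hp5 (psol_surj (QuotientGroup.mk'_surjective N) hs))
    fun _ => stableOn_of_psol hp5 (psol_subtype (hs.of_le le_top))

theorem ab_sylow_surj {G' : Type*} [Group G'] [Finite G'] {f : G →* G'} (hf : Function.Surjective f)
    (h : ∀ T : Sylow p G, IsMulCommutative T) (T : Sylow p G') : IsMulCommutative T := by
  obtain ⟨S, hS⟩ := exists_sylow_map_eq hf T
  haveI := h S
  rw [← hS]; infer_instance

theorem ab_sylow_sub (h : ∀ T : Sylow p G, IsMulCommutative T) (H : Subgroup G) (T : Sylow p H) :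
    IsMulCommutative T :=
  comm_of_map (inf_ker_eq_bot_of_injective H.subtype_injective _)
    (comm_of_isPGroup_of_sylow default (h _) (T.2.map _))

theorem actionStable_of_abelian (hp2 : p ≠ 2) (h : ∀ T : Sylow 2 G, IsMulCommutative T) : IsActionPStable p G :=
  actionStable_of (isPStableOn_of_abelian hp2 default (h _))
    (fun N _ => isPStableOn_of_abelian hp2 default (ab_sylow_surj (QuotientGroup.mk'_surjective N) h _))
    fun H => isPStableOn_of_abelian hp2 default (ab_sylow_sub h H _)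

/-! ### `IsPStable` -/

theorem map_le_pCore_iff {Q : Type*} [Group Q] [Finite Q] {f : G →* Q} (hf : Function.Surjective f) {A : Subgroup G} :
    A.map f ≤ pCore p Q ↔ ∃ D : Subgroup G, D.Normal ∧ A ≤ D ∧ res p D ≤ f.ker := by
  constructor
  · intro h
    refine ⟨(pCore p Q).comap f, inferInstance, map_le_iff_le_comap.1 h, (isPGroup_map_iff_res_le f).1 ?_⟩
    rw [map_comap_eq_self_of_surjective hf]; exact Solv.isPGroup_pCore _ _
  · rintro ⟨D, hD, h1, h2⟩
    haveI := hD.map f hf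
    exact (map_mono h1).trans (Solv.le_pCore ((isPGroup_map_iff_res_le f).2 h2))

/-- `A` lies in `O_p(N(P) mod C(P))` -/
def InOp (p : ℕ) (A P : Subgroup G) : Prop := ∃ D, A ≤ D ∧ D ≤ NN P ∧ NN P ≤ NN D ∧ res p D ≤ CC P

theorem inOp_iff {A P : Subgroup G} (h : A ≤ NN P) : (A.subgroupOf (NN P)).map
    (QuotientGroup.mk' ((CC P).subgroupOf (NN P))) ≤ pCore p _ ↔ InOp p A P := by
  rw [map_le_pCore_iff (QuotientGroup.mk'_surjective _), QuotientGroup.ker_mk']
  constructor
  · rintro ⟨D, hD, h1, h2⟩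
    refine ⟨D.map (NN P).subtype, ?_, map_subtype_le _, ?_, ?_⟩
    · rw [← map_subgroupOf_eq_of_le h]; exact map_mono h1
    · exact (normal_subgroupOf_iff_le_normalizer (map_subtype_le D)).1 (by rwa [subgroupOf, comap_map_eq_self_of_injective (subtype_injective _)])
    · rw [← map_res]; exact map_le_iff_le_comap.2 h2
  · rintro ⟨D, h1, h2, h3, h4⟩
    refine ⟨D.subgroupOf _, (normal_subgroupOf_iff_le_normalizer h2).2 h3, comap_mono h1, ?_⟩
    refine map_le_iff_le_comap.1 ?_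
    rwa [map_res, map_subgroupOf_eq_of_le h2]

theorem pstable_iff : IsPStable p G ↔ Odd p ∧ pCore p G ≠ ⊥ ∧ ∀ A P : Subgroup G, IsPGroup p A → IsPGroup p P →
    A ≤ NN P → P ≤ pPrimePCore p G → (pPrimeCore p G ⊔ P).Normal → ⁅⁅P, A⁆, A⁆ = ⊥ → InOp p A P := by
  refine and_congr_right fun _ => and_congr_right fun _ => ⟨fun h A P h1 h2 h3 h4 h5 h6 => (inOp_iff h3).1
    (h A P h1 h2 (fun a ha x hx => conj_mem_of_mem_normalizer (h3 ha) hx) h4 h5 h6), fun h A P h1 h2 h3 h4 h5 h6 => ?_⟩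
  have h7 : A ≤ NN P := fun a ha => mem_normalizer_of_conj_mem (h3 a ha)
  exact (inOp_iff h7).2 (h A P h1 h2 h7 h4 h5 h6)

theorem coprime_pPrimeCore : (#(pPrimeCore p G)).Coprime p := by
  rw [Solv.pPrimeCore_eq_piCore, ← O_top]; exact pi_compl_iff_coprime.1 (O_pi _ _)

omit hp [Finite G] in
theorem map_inf_comap2 {G' : Type*} [Group G'] (f : G →* G') (T : Subgroup G) (X : Subgroup G') :
    (T ⊓ X.comap f).map f = T.map f ⊓ X :=
  le_antisymm (le_inf (map_mono inf_le_left) (map_le_iff_le_comap.2 inf_le_right))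
    fun _ ⟨⟨x, hx, e⟩, h⟩ => ⟨x, ⟨hx, show f x ∈ X from e ▸ h⟩, e⟩

theorem pstable_quot_iff (hO : pCore p G ≠ ⊥) : IsPStable p G ↔ IsPStable p (G ⧸ pPrimeCore p G) := by
  set N := pPrimeCore p G
  set f := QuotientGroup.mk' N
  have hf : Function.Surjective f := QuotientGroup.mk'_surjective N
  have hk : f.ker = N := QuotientGroup.ker_mk' N
  have hN : (#N).Coprime p := coprime_pPrimeCore
  have h0 : pPrimeCore p (G ⧸ N) = ⊥ := Solv.pPrimeCore_quotient_pPrimeCore
  have hd : ∀ {T : Subgroup G}, IsPGroup p T → T ⊓ f.ker = ⊥ := fun h => inf_ker_mk_eq_bot hN h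
  rw [pstable_iff, pstable_iff]
  refine and_congr_right fun _ => ⟨fun ⟨_, h⟩ => ⟨fun e => hO ?_, fun A P h1 h2 h3 h4 h5 h6 => ?_⟩,
    fun ⟨_, h⟩ => ⟨hO, fun A P h1 h2 h3 h4 h5 h6 => ?_⟩⟩
  · haveI := (inferInstance : (pCore p G).Normal).map f hf
    exact eq_bot_of_le (hd (Solv.isPGroup_pCore _ _)) le_rfl ((Subgroup.map_eq_bot_iff _).1
      (eq_bot_iff.2 (e ▸ Solv.le_pCore ((Solv.isPGroup_pCore _ _).map f))))
  · rw [h0, bot_sup_eq] at h5
    obtain ⟨T, hT⟩ := exists_isSyl p ((P ⊔ A).comap f)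
    have e0 : T.map f = P ⊔ A := by
      have := hT.map f
      rw [map_comap_eq_self_of_surjective hf] at this
      exact (this.eq_of_le (pg_sup_l h2 h1 h3) le_rfl this.le).symm
    have e : ∀ X ≤ P ⊔ A, (T ⊓ X.comap f).map f = X := fun X hX => by
      rw [map_inf_comap2, e0, inf_eq_right.2 hX]
    have hP := hT.pgroup.to_le (inf_le_left : T ⊓ P.comap f ≤ T)
    obtain ⟨D, d1, d2, d3, d4⟩ := h (T ⊓ A.comap f) (T ⊓ P.comap f) (hT.pgroup.to_le inf_le_left) hP
      (nn_inf (inf_le_left.trans (le_nn T)) nn_normal) (inf_le_right.trans (comap_mono (Solv.le_pCore h2)))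
      (by
        have := comap_map_eq f (T ⊓ P.comap f)
        rw [e P le_sup_left, hk, sup_comm] at this
        exact this ▸ inferInstance)
      (eq_bot_of_le (hd hT.pgroup) (comm_le (comm_le inf_le_left inf_le_left) inf_le_left)
        ((Subgroup.map_eq_bot_iff _).1 (by rw [map_commutator, map_commutator, e P le_sup_left, e A le_sup_right, h6])))
    refine ⟨D.map f, e A le_sup_right ▸ map_mono d1, nn_normal, ?_, ?_⟩
    · rw [← e P le_sup_left, ← map_mk_normalizer hN hP]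
      exact (map_mono d3).trans (le_normalizer_map f)
    · rw [← map_res, ← e P le_sup_left, ← map_mk_centralizer hN hP]
      exact map_mono d4
  · have e : (N ⊔ P).map f = P.map f := by
      rw [Subgroup.map_sup, (Subgroup.map_eq_bot_iff _).2 hk.ge, bot_sup_eq]
    haveI : (P.map f).Normal := e ▸ h5.map f hf
    obtain ⟨D, d1, d2, d3, d4⟩ := h (A.map f) (P.map f) (h1.map f) (h2.map f) nn_normal
      ((Solv.le_pCore (h2.map f)).trans (Comp.Oppp_top (G := G ⧸ N) (p := p) ▸ Comp.Op_top (G := G ⧸ N) (p := p) ▸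
        Comp.Op_le_Oppp ⊤))
      (by rw [h0, bot_sup_eq]; infer_instance) (by rw [← map_commutator, ← map_commutator, h6, Subgroup.map_bot])
    haveI : D.Normal := normal_of_top_le fun g => d3 (nn_normal (A := ⊤) (mem_top g))
    refine ⟨D.comap f ⊓ NN P, le_inf (map_le_iff_le_comap.1 d1) h3, inf_le_right, nn_inf nn_normal (le_nn _), ?_⟩
    refine comm_eq_bot'.1 (eq_bot_of_le (hd h2) (comm_le_left ((res_le _).trans inf_le_right))
      ((Subgroup.map_eq_bot_iff _).1 ?_))
    rw [map_commutator, comm_eq_bot', map_res]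
    exact (res_mono (map_le_iff_le_comap.2 inf_le_left)).trans d4

theorem stableOn_of_pstable (h : IsPStable p G) (B : Subgroup G) [B.Normal] (hB : IsPGroup p B) :
    IsPStableOn p B := fun a hq => by
  obtain ⟨b, hb, c, hc, rfl, ⟨k, hk⟩, h1⟩ := exists_pPart p a
  obtain ⟨D, d1, -, d3, d4⟩ := (pstable_iff.1 h).2.2 (zpowers b) B (isPGroup_zpowers hk) hB nn_normal
    ((Solv.le_pCore hB).trans (Comp.Oppp_top (G := G) (p := p) ▸ Comp.Op_top (G := G) (p := p) ▸ Comp.Op_le_Oppp ⊤))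
    inferInstance (quad_mono le_rfl (zpowers_le.2 hb) hq)
  haveI : D.Normal := normal_of_top_le fun g => d3 (nn_normal (A := ⊤) (mem_top g))
  have h2 : c ∈ CC B := res_le_centralizer_of_quad hB nn_normal hq (mem_res hc h1)
  rw [QuotientGroup.mk_mul, (QuotientGroup.eq_one_iff c).2 h2, mul_one]
  exact mk_mem_pCore_of (d1 (mem_zpowers b)) d4

theorem charP_quot_of_constrained (hc : IsPConstrained p G) :
    CC (pCore p (G ⧸ pPrimeCore p G)) ≤ pCore p (G ⧸ pPrimeCore p G) := by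
  have := Comp.charP_map_of_PLay_eq_bot (QuotientGroup.mk' (pPrimeCore p G)) (M := ⊤)
    (by rw [top_inf_eq, QuotientGroup.ker_mk', ← O1c_eq, O_top, ← Solv.pPrimeCore_eq_piCore])
    (Comp.isPConstrained_iff.1 hc)
  rwa [map_top_of_surjective _ (QuotientGroup.mk'_surjective _), Comp.charP_top_iff] at this

theorem charP_of_constrained (hc : IsPConstrained p G) (hO : pPrimeCore p G = ⊥) : CC (pCore p G) ≤ pCore p G :=
  Comp.charP_top_iff.1 (Comp.charP_iff_PLay_Opp.2 ⟨Comp.isPConstrained_iff.1 hc,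
    by rw [← O1c_eq, O_top, ← Solv.pPrimeCore_eq_piCore, hO]⟩)

theorem sup_normalizer_eq_top {N A : Subgroup G} [N.Normal] (hN : (#N).Coprime p) (hA : IsPGroup p A)
    (h : (A.map (QuotientGroup.mk' N)).Normal) : N ⊔ NN A = ⊤ := by
  have := map_mk_normalizer hN hA
  rw [normalizer_eq_top (A.map _)] at this
  have h1 := comap_map_eq (QuotientGroup.mk' N) (NN A)
  rw [this, comap_top, QuotientGroup.ker_mk', sup_comm] at h1
  exact h1.symm

/-! ### the stable normal closure -/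

omit hp [Finite G] in
theorem map_sInf_normal {H : Type*} [Group H] {τ : G →* H} (hτ : Function.Injective τ) {𝓕 : Set (Subgroup G)}
    (h0 : 𝓕.Nonempty) (h : ∀ W ∈ 𝓕, (W.map τ).Normal) : ((sInf 𝓕).map τ).Normal := ⟨by
  rintro _ ⟨x, hx, rfl⟩ g
  obtain ⟨W, hW⟩ := h0
  obtain ⟨y, -, hy⟩ := (h W hW).conj_mem _ (mem_map_of_mem τ (mem_sInf.1 hx W hW)) g
  refine ⟨y, mem_sInf.2 fun V hV => (mem_map_iff_mem hτ).1 ?_, hy⟩
  rw [hy]
  exact (h V hV).conj_mem _ (mem_map_of_mem τ (mem_sInf.1 hx V hV)) g⟩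

omit hp in
theorem omega_center_le_OZJ : omegaOne p (center G) ≤ omegaCenterThompson p G := by
  have := omegaOne_center_le_ZJ (n := p) (⊤ : Subgroup G)
  rwa [top_inf_eq, coe_top, centralizer_univ, centerThompsonOf, J_top] at this

omit hp [Finite G] in
theorem stable_normal_OZJ {H : Type u} [Group H] {τ : G →* H} (h : IsStableEmbedding p τ) :
    ((omegaCenterThompson p G).map τ).Normal := by
  have h1 := h.2.2.2.2.1
  rw [map_thompsonSubgroup_range h.1] at h1
  rw [map_omegaCenterThompson h.1]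
  exact normal_of_top_le fun g => mem_normalizer_omegaOne
    (normalizer_J_le_normalizer_ZJ _ (nn_normal (A := ⊤) (mem_top g)))

omit hp [Finite G] in
theorem omega_le_snc : omegaOne p (center G) ≤ stableNormalClosure p G := le_sInf fun _ h => h.1

omit hp in
theorem snc_le_OZJ : stableNormalClosure p G ≤ omegaCenterThompson p G :=
  sInf_le ⟨omega_center_le_OZJ, fun _ _ _ h => stable_normal_OZJ h⟩

omit hp in
theorem snc_normal {H : Type u} [Group H] {τ : G →* H} (h : IsStableEmbedding p τ) :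
    ((stableNormalClosure p G).map τ).Normal :=
  map_sInf_normal h.1 ⟨_, omega_center_le_OZJ, fun _ _ _ h => stable_normal_OZJ h⟩ fun _ hW => hW.2 _ _ h

omit hp [Finite G] in
theorem stable_comp {G' H : Type u} [Group G'] [Group H] (e : G' ≃* G) {τ : G →* H} (h : IsStableEmbedding p τ) :
    IsStableEmbedding p (τ.comp e.toMonoidHom) := by
  have h1 : (τ.comp e.toMonoidHom).range = τ.range := by
    rw [MonoidHom.range_comp, MonoidHom.range_eq_top.2 e.surjective, ← MonoidHom.range_eq_map]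
  have hi : Function.Injective (τ.comp e.toMonoidHom) := h.1.comp e.injective
  obtain ⟨a1, a2, a3, a4, a5, a6⟩ := h
  refine ⟨hi, a2, h1 ▸ a3, a4, ?_, ?_⟩
  · rwa [map_thompsonSubgroup_range hi, h1, ← map_thompsonSubgroup_range a1]
  · rwa [map_omegaCenterThompson hi, h1, ← map_omegaCenterThompson a1]

omit hp [Finite G] in
theorem map_snc_le {G' : Type u} [Group G'] (e : G ≃* G') :
    (stableNormalClosure p G).map e.toMonoidHom ≤ stableNormalClosure p G' := by
  refine le_sInf fun W hW => map_le_iff_le_comap.2 (sInf_le ⟨?_, fun H _ τ hτ => ?_⟩)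
  · refine omegaOne_le_iff.2 fun x hx h => hW.1 (mem_omegaOne (mem_center_iff.2 fun y => ?_) (by
      rw [← map_pow, h, map_one]))
    obtain ⟨y, rfl⟩ := e.surjective y
    simpa using congrArg e (mem_center_iff.1 hx y)
  · have := hW.2 H _ (stable_comp e.symm hτ)
    rwa [← map_map, ← comap_equiv_eq_map_symm'] at this

omit hp [Finite G] in
theorem map_snc {G' : Type u} [Group G'] (e : G ≃* G') :
    (stableNormalClosure p G).map e.toMonoidHom = stableNormalClosure p G' :=
  le_antisymm (map_snc_le e) fun x hx => ⟨e.symm x, map_snc_le e.symm (mem_map_of_mem _ hx), by simp⟩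

instance instCharSnc {G : Type u} [Group G] {p : ℕ} : (stableNormalClosure p G).Characteristic :=
  characteristic_iff_map_eq.2 map_snc

theorem snc_ne_bot (h : IsPGroup p G) [Nontrivial G] : stableNormalClosure p G ≠ ⊥ := fun e => by
  have := omegaOne_center_ne_bot (h.to_subgroup ⊤) top_ne_bot
  rw [top_inf_eq, coe_top, centralizer_univ] at this
  exact this (eq_bot_iff.2 (e ▸ omega_le_snc))

omit hp in
theorem elem_snc : IsElementaryAbelian p (stableNormalClosure p G) :=
  elem_mono (elem_omegaOne (comm_inf_centralizer _)) snc_le_OZJ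

theorem quad_conj_split {V : Subgroup G} [V.Normal] (hst : IsPStableOn p V) (P : Sylow p G) {a : G}
    (hq : ⁅⁅V, zpowers a⁆, zpowers a⁆ = ⊥) (g : G) : ∃ c ∈ CC V, ∃ s ∈ P, g * a * g⁻¹ = c * s ∧
      ⁅⁅V, zpowers s⁆, zpowers s⁆ = ⊥ := by
  have h1 := quad_cj (nn_normal (A := ⊤) (mem_top g)) hq
  have h2 := mk_mem_pCore_iff.1 (hst _ h1)
  obtain ⟨c, hc, s, hs, e⟩ := (isSyl_inf_normal P _).exists_res_mul (subset_normalClosure (Set.mem_singleton (g * a * g⁻¹)))
  refine ⟨c, h2 hc, s, hs.1, e, quad_mono le_rfl (A := CC V ⊔ zpowers (g * a * g⁻¹)) (zpowers_le.2 ?_) ?_⟩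
  · have : s = c⁻¹ * (g * a * g⁻¹) := by rw [e]; group
    rw [this]; exact mul_mem (mem_sup_left (inv_mem (h2 hc))) (mem_sup_right (mem_zpowers _))
  · rw [commutator_sup_right_of_le_centralizer le_rfl nn_normal,
      commutator_sup_right_of_le_centralizer (cc_anti (comm_le_left nn_normal)) nn_normal, h1]

theorem snc_quad {x : G} (hq : ⁅⁅stableNormalClosure p G, zpowers x⁆, zpowers x⁆ = ⊥) :
    x ∈ CC (stableNormalClosure p G) := by
  set W := stableNormalClosure p G
  have : W ≤ W ⊓ centralizer {y | ⁅⁅W, zpowers y⁆, zpowers y⁆ = ⊥} := by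
    refine sInf_le ⟨le_inf omega_le_snc ((omegaOne_le _).trans (center_le_centralizer _)), fun H _ τ hτ => ⟨?_⟩⟩
    rintro _ ⟨u, hu, rfl⟩ g
    haveI := snc_normal hτ
    haveI := hτ.2.1
    obtain ⟨P, hP⟩ := hτ.2.2.1
    obtain ⟨w, hw, e⟩ := (snc_normal hτ).conj_mem _ (mem_map_of_mem τ hu.1) g
    refine ⟨w, ⟨hw, fun y hy => hτ.1 ?_⟩, e⟩
    obtain ⟨c, hc, s, hs, e1, h1⟩ := quad_conj_split (hτ.2.2.2.2.2 (W.map τ) (map_mono snc_le_OZJ)) P (a := τ y)
      (by rw [← MonoidHom.map_zpowers, ← map_commutator, ← map_commutator, hy, Subgroup.map_bot]) g⁻¹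
    obtain ⟨s, rfl⟩ : s ∈ τ.range := hP ▸ hs
    rw [← MonoidHom.map_zpowers, ← map_commutator, ← map_commutator, map_eq_bot_iff_of_injective _ hτ.1] at h1
    have e2 := congrArg τ (hu.2 s h1)
    have e3 := mem_CC.1 hc _ (mem_map_of_mem τ hu.1)
    rw [map_mul, map_mul] at e2 ⊢
    have e4 : τ y = g * (c * τ s) * g⁻¹ := by rw [← e1]; group
    rw [e, e4]
    calc _ = g * (c * (τ s * τ u)) * g⁻¹ := by group
      _ = g * (τ u * c * τ s) * g⁻¹ := by rw [e2, e3, mul_assoc c]
      _ = _ := by group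
  exact mem_CC.2 fun w hw => ((this hw).2 x hq).symm

/-- `W(S)` inside the ambient group -/
abbrev WS (p : ℕ) (S : Subgroup G) : Subgroup G := (stableNormalClosure p S).map S.subtype

omit hp [Finite G] in
theorem map_WS {G' : Type u} [Group G'] {f : G →* G'} {S : Subgroup G} (hf : S ⊓ f.ker = ⊥) :
    (WS p S).map f = WS p (S.map f) := map_functor hf map_snc

theorem WS_quad {S : Subgroup G} {x : G} (hx : x ∈ S) (hq : ⁅⁅WS p S, zpowers x⁆, zpowers x⁆ = ⊥) : x ∈ CC (WS p S) := by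
  have := snc_quad (p := p) (x := (⟨x, hx⟩ : S)) ((map_eq_bot_iff_of_injective _ S.subtype_injective).1 (by
    rw [map_commutator, map_commutator, MonoidHom.map_zpowers]; exact hq))
  refine mem_CC.2 ?_
  rintro _ ⟨w, hw, rfl⟩
  exact congrArg Subtype.val (mem_CC.1 this w hw)

theorem WS_normal (hst : IsActionPStable p G) (hc : CC (pCore p G) ≤ pCore p G) (S : Sylow p G) :
    (WS p (S : Subgroup G)).Normal := by
  set W := WS p (S : Subgroup G)
  set Q := pCore p G
  have hQ : IsPGroup p Q := Solv.isPGroup_pCore _ _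
  have hQS : Q ≤ S := (isSyl_top S).le_of_normal hQ le_top nn_normal
  have hSW : (S : Subgroup G) ≤ NN W := (le_nn _).trans (normalizer_le_normalizer_map_of_characteristic _)
  have hW : IsElementaryAbelian p W := elem_map elem_snc _
  have hquad : ∀ {B : Subgroup G} {a : G}, B ≤ NN W → a ∈ W → ⁅⁅B, zpowers a⁆, zpowers a⁆ = ⊥ := fun h ha =>
    comm_eq_bot.2 (ab_le_cc hW.1 ((commutator_mono le_rfl (zpowers_le.2 ha)).trans (comm_le_right h)) (zpowers_le.2 ha))
  have h1 : W ≤ Q := fun a ha => by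
    obtain ⟨D, hD, -, ⟨k, hk⟩, h2⟩ := hst.2.1 a ((hquad (hQS.trans hSW) ha).le.trans bot_le)
    refine Solv.le_pCore (isPGroup_iff_res_eq_bot.2 (eq_bot_iff.2 (res_le_iff.2 fun x hx h3 => ?_))) h2
    set N := (frattini Q).map Q.subtype
    haveI : (Q.map (QuotientGroup.mk' N)).Normal := Normal.map inferInstance _ (QuotientGroup.mk'_surjective N)
    haveI : (sectionKernel Q N).Normal := inferInstanceAs (comap _ (centralizer _)).Normal
    have h4 := res_le_of_relIndex (nn_normal (A := D)) hk (mem_res hx h3)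
    have h5 : zpowers x ≤ CC Q := Solv.coprime_frattini_le_centralizer (by
      obtain ⟨n, hn⟩ := (hQ.to_subgroup (frattini Q)).exists_card_eq
      rw [hn, Nat.card_zpowers]; exact h3.pow_right n) (by
        refine le_trans ((Subgroup.map_eq_bot_iff _).1 ?_) (QuotientGroup.ker_mk' N).le
        rw [map_commutator, comm_eq_bot', MonoidHom.map_zpowers, zpowers_le]
        exact h4) nn_normal
    exact congrArg Subtype.val (eq_one_of_coprime_of_isPGroup hQ (x := ⟨x, hc (h5 (mem_zpowers x))⟩) (by simpa using h3))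
  have h2 : NN (thompsonSubgroupOf p (S : Subgroup G)) ≤ NN W := by
    set N := NN (thompsonSubgroupOf p (S : Subgroup G))
    have hS : (S : Subgroup G) ≤ N := (le_nn _).trans (normalizer_le_normalizer_J _)
    have e : N.subtype.comp (inclusion hS) = (S : Subgroup G).subtype := rfl
    have := snc_normal (p := p) (τ := inclusion hS) ⟨inclusion_injective hS, inferInstance,
      ⟨S.subtype hS, (inclusion_range hS).symm⟩, Comp.charP_iff_subtype.1 ((Comp.charP_top_iff.2 hc).of_Op_le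
        (by rw [Comp.Op_top]; exact hQS.trans hS) le_top), by
        rw [map_thompsonSubgroup_range (inclusion_injective hS), inclusion_range, J_subgroupOf hS]
        infer_instance, fun V _ hV => hst.2.2 S V (by rw [← e, ← map_map]; exact map_mono hV)⟩
    have h3 := (normal_subgroupOf_iff_le_normalizer (map_subtype_le ((stableNormalClosure p S).map (inclusion hS)))).1
      (by rwa [subgroupOf, comap_map_eq_self_of_injective (subtype_injective _)])
    rwa [map_map, e] at h3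
  set V := normalClosure (W : Set G)
  have hWV : W ≤ V := le_normalClosure
  have hVQ : V ≤ Q := normalClosure_le_normal h1
  have h3 : ∀ {a : G}, (∀ g, g * a * g⁻¹ ∈ CC W) → a ∈ CC V := fun {a} h => by
    have : normalClosure {a} ≤ CC W := (closure_le _).2 fun x hx => by
      obtain ⟨_, rfl, hx'⟩ := Group.mem_conjugatesOfSet_iff.1 hx
      obtain ⟨g, rfl⟩ := isConj_iff.1 hx'
      exact h g
    exact cc_symm (normalClosure_le_normal (cc_symm this)) (subset_normalClosure (Set.mem_singleton a))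
  have h4 : IsElementaryAbelian p V := by
    have h5 : V ≤ CC V := normalClosure_le_normal fun a ha => h3 fun g =>
      WS_quad (hQS (Normal.conj_mem inferInstance _ (h1 ha) g)) (comm_eq_bot.2 (ab_le_cc (ab_cj hW.1 g)
        ((commutator_mono le_rfl (zpowers_le.2 (conj_mem_cj ha))).trans (comm_le_right (h1.trans
          (cj_eq_of_normal g Q ▸ nn_cj (hQS.trans hSW) g)))) (zpowers_le.2 (conj_mem_cj ha))))
    haveI : (omegaOne p V).Normal := normal_of_top_le fun g => nn_omega (nn_normal (A := ⊤)) (mem_top g)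
    exact elem_mono (omega_elem (ab_iff.2 h5)) (normalClosure_le_normal (le_omega hWV hW))
  have h5 : thompsonSubgroupOf p (S : Subgroup G) ≤ CC V := by
    by_contra h
    obtain ⟨A, -, h6, h7⟩ := exists_quad_of_not_J_le h4 (hVQ.trans hQS) nn_normal h
    refine h7 fun a ha => h3 fun g => ?_
    obtain ⟨c, hc, s, hs, e, h8⟩ := quad_conj_split (hst.1 V h4) S (quad_mono le_rfl (zpowers_le.2 ha) h6) g
    rw [e]
    exact mul_mem (cc_anti hWV hc) (WS_quad hs (quad_mono hWV le_rfl h8))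
  refine normal_of_top_le fun g => ?_
  obtain ⟨k, hk, m, hm, rfl⟩ := (isSyl_top S).frattini_J le_top nn_normal h5 (mem_top g)
  exact mul_mem (cc_le_nn _ (cc_anti hWV hk)) (h2 hm)

theorem ZJ_normal_of_pstable (hp2 : p ≠ 2) {n : ℕ} (hn : n = p ∨ n = 0) (hc : CC (pCore p G) ≤ pCore p G)
    (hs : IsPStable p G) (S : Sylow p G) : (centerThompsonOf n (S : Subgroup G)).Normal :=
  ZJ_normal hp2 hn hc (stableOn_of_pstable hs) S

end Cfsg.Agent.Transfer
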