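import Cfsg.Agent.Lib.Transfer.Invol
import Mathlib.GroupTheory.SpecificGroups.Alternating
import Mathlib.GroupTheory.SpecificGroups.KleinFour

/-!
Counting lemmas: conjugacy classes, pairs of involutions, the Brauer-Fowler bound.
-/

set_option autoImplicit false
set_option linter.unusedSectionVars false
set_option linter.style.haveILetI false

namespace Cfsg.Agent.Transfer

open Subgroup

section Cnt

variable {α β : Type*}

theorem cnt_eq_sum [Fintype α] (p : α → Prop) [DecidablePred p] :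
    Nat.card {x // p x} = ∑ x, if p x then 1 else 0 := by
  rw [Nat.card_eq_fintype_card, Fintype.card_subtype, Finset.card_filter]

theorem cnt_congr {p q : α → Prop} (h : ∀ x, p x ↔ q x) :
    Nat.card {x // p x} = Nat.card {x // q x} := Nat.card_congr (Equiv.subtypeEquivRight h)

theorem cnt_le_of_injOn [Finite β] {p : α → Prop} {q : β → Prop} (f : α → β)
    (h1 : ∀ x, p x → q (f x)) (h2 : ∀ x y, p x → p y → f x = f y → x = y) :
    Nat.card {x // p x} ≤ Nat.card {y // q y} :=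
  Nat.card_le_card_of_injective (fun x : {x // p x} => (⟨f x.1, h1 x.1 x.2⟩ : {y // q y}))
    fun x y h => Subtype.ext (h2 _ _ x.2 y.2 (congrArg Subtype.val h))

theorem cnt_mono [Finite α] {p q : α → Prop} (h : ∀ x, p x → q x) :
    Nat.card {x // p x} ≤ Nat.card {x // q x} := cnt_le_of_injOn id h fun _ _ _ _ h => h

theorem cnt_eq_of_bij {p : α → Prop} {q : β → Prop} (f : α → β)
    (h1 : ∀ x, p x → q (f x)) (h2 : ∀ x y, p x → p y → f x = f y → x = y)
    (h3 : ∀ y, q y → ∃ x, p x ∧ f x = y) : Nat.card {x // p x} = Nat.card {y // q y} :=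
  Nat.card_congr (Equiv.ofBijective (fun x : {x // p x} => (⟨f x.1, h1 x.1 x.2⟩ : {y // q y}))
    ⟨fun x y h => Subtype.ext (h2 _ _ x.2 y.2 (congrArg Subtype.val h)), fun y => by
      obtain ⟨x, hx, he⟩ := h3 y.1 y.2
      exact ⟨⟨x, hx⟩, Subtype.ext he⟩⟩)

theorem cnt_or [Finite α] {p q : α → Prop} (h : ∀ x, p x → q x → False) :
    Nat.card {x // p x ∨ q x} = Nat.card {x // p x} + Nat.card {x // q x} := by
  classical
  haveI := Fintype.ofFinite α
  rw [cnt_eq_sum, cnt_eq_sum, cnt_eq_sum, ← Finset.sum_add_distrib]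
  refine Finset.sum_congr rfl fun x _ => ?_
  by_cases h1 : p x <;> by_cases h2 : q x <;> simp [h1, h2]
  exact h x h1 h2

theorem cnt_or_le [Finite α] (p q : α → Prop) :
    Nat.card {x // p x ∨ q x} ≤ Nat.card {x // p x} + Nat.card {x // q x} := by
  classical
  haveI := Fintype.ofFinite α
  rw [cnt_eq_sum, cnt_eq_sum, cnt_eq_sum, ← Finset.sum_add_distrib]
  refine Finset.sum_le_sum fun x _ => ?_
  by_cases h1 : p x <;> by_cases h2 : q x <;> simp [h1, h2]

theorem cnt_split [Finite α] (p q : α → Prop) :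
    Nat.card {x // p x} = Nat.card {x // p x ∧ q x} + Nat.card {x // p x ∧ ¬ q x} := by
  rw [← cnt_or (fun x h1 h2 => h2.2 h1.2)]
  exact cnt_congr fun x => by tauto

theorem cnt_eq_one (a : α) : Nat.card {x // x = a} = 1 := by
  rw [Nat.card_eq_one_iff_exists]
  exact ⟨⟨a, rfl⟩, fun y => Subtype.ext y.2⟩

theorem cnt_true : Nat.card {_x : α // True} = Nat.card α :=
  Nat.card_congr (Equiv.subtypeUnivEquiv fun _ => trivial)

theorem cnt_eq_zero {p : α → Prop} (h : ∀ x, ¬ p x) : Nat.card {x // p x} = 0 := by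
  haveI : IsEmpty {x // p x} := ⟨fun x => h x.1 x.2⟩
  exact Nat.card_of_isEmpty

theorem cnt_pos [Finite α] {p : α → Prop} {x : α} (h : p x) : 0 < Nat.card {x // p x} := by
  haveI : Nonempty {x // p x} := ⟨⟨x, h⟩⟩
  exact Nat.card_pos

theorem cnt_insert [Finite α] {p : α → Prop} {a : α} (h : ¬ p a) :
    Nat.card {x // p x ∨ x = a} = Nat.card {x // p x} + 1 := by
  rw [cnt_or (q := fun x => x = a) (fun x h1 h2 => h (h2 ▸ h1)), cnt_eq_one]

theorem cnt_erase [Finite α] {p : α → Prop} {a : α} (h : p a) :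
    Nat.card {x // p x ∧ x ≠ a} + 1 = Nat.card {x // p x} := by
  rw [← cnt_insert (a := a) (by simp)]
  refine cnt_congr fun x => ?_
  by_cases h' : x = a <;> simp [h', h]

theorem cnt_prod (p : α → Prop) (q : β → Prop) :
    Nat.card {x : α × β // p x.1 ∧ q x.2} = Nat.card {x // p x} * Nat.card {y // q y} := by
  rw [← Nat.card_prod]
  exact Nat.card_congr Equiv.subtypeProdEquivProd

theorem cnt_double [Fintype α] [Fintype β] (r : α → β → Prop) :
    ∑ a, Nat.card {b // r a b} = ∑ b, Nat.card {a // r a b} := by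
  classical
  simp only [cnt_eq_sum]
  exact Finset.sum_comm

theorem sum_cnt_eq_mul [Fintype α] {p : α → Prop} {f : α → ℕ} {m : ℕ} (h1 : ∀ a, p a → f a = m)
    (h2 : ∀ a, ¬ p a → f a = 0) : ∑ a, f a = Nat.card {a // p a} * m := by
  classical
  rw [cnt_eq_sum, Finset.sum_mul]
  refine Finset.sum_congr rfl fun a _ => ?_
  by_cases h : p a <;> simp [h, h1, h2]

theorem sum_cnt_le_mul [Fintype α] {p : α → Prop} {f : α → ℕ} {m : ℕ} (h1 : ∀ a, p a → f a ≤ m)
    (h2 : ∀ a, ¬ p a → f a = 0) : ∑ a, f a ≤ Nat.card {a // p a} * m := by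
  classical
  rw [cnt_eq_sum, Finset.sum_mul]
  refine Finset.sum_le_sum fun a _ => ?_
  by_cases h : p a <;> simp [h, h1, h2]

theorem mul_le_sum_cnt [Fintype α] {p : α → Prop} {f : α → ℕ} {m : ℕ} (h1 : ∀ a, p a → m ≤ f a) :
    Nat.card {a // p a} * m ≤ ∑ a, f a := by
  classical
  rw [cnt_eq_sum, Finset.sum_mul]
  refine Finset.sum_le_sum fun a _ => ?_
  by_cases h : p a <;> simp [h, h1]

/-- Double counting with constant degrees. -/
theorem cnt_mul_eq [Finite α] [Finite β] {p : α → Prop} {q : β → Prop} (r : α → β → Prop)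
    {m n : ℕ} (h1 : ∀ a, p a → Nat.card {b // q b ∧ r a b} = m)
    (h2 : ∀ b, q b → Nat.card {a // p a ∧ r a b} = n) :
    Nat.card {a // p a} * m = Nat.card {b // q b} * n := by
  haveI := Fintype.ofFinite α
  haveI := Fintype.ofFinite β
  rw [← sum_cnt_eq_mul (f := fun a => Nat.card {b // p a ∧ q b ∧ r a b})
      (fun a ha => by rw [← h1 a ha]; exact cnt_congr fun b => by tauto)
      (fun a ha => cnt_eq_zero fun b => by tauto),
    ← sum_cnt_eq_mul (f := fun b => Nat.card {a // p a ∧ q b ∧ r a b})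
      (fun b hb => by rw [← h2 b hb]; exact cnt_congr fun a => by tauto)
      (fun b hb => cnt_eq_zero fun a => by tauto)]
  exact cnt_double _

/-- Double counting with bounded degrees. -/
theorem cnt_mul_le [Finite α] [Finite β] {p : α → Prop} {q : β → Prop} (r : α → β → Prop)
    {m n : ℕ} (h1 : ∀ a, p a → m ≤ Nat.card {b // q b ∧ r a b})
    (h2 : ∀ b, q b → Nat.card {a // p a ∧ r a b} ≤ n) :
    Nat.card {a // p a} * m ≤ Nat.card {b // q b} * n := by
  haveI := Fintype.ofFinite α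
  haveI := Fintype.ofFinite β
  refine (mul_le_sum_cnt (f := fun a => Nat.card {b // p a ∧ q b ∧ r a b})
      (fun a ha => (h1 a ha).trans_eq (cnt_congr fun b => by tauto))).trans ?_
  rw [cnt_double]
  exact sum_cnt_le_mul (fun b hb => le_trans (le_of_eq (cnt_congr fun a => by tauto)) (h2 b hb))
      (fun b hb => cnt_eq_zero fun a => by tauto)

theorem cnt_le_mul [Finite α] [Finite β] {p : α → Prop} {q : β → Prop} (r : α → β → Prop)
    {n : ℕ} (h1 : ∀ a, p a → ∃ b, q b ∧ r a b)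
    (h2 : ∀ b, q b → Nat.card {a // p a ∧ r a b} ≤ n) :
    Nat.card {a // p a} ≤ Nat.card {b // q b} * n := by
  have := cnt_mul_le r (m := 1) (fun a ha => by
    obtain ⟨b, hb⟩ := h1 a ha
    exact cnt_pos (p := fun b => q b ∧ r a b) hb) h2
  rwa [mul_one] at this

theorem cnt_eq_mul_of_fiber [Finite α] [Finite β] {p : α → Prop} {q : β → Prop} (f : α → β)
    {n : ℕ} (h1 : ∀ a, p a → q (f a)) (h2 : ∀ b, q b → Nat.card {a // p a ∧ f a = b} = n) :
    Nat.card {a // p a} = Nat.card {b // q b} * n := by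
  have := cnt_mul_eq (fun a b => f a = b) (m := 1) (fun a ha => by
    rw [← cnt_eq_one (f a)]
    exact cnt_congr fun b => ⟨fun h => h.2.symm, fun h => ⟨h ▸ h1 a ha, h.symm⟩⟩) h2
  rwa [mul_one] at this

theorem cnt_eq_sum_fiber [Finite α] [Fintype β] (p : α → Prop) (f : α → β) :
    Nat.card {a // p a} = ∑ b, Nat.card {a // p a ∧ f a = b} := by
  haveI := Fintype.ofFinite α
  rw [← cnt_double (fun a b => p a ∧ f a = b), sum_cnt_eq_mul (p := p) (m := 1), mul_one]
  · intro a ha
    rw [← cnt_eq_one (f a)]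
    exact cnt_congr fun b => ⟨fun h => h.2.symm, fun h => ⟨ha, h.symm⟩⟩
  · exact fun a ha => cnt_eq_zero fun b => by tauto

theorem cnt_eq_two {p : α → Prop} {a b : α} (hab : a ≠ b) (h : ∀ x, p x ↔ x = a ∨ x = b) :
    Nat.card {x // p x} = 2 := by
  rw [← Set.ncard_pair hab, ← Nat.card_coe_set_eq]
  exact cnt_congr h

theorem cnt_eq_three {p : α → Prop} {a b c : α} (hab : a ≠ b) (hac : a ≠ c) (hbc : b ≠ c)
    (h : ∀ x, p x ↔ x = a ∨ x = b ∨ x = c) : Nat.card {x // p x} = 3 := by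
  rw [← Set.ncard_eq_three.2 ⟨a, b, c, hab, hac, hbc, rfl⟩, ← Nat.card_coe_set_eq]
  exact cnt_congr h

end Cnt

variable {G : Type*} [Group G]

theorem classes_eq_one {p : G → Prop} {a : G} (ha : p a) (h : ∀ t, p t → IsConj a t) :
    Nat.card {C : ConjClasses G // ∃ t : G, p t ∧ ConjClasses.mk t = C} = 1 := by
  rw [← cnt_eq_one (ConjClasses.mk a)]
  refine cnt_congr fun C => ⟨?_, fun h => ⟨a, ha, h.symm⟩⟩
  rintro ⟨t, ht, rfl⟩
  exact (ConjClasses.mk_eq_mk_iff_isConj.2 (h t ht)).symm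

theorem classes_eq_two {p : G → Prop} {a b : G} (ha : p a) (hb : p b) (hab : ¬ IsConj a b)
    (h : ∀ t, p t → IsConj a t ∨ IsConj b t) :
    Nat.card {C : ConjClasses G // ∃ t : G, p t ∧ ConjClasses.mk t = C} = 2 := by
  refine cnt_eq_two (a := ConjClasses.mk a) (b := ConjClasses.mk b)
    (by rwa [Ne, ConjClasses.mk_eq_mk_iff_isConj]) fun C => ⟨?_, ?_⟩
  · rintro ⟨t, ht, rfl⟩
    simp only [ConjClasses.mk_eq_mk_iff_isConj]
    exact (h t ht).imp IsConj.symm IsConj.symm
  · rintro (rfl | rfl)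
    exacts [⟨a, ha, rfl⟩, ⟨b, hb, rfl⟩]

theorem classes_eq_three {p : G → Prop} {a b c : G} (ha : p a) (hb : p b) (hc : p c)
    (hab : ¬ IsConj a b) (hac : ¬ IsConj a c) (hbc : ¬ IsConj b c)
    (h : ∀ t, p t → IsConj a t ∨ IsConj b t ∨ IsConj c t) :
    Nat.card {C : ConjClasses G // ∃ t : G, p t ∧ ConjClasses.mk t = C} = 3 := by
  refine cnt_eq_three (a := ConjClasses.mk a) (b := ConjClasses.mk b) (c := ConjClasses.mk c)
    (by rwa [Ne, ConjClasses.mk_eq_mk_iff_isConj]) (by rwa [Ne, ConjClasses.mk_eq_mk_iff_isConj])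
    (by rwa [Ne, ConjClasses.mk_eq_mk_iff_isConj]) fun C => ⟨?_, ?_⟩
  · rintro ⟨t, ht, rfl⟩
    simp only [ConjClasses.mk_eq_mk_iff_isConj]
    exact (h t ht).imp IsConj.symm (Or.imp IsConj.symm IsConj.symm)
  · rintro (rfl | rfl | rfl)
    exacts [⟨a, ha, rfl⟩, ⟨b, hb, rfl⟩, ⟨c, hc, rfl⟩]

theorem isConj_of_classes_eq_one {p : G → Prop}
    (h : Nat.card {C : ConjClasses G // ∃ t : G, p t ∧ ConjClasses.mk t = C} = 1) {a b : G}
    (ha : p a) (hb : p b) : IsConj a b :=
  ConjClasses.mk_eq_mk_iff_isConj.1 (congrArg Subtype.val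
    ((Nat.card_eq_one_iff_unique.1 h).1.elim ⟨_, a, ha, rfl⟩ ⟨_, b, hb, rfl⟩))

theorem IsConj.orderOf_eq' {a b : G} (h : IsConj a b) : orderOf b = orderOf a := by
  obtain ⟨g, rfl⟩ := isConj_iff.1 h
  exact orderOf_conj g a

theorem isConj_conj (g a : G) : IsConj a (g * a * g⁻¹) := isConj_iff.2 ⟨g, rfl⟩

theorem conj_eq_conj_iff {a g k : G} : k * a * k⁻¹ = g * a * g⁻¹ ↔ Commute (g⁻¹ * k) a := by
  constructor
  · intro h
    change _ = _
    calc g⁻¹ * k * a = g⁻¹ * (k * a * k⁻¹) * k := by group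
      _ = _ := by rw [h]; group
  · intro h
    calc k * a * k⁻¹ = g * (g⁻¹ * k * a) * k⁻¹ := by group
      _ = _ := by rw [h.eq]; group

theorem card_conj_fiber {H : Subgroup G} (a : G) {g : G} (hg : g ∈ H) :
    Nat.card {k : G // k ∈ H ∧ k * a * k⁻¹ = g * a * g⁻¹} =
      Nat.card (H ⊓ centralizer ({a} : Set G) : Subgroup G) := by
  refine cnt_eq_of_bij (fun k => g⁻¹ * k) (fun k hk => mem_inf.2 ⟨mul_mem (inv_mem hg) hk.1, ?_⟩)
    (fun x y _ _ h => by simpa using h) fun y hy => ⟨g * y, ⟨mul_mem hg (mem_inf.1 hy).1, ?_⟩, by simp⟩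
  · exact mem_centralizer_singleton_iff.2 (conj_eq_conj_iff.1 hk.2)
  · exact conj_eq_conj_iff.2 (by
      rw [inv_mul_cancel_left]; exact mem_centralizer_singleton_iff.1 (mem_inf.1 hy).2)

theorem card_conj_fiber' (a g : G) :
    Nat.card {k : G // k * a * k⁻¹ = g * a * g⁻¹} = Nat.card (centralizer ({a} : Set G)) := by
  have := card_conj_fiber (H := ⊤) a (mem_top g)
  rw [top_inf_eq] at this
  rw [← this]
  exact cnt_congr fun k => by simp

variable [Finite G]

theorem card_class_mul (H : Subgroup G) (a : G) :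
    Nat.card {y : G // ∃ h ∈ H, h * a * h⁻¹ = y} *
      Nat.card (H ⊓ centralizer ({a} : Set G) : Subgroup G) = Nat.card H := by
  refine (cnt_eq_mul_of_fiber (p := fun k => k ∈ H) (fun k => k * a * k⁻¹)
    (fun k hk => ⟨k, hk, rfl⟩) ?_).symm
  rintro _ ⟨g, hg, rfl⟩
  exact card_conj_fiber a hg

theorem card_isConj_mul (a : G) :
    Nat.card {y : G // IsConj a y} * Nat.card (centralizer ({a} : Set G)) = Nat.card G := by
  have := card_class_mul ⊤ a
  rw [top_inf_eq, card_top] at this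
  rw [← this]
  congr 1
  exact cnt_congr fun y => by simp [isConj_iff]

theorem card_isConj_eq_index (a : G) :
    Nat.card {y : G // IsConj a y} = (centralizer ({a} : Set G)).index := by
  have h1 := card_isConj_mul a
  rw [← (centralizer ({a} : Set G)).index_mul_card] at h1
  exact Nat.eq_of_mul_eq_mul_right Nat.card_pos h1

theorem card_centralizer_conj (g a : G) :
    Nat.card (centralizer ({g * a * g⁻¹} : Set G)) = Nat.card (centralizer ({a} : Set G)) := by
  rw [← cj_centralizer_singleton, card_cj]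

theorem card_invol_add_one_le (H : Subgroup G) :
    Nat.card {t : G // orderOf t = 2 ∧ t ∈ H} + 1 ≤ Nat.card H := by
  rw [← cnt_insert (a := 1) (by simp)]
  refine cnt_mono fun x hx => ?_
  rcases hx with hx | rfl
  exacts [hx.2, one_mem _]

theorem card_pairs_eq (x : G) :
    Nat.card {p : G × G // orderOf p.1 = 2 ∧ orderOf p.2 = 2 ∧ p.1 * p.2 = x} =
      Nat.card {t : G // (orderOf t = 2 ∧ t * x * t⁻¹ = x⁻¹) ∧ t ≠ x} := by
  refine cnt_eq_of_bij (fun p => p.1) ?_ ?_ ?_
  · rintro ⟨u, v⟩ ⟨hu, hv, rfl⟩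
    exact ⟨⟨hu, inverts_mul_left (mul_self_of_orderOf hu) (mul_self_of_orderOf hv)⟩,
      fun h => ne_one_of_orderOf hv (left_eq_mul.1 h)⟩
  · rintro ⟨u, v⟩ ⟨u', v'⟩ ⟨-, -, h1⟩ ⟨-, -, h2⟩ h
    simp only at h h1 h2
    subst h
    rw [← h2, mul_right_inj] at h1
    rw [h1]
  · rintro t ⟨⟨ht, h⟩, hne⟩
    have h1 := mul_self_of_orderOf ht
    refine ⟨(t, t * x), ⟨ht, orderOf_eq_two ?_ fun h' => hne ?_, by simp [← mul_assoc, h1]⟩, rfl⟩
    · rw [inv_eq_of_orderOf ht] at h
      rw [← mul_assoc, h, inv_mul_cancel]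
    · rw [← inv_eq_of_mul_eq_one_right h', inv_eq_of_orderOf ht]

theorem card_inverting_of_real {x : G} (h : IsConj x x⁻¹) :
    Nat.card {g : G // g * x * g⁻¹ = x⁻¹} = Nat.card (centralizer ({x} : Set G)) := by
  obtain ⟨g, hg⟩ := isConj_iff.1 h
  rw [← hg]
  exact card_conj_fiber' x g

theorem card_pairs_le (x : G) :
    Nat.card {p : G × G // orderOf p.1 = 2 ∧ orderOf p.2 = 2 ∧ p.1 * p.2 = x} ≤
      Nat.card {g : G // g * x * g⁻¹ = x⁻¹} := by
  rw [card_pairs_eq]
  exact cnt_mono fun t ht => ht.1.2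

theorem card_pairs_eq_zero {x : G} (h : ¬ IsConj x x⁻¹) :
    Nat.card {p : G × G // orderOf p.1 = 2 ∧ orderOf p.2 = 2 ∧ p.1 * p.2 = x} = 0 := by
  rw [card_pairs_eq]
  exact cnt_eq_zero fun t ht => h (isConj_iff.2 ⟨t, ht.1.2⟩)

theorem card_pairs_invol {x : G} (hx : orderOf x = 2) :
    Nat.card {p : G × G // orderOf p.1 = 2 ∧ orderOf p.2 = 2 ∧ p.1 * p.2 = x} + 1 =
      Nat.card {t : G // orderOf t = 2 ∧ Commute t x} := by
  rw [card_pairs_eq, cnt_erase ⟨hx, by rw [mul_inv_cancel_right, inv_eq_of_orderOf hx]⟩]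
  exact cnt_congr fun t => by rw [inv_eq_of_orderOf hx, commute_iff_conj]

theorem card_pairs_invol_le {x : G} (hx : orderOf x = 2) :
    Nat.card {p : G × G // orderOf p.1 = 2 ∧ orderOf p.2 = 2 ∧ p.1 * p.2 = x} + 2 ≤
      Nat.card (centralizer ({x} : Set G)) := by
  have h1 := card_pairs_invol hx
  have h2 := card_invol_add_one_le (centralizer ({x} : Set G))
  rw [cnt_congr (q := fun t => orderOf t = 2 ∧ Commute t x)
    fun t => by rw [mem_centralizer_singleton']] at h2
  omega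

theorem centralizer_inv (x : G) : centralizer ({x⁻¹} : Set G) = centralizer ({x} : Set G) := by
  ext g
  rw [mem_centralizer_singleton', mem_centralizer_singleton', Commute.inv_right_iff]

/-- The extended centralizer of a real element which is not an involution. -/
theorem card_extCentralizer {x g : G} (hg : g * x * g⁻¹ = x⁻¹) (hx : x * x ≠ 1) :
    (centralizer ({x} : Set G)).relIndex (centralizer ({x} : Set G) ⊔ zpowers g) = 2 := by
  refine relIndex_sup_zpowers ?_ ?_ ?_
  · rw [mem_normalizer_iff_cj, cj_centralizer_singleton, hg, centralizer_inv]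
  · rw [mem_centralizer_singleton', commute_iff_conj]
    calc g ^ 2 * x * (g ^ 2)⁻¹ = g * (g * x * g⁻¹) * g⁻¹ := by rw [pow_two]; group
      _ = x := by rw [hg, ← conj_inv, hg, inv_inv]
  · rw [mem_centralizer_singleton', commute_iff_conj, hg]
    exact fun h => hx (by rw [← mul_eq_one_iff_inv_eq] at h; exact h)

/-- The Brauer-Fowler counting inequality. -/
theorem brauer_fowler_ineq (hZ : ∀ z ∈ center G, z * z = 1 → z = 1) {j : ℕ}
    (hj : ∀ H : Subgroup G, H ≠ ⊤ → j ≤ H.index) (h2 : ∀ H : Subgroup G, H.index ≠ 2) :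
    2 * j * Nat.card {t : G // orderOf t = 2} ^ 2 + 2 * j * Nat.card {t : G // orderOf t = 2} +
      Nat.card G ≤ Nat.card G * (Nat.card G + Nat.card {t : G // orderOf t = 2}) := by
  classical
  haveI := Fintype.ofFinite G
  set n := Nat.card {t : G // orderOf t = 2} with hn
  let r : G → ℕ := fun x => Nat.card {p : G × G // orderOf p.1 = 2 ∧ orderOf p.2 = 2 ∧ p.1 * p.2 = x}
  have h1 : n ^ 2 = ∑ x, r x := by
    rw [pow_two, ← cnt_prod, cnt_eq_sum_fiber _ (fun p : G × G => p.1 * p.2)]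
    exact Finset.sum_congr rfl fun x _ => cnt_congr fun p => and_assoc
  have hC : ∀ H : Subgroup G, H ≠ ⊤ → j * Nat.card H ≤ Nat.card G := fun H hH => by
    rw [← H.index_mul_card]
    exact Nat.mul_le_mul_right _ (hj H hH)
  have key : ∀ x : G, 2 * j * r x + (if orderOf x = 2 then 4 * j else 0) +
      (if x = 1 then Nat.card G else 0) ≤
      Nat.card G + (if orderOf x = 2 then Nat.card G else 0) + (if x = 1 then 2 * j * n else 0) := by
    intro x
    by_cases hx1 : x = 1
    · subst hx1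
      have : r 1 ≤ n := by
        simp only [r]
        rw [card_pairs_eq]
        exact cnt_mono fun t ht => ht.1.1
      have := Nat.mul_le_mul_left (2 * j) this
      simp only [orderOf_one, if_true, show (1 : ℕ) ≠ 2 by decide, if_false]
      omega
    by_cases hx2 : orderOf x = 2
    · have h3 := card_pairs_invol_le hx2
      have h4 := hC (centralizer {x}) fun h => hx1 (hZ x (by
        rw [mem_center_iff]
        intro g
        exact mem_centralizer_singleton'.1 (h ▸ mem_top g)) (mul_self_of_orderOf hx2))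
      have h5 := Nat.mul_le_mul_left j h3
      simp only [hx1, hx2, if_true, if_false]
      change j * (r x + 2) ≤ _ at h5
      nlinarith
    simp only [hx1, hx2, if_false, add_zero]
    by_cases hr : IsConj x x⁻¹
    · obtain ⟨g, hg⟩ := isConj_iff.1 hr
      have h3 := card_extCentralizer hg (fun h => hx2 (orderOf_eq_two h hx1))
      have h4 := hC (centralizer ({x} : Set G) ⊔ zpowers g) fun h => h2 _ (by
        rwa [h, relIndex_top_right] at h3)
      rw [← card_mul_relIndex (le_sup_left : centralizer ({x} : Set G) ≤ _), h3] at h4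
      have h5 := (card_pairs_le x).trans_eq (card_inverting_of_real hr)
      have h6 := Nat.mul_le_mul_left (2 * j) h5
      change 2 * j * r x ≤ _ at h6
      nlinarith
    · have : r x = 0 := card_pairs_eq_zero hr
      simp [this]
  have := Finset.sum_le_sum (s := Finset.univ) fun x _ => key x
  simp only [Finset.sum_add_distrib, ← Finset.mul_sum, ← h1, Finset.sum_ite_eq', Finset.mem_univ,
    if_true, Finset.sum_const, Finset.card_univ, smul_eq_mul, ← Nat.card_eq_fintype_card] at this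
  rw [sum_cnt_eq_mul (p := fun t => orderOf t = 2) (m := 4 * j) (fun a h => if_pos h)
    (fun a h => if_neg h), sum_cnt_eq_mul (p := fun t => orderOf t = 2) (m := Nat.card G)
    (fun a h => if_pos h) (fun a h => if_neg h), ← hn] at this
  nlinarith

theorem brauer_fowler_index [Nontrivial G] (hZ : ∀ z ∈ center G, z * z = 1 → z = 1) :
    ∃ H : Subgroup G, H ≠ ⊤ ∧ (H.index = 2 ∨
      2 * H.index * (Nat.card {t : G // orderOf t = 2}) ^ 2 <
        Nat.card G * (Nat.card G + Nat.card {t : G // orderOf t = 2})) := by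
  by_cases h2 : ∃ H : Subgroup G, H.index = 2
  · obtain ⟨H, hH⟩ := h2
    exact ⟨H, by rintro rfl; simp at hH, Or.inl hH⟩
  push Not at h2
  obtain ⟨H, hH, hmin⟩ := Set.exists_min_image {H : Subgroup G | H ≠ ⊤} (fun H => H.index)
    (Set.toFinite _) ⟨⊥, bot_ne_top⟩
  have := brauer_fowler_ineq hZ hmin h2
  have h0 : 0 < Nat.card G := Nat.card_pos
  exact ⟨H, hH, Or.inr (by omega)⟩

theorem card_le_card_invol_mul {t : G} (ht : orderOf t = 2) :
    Nat.card G ≤ Nat.card {t : G // orderOf t = 2} * Nat.card (centralizer ({t} : Set G)) := by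
  rw [← card_isConj_mul t]
  exact Nat.mul_le_mul_right _ (cnt_mono fun y hy => by rw [IsConj.orderOf_eq' hy, ht])

theorem exists_index_two_of_hasNPC (he : Even (Nat.card G)) (h : HasNormalPComplement 2 G) :
    ∃ H : Subgroup G, H.index = 2 := by
  by_contra hc
  push Not at hc
  rw [hasNPC_iff_not_dvd, pResidual_two_eq_top_iff.2 hc, card_top] at h
  exact h (even_iff_two_dvd.1 he)

theorem hasNPC_two_of_isCyclic (P : Sylow 2 G) (hP : IsCyclic P) : HasNormalPComplement 2 G := by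
  by_cases he : 2 ∣ Nat.card G
  · have : (Nat.card G).minFac = 2 := (Nat.minFac_eq_two_iff _).2 he
    exact (hasNPC_iff_sylow P).2 ⟨_, inferInstance, IsCyclic.isComplement' this hP⟩
  · exact hasNPC_of_not_dvd he

theorem card_dvd_factorial_of_normalCore {H : Subgroup G} (h : H.normalCore = ⊥) :
    Nat.card G ∣ H.index.factorial := by
  rw [normalCore_eq_ker, MonoidHom.ker_eq_bot_iff] at h
  have := card_dvd_of_injective _ h
  rwa [Nat.card_perm] at this

theorem two_mul_card_dvd_factorial_of_normalCore {H : Subgroup G} (h : H.normalCore = ⊥)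
    (hH : H ≠ ⊤) (h2 : ∀ K : Subgroup G, K.index ≠ 2) : 2 * Nat.card G ∣ H.index.factorial := by
  classical
  haveI := Fintype.ofFinite (G ⧸ H)
  haveI : Nontrivial (G ⧸ H) := by
    rw [← Finite.one_lt_card_iff_nontrivial]
    exact one_lt_index_of_ne_top hH
  rw [normalCore_eq_ker, MonoidHom.ker_eq_bot_iff] at h
  have h3 : ∀ g : G, MulAction.toPermHom G (G ⧸ H) g ∈ alternatingGroup (G ⧸ H) := by
    intro g
    by_contra hg
    refine h2 _ (index_ker_eq_two (φ := Equiv.Perm.sign.comp (MulAction.toPermHom G (G ⧸ H)))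
      (u := g) ?_)
    exact (Int.units_eq_one_or _).resolve_left hg
  have := card_dvd_of_injective ((MulAction.toPermHom G (G ⧸ H)).codRestrict _ h3)
    ((MonoidHom.injective_codRestrict _ _ _).2 h)
  rw [index_eq_card, ← Nat.card_perm, ← two_mul_nat_card_alternatingGroup]
  exact Nat.mul_dvd_mul_left 2 this

theorem normalCore_eq_bot_of_simple [IsSimpleGroup G] {H : Subgroup G} (hH : H ≠ ⊤) :
    H.normalCore = ⊥ :=
  (IsSimpleGroup.eq_bot_or_eq_top_of_normal _ inferInstance).resolve_right fun h =>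
    hH (top_le_iff.1 (h ▸ H.normalCore_le))

/-- The elements of a Klein four-subgroup. -/
theorem exists_klein_elems {V : Subgroup G} (hV : IsKleinFour V) :
    ∃ a b : G, orderOf a = 2 ∧ orderOf b = 2 ∧ orderOf (a * b) = 2 ∧ a ≠ b ∧ Commute a b ∧
      ∀ x, x ∈ V ↔ x = 1 ∨ x = a ∨ x = b ∨ x = a * b := by
  classical
  haveI := Fintype.ofFinite V
  have h4 : 2 < Fintype.card V := by rw [← Nat.card_eq_fintype_card, hV.card_four]; decide
  haveI : Nontrivial V := Fintype.one_lt_card_iff_nontrivial.1 (by omega)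
  obtain ⟨a, ha⟩ := exists_ne (1 : V)
  obtain ⟨b, hb1, hba⟩ : ∃ b : V, b ≠ 1 ∧ b ≠ a := by
    by_contra hc
    push Not at hc
    have : Finset.univ ⊆ ({1, a} : Finset V) := fun x _ => by
      by_cases h : x = 1
      · simp [h]
      · simp [hc x h]
    have := (Finset.card_le_card this).trans (Finset.card_le_two)
    rw [Finset.card_univ] at this
    omega
  have hsq : ∀ x : V, x ≠ 1 → orderOf (x : G) = 2 := fun x hx =>
    orderOf_eq_two (congrArg Subtype.val (IsKleinFour.mul_self x)) (by simpa using hx)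
  have hab : a * b ≠ 1 := fun h => hba (by
    rw [← inv_eq_of_mul_eq_one_right h, IsKleinFour.inv_eq_self])
  refine ⟨a, b, hsq a ha, hsq b hb1, hsq _ hab, fun h => hba (Subtype.ext h).symm, ?_, fun x => ?_⟩
  · have h1 := mul_self_of_orderOf (hsq _ hab)
    have := inv_eq_of_mul_eq_one_right h1
    rw [coe_mul, mul_inv_rev, inv_eq_of_orderOf (hsq a ha), inv_eq_of_orderOf (hsq b hb1)] at this
    exact this.symm
  · constructor
    · intro hx
      by_cases h1 : x = 1
      · exact Or.inl h1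
      by_cases h2 : x = a
      · exact Or.inr (Or.inl h2)
      by_cases h3 : x = b
      · exact Or.inr (Or.inr (Or.inl h3))
      have := IsKleinFour.eq_mul_of_ne_all (x := a) (y := b) (z := ⟨x, hx⟩) ha hb1 hba.symm
        (fun h => h1 (congrArg Subtype.val h)) (fun h => h2 (congrArg Subtype.val h))
        (fun h => h3 (congrArg Subtype.val h))
      exact Or.inr (Or.inr (Or.inr (congrArg Subtype.val this)))
    · rintro (rfl | rfl | rfl | rfl)
      exacts [one_mem _, a.2, b.2, mul_mem a.2 b.2]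

theorem klein_isMulCommutative {V : Subgroup G} (hV : IsKleinFour V) : IsMulCommutative V :=
  IsKleinFour.isMulCommutative

theorem klein_conj_of_odd {V : Subgroup G} (hV : IsKleinFour V) {n : G}
    (hn : n ∈ normalizer (V : Set G)) (ho : Odd (orderOf n)) (hc : n ∉ centralizer (V : Set G))
    {x y : G} (hx : x ∈ V) (hx1 : x ≠ 1) (hy : y ∈ V) (hy1 : y ≠ 1) :
    ∃ c ∈ zpowers n, c * x * c⁻¹ = y := by
  obtain ⟨a, b, ha, hb, hab, hne, hcomm, hmem⟩ := exists_klein_elems hV
  have ha2 := mul_self_of_orderOf ha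
  have hb2 := mul_self_of_orderOf hb
  have hV1 : ∀ x ∈ V, x ≠ 1 → n * x * n⁻¹ ≠ 1 := fun x _ h h' => h (by simpa using h')
  have hsq : ∀ x ∈ V, x * x = 1 := fun x hx => congrArg Subtype.val (IsKleinFour.mul_self (⟨x, hx⟩ : V))
  have hcm : ∀ x ∈ V, ∀ y ∈ V, x * y = y * x := fun x hx y hy =>
    congrArg Subtype.val ((klein_isMulCommutative hV).is_comm.comm (⟨x, hx⟩ : V) ⟨y, hy⟩)
  have hthird : ∀ x ∈ V, x ≠ 1 → ∀ y ∈ V, y ≠ 1 → x ≠ y → ∀ z ∈ V, z ≠ 1 → z ≠ x → z ≠ y →
      z = x * y := fun x hx hx1 y hy hy1 hxy z hz hz1 hzx hzy =>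
    congrArg Subtype.val (IsKleinFour.eq_mul_of_ne_all (x := ⟨x, hx⟩) (y := ⟨y, hy⟩) (z := ⟨z, hz⟩)
      (fun h => hx1 (congrArg Subtype.val h)) (fun h => hy1 (congrArg Subtype.val h))
      (fun h => hxy (congrArg Subtype.val h)) (fun h => hz1 (congrArg Subtype.val h))
      (fun h => hzx (congrArg Subtype.val h)) (fun h => hzy (congrArg Subtype.val h)))
  have hfix : ∀ x ∈ V, x ≠ 1 → n * x * n⁻¹ ≠ x := by
    intro x hx hx1 h
    refine hc fun y hy => (commute_of_commute_sq_of_odd ho (commute_iff_conj.2 ?_)).eq.symm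
    have e : n * n * y * (n * n)⁻¹ = n * (n * y * n⁻¹) * n⁻¹ := by group
    rw [e]
    by_cases h1 : y = 1
    · simp [h1]
    by_cases h2 : y = x
    · rw [h2, h, h]
    by_cases h3 : n * y * n⁻¹ = y
    · rw [h3, h3]
    have h4 := hthird x hx hx1 y hy h1 (Ne.symm h2) _ (conj_mem_of_mem_normalizer hn hy) (hV1 y hy h1)
      (fun h' => h2 (by rw [← h] at h'; simpa using h')) h3
    rw [h4, ← conj_mul, h, h4, ← mul_assoc, hsq x hx, one_mul]
  by_cases h1 : y = x
  · exact ⟨1, one_mem _, by simp [h1]⟩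
  by_cases h2 : n * x * n⁻¹ = y
  · exact ⟨n, mem_zpowers n, h2⟩
  refine ⟨n⁻¹, inv_mem (mem_zpowers n), ?_⟩
  have hx' := conj_mem_of_mem_normalizer hn hx
  have hy' := conj_mem_of_mem_normalizer hn hy
  have h3 := hthird x hx hx1 y hy hy1 (Ne.symm h1) _ hx' (hV1 x hx hx1) (hfix x hx hx1) h2
  have h4 : n * y * n⁻¹ = x := by
    by_contra h4
    have h5 := hthird x hx hx1 y hy hy1 (Ne.symm h1) _ hy' (hV1 y hy hy1) h4 (hfix y hy hy1)
    rw [← h3] at h5
    exact h1 (by simpa using h5)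
  rw [← h4]; group

theorem exists_conj_mem_sylow {p : ℕ} [Fact p.Prime] (P : Sylow p G) {x : G} {k : ℕ}
    (hx : x ^ p ^ k = 1) : ∃ g : G, g * x * g⁻¹ ∈ (P : Subgroup G) := by
  obtain ⟨g, hg⟩ := exists_cj_le_sylow P (isPGroup_zpowers hx)
  exact ⟨g, hg (conj_mem_cj (mem_zpowers x))⟩

theorem exists_conj_invol_mem_sylow (P : Sylow 2 G) {x : G} (hx : orderOf x = 2) :
    ∃ y ∈ (P : Subgroup G), orderOf y = 2 ∧ IsConj y x := by
  obtain ⟨g, hg⟩ := exists_conj_mem_sylow P (k := 1) (x := x) (by simpa using sq_eq_one_of_orderOf hx)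
  exact ⟨_, hg, by rw [orderOf_conj, hx], (isConj_conj g x).symm⟩

theorem exists_notMem_of_not_res_le {p : ℕ} [Fact p.Prime] {H K : Subgroup G} (h : ¬ res p H ≤ K) :
    ∃ g ∈ H, (orderOf g).Coprime p ∧ g ∉ K := by
  rw [res_le_iff] at h
  push Not at h
  exact h

theorem klein_sylow_isConj (P : Sylow 2 G) (hP : IsKleinFour (P : Subgroup G))
    (h : ¬ HasNormalPComplement 2 G) {a b : G} (ha : orderOf a = 2) (hb : orderOf b = 2) :
    IsConj a b := by
  obtain ⟨n, hn, ho, hc⟩ := exists_notMem_of_not_res_le fun h' =>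
    h (hasNPC_of_abelian_sylow P (klein_isMulCommutative hP) h')
  obtain ⟨x, hx, hx2, h1⟩ := exists_conj_invol_mem_sylow P ha
  obtain ⟨y, hy, hy2, h2⟩ := exists_conj_invol_mem_sylow P hb
  obtain ⟨c, -, hc⟩ := klein_conj_of_odd hP hn (odd_iff_coprime_two.2 ho) hc hx
    (ne_one_of_orderOf hx2) hy (ne_one_of_orderOf hy2)
  exact (h1.symm.trans (isConj_iff.2 ⟨c, hc⟩)).trans h2

theorem eq_of_isConj_of_hasNPC_of_abelian {p : ℕ} [Fact p.Prime] (P : Sylow p G)
    (hP : IsMulCommutative (P : Subgroup G)) (h : HasNormalPComplement p G) {a b : G}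
    (ha : a ∈ (P : Subgroup G)) (hb : b ∈ (P : Subgroup G)) (hab : IsConj a b) : a = b := by
  obtain ⟨g, rfl⟩ := isConj_iff.1 hab
  obtain ⟨s, hs, h1⟩ := (isSyl_top P).exists_conj_of_hasNPC (hasNPC_top.2 h) (mem_top g)
  rw [← h1 a ha hb, eq_comm, mul_inv_eq_iff_eq_mul]
  exact congrArg Subtype.val (hP.is_comm.comm (⟨s, hs⟩ : (P : Subgroup G)) ⟨a, ha⟩)

theorem klein_sylow_classes_three (P : Sylow 2 G) (hP : IsKleinFour (P : Subgroup G))
    (h : HasNormalPComplement 2 G) :
    Nat.card {C : ConjClasses G // ∃ t : G, orderOf t = 2 ∧ ConjClasses.mk t = C} = 3 := by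
  obtain ⟨a, b, ha, hb, hab, hne, hcomm, hmem⟩ := exists_klein_elems hP
  have key := fun a b => eq_of_isConj_of_hasNPC_of_abelian P (klein_isMulCommutative hP) h
    (a := a) (b := b)
  have h1 := (hmem a).2 (by simp)
  have h2 := (hmem b).2 (by simp)
  refine classes_eq_three (p := fun t => orderOf t = 2) ha hb hab (fun hc => hne (key _ _ h1 h2 hc))
    (fun hc => ne_one_of_orderOf hb (left_eq_mul.1 (key _ _ h1 (mul_mem h1 h2) hc)))
    (fun hc => ne_one_of_orderOf ha (right_eq_mul.1 (key _ _ h2 (mul_mem h1 h2) hc))) fun t ht => ?_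
  obtain ⟨x, hx, hx2, h3⟩ := exists_conj_invol_mem_sylow P ht
  rcases (hmem x).1 hx with rfl | rfl | rfl | rfl
  · simp at hx2
  · exact Or.inl h3
  · exact Or.inr (Or.inl h3)
  · exact Or.inr (Or.inr h3)

theorem klein_sylow_classes_one (P : Sylow 2 G) (hP : IsKleinFour (P : Subgroup G))
    (h : ¬ HasNormalPComplement 2 G) :
    Nat.card {C : ConjClasses G // ∃ t : G, orderOf t = 2 ∧ ConjClasses.mk t = C} = 1 := by
  obtain ⟨a, b, ha, -⟩ := exists_klein_elems hP
  exact classes_eq_one (p := fun t => orderOf t = 2) ha fun t ht => klein_sylow_isConj P hP h ha ht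

end Cfsg.Agent.Transfer
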