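import Cfsg.Agent.Lib.Transfer.BS
import Cfsg.Prelude.Def_IsolatedElements

/-!
Isolated elements, and consequences of the Z*-theorem.
-/

set_option linter.unusedSectionVars false
set_option linter.unusedVariables false
set_option linter.style.haveILetI false
set_option linter.unusedSimpArgs false

namespace Cfsg.Agent.Transfer

open Subgroup Cfsg.Agent.Blk

variable {G : Type*} [Group G] [Finite G]

section Isol
variable {p : ℕ} [hp : Fact p.Prime] {x : G}

theorem isol_le_Ce1 (hx : IsIsolated x) {P : Subgroup G} (hP : IsPGroup p P) (hxP : x ∈ P) :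
    P ≤ Ce1 x := by
  by_contra h
  have h1 : P ⊓ Ce1 x < P := lt_of_le_of_ne inf_le_left fun e => h (e ▸ inf_le_right)
  obtain ⟨n, h2, h3, h4⟩ := exists_mem_normalizer_notMem hP h1
  have h5 := conj_mem_of_mem_normalizer h3 (show x ∈ P ⊓ Ce1 x from ⟨hxP, mem_Ce1.2 rfl⟩)
  have h6 := hx n (Commute.symm (mem_Ce1.1 h5.2))
  exact h4 ⟨h2, mem_Ce1.2 (mul_inv_eq_iff_eq_mul.1 h6)⟩

theorem isol_eq_of_mem (hx : IsIsolated x) {P : Subgroup G} (hP : IsPGroup p P) (hxP : x ∈ P)
    {g : G} (hg : g * x * g⁻¹ ∈ P) : g * x * g⁻¹ = x :=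
  hx g (Commute.symm (mem_Ce1.1 (isol_le_Ce1 hx hP hxP hg)))

theorem isol_normalizer_le (hx : IsIsolated x) {P : Subgroup G} (hP : IsPGroup p P)
    (hxP : x ∈ P) : normalizer (P : Set G) ≤ Ce1 x := fun g hg =>
  mem_Ce1.2 (mul_inv_eq_iff_eq_mul.1
    (isol_eq_of_mem hx hP hxP (conj_mem_of_mem_normalizer hg hxP)))

theorem isPGroup_sup_of_commute {a b : G} (ha : IsPGroup p (zpowers a))
    (hb : IsPGroup p (zpowers b)) (h : Commute a b) :
    IsPGroup p (zpowers a ⊔ zpowers b : Subgroup G) :=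
  ha.to_sup_of_normal_right' hb (zpowers_le.2 (mem_normalizer_zpowers
    (by rw [h.eq, mul_inv_cancel_right]; exact mem_zpowers b)))

theorem isol_of_isSyl {S : Subgroup G} (hS : IsSyl p S ⊤) (hx : x ∈ S)
    (h : ∀ g : G, g * x * g⁻¹ ∈ S → g * x * g⁻¹ = x) : IsIsolated x := fun g hg => by
  have h1 : IsPGroup p (zpowers x) := hS.pgroup.to_le (zpowers_le.2 hx)
  obtain ⟨c, -, hc⟩ := hS.exists_cj_le (isPGroup_sup_of_commute h1
    (cj_zpowers g x ▸ IsPGroup.cj h1 g) hg) le_top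
  have h2 := h c (cj_le_iff.1 hc _ (mem_sup_left (mem_zpowers x)))
  have h3 := h (c * g) (by
    have := cj_le_iff.1 hc _ (mem_sup_right (mem_zpowers (g * x * g⁻¹)))
    convert this using 1; group)
  have h4 : c * (g * x * g⁻¹) * c⁻¹ = c * x * c⁻¹ := by
    rw [h2]; exact Eq.trans (by group) h3
  exact mul_left_cancel (mul_right_cancel h4)

theorem isol_of_sylow (S : Sylow p G) (hx : x ∈ S)
    (h : ∀ g : G, g * x * g⁻¹ ∈ S → g * x * g⁻¹ = x) : IsIsolated x :=
  isol_of_isSyl (isSyl_top S) hx h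

omit hp [Finite G] in
theorem isol_sub {H : Subgroup G} {x : H} (hx : IsIsolated (x : G)) : IsIsolated x :=
  fun g hg => Subtype.ext (hx g (hg.map H.subtype))

omit hp [Finite G] in
theorem isol_conj (hx : IsIsolated x) (c : G) : IsIsolated (c * x * c⁻¹) := fun g hg => by
  have h1 := hx (c⁻¹ * g * c) (by
    have := hg.map (MulAut.conj c⁻¹)
    simp only [MulAut.conj_apply] at this
    convert this using 1 <;> group)
  calc _ = c * (c⁻¹ * g * c * x * (c⁻¹ * g * c)⁻¹) * c⁻¹ := by group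
    _ = _ := by rw [h1]

theorem isol_pow (hx : IsIsolated x) (h : IsPGroup p (zpowers x)) (k : ℕ) :
    IsIsolated (x ^ k) := by
  obtain ⟨S, hS, hxS⟩ := exists_isSyl_ge h le_top
  replace hxS := hxS (mem_zpowers x)
  refine isol_of_isSyl hS (pow_mem hxS k) fun g hg => ?_
  set y := g * x ^ k * g⁻¹ with hy
  have h1 : x ∈ Ce1 y := mem_Ce1.2 (mem_Ce1.1 (isol_le_Ce1 hx hS.pgroup hxS hg)).symm
  have h2 : g * x * g⁻¹ ∈ Ce1 y := mem_Ce1.2 (by rw [hy, ← conj_pow]; exact (Commute.refl _).pow_right k)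
  obtain ⟨T, hT, h3⟩ := exists_isSyl_ge h (zpowers_le.2 h1)
  obtain ⟨c, h4, h5⟩ := hT.exists_cj_le (cj_zpowers g x ▸ IsPGroup.cj h g) (zpowers_le.2 h2)
  have h6 := isol_eq_of_mem hx hT.pgroup (h3 (mem_zpowers x)) (g := c * g) (by
    have := cj_le_iff.1 h5 _ (mem_zpowers _)
    convert this using 1; group)
  have h7 : c * y * c⁻¹ = x ^ k := by
    rw [← h6, conj_pow, hy]; group
  rw [← h7, mem_Ce1.1 h4, mul_inv_cancel_right]

theorem isol_map {G' : Type*} [Group G'] [Finite G'] {f : G →* G'} (hf : Function.Surjective f)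
    (hx : IsIsolated x) (h : IsPGroup p (zpowers x)) : IsIsolated (f x) := by
  obtain ⟨S, hS, hxS⟩ := exists_isSyl_ge h le_top
  replace hxS := hxS (mem_zpowers x)
  have hS' := hS.map f
  rw [map_top_of_surjective f hf] at hS'
  refine isol_of_isSyl hS' (mem_map_of_mem f hxS) fun g hg => ?_
  obtain ⟨g, rfl⟩ := hf g
  have h1 : g * x * g⁻¹ ∈ S ⊔ f.ker := by
    rw [← comap_map_eq, mem_comap]; simpa using hg
  obtain ⟨c, h2, h3⟩ := (hS.mono le_sup_left le_top).exists_cj_le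
    (cj_zpowers g x ▸ IsPGroup.cj h g) (zpowers_le.2 h1)
  have h4 := isol_eq_of_mem hx hS.pgroup hxS (g := c * g) (by
    have := cj_le_iff.1 h3 _ (mem_zpowers _)
    convert this using 1; group)
  obtain ⟨s, hs, n, hn, rfl⟩ := (mem_sup_iff_of_le_normalizer (by
    rw [normalizer_eq_top]; exact le_top)).1 h2
  have h5 : s⁻¹ * x * s = x := by
    rw [mul_assoc, ← mem_Ce1.1 (isol_le_Ce1 hx hS.pgroup hxS hs), inv_mul_cancel_left]
  have h6 : n * (g * x * g⁻¹) * n⁻¹ = x := by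
    have : n * (g * x * g⁻¹) * n⁻¹ = s⁻¹ * (s * n * g * x * (s * n * g)⁻¹) * s := by group
    rw [this, h4, h5]
  have h7 := congrArg f h6
  simpa [MonoidHom.mem_ker.1 hn] using h7

/-- Frattini argument for an isolated element -/
theorem isol_frattini (hx : IsIsolated x) (h : IsPGroup p (zpowers x)) {N : Subgroup G}
    (hxN : x ∈ N) {g : G} (hg : g ∈ normalizer (N : Set G)) :
    ∃ n ∈ N, ∃ c ∈ Ce1 x, g = n * c := by
  obtain ⟨S, hS, hxS⟩ := exists_isSyl_ge h (zpowers_le.2 hxN)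
  obtain ⟨k, h1, n, h2, h3⟩ := hS.frattini hg
  exact ⟨k, h1, n, isol_normalizer_le hx hS.pgroup (hxS (mem_zpowers x)) h2, h3⟩

end Isol

theorem oddCore_quotient_of_central {z : G} (hz : z * z = 1) (hc : z ∈ center G)
    [(zpowers z).Normal] (hO : oddCore G = ⊥) : oddCore (G ⧸ zpowers z) = ⊥ := by
  have h := comap_oddCore_le_of_central hz hc hO
  rw [eq_bot_iff]
  intro y hy
  obtain ⟨y, rfl⟩ := QuotientGroup.mk'_surjective _ y
  exact (QuotientGroup.eq_one_iff y).2 (h hy)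

universe u in
theorem zstar_elt_aux (k : ℕ) : ∀ (G : Type u) [Group G] [Finite G], oddCore G = ⊥ → ∀ x : G,
    IsIsolated x → x ^ 2 ^ k = 1 → x ∈ center G := by
  induction k with
  | zero => intro G _ _ _ x _ h; rw [pow_zero, pow_one] at h; exact h ▸ one_mem _
  | succ k ih =>
    intro G _ _ hO x hx h
    by_cases h1 : x ^ 2 ^ k = 1
    · exact ih G hO x hx h1
    have h2 : x ^ 2 ^ k * x ^ 2 ^ k = 1 := by rw [← pow_add, ← two_mul, ← pow_succ', h]
    have hP := isPGroup_zpowers h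
    have h3 := zstar_center ⟨orderOf_eq_two h2 h1, isol_pow hx hP _⟩ hO
    haveI : (zpowers (x ^ 2 ^ k)).Normal := Char.normal_of_le_center (zpowers_le.2 h3)
    have h4 := ih _ (oddCore_quotient_of_central h2 h3 hO) _
      (isol_map (QuotientGroup.mk'_surjective (zpowers (x ^ 2 ^ k))) hx hP) (by
        rw [← map_pow]; exact (QuotientGroup.eq_one_iff _).2 (mem_zpowers _))
    refine mem_center_iff.2 fun g => mul_inv_eq_iff_eq_mul.1
      (isol_eq_of_mem hx hP (mem_zpowers x) ?_)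
    have h5 : g * x * g⁻¹ * x⁻¹ ∈ zpowers (x ^ 2 ^ k) := by
      rw [← QuotientGroup.eq_one_iff]
      have := mem_center_iff.1 h4 (QuotientGroup.mk' _ g)
      simp only [QuotientGroup.mk'_apply] at this
      simp [this]
    have h6 := mul_mem (zpowers_le.2 (pow_mem (mem_zpowers x) _) h5) (mem_zpowers x)
    rwa [inv_mul_cancel_right] at h6

/-- the Z*-theorem for isolated 2-elements -/
theorem zstar_elt_center {x : G} (hx : IsIsolated x) (h : IsPGroup 2 (zpowers x))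
    (hO : oddCore G = ⊥) : x ∈ center G := by
  obtain ⟨k, hk⟩ := IsPGroup.pow_eq_one_of_mem h (mem_zpowers x)
  exact zstar_elt_aux k G hO x hx hk

theorem zstar_elt_quot {x : G} (hx : IsIsolated x) (h : IsPGroup 2 (zpowers x)) :
    QuotientGroup.mk' (oddCore G) x ∈ center (G ⧸ oddCore G) :=
  zstar_elt_center (isol_map (QuotientGroup.mk'_surjective _) hx h)
    (MonoidHom.map_zpowers (QuotientGroup.mk' (oddCore G)) x ▸ h.map _) Solv.pPrimeCore_quotient_pPrimeCore

theorem mem_center_quot_iff {N : Subgroup G} [N.Normal] {x : G} :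
    QuotientGroup.mk' N x ∈ center (G ⧸ N) ↔ ∀ g, g * x * g⁻¹ * x⁻¹ ∈ N := by
  rw [mem_center_iff, (QuotientGroup.mk'_surjective N).forall]
  refine forall_congr' fun g => ?_
  rw [← QuotientGroup.eq_one_iff]
  simp only [QuotientGroup.mk'_apply, QuotientGroup.mk_mul, QuotientGroup.mk_inv,
    mul_inv_eq_iff_eq_mul, one_mul]

theorem zstar_elt {x : G} (hx : IsIsolated x) (h : IsPGroup 2 (zpowers x)) : InZStar 2 x :=
  mem_center_quot_iff.1 (zstar_elt_quot hx h)

/-- a `p`-element that is central modulo `O_{p'}` is isolated -/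
theorem isol_of_inZStar {p : ℕ} [Fact p.Prime] {x : G} (h : IsPGroup p (zpowers x))
    (hx : InZStar p x) : IsIsolated x := by
  obtain ⟨S, hS, hxS⟩ := exists_isSyl_ge h le_top
  replace hxS := hxS (mem_zpowers x)
  refine isol_of_isSyl hS hxS fun g hg => mul_inv_eq_one.1 ?_
  have h1 : S ⊓ pPrimeCore p G = ⊥ := by
    obtain ⟨k, hk⟩ := hS.pgroup.exists_card_eq
    exact inf_eq_bot_of_coprime (hk ▸ (Solv.coprime_card_pPrimeCore p).symm.pow_left k)
  exact mem_bot.1 (h1 ▸ mem_inf.2 ⟨S.mul_mem hg (S.inv_mem hxS), hx g⟩)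

theorem invData_of_quaternion {S : Subgroup G} (hS : IsSyl 2 S ⊤) {n : ℕ} (hn : 1 ≤ n)
    (e : S ≃* QuaternionGroup (2 ^ n)) : ∃ a b, InvData S a b n ∧ b ^ 2 = a ^ 2 ^ n := by
  obtain ⟨a, b, h1, h2, h3, h4, h5⟩ := exists_gens_of_quaternion e
  exact ⟨a, b, ⟨hS, hn, by rw [h1, pow_succ'], h4, h5, h3 ▸ pow_mem (mem_zpowers a) _, h2⟩, h3⟩

theorem invData_of_dihedral {S : Subgroup G} (hS : IsSyl 2 S ⊤) {n : ℕ} (hn : 1 ≤ n)
    (e : S ≃* DihedralGroup (2 ^ (n + 1))) : ∃ a b, InvData S a b n ∧ b ^ 2 = 1 := by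
  obtain ⟨a, b, h1, h2, h3, h4, h5⟩ := exists_gens_of_dihedral e
  exact ⟨a, b, ⟨hS, hn, h1, h4, h5, h3 ▸ one_mem _, h2⟩, h3⟩

theorem isolated_of_uniq (hU : ∀ a b : G, orderOf a = 2 → orderOf b = 2 → Commute a b → a = b)
    {t : G} (ht : orderOf t = 2) : IsIsolatedInvolution t :=
  ⟨ht, fun g hg => (hU _ _ ht (by rw [orderOf_conj, ht]) hg).symm⟩

/-- in a simple group of order `> 2` no involution is isolated -/
theorem not_isolated_of_simple [IsSimpleGroup G] {t : G} (ht : IsIsolatedInvolution t) :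
    zpowers t = ⊤ := by
  have h1 : oddCore G = ⊥ := (IsSimpleGroup.eq_bot_or_eq_top_of_normal _ inferInstance).resolve_right
    fun h => invol_notMem_oddCore ht.1 (h ▸ mem_top t)
  haveI : (zpowers t).Normal := Char.normal_of_le_center (zpowers_le.2 (zstar_center ht h1))
  exact (IsSimpleGroup.eq_bot_or_eq_top_of_normal _ this).resolve_left
    (by rw [zpowers_eq_bot]; exact ne_one_of_orderOf ht.1)

end Cfsg.Agent.Transfer
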