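import Cfsg.Agent.Lib.Transfer.SL2
import Cfsg.Prelude.Def_PLocal
import Mathlib.FieldTheory.SplittingField.Construction
import Mathlib.FieldTheory.Finite.Basic
import Mathlib.LinearAlgebra.Matrix.ToLin

/-!
Quadratic action: two quadratic elements generating a group that is not unipotent give a
homomorphism to `SL(2, K)`; consequences for `p`-stability.
-/

set_option autoImplicit false
set_option linter.unusedSectionVars false
set_option linter.style.haveILetI false

namespace Cfsg.Agent.Transfer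

open Subgroup
open scoped commutatorElement

section Linear
variable {K W H : Type*} [Field K] [AddCommGroup W] [Module K W] [Group H]

theorem rep_inv_apply (ρ : H →* Module.End K W) {a : H} (hx : ∀ w, ρ a (ρ a w - w) = ρ a w - w)
    (w : W) : ρ a⁻¹ w = w - (ρ a w - w) := by
  have h : ρ a (w - (ρ a w - w)) = w := by rw [map_sub, hx]; abel
  conv_lhs => rw [← h]
  rw [← Module.End.mul_apply, ← map_mul, inv_mul_cancel, map_one, Module.End.one_apply]

theorem isNilpotent_of_quadratic (ρ : H →* Module.End K W) {a b : H} (hab : closure {a, b} = ⊤)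
    (ha : ∀ w, ρ a (ρ a w - w) = ρ a w - w) (hb : ∀ w, ρ b (ρ b w - w) = ρ b w - w)
    (hz : IsNilpotent ((ρ a - 1) * (ρ b - 1) + (ρ b - 1) * (ρ a - 1))) (h : H) :
    IsNilpotent (ρ h - 1) := by
  obtain ⟨x, hx⟩ : ∃ x, x = ρ a - 1 := ⟨_, rfl⟩
  obtain ⟨y, hy⟩ : ∃ y, y = ρ b - 1 := ⟨_, rfl⟩
  have hx1 : ∀ w, ρ a w - w = x w := fun w => by rw [hx]; rfl
  have hy1 : ∀ w, ρ b w - w = y w := fun w => by rw [hy]; rfl
  have hx2 : ∀ w, x (x w) = 0 := fun w => by rw [← hx1, ← hx1, ha, sub_self]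
  have hy2 : ∀ w, y (y w) = 0 := fun w => by rw [← hy1, ← hy1, hb, sub_self]
  rw [← hx, ← hy] at hz
  obtain ⟨z, hz'⟩ : ∃ z, z = x * y + y * x := ⟨_, rfl⟩
  rw [← hz'] at hz
  have hzx : ∀ w, z (x w) = x (y (x w)) := fun w => by simp [hz', hx2]
  have hzy : ∀ w, z (y w) = y (x (y w)) := fun w => by simp [hz', hy2]
  have hxz : ∀ w, x (z w) = z (x w) := fun w => by simp [hz', hx2]
  have hyz : ∀ w, y (z w) = z (y w) := fun w => by simp [hz', hy2]
  let Inv : Submodule K W → Prop := fun U => ∀ u ∈ U, x u ∈ U ∧ y u ∈ U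
  let T : Submodule K W → Submodule K W := fun U => U.map x ⊔ U.map y
  have hT : ∀ U u, u ∈ T U ↔ ∃ v ∈ U, ∃ w ∈ U, x v + y w = u := fun U u => by
    simp only [T, Submodule.mem_sup, Submodule.mem_map]
    constructor
    · rintro ⟨_, ⟨v, hv, rfl⟩, _, ⟨w, hw, rfl⟩, h⟩; exact ⟨v, hv, w, hw, h⟩
    · rintro ⟨v, hv, w, hw, h⟩; exact ⟨_, ⟨v, hv, rfl⟩, _, ⟨w, hw, rfl⟩, h⟩
  have hTx : ∀ U, ∀ u ∈ U, x u ∈ T U := fun U u hu => (hT U _).2 ⟨u, hu, 0, zero_mem _, by simp⟩
  have hTy : ∀ U, ∀ u ∈ U, y u ∈ T U := fun U u hu => (hT U _).2 ⟨0, zero_mem _, u, hu, by simp⟩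
  have hle : ∀ U, Inv U → T U ≤ U := fun U hU u hu => by
    obtain ⟨v, hv, w, hw, rfl⟩ := (hT U u).1 hu
    exact add_mem (hU v hv).1 (hU w hw).2
  have hInv : ∀ U, Inv U → Inv (T U) := fun U hU u hu =>
    ⟨hTx U u (hle U hU hu), hTy U u (hle U hU hu)⟩
  have hρ : ∀ U, Inv U → ∀ g : H, ∀ u ∈ U, ρ g u - u ∈ T U := by
    intro U hU g
    have hg : g ∈ closure {a, b} := hab ▸ mem_top g
    induction hg using closure_induction'' with
    | mem g hg =>
      rcases hg with rfl | rfl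
      · intro u hu; rw [hx1]; exact hTx U u hu
      · intro u hu; rw [hy1]; exact hTy U u hu
    | inv_mem g hg =>
      rcases hg with rfl | rfl
      · intro u hu; rw [rep_inv_apply ρ ha, hx1, sub_sub_cancel_left]; exact neg_mem (hTx U u hu)
      · intro u hu; rw [rep_inv_apply ρ hb, hy1, sub_sub_cancel_left]; exact neg_mem (hTy U u hu)
    | one => intro u hu; simp
    | mul g k _ _ h1 h2 =>
      intro u hu
      have h3 : ρ k u ∈ U := by
        have := add_mem (hle U hU (h2 u hu)) hu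
        rwa [sub_add_cancel] at this
      have := add_mem (h1 _ h3) (h2 u hu)
      rwa [sub_add_sub_cancel, ← Module.End.mul_apply, ← map_mul] at this
  have h3 : ∀ U, Inv U → T (T (T U)) ≤ U.map z := fun U hU u hu => by
    obtain ⟨v, hv, w, hw, rfl⟩ := (hT _ u).1 hu
    obtain ⟨v1, hv1, v2, hv2, rfl⟩ := (hT _ v).1 hv
    obtain ⟨w1, hw1, w2, hw2, rfl⟩ := (hT _ w).1 hw
    obtain ⟨v3, hv3, v4, hv4, rfl⟩ := (hT _ v2).1 hv2
    obtain ⟨w3, hw3, w4, hw4, rfl⟩ := (hT _ w1).1 hw1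
    refine ⟨x v3 + y w4, add_mem (hU _ hv3).1 (hU _ hw4).2, ?_⟩
    simp [hx2, hy2, hzx, hzy]
  have h4 : ∀ k : ℕ, Inv (LinearMap.range (z ^ k)) ∧
      ∀ w, ((ρ h - 1) ^ (3 * k)) w ∈ LinearMap.range (z ^ k) := by
    intro k
    induction k with
    | zero => exact ⟨fun u _ => by simp, fun w => by simp⟩
    | succ k ih =>
      have he : LinearMap.range (z ^ (k + 1)) = (LinearMap.range (z ^ k)).map z := by
        rw [pow_succ', Module.End.mul_eq_comp, LinearMap.range_comp]
      rw [he]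
      refine ⟨?_, fun w => ?_⟩
      · rintro _ ⟨u, hu, rfl⟩
        exact ⟨⟨_, (ih.1 u hu).1, (hxz u).symm⟩, ⟨_, (ih.1 u hu).2, (hyz u).symm⟩⟩
      · rw [mul_add, mul_one, add_comm, pow_add, pow_succ, pow_succ, pow_one]
        exact h3 _ ih.1 (hρ _ (hInv _ (hInv _ ih.1)) h _ (hρ _ (hInv _ ih.1) h _ (hρ _ ih.1 h _ (ih.2 w))))
  obtain ⟨k, hk⟩ := hz
  refine ⟨3 * k, LinearMap.ext fun w => ?_⟩
  have := (h4 k).2 w
  rwa [hk, LinearMap.range_zero, Submodule.mem_bot] at this

theorem exists_eigen_of_splits (c : Module.End K W) {f : Polynomial K} (hf : f.Splits) (hf0 : f ≠ 0)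
    (h : Polynomial.aeval c f = 0) (hn : ¬ IsNilpotent (c - 1)) :
    ∃ l : K, l ≠ 1 ∧ ∃ v : W, v ≠ 0 ∧ c v = l • v := by
  by_contra hc
  push Not at hc
  have key : ∀ s : Multiset K, ∀ w : W,
      Polynomial.aeval c (s.map fun a => Polynomial.X - Polynomial.C a).prod w = 0 →
        ((c - 1) ^ s.card) w = 0 := by
    intro s
    induction s using Multiset.induction_on with
    | empty => intro w hw; simpa using hw
    | cons l s ih =>
      intro w hw
      rw [Multiset.map_cons, Multiset.prod_cons] at hw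
      rw [Multiset.card_cons]
      by_cases hl : l = 1
      · subst hl
        rw [mul_comm, map_mul, Module.End.mul_apply] at hw
        rw [pow_succ, Module.End.mul_apply]
        apply ih
        simpa using hw
      · rw [map_mul, Module.End.mul_apply] at hw
        rw [pow_succ', Module.End.mul_apply, ih w, map_zero]
        by_contra h0
        refine hc l hl _ h0 ?_
        simpa [sub_eq_zero] using hw
  refine hn ⟨f.roots.card, LinearMap.ext fun w => key _ w ?_⟩
  have h1 := congrArg (fun g => Polynomial.aeval c g w) hf.eq_prod_roots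
  simp only [h, map_mul, Polynomial.aeval_C, Module.End.mul_apply, LinearMap.zero_apply,
    Module.algebraMap_end_apply] at h1
  exact (smul_eq_zero.1 h1.symm).resolve_left (Polynomial.leadingCoeff_ne_zero.2 hf0)

theorem exists_hom_sl2 (ρ : H →* Module.End K W) {a b : H} (hab : closure {a, b} = ⊤)
    (ha : ∀ w, ρ a (ρ a w - w) = ρ a w - w) (hb : ∀ w, ρ b (ρ b w - w) = ρ b w - w)
    {μ : K} (hμ : μ ≠ 0) {v : W} (hv : v ≠ 0) (hav : ρ a v = v)
    (hz : ρ a (ρ b v - v) - (ρ b v - v) = μ • v) :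
    ∃ φ : H →* SL2 K, φ a = upU 1 ∧ φ b = loU μ ∧
      ∀ h, φ h = 1 ↔ ρ h v = v ∧ ρ h (ρ b v - v) = ρ b v - v := by
  obtain ⟨e, he⟩ : ∃ e, e = μ⁻¹ • (ρ b v - v) := ⟨_, rfl⟩
  have hae : ρ a e = e + v := by
    rw [he, map_smul, sub_eq_iff_eq_add'.1 hz, smul_add, smul_smul, inv_mul_cancel₀ hμ, one_smul]
  have hbe : ρ b e = e := by rw [he, map_smul, hb]
  have he' : ρ b v - v = μ • e := by rw [he, smul_smul, mul_inv_cancel₀ hμ, one_smul]
  have hbv : ρ b v = v + μ • e := by rw [← he', add_sub_cancel]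
  have hind : ∀ s t : K, s • v + t • e = 0 → s = 0 ∧ t = 0 := fun s t h => by
    have h1 := congrArg (ρ a) h
    rw [map_add, map_smul, map_smul, hav, hae, smul_add, ← add_assoc, h, zero_add, map_zero] at h1
    have ht := (smul_eq_zero.1 h1).resolve_right hv
    rw [ht, zero_smul, add_zero] at h
    exact ⟨(smul_eq_zero.1 h).resolve_right hv, ht⟩
  let R : H → SL2 K → Prop := fun h M =>
    ρ h v = M.1 0 0 • v + M.1 1 0 • e ∧ ρ h e = M.1 0 1 • v + M.1 1 1 • e
  have huniq : ∀ h M N, R h M → R h N → M = N := fun h M N h1 h2 => by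
    have a1 := hind (M.1 0 0 - N.1 0 0) (M.1 1 0 - N.1 1 0) (by
      rw [sub_smul, sub_smul, sub_add_sub_comm, ← h1.1, ← h2.1, sub_self])
    have a2 := hind (M.1 0 1 - N.1 0 1) (M.1 1 1 - N.1 1 1) (by
      rw [sub_smul, sub_smul, sub_add_sub_comm, ← h1.2, ← h2.2, sub_self])
    exact sl2_ext (sub_eq_zero.1 a1.1) (sub_eq_zero.1 a2.1) (sub_eq_zero.1 a1.2) (sub_eq_zero.1 a2.2)
  have hone : R 1 1 := by simp [R]
  have hmul : ∀ g h M N, R g M → R h N → R (g * h) (M * N) := fun g h M N h1 h2 => by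
    refine ⟨?_, ?_⟩
    · rw [map_mul, Module.End.mul_apply, h2.1, map_add, map_smul, map_smul, h1.1, h1.2, sl2_mul, sl2_mul]
      module
    · rw [map_mul, Module.End.mul_apply, h2.2, map_add, map_smul, map_smul, h1.1, h1.2, sl2_mul, sl2_mul]
      module
  have hRa : R a (upU 1) := ⟨by simp [hav], by simp [hae, add_comm]⟩
  have hRb : R b (loU μ) := ⟨by simp [hbv], by simp [hbe]⟩
  have hex : ∀ g : H, ∃ M, R g M := by
    intro g
    have hg : g ∈ closure {a, b} := hab ▸ mem_top g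
    induction hg using closure_induction'' with
    | mem g hg =>
      rcases hg with rfl | rfl
      exacts [⟨_, hRa⟩, ⟨_, hRb⟩]
    | inv_mem g hg =>
      rcases hg with rfl | rfl
      · refine ⟨upU (-1), ?_, ?_⟩ <;> rw [rep_inv_apply ρ ha] <;> simp [hav, hae]
        abel
      · refine ⟨loU (-μ), ?_, ?_⟩ <;> rw [rep_inv_apply ρ hb] <;> simp [hbv, hbe]
        abel
    | one => exact ⟨1, hone⟩
    | mul g k _ _ h1 h2 =>
      obtain ⟨M, hM⟩ := h1
      obtain ⟨N, hN⟩ := h2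
      exact ⟨_, hmul _ _ _ _ hM hN⟩
  choose φ hφ using hex
  refine ⟨MonoidHom.mk' φ fun g h => huniq _ _ _ (hφ _) (hmul _ _ _ _ (hφ g) (hφ h)),
    huniq _ _ _ (hφ a) hRa, huniq _ _ _ (hφ b) hRb, fun h => ⟨fun h1 => ?_, fun h1 => ?_⟩⟩
  · have h2 := hφ h
    change φ h = 1 at h1
    rw [h1] at h2
    refine ⟨by simpa using h2.1, ?_⟩
    rw [he', map_smul, h2.2]; simp
  · refine huniq h _ _ (hφ h) ⟨by simpa using h1.1, ?_⟩
    rw [he, map_smul, h1.2]; simp

/-- the main linear lemma -/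
theorem exists_hom_sl2_of_splits (ρ : H →* Module.End K W) {a b : H} (hab : closure {a, b} = ⊤)
    (ha : ∀ w, ρ a (ρ a w - w) = ρ a w - w) (hb : ∀ w, ρ b (ρ b w - w) = ρ b w - w)
    {f : Polynomial K} (hf : f.Splits) (hf0 : f ≠ 0) (h : Polynomial.aeval (ρ (a * b)) f = 0)
    (hn : ∃ g, ¬ IsNilpotent (ρ g - 1)) :
    ∃ μ : K, μ ≠ 0 ∧ ∃ φ : H →* SL2 K, φ a = upU 1 ∧ φ b = loU μ ∧ ∀ h, ρ h = 1 → φ h = 1 := by
  obtain ⟨g, hg⟩ := hn
  have hz : ∀ w, ((ρ a - 1) * (ρ b - 1) + (ρ b - 1) * (ρ a - 1)) w =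
      ρ (a * b) w + ρ (a * b)⁻¹ w - 2 • w := fun w => by
    rw [mul_inv_rev, map_mul, map_mul, Module.End.mul_apply, Module.End.mul_apply,
      rep_inv_apply ρ ha, rep_inv_apply ρ hb]
    simp only [LinearMap.add_apply, Module.End.mul_apply, LinearMap.sub_apply, Module.End.one_apply,
      map_sub]
    abel
  have h1 : ¬ IsNilpotent (ρ (a * b) - 1) := fun h1 => by
    refine hg (isNilpotent_of_quadratic ρ hab ha hb ?_ g)
    have : (ρ a - 1) * (ρ b - 1) + (ρ b - 1) * (ρ a - 1) =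
        ρ (a * b)⁻¹ * ((ρ (a * b) - 1) * (ρ (a * b) - 1)) := by
      refine LinearMap.ext fun w => ?_
      rw [hz]
      simp only [Module.End.mul_apply, LinearMap.sub_apply, Module.End.one_apply, map_sub]
      simp only [← Module.End.mul_apply, ← map_mul, inv_mul_cancel_left, inv_mul_cancel, map_one,
        Module.End.one_apply]
      abel
    rw [this]
    have hc : Commute (ρ (a * b)⁻¹) (ρ (a * b) - 1) :=
      ((Commute.refl _).inv_left.map ρ).sub_right (Commute.one_right _)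
    exact (hc.mul_right hc).isNilpotent_mul_left ((Commute.refl _).isNilpotent_mul_left h1)
  obtain ⟨l, hl, v, hv, hcv⟩ := exists_eigen_of_splits _ hf hf0 h h1
  have hl0 : l ≠ 0 := by
    rintro rfl
    have := congrArg (ρ (a * b)⁻¹) hcv
    rw [← Module.End.mul_apply, ← map_mul, inv_mul_cancel, map_one, zero_smul, map_zero] at this
    exact hv this
  have hcv' : ρ (a * b)⁻¹ v = l⁻¹ • v := by
    have := congrArg (ρ (a * b)⁻¹) hcv
    rw [← Module.End.mul_apply, ← map_mul, inv_mul_cancel, map_one, map_smul] at this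
    rw [eq_inv_smul_iff₀ hl0, ← this]; rfl
  have hμ : l + l⁻¹ - 2 ≠ 0 := fun h0 => by
    have : (l - 1) ^ 2 = 0 := by field_simp at h0; linear_combination h0
    exact hl (sub_eq_zero.1 (pow_eq_zero_iff (by decide) |>.1 this))
  have hzv := hz v
  rw [hcv, hcv'] at hzv
  simp only [LinearMap.add_apply, Module.End.mul_apply, LinearMap.sub_apply,
    Module.End.one_apply] at hzv
  have fin : ∀ u : W, u ≠ 0 → ρ a u = u →
      ρ a (ρ b u - u) - (ρ b u - u) = (l + l⁻¹ - 2) • u →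
      ∃ μ : K, μ ≠ 0 ∧ ∃ φ : H →* SL2 K, φ a = upU 1 ∧ φ b = loU μ ∧ ∀ h, ρ h = 1 → φ h = 1 := by
    intro u h1 h2 h3
    obtain ⟨φ, h4, h5, h6⟩ := exists_hom_sl2 ρ hab ha hb hμ h1 h2 h3
    exact ⟨_, hμ, φ, h4, h5, fun h h7 => (h6 h).2 (by simp [h7])⟩
  by_cases hxv : ρ a v - v = 0
  · refine fin v hv (sub_eq_zero.1 hxv) ?_
    rw [hxv] at hzv
    simp only [map_zero, sub_self, add_zero] at hzv
    rw [hzv]; module
  · refine fin _ hxv (ha v) ?_
    have := congrArg (fun w => ρ a w - w) hzv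
    simp only [map_add, ha] at this
    rw [map_sub (ρ a) (l • v + l⁻¹ • v), map_add, map_smul, map_smul, map_nsmul] at this
    refine Eq.trans ?_ (this.trans ?_)
    · abel
    · module

end Linear

section Dual
variable {G : Type*} [Group G] (K : Type*) [Field K]

/-- additive characters of `B` with values in `K` -/
def dualMod (B : Subgroup G) : Submodule K (B → K) where
  carrier := {f | ∀ x y, f (x * y) = f x + f y}
  add_mem' := fun {f g} hf hg x y => by simp only [Pi.add_apply, hf x y, hg x y]; ring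
  zero_mem' := fun x y => by simp
  smul_mem' := fun c f hf x y => by simp only [Pi.smul_apply, hf x y, smul_add]

def dualRep (B : Subgroup G) : normalizer (B : Set G) →* Module.End K (dualMod K B) where
  toFun h :=
    { toFun := fun f => ⟨fun x => f.1 ⟨h⁻¹ * x * h, inv_conj_mem_of_mem_normalizer h.2 x.2⟩,
        fun x y => by
          rw [← f.2]
          refine congrArg f.1 (Subtype.ext ?_)
          simp only [coe_mul, InvMemClass.coe_inv]; group⟩
      map_add' := fun f g => rfl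
      map_smul' := fun c f => rfl }
  map_one' := by ext f x; simp
  map_mul' g h := by
    ext f x
    simp only [LinearMap.coe_mk, AddHom.coe_mk, Module.End.mul_apply]
    congr 2
    simp only [coe_mul, InvMemClass.coe_inv]; group

variable {K}

theorem dualRep_apply {B : Subgroup G} (h : normalizer (B : Set G)) (f : dualMod K B) (x : B) :
    (dualRep K B h f).1 x = f.1 ⟨h⁻¹ * x * h, inv_conj_mem_of_mem_normalizer h.2 x.2⟩ := rfl

theorem dual_mul {B : Subgroup G} (f : dualMod K B) (x y : B) : f.1 (x * y) = f.1 x + f.1 y := f.2 x y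

theorem dual_one {B : Subgroup G} (f : dualMod K B) : f.1 1 = 0 := by
  have := dual_mul f 1 1
  rw [mul_one] at this
  linear_combination -this

theorem dual_inv {B : Subgroup G} (f : dualMod K B) (x : B) : f.1 x⁻¹ = - f.1 x := by
  have := dual_mul f x⁻¹ x
  rw [inv_mul_cancel, dual_one] at this
  linear_combination -this

theorem dualRep_sub_apply {B : Subgroup G} (h : normalizer (B : Set G)) (f : dualMod K B) (x : B) :
    (dualRep K B h f - f).1 x = f.1 ⟨⁅(x : G)⁻¹, (h : G)⁻¹⁆, by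
      rw [commutatorElement_def, inv_inv, inv_inv, mul_assoc, mul_assoc, ← mul_assoc (h : G)⁻¹]
      exact mul_mem (inv_mem x.2) (inv_conj_mem_of_mem_normalizer h.2 x.2)⟩ := by
  change (dualRep K B h f).1 x - f.1 x = _
  rw [dualRep_apply, sub_eq_neg_add, ← dual_inv, ← dual_mul]
  refine congrArg f.1 (Subtype.ext ?_)
  simp only [coe_mul, InvMemClass.coe_inv, commutatorElement_def]; group

theorem dualRep_quadratic {B : Subgroup G} (h : normalizer (B : Set G))
    (hq : ⁅⁅B, zpowers (h : G)⁆, zpowers (h : G)⁆ = ⊥) (f : dualMod K B) :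
    dualRep K B h (dualRep K B h f - f) = dualRep K B h f - f := by
  rw [← sub_eq_zero]
  ext x
  rw [dualRep_sub_apply, dualRep_sub_apply]
  refine Eq.trans ?_ (dual_one f)
  refine congrArg f.1 (Subtype.ext ?_)
  exact mem_bot.1 (hq ▸ commutator_mem_commutator (inv_mem (commutator_mem_commutator (inv_mem x.2)
    (inv_mem (mem_zpowers _)))) (inv_mem (mem_zpowers _)))

theorem dualRep_eq_one {B : Subgroup G} (h : normalizer (B : Set G))
    (hc : (h : G) ∈ centralizer (B : Set G)) : dualRep K B h = 1 := by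
  ext f x
  rw [dualRep_apply]
  refine congrArg f.1 (Subtype.ext ?_)
  change (h : G)⁻¹ * x * h = x
  rw [mul_assoc, hc x x.2, inv_mul_cancel_left]

variable {p : ℕ} [hp : Fact p.Prime] [CharP K p] [Finite G]

theorem mem_frattini_of_forall_dual {B : Subgroup G} (hB : IsPGroup p B) {x : B}
    (h : ∀ f : dualMod K B, f.1 x = 0) : x ∈ frattini B := by
  rw [frattini, Order.radical, mem_iInf]
  intro M
  rw [mem_iInf]
  intro hM
  haveI := hB.isNilpotent
  haveI := Solv.coatom_normal_of_nilpotent hM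
  have h1 : Nat.card (B ⧸ M) = p := Solv.index_eq_of_coatom_of_isPGroup hB hM
  let e : B ⧸ M ≃* Multiplicative (ZMod p) := mulEquivOfPrimeCardEq h1 (by simp)
  let c : ZMod p →+* K := ZMod.castHom dvd_rfl K
  have h2 := h ⟨fun y => c (e (QuotientGroup.mk y)).toAdd, fun y z => by
    simp only [QuotientGroup.mk_mul, map_mul, toAdd_mul, map_add]⟩
  rw [← QuotientGroup.eq_one_iff, ← e.map_eq_one_iff, ← toAdd_eq_zero]
  exact c.injective (h2.trans (map_zero c).symm)

theorem commutator_mem_of_dualRep_eq_one {B : Subgroup G} (hB : IsPGroup p B)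
    (h : normalizer (B : Set G)) (h1 : dualRep K B h = 1) :
    ⁅B, zpowers (h : G)⁆ ≤ (frattini B).map B.subtype := by
  rw [commutator_le]
  rintro x hx _ ⟨n, rfl⟩
  have h2 : dualRep K B (h ^ n)⁻¹ = 1 := by
    have : h ∈ (dualRep K B).toHomUnits.ker := Units.ext h1
    exact congrArg Units.val (MonoidHom.mem_ker.1 (inv_mem (zpow_mem this n)))
  refine ⟨⟨_, ?_⟩, mem_frattini_of_forall_dual (K := K) hB fun f => ?_, rfl⟩
  · exact Solv.commutator_le_left_of_le_normalizer (zpowers_le.2 h.2)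
      (commutator_mem_commutator hx (zpow_mem (mem_zpowers _) n))
  · have := dualRep_sub_apply (h ^ n)⁻¹ f ⟨x, hx⟩⁻¹
    rw [h2, Module.End.one_apply, sub_self] at this
    refine Eq.trans (congrArg f.1 (Subtype.ext ?_)) this.symm
    simp [commutatorElement_def]

theorem mem_centralizer_of_dualRep {B : Subgroup G} (hB : IsPGroup p B)
    (h : normalizer (B : Set G)) (hc : (orderOf (h : G)).Coprime p)
    (h1 : IsNilpotent (dualRep K B h - 1)) : (h : G) ∈ centralizer (B : Set G) := by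
  obtain ⟨k, hk⟩ := exists_pow_eq_one_of_isNilpotent (K := K) (c := dualRep K B h) p h1
  have h2 : dualRep K B h = 1 := by
    rw [← orderOf_eq_one_iff]
    refine Nat.Coprime.eq_one_of_dvd ?_ (orderOf_dvd_of_pow_eq_one hk)
    exact (Nat.Coprime.coprime_dvd_left (orderOf_map_dvd _ _) (by rwa [← orderOf_coe])).pow_right k
  refine Solv.coprime_frattini_le_centralizer ?_ (commutator_mem_of_dualRep_eq_one hB h h2)
    (zpowers_le.2 h.2) (mem_zpowers _)
  obtain ⟨n, hn⟩ := (hB.to_subgroup (frattini B)).exists_card_eq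
  rw [Nat.card_zpowers, hn]
  exact hc.pow_right n

end Dual

variable {G : Type*} [Group G] [Finite G] {p : ℕ} [hp : Fact p.Prime]

theorem closure_pair_subgroupOf {G : Type*} [Group G] {H : Subgroup G} {a b : G} (ha : a ∈ H)
    (hb : b ∈ H) (h : H = closure {a, b}) : closure {(⟨a, ha⟩ : H), ⟨b, hb⟩} = ⊤ := by
  apply map_injective H.subtype_injective
  rw [MonoidHom.map_closure, ← MonoidHom.range_eq_map, range_subtype, Set.image_pair]
  exact h.symm

/-- Two quadratic elements whose span does not act as a `p`-group give a map to `SL(2, K)`. -/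
theorem exists_sl2_of_quadratic {B H : Subgroup G} (hB : IsPGroup p B)
    (hH : H ≤ normalizer (B : Set G)) {a b : G} (ha : a ∈ H) (hb : b ∈ H) (hab : H = closure {a, b})
    (hqa : ⁅⁅B, zpowers a⁆, zpowers a⁆ = ⊥) (hqb : ⁅⁅B, zpowers b⁆, zpowers b⁆ = ⊥)
    (hn : ¬ res p H ≤ centralizer (B : Set G)) :
    ∃ (K : Type) (_ : Field K) (_ : Fintype K) (_ : CharP K p) (μ : K) (φ : H →* SL2 K), μ ≠ 0 ∧
      φ ⟨a, ha⟩ = upU 1 ∧ φ ⟨b, hb⟩ = loU μ ∧
      ∀ h : H, (h : G) ∈ centralizer (B : Set G) → φ h = 1 := by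
  let f : Polynomial (ZMod p) := Polynomial.X ^ Nat.card G - 1
  let K := f.SplittingField
  haveI : Finite K := Module.finite_of_finite (ZMod p)
  haveI : CharP K p := charP_of_injective_algebraMap (algebraMap (ZMod p) K).injective p
  obtain ⟨g, hg, hg1, hg2⟩ := exists_notMem_of_not_res_le hn
  obtain ⟨μ, hμ, φ, h1, h2, h3⟩ := exists_hom_sl2_of_splits ((dualRep K B).comp (inclusion hH))
    (closure_pair_subgroupOf ha hb hab) (dualRep_quadratic ⟨a, hH ha⟩ hqa)
    (dualRep_quadratic ⟨b, hH hb⟩ hqb) (Polynomial.SplittingField.splits f)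
    (by
      rw [Ne, Polynomial.map_eq_zero]
      exact Polynomial.X_pow_sub_C_ne_zero Nat.card_pos 1)
    (by
      simp only [f, Polynomial.map_sub, Polynomial.map_pow, Polynomial.map_X, Polynomial.map_one,
        map_sub, map_pow, Polynomial.aeval_X, map_one]
      rw [← map_pow, show ((⟨a, ha⟩ : H) * ⟨b, hb⟩) ^ Nat.card G = 1 from
        Subtype.ext (pow_card_eq_one' (G := G)), map_one, sub_self])
    ⟨⟨g, hg⟩, fun h => hg2 (mem_centralizer_of_dualRep hB ⟨g, hH hg⟩ hg1 h)⟩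
  exact ⟨K, inferInstance, Fintype.ofFinite K, inferInstance, μ, φ, hμ, h1, h2,
    fun h hc => h3 h (dualRep_eq_one _ hc)⟩

theorem comm_of_isPGroup_of_sylow {q : ℕ} [Fact q.Prime] (T : Sylow q G) (hT : IsMulCommutative T)
    {Q : Subgroup G} (hQ : IsPGroup q Q) : IsMulCommutative Q := by
  obtain ⟨g, hg⟩ := exists_cj_le_sylow T hQ
  rw [cj_le_iff_le_cj_inv] at hg
  exact Solv.isMulCommutative_of_le hg (by infer_instance)

theorem comm_sylow_of_le {q : ℕ} [Fact q.Prime] {H L : Subgroup G} (hHL : H ≤ L) (T : Sylow q L)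
    (hT : IsMulCommutative T) (S : Sylow q H) : IsMulCommutative S := by
  have := comm_of_isPGroup_of_sylow T hT (S.isPGroup'.map (inclusion hHL))
  rw [comm_iff] at this ⊢
  exact fun a ha b hb => inclusion_injective hHL (by
    rw [map_mul, map_mul]; exact this _ ⟨a, ha, rfl⟩ _ ⟨b, hb, rfl⟩)

theorem quad_cj {B : Subgroup G} {a x : G} (hx : x ∈ normalizer (B : Set G))
    (hq : ⁅⁅B, zpowers a⁆, zpowers a⁆ = ⊥) :
    ⁅⁅B, zpowers (x * a * x⁻¹)⁆, zpowers (x * a * x⁻¹)⁆ = ⊥ := by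
  rw [← cj_zpowers, ← cj_eq_of_mem_normalizer hx, ← cj_commutator, ← cj_commutator, hq, cj_bot]

theorem quad_mono {G : Type*} [Group G] {B B' A A' : Subgroup G} (h1 : B' ≤ B) (h2 : A' ≤ A)
    (hq : ⁅⁅B, A⁆, A⁆ = ⊥) : ⁅⁅B', A'⁆, A'⁆ = ⊥ :=
  le_bot_iff.1 (hq ▸ commutator_mono (commutator_mono h1 h2) h2)

theorem res_le_centralizer_of_quadratic (hp2 : p ≠ 2) {B H : Subgroup G} (hB : IsPGroup p B)
    (hH : H ≤ normalizer (B : Set G)) {a b : G} (hab : H = closure {a, b})
    (hqa : ⁅⁅B, zpowers a⁆, zpowers a⁆ = ⊥) (hqb : ⁅⁅B, zpowers b⁆, zpowers b⁆ = ⊥)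
    (T : Sylow 2 H) (hT : IsMulCommutative T) : res p H ≤ centralizer (B : Set G) := by
  by_contra hn
  have ha : a ∈ H := hab ▸ subset_closure (by simp)
  have hb : b ∈ H := hab ▸ subset_closure (by simp)
  obtain ⟨K, _, _, _, μ, φ, hμ, h1, h2, -⟩ := exists_sl2_of_quadratic hB hH ha hb hab hqa hqb hn
  exact sl2_not_abelian_sylow hp2 φ (closure_pair_subgroupOf ha hb hab) hμ h1 h2 T hT

theorem coprime_card_of_forall_pow {R : Subgroup G} {m : ℕ} (hm : m.Coprime p)
    (h : ∀ r ∈ R, r ^ m = 1) : (Nat.card R).Coprime p := by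
  rw [Nat.coprime_comm, hp.out.coprime_iff_not_dvd]
  intro hd
  obtain ⟨x, hx⟩ := exists_prime_orderOf_dvd_card' p hd
  have := orderOf_dvd_of_pow_eq_one (h x x.2)
  rw [orderOf_coe, hx] at this
  exact (hp.out.coprime_iff_not_dvd.1 hm.symm) this

theorem mem_of_pow_mem_of_pow_mem {G : Type*} [Group G] {N : Subgroup G} {c : G} {m n : ℕ}
    (h : m.Coprime n) (h1 : c ^ m ∈ N) (h2 : c ^ n ∈ N) : c ∈ N := by
  have h3 := Nat.gcd_eq_gcd_ab m n
  rw [h] at h3
  rw [← zpow_one c, show (1 : ℤ) = m * m.gcdA n + n * m.gcdB n from h3, zpow_add, zpow_mul, zpow_mul,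
    zpow_natCast, zpow_natCast]
  exact mul_mem (zpow_mem h1 _) (zpow_mem h2 _)

/-- a quadratic element not centralizing a normal `p'`-section forces `p = 3` and `SL(2, 3)` -/
theorem sl2_three_of_quadratic (hp2 : p ≠ 2) {B L N R : Subgroup G} (hB : IsPGroup p B)
    (hL : L ≤ normalizer (B : Set G)) (hN : L ≤ normalizer (N : Set G))
    (hR : L ≤ normalizer (R : Set G)) (hC : L ⊓ centralizer (B : Set G) ≤ N)
    (hNp : ∀ n ∈ N, ∃ k, n ^ p ^ k ∈ centralizer (B : Set G)) {m : ℕ} (hm : m.Coprime p)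
    (hRm : ∀ r ∈ R, r ^ m ∈ N) {a x : G} (ha : a ∈ L) (hx : x ∈ L) (hxR : x ∈ R)
    (hq : ⁅⁅B, zpowers a⁆, zpowers a⁆ = ⊥) (hn : ⁅x, a⁆ ∉ N) :
    p = 3 ∧ ∃ (K M : Subgroup G) (_ : (M.subgroupOf K).Normal), K ≤ closure {a, x * a * x⁻¹} ∧
      Nonempty ((K ⧸ M.subgroupOf K) ≃* SL2 (ZMod 3)) := by
  obtain ⟨H, hH⟩ : ∃ H : Subgroup G, H = closure {a, x * a * x⁻¹} := ⟨_, rfl⟩
  rw [← hH]
  have haH : a ∈ H := hH ▸ subset_closure (by simp)
  have hbH : x * a * x⁻¹ ∈ H := hH ▸ subset_closure (by simp)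
  have hHL : H ≤ L := by
    rw [hH, closure_le]
    rintro _ (rfl | rfl)
    exacts [ha, mul_mem (mul_mem hx ha) (inv_mem hx)]
  have hcH : ⁅x, a⁆ ∈ H := mul_mem hbH (inv_mem haH)
  have hcR : ⁅x, a⁆ ∈ R := by
    rw [commutatorElement_def, mul_assoc, mul_assoc, ← mul_assoc a]
    exact mul_mem hxR (conj_mem_of_mem_normalizer (hR ha) (inv_mem hxR))
  obtain ⟨K, _, _, _, μ, φ, hμ, h1, h2, h3⟩ := exists_sl2_of_quadratic hB (hHL.trans hL) haH hbH hH
    hq (quad_cj (hL hx) hq) (fun hle => by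
      obtain ⟨k, hk⟩ := exists_pow_mem_res (p := p) hcH
      exact hn (mem_of_pow_mem_of_pow_mem (hm.pow_right k) (hRm _ hcR)
        (hC ⟨hHL (pow_mem hcH _), hle hk⟩)))
  have hnorm : ∀ X : Subgroup G, L ≤ normalizer (X : Set G) → ∀ h : H,
      φ h ∈ normalizer (((X.subgroupOf H).map φ : Subgroup (SL2 K)) : Set (SL2 K)) := fun X hX h => by
    haveI : (X.subgroupOf H).Normal := normal_subgroupOf_of_le_normalizer (hHL.trans hX)
    exact le_normalizer_map φ ⟨h, le_normalizer_of_normal (mem_top h), rfl⟩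
  have hN0 : (N.subgroupOf H).map φ = ⊥ := sl2_normal_pgroup (p := p)
    (isPGroup_of_forall_mem (by
      rintro _ ⟨n, hn, rfl⟩
      obtain ⟨k, hk⟩ := hNp n hn
      exact ⟨k, by rw [← map_pow]; exact h3 _ hk⟩)) hμ (h1 ▸ hnorm N hN _) (h2 ▸ hnorm N hN _)
  obtain ⟨rfl, ψ, hψ, hle⟩ := sl2_three hp2 (R := (R.subgroupOf H).map φ)
    (coprime_card_of_forall_pow hm (by
      rintro _ ⟨r, hr, rfl⟩
      rw [← map_pow]
      exact mem_bot.1 (hN0 ▸ ⟨r ^ m, hRm _ hr, rfl⟩))) (h1 ▸ hnorm R hR _) (fun hle => by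
      have h4 := Solv.mem_centralizer_singleton.1 (hle ⟨⟨_, hcH⟩, hcR, rfl⟩)
      have h5 : φ ⟨_, hcH⟩ = loU μ * (upU 1)⁻¹ := by rw [← h1, ← h2, ← map_inv, ← map_mul]; rfl
      rw [h5] at h4
      have := congrArg (fun x : SL2 K => x.1 0 0) h4
      simp only [sl2_mul, upU_inv, upU_00, upU_01, upU_10, upU_11, loU_00, loU_01, loU_10] at this
      exact hμ (by linear_combination this))
  exact ⟨rfl, exists_section φ ψ hψ (hle.trans (sup_le (map_le_range _ _) (zpowers_le.2 ⟨_, h1⟩)))⟩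

theorem isPGroup_map_iff_res_le {X : Type*} [Group X] (f : G →* X) {H : Subgroup G} :
    IsPGroup p (H.map f) ↔ res p H ≤ f.ker := by
  constructor
  · intro h
    rw [← Subgroup.map_eq_bot_iff, map_res, res_eq_bot_of_isPGroup h]
  · intro h
    refine isPGroup_of_forall_mem ?_
    rintro _ ⟨x, hx, rfl⟩
    obtain ⟨k, hk⟩ := exists_pow_mem_res (p := p) hx
    exact ⟨k, by rw [← map_pow]; exact h hk⟩

theorem isPGroup_iff_res_eq_bot {H : Subgroup G} : IsPGroup p H ↔ res p H = ⊥ := by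
  have := isPGroup_map_iff_res_le (p := p) (MonoidHom.id G) (H := H)
  rwa [map_id, MonoidHom.ker_id, le_bot_iff] at this

theorem mem_pCore_iff_normalClosure {a : G} :
    a ∈ pCore p G ↔ IsPGroup p (normalClosure ({a} : Set G)) :=
  ⟨fun h => (Solv.isPGroup_pCore p G).to_le (normalClosure_le_normal (by simpa using h)),
    fun h => Solv.le_pCore h (subset_normalClosure rfl)⟩

theorem mem_pCore_of_pairs {a : G} (h : ∀ g : G, IsPGroup p (closure ({a, g * a * g⁻¹} : Set G))) :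
    a ∈ pCore p G := by
  have := baer_suzuki (p := p) (X := zpowers a) fun g => by
    rw [cj_zpowers, zpowers_eq_closure, zpowers_eq_closure, ← Subgroup.closure_union]
    exact h g
  exact Solv.le_pCore this (subset_normalClosure (mem_zpowers a))

theorem mk_mem_pCore_iff {N : Subgroup G} [N.Normal] {a : G} :
    (QuotientGroup.mk a : G ⧸ N) ∈ pCore p (G ⧸ N) ↔ res p (normalClosure ({a} : Set G)) ≤ N := by
  have := isPGroup_map_iff_res_le (p := p) (QuotientGroup.mk' N) (H := normalClosure ({a} : Set G))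
  rw [QuotientGroup.ker_mk', map_normalClosure _ _ (QuotientGroup.mk'_surjective N),
    Set.image_singleton] at this
  rw [mem_pCore_iff_normalClosure, ← this]
  rfl

theorem mk_mem_pCore_of_pairs {N : Subgroup G} [N.Normal] {a : G}
    (h : ∀ g : G, res p (closure ({a, g * a * g⁻¹} : Set G)) ≤ N) :
    (QuotientGroup.mk a : G ⧸ N) ∈ pCore p (G ⧸ N) := by
  refine mem_pCore_of_pairs fun g => ?_
  obtain ⟨g, rfl⟩ := QuotientGroup.mk_surjective g
  have := (isPGroup_map_iff_res_le (QuotientGroup.mk' N)).2 ((QuotientGroup.ker_mk' N).symm ▸ h g)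
  rwa [MonoidHom.map_closure, Set.image_pair] at this

theorem isPStableOn_of_abelian (hp2 : p ≠ 2) (T : Sylow 2 G) (hT : IsMulCommutative T)
    (B : Subgroup G) [B.Normal] (hB : IsPGroup p B) : IsPStableOn p B := fun a hq =>
  mk_mem_pCore_of_pairs fun g => res_le_centralizer_of_quadratic hp2 hB le_normalizer_of_normal rfl hq
    (quad_cj (le_normalizer_of_normal (mem_top g)) hq) default (by
      have := comm_of_isPGroup_of_sylow T hT
        ((default : Sylow 2 (closure ({a, g * a * g⁻¹} : Set G))).isPGroup'.map (Subgroup.subtype _))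
      rw [comm_iff] at this ⊢
      exact fun a ha b hb => Subtype.ext (this _ ⟨a, ha, rfl⟩ _ ⟨b, hb, rfl⟩))

/-- elements acting quadratically on a `p`-group are `p`-elements modulo the centralizer -/
theorem res_le_centralizer_of_quad {B A : Subgroup G} (hB : IsPGroup p B)
    (hA : A ≤ normalizer (B : Set G)) (hq : ⁅⁅B, A⁆, A⁆ = ⊥) : res p A ≤ centralizer (B : Set G) := by
  rw [res_le_iff]
  intro g hg hc
  obtain ⟨n, hn⟩ := hB.exists_card_eq
  exact Solv.coprime_le_centralizer_of_quadratic (zpowers_le.2 (hA hg))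
    (by rw [Nat.card_zpowers, hn]; exact hc.pow_right n) (quad_mono le_rfl (zpowers_le.2 hg) hq)
    (mem_zpowers g)

theorem exists_pow_mem_centralizer_of_quad {B : Subgroup G} {a : G} (hB : IsPGroup p B)
    (hA : a ∈ normalizer (B : Set G)) (hq : ⁅⁅B, zpowers a⁆, zpowers a⁆ = ⊥) :
    ∃ k, a ^ p ^ k ∈ centralizer (B : Set G) :=
  (exists_pow_mem_res (p := p) (mem_zpowers a)).imp fun _ h =>
    res_le_centralizer_of_quad hB (zpowers_le.2 hA) hq h

end Cfsg.Agent.Transfer
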