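import Cfsg.Agent.Lib.Transfer.Rank
import Cfsg.Agent.Lib.Solv.PGrp
import Cfsg.Agent.Lib.Comp.Subn
import Cfsg.Prelude.Def_PLocal

/-!
The Thompson subgroup, `Ω₁`, best offenders and the replacement theorems of Thompson and Timmesfeld.
-/

set_option autoImplicit false
set_option linter.unusedSectionVars false
set_option linter.style.haveILetI false

namespace Cfsg.Agent.Transfer

open Subgroup
open scoped commutatorElement

variable {G : Type*} [Group G] {n : ℕ}

/-! ### naturality -/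

theorem map_functor {G' : Type*} [Group G'] {f : G →* G'} {S : Subgroup G} (hf : S ⊓ f.ker = ⊥)
    {W : Subgroup S} {W' : Subgroup (S.map f)} (h : ∀ e : S ≃* S.map f, W.map e.toMonoidHom = W') :
    (W.map S.subtype).map f = W'.map (S.map f).subtype := by
  have hb : Function.Bijective (f.subgroupMap S) := by
    refine ⟨(injective_iff_map_eq_one _).2 fun x hx => Subtype.ext ?_, f.subgroupMap_surjective S⟩
    exact mem_bot.1 (hf ▸ mem_inf.2 ⟨x.2, congrArg Subtype.val hx⟩)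
  rw [← h (MulEquiv.ofBijective _ hb), map_map, map_map]
  rfl

theorem inf_ker_eq_bot_of_injective {G' : Type*} [Group G'] {f : G →* G'} (hf : Function.Injective f)
    (S : Subgroup G) : S ⊓ f.ker = ⊥ := by rw [(MonoidHom.ker_eq_bot_iff f).2 hf, inf_bot_eq]

theorem card_map_of_inf_ker {G' : Type*} [Group G'] {f : G →* G'} {S A : Subgroup G}
    (hf : S ⊓ f.ker = ⊥) (hA : A ≤ S) : Nat.card (A.map f) = Nat.card A := by
  have : A ⊓ f.ker = ⊥ := le_bot_iff.1 (hf ▸ inf_le_inf_right _ hA)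
  rw [← Solv.card_map_mul_card_inf_ker f A, this, card_bot, mul_one]

theorem eq_of_map_eq {G' : Type*} [Group G'] {f : G →* G'} {S : Subgroup G} (hf : S ⊓ f.ker = ⊥)
    {x y : G} (hx : x ∈ S) (hy : y ∈ S) (h : f x = f y) : x = y := by
  rw [← mul_inv_eq_one]
  exact mem_bot.1 (hf ▸ mem_inf.2 ⟨mul_mem hx (inv_mem hy), by
    rw [MonoidHom.mem_ker, map_mul, map_inv, h, mul_inv_cancel]⟩)

theorem inf_ker_mk_eq_bot [Finite G] {p : ℕ} {N S : Subgroup G} [N.Normal] (hN : (Nat.card N).Coprime p)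
    [Fact p.Prime] (hS : IsPGroup p S) : S ⊓ (QuotientGroup.mk' N).ker = ⊥ := by
  obtain ⟨k, hk⟩ := hS.exists_card_eq
  rw [QuotientGroup.ker_mk']
  exact Solv.inf_eq_bot_of_coprime' (by rw [hk]; exact (hN.symm).pow_left k)

theorem map_inf_centralizer {G' : Type*} [Group G'] {f : G →* G'} {S A B : Subgroup G}
    (hf : S ⊓ f.ker = ⊥) (hA : A ≤ S) (hB : B ≤ S) :
    (A ⊓ centralizer (B : Set G)).map f = A.map f ⊓ centralizer ((B.map f : Subgroup G') : Set G') := by
  apply le_antisymm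
  · rintro _ ⟨x, hx, rfl⟩
    refine ⟨⟨x, hx.1, rfl⟩, ?_⟩
    rintro _ ⟨y, hy, rfl⟩
    rw [← map_mul, hx.2 y hy, map_mul]
  · rintro _ ⟨⟨x, hx, rfl⟩, h⟩
    refine ⟨x, ⟨hx, fun y hy => eq_of_map_eq hf (mul_mem (hB hy) (hA hx)) (mul_mem (hA hx) (hB hy)) ?_⟩,
      rfl⟩
    rw [map_mul, map_mul]; exact h _ ⟨y, hy, rfl⟩

/-! ### `Ω₁` -/

theorem omegaOne_le (H : Subgroup G) : omegaOne n H ≤ H := (closure_le _).2 fun _ h => h.1

theorem mem_omegaOne {H : Subgroup G} {x : G} (h1 : x ∈ H) (h2 : x ^ n = 1) : x ∈ omegaOne n H :=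
  subset_closure ⟨h1, h2⟩

theorem omegaOne_le_iff {H K : Subgroup G} : omegaOne n H ≤ K ↔ ∀ x ∈ H, x ^ n = 1 → x ∈ K :=
  (closure_le _).trans ⟨fun h _ h1 h2 => h ⟨h1, h2⟩, fun h _ hx => h _ hx.1 hx.2⟩

theorem omegaOne_mono {H K : Subgroup G} (h : H ≤ K) : omegaOne n H ≤ omegaOne n K :=
  omegaOne_le_iff.2 fun _ h1 h2 => mem_omegaOne (h h1) h2

theorem omegaOne_zero (H : Subgroup G) : omegaOne 0 H = H :=
  le_antisymm (omegaOne_le H) fun _ h => mem_omegaOne h (pow_zero _)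

theorem mem_omegaOne_iff {H : Subgroup G} (hH : IsMulCommutative H) {x : G} :
    x ∈ omegaOne n H ↔ x ∈ H ∧ x ^ n = 1 :=
  ⟨fun h => (omegaOne_le_iff (K := Solv.omegaAb n H hH)).2 (fun _ h1 h2 => ⟨h1, h2⟩) h,
    fun h => mem_omegaOne h.1 h.2⟩

theorem elem_omegaOne {H : Subgroup G} (hH : IsMulCommutative H) :
    IsElementaryAbelian n (omegaOne n H) :=
  ⟨Solv.isMulCommutative_of_le (omegaOne_le H) hH, fun _ h => ((mem_omegaOne_iff hH).1 h).2⟩

theorem le_omegaOne_of_elem {A H : Subgroup G} (hA : IsElementaryAbelian n A) (h : A ≤ H) :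
    A ≤ omegaOne n H := fun x hx => mem_omegaOne (h hx) (hA.2 x hx)

theorem map_omegaOne {G' : Type*} [Group G'] {f : G →* G'} {H : Subgroup G} (hf : H ⊓ f.ker = ⊥) :
    (omegaOne n H).map f = omegaOne n (H.map f) := by
  apply le_antisymm
  · rw [map_le_iff_le_comap, omegaOne_le_iff]
    exact fun x h1 h2 => mem_omegaOne ⟨x, h1, rfl⟩ (by rw [← map_pow, h2, map_one])
  · rw [omegaOne_le_iff]
    rintro _ ⟨x, hx, rfl⟩ h2
    exact ⟨x, mem_omegaOne hx (eq_of_map_eq hf (pow_mem hx n) (one_mem _) (by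
      rw [map_pow, h2, map_one])), rfl⟩

theorem cj_omegaOne (g : G) (H : Subgroup G) : cj g (omegaOne n H) = omegaOne n (cj g H) :=
  map_omegaOne (inf_ker_eq_bot_of_injective (MulAut.conj g).injective H)

theorem mem_normalizer_omegaOne {g : G} {H : Subgroup G} (h : g ∈ normalizer (H : Set G)) :
    g ∈ normalizer (omegaOne n H : Set G) := by
  rw [mem_normalizer_iff_cj, cj_omegaOne, cj_eq_of_mem_normalizer h]

theorem comm_inf_centralizer (S : Subgroup G) :
    IsMulCommutative (S ⊓ centralizer (S : Set G) : Subgroup G) :=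
  comm_iff.2 fun a ha b hb => hb.2 a ha.1

theorem cj_inf_centralizer (g : G) (S T : Subgroup G) :
    cj g (S ⊓ centralizer (T : Set G)) = cj g S ⊓ centralizer (cj g T : Set G) := by
  rw [cj_inf, cj_centralizer]

theorem exists_pow_prime_eq_one [Finite G] {p : ℕ} [hp : Fact p.Prime] {A : Subgroup G}
    (hA : IsPGroup p A) (h : A ≠ ⊥) : ∃ x ∈ A, x ≠ 1 ∧ x ^ p = 1 := by
  obtain ⟨x, hx⟩ := exists_prime_orderOf_dvd_card' (G := A) p
    (hA.card_eq_or_dvd.resolve_left (mt card_eq_one.1 h))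
  refine ⟨x, x.2, fun h1 => hp.out.one_lt.ne' ?_, ?_⟩
  · rw [← hx, orderOf_eq_one_iff]; exact Subtype.ext h1
  · rw [← hx, ← orderOf_coe, pow_orderOf_eq_one]

theorem omegaOne_ne_bot [Finite G] {p : ℕ} [hp : Fact p.Prime] {A : Subgroup G}
    (hA : IsPGroup p A) (h : A ≠ ⊥) : omegaOne p A ≠ ⊥ := by
  obtain ⟨x, h1, h2, h3⟩ := exists_pow_prime_eq_one hA h
  exact fun hb => h2 (mem_bot.1 (hb ▸ mem_omegaOne h1 h3))

theorem inf_centralizer_ne_bot [Finite G] {p : ℕ} [hp : Fact p.Prime] {A S : Subgroup G}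
    (hS : IsPGroup p S) (hA : A ≤ S) (hn : S ≤ normalizer (A : Set G)) (h : A ≠ ⊥) :
    A ⊓ centralizer (S : Set G) ≠ ⊥ :=
  Solv.inf_centralizer_ne_bot_of_nilpotent hS.isNilpotent hA hn h

/-! ### the Thompson subgroup -/

/-- `A` is an abelian subgroup of `S` of exponent dividing `n` of largest order (`n = 0`: no
condition on the exponent). -/
structure MaxE (n : ℕ) (S A : Subgroup G) : Prop where
  le : A ≤ S
  elem : IsElementaryAbelian n A
  max : ∀ B ≤ S, IsElementaryAbelian n B → Nat.card B ≤ Nat.card A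

theorem elem_zero {A : Subgroup G} : IsElementaryAbelian 0 A ↔ IsMulCommutative A :=
  ⟨fun h => h.1, fun h => ⟨h, fun _ _ => pow_zero _⟩⟩

theorem maxAbelian_eq (G : Type*) [Group G] :
    maxAbelianSubgroups G = maxElementaryAbelianSubgroups 0 G := by
  ext A
  simp only [maxAbelianSubgroups, maxElementaryAbelianSubgroups, elem_zero]

theorem JA_eq (S : Subgroup G) : thompsonSubgroupAOf S = thompsonSubgroupOf 0 S := by
  rw [thompsonSubgroupAOf, thompsonSubgroupA, maxAbelian_eq]; rfl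

theorem ZJA_eq (S : Subgroup G) : centerThompsonAOf S = centerThompsonOf 0 S := by
  rw [centerThompsonAOf, JA_eq]; rfl

theorem maxE_top {A : Subgroup G} : MaxE n ⊤ A ↔ A ∈ maxElementaryAbelianSubgroups n G :=
  ⟨fun h => ⟨h.elem, fun B hB => h.max B le_top hB⟩, fun h => ⟨le_top, h.1, fun B _ hB => h.2 B hB⟩⟩

theorem maxE_map_subtype {S : Subgroup G} {A : Subgroup S} :
    MaxE n S (A.map S.subtype) ↔ A ∈ maxElementaryAbelianSubgroups n S := by
  constructor
  · refine fun h => ⟨?_, fun B hB => ?_⟩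
    · have := elem_subgroupOf h.elem S
      rwa [Solv.map_subtype_subgroupOf] at this
    · have := h.max _ (map_subtype_le B) (elem_map hB _)
      rwa [card_subtype, card_subtype] at this
  · refine fun h => ⟨map_subtype_le A, elem_map h.1 _, fun B h1 h2 => ?_⟩
    have := h.2 _ (elem_subgroupOf h2 S)
    rwa [Solv.card_subgroupOf_of_le h1, ← card_subtype] at this

theorem maxE_iff_subgroupOf {S A : Subgroup G} (h : A ≤ S) :
    MaxE n S A ↔ A.subgroupOf S ∈ maxElementaryAbelianSubgroups n S := by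
  rw [← maxE_map_subtype, map_subgroupOf_eq_of_le h]

theorem mem_image_max_iff {S A : Subgroup G} :
    A ∈ (fun B : Subgroup S => B.map S.subtype) '' maxElementaryAbelianSubgroups n S ↔ MaxE n S A :=
  ⟨by rintro ⟨B, hB, rfl⟩; exact maxE_map_subtype.2 hB,
    fun h => ⟨_, (maxE_iff_subgroupOf h.le).1 h, map_subgroupOf_eq_of_le h.le⟩⟩

theorem J_eq (S : Subgroup G) : thompsonSubgroupOf n S = sSup {A | MaxE n S A} := by
  rw [thompsonSubgroupOf, thompsonSubgroup, (gc_map_comap S.subtype).l_sSup, ← sSup_image]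
  congr 1
  ext A
  exact mem_image_max_iff

theorem J_top : thompsonSubgroupOf n (⊤ : Subgroup G) = thompsonSubgroup n G := by
  rw [J_eq, thompsonSubgroup]
  congr 1
  ext A
  exact maxE_top

theorem MaxE.le_J {S A : Subgroup G} (h : MaxE n S A) : A ≤ thompsonSubgroupOf n S := by
  rw [J_eq]; exact le_sSup h

theorem J_le_iff {S K : Subgroup G} : thompsonSubgroupOf n S ≤ K ↔ ∀ A, MaxE n S A → A ≤ K := by
  rw [J_eq]; exact sSup_le_iff

theorem J_le (S : Subgroup G) : thompsonSubgroupOf n S ≤ S := J_le_iff.2 fun _ h => h.le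

theorem map_thompsonSubgroup {G' : Type*} [Group G'] (e : G ≃* G') :
    (thompsonSubgroup n G).map e.toMonoidHom = thompsonSubgroup n G' := by
  have h1 : ∀ A ∈ maxElementaryAbelianSubgroups n G,
      A.map e.toMonoidHom ∈ maxElementaryAbelianSubgroups n G' := fun A hA =>
    ⟨elem_map hA.1 _, fun B hB => by
      have := hA.2 _ (elem_map hB e.symm.toMonoidHom)
      rwa [card_map_of_injective e.symm.injective,
        ← card_map_of_injective (K := A) (f := e.toMonoidHom) e.injective] at this⟩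
  have h2 : ∀ A ∈ maxElementaryAbelianSubgroups n G',
      A.map e.symm.toMonoidHom ∈ maxElementaryAbelianSubgroups n G := fun A hA =>
    ⟨elem_map hA.1 _, fun B hB => by
      have := hA.2 _ (elem_map hB e.toMonoidHom)
      rwa [card_map_of_injective e.injective,
        ← card_map_of_injective (K := A) (f := e.symm.toMonoidHom) e.symm.injective] at this⟩
  exact Solv.map_equiv_eq_of_le e (Solv.map_sSup_le _ fun A hA => le_sSup (h1 A hA))
    (Solv.map_sSup_le _ fun A hA => le_sSup (h2 A hA))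

instance instCharacteristicThompson : (thompsonSubgroup n G).Characteristic :=
  characteristic_iff_map_eq.2 map_thompsonSubgroup

theorem map_J {G' : Type*} [Group G'] {f : G →* G'} {S : Subgroup G} (hf : S ⊓ f.ker = ⊥) :
    (thompsonSubgroupOf n S).map f = thompsonSubgroupOf n (S.map f) :=
  map_functor hf map_thompsonSubgroup

theorem cj_J (g : G) (S : Subgroup G) :
    cj g (thompsonSubgroupOf n S) = thompsonSubgroupOf n (cj g S) :=
  map_J (inf_ker_eq_bot_of_injective (MulAut.conj g).injective S)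

theorem normalizer_le_normalizer_J (S : Subgroup G) :
    normalizer (S : Set G) ≤ normalizer (thompsonSubgroupOf n S : Set G) := fun g h => by
  rw [mem_normalizer_iff_cj, cj_J, cj_eq_of_mem_normalizer h]

theorem J_subgroupOf {S H : Subgroup G} (h : S ≤ H) :
    thompsonSubgroupOf n (S.subgroupOf H) = (thompsonSubgroupOf n S).subgroupOf H := by
  apply map_injective H.subtype_injective
  rw [map_J (inf_ker_eq_bot_of_injective H.subtype_injective _), map_subgroupOf_eq_of_le h,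
    map_subgroupOf_eq_of_le ((J_le S).trans h)]

theorem map_thompsonSubgroup_range {G' : Type*} [Group G'] {f : G →* G'} (hf : Function.Injective f) :
    (thompsonSubgroup n G).map f = thompsonSubgroupOf n f.range := by
  rw [← J_top, map_J (inf_ker_eq_bot_of_injective hf _), MonoidHom.range_eq_map]

theorem ZJ_le_J (S : Subgroup G) : centerThompsonOf n S ≤ thompsonSubgroupOf n S := inf_le_left

theorem ZJ_le (S : Subgroup G) : centerThompsonOf n S ≤ S := (ZJ_le_J S).trans (J_le S)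

theorem comm_ZJ (S : Subgroup G) : IsMulCommutative (centerThompsonOf n S) := comm_inf_centralizer _

theorem map_ZJ {G' : Type*} [Group G'] {f : G →* G'} {S : Subgroup G} (hf : S ⊓ f.ker = ⊥) :
    (centerThompsonOf n S).map f = centerThompsonOf n (S.map f) := by
  rw [centerThompsonOf, map_inf_centralizer hf (J_le S) (J_le S), map_J hf]; rfl

theorem cj_ZJ (g : G) (S : Subgroup G) : cj g (centerThompsonOf n S) = centerThompsonOf n (cj g S) :=
  map_ZJ (inf_ker_eq_bot_of_injective (MulAut.conj g).injective S)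

theorem normalizer_J_le_normalizer_ZJ (S : Subgroup G) :
    normalizer (thompsonSubgroupOf n S : Set G) ≤ normalizer (centerThompsonOf n S : Set G) :=
  fun _ h => mem_normalizer_inf h (mem_normalizer_centralizer h)

theorem normalizer_le_normalizer_ZJ (S : Subgroup G) :
    normalizer (S : Set G) ≤ normalizer (centerThompsonOf n S : Set G) :=
  (normalizer_le_normalizer_J S).trans (normalizer_J_le_normalizer_ZJ S)

theorem map_omegaCenterThompson {G' : Type*} [Group G'] {f : G →* G'} (hf : Function.Injective f) :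
    (omegaCenterThompson n G).map f = omegaOne n (centerThompsonOf n f.range) := by
  rw [omegaCenterThompson, map_omegaOne (inf_ker_eq_bot_of_injective hf _), ← J_top,
    MonoidHom.range_eq_map, ← map_ZJ (inf_ker_eq_bot_of_injective hf _)]
  rfl

theorem map_subtype_omegaCenterThompson (S : Subgroup G) :
    (omegaCenterThompson n S).map S.subtype = omegaOne n (centerThompsonOf n S) := by
  rw [map_omegaCenterThompson S.subtype_injective, range_subtype]

theorem MaxE.cj {S A : Subgroup G} (h : MaxE n S A) (g : G) : MaxE n (cj g S) (cj g A) :=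
  ⟨cj_mono g h.le, elem_cj h.elem g, fun B h1 h2 => by
    have := h.max _ (cj_le_iff_le_cj_inv.2 (by rwa [inv_inv])) (elem_cj h2 g⁻¹)
    rwa [card_cj, ← card_cj g A] at this⟩

theorem MaxE.mono {S T A : Subgroup G} (h : MaxE n S A) (h1 : A ≤ T) (h2 : T ≤ S) : MaxE n T A :=
  ⟨h1, h.elem, fun B h3 h4 => h.max B (h3.trans h2) h4⟩

theorem MaxE.of_card_le {S A B : Subgroup G} (h : MaxE n S A) (h1 : B ≤ S)
    (h2 : IsElementaryAbelian n B) (h3 : Nat.card A ≤ Nat.card B) : MaxE n S B :=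
  ⟨h1, h2, fun C h4 h5 => (h.max C h4 h5).trans h3⟩

theorem MaxE.of_mono {S T A B : Subgroup G} (h : MaxE n S A) (h1 : A ≤ T) (h2 : T ≤ S)
    (hB : MaxE n T B) : MaxE n S B :=
  h.of_card_le (hB.le.trans h2) hB.elem (hB.max A h1 h.elem)

theorem J_mono_of_maxE {S T A : Subgroup G} (h : MaxE n S A) (h1 : A ≤ T) (h2 : T ≤ S) :
    thompsonSubgroupOf n T ≤ thompsonSubgroupOf n S :=
  J_le_iff.2 fun _ hB => (h.of_mono h1 h2 hB).le_J

variable [Finite G]

theorem exists_maxE (n : ℕ) (S : Subgroup G) : ∃ A, MaxE n S A := by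
  obtain ⟨A, hA, h⟩ := Set.exists_max_image {A : Subgroup G | A ≤ S ∧ IsElementaryAbelian n A}
    (fun A => Nat.card A) (Set.toFinite _) ⟨⊥, bot_le, elem_bot⟩
  exact ⟨A, hA.1, hA.2, fun B h1 h2 => h B ⟨h1, h2⟩⟩

theorem J_eq_of_le {S T : Subgroup G} (h1 : thompsonSubgroupOf n S ≤ T) (h2 : T ≤ S) :
    thompsonSubgroupOf n T = thompsonSubgroupOf n S := by
  obtain ⟨A, hA⟩ := exists_maxE n S
  exact le_antisymm (J_mono_of_maxE hA (hA.le_J.trans h1) h2)
    (J_le_iff.2 fun B hB => (hB.mono (hB.le_J.trans h1) h2).le_J)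

theorem MaxE.eq_of_le {S A B : Subgroup G} (h : MaxE n S A) (h1 : B ≤ S)
    (h2 : IsElementaryAbelian n B) (h3 : A ≤ B) : B = A :=
  (eq_of_le_of_card_ge h3 (h.max B h1 h2)).symm

theorem MaxE.mem {S A : Subgroup G} (h : MaxE n S A) {x : G} (h1 : x ∈ S)
    (h2 : x ∈ centralizer (A : Set G)) (h3 : x ^ n = 1) : x ∈ A := by
  rw [← h.eq_of_le (sup_le h.le (zpowers_le.2 h1)) (elem_sup_zpowers h.elem h2 h3) le_sup_left]
  exact mem_sup_right (mem_zpowers x)

theorem MaxE.le_of_centralizer {S A B : Subgroup G} (h : MaxE n S A) (h1 : B ≤ S)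
    (h2 : B ≤ centralizer (A : Set G)) (h3 : ∀ x ∈ B, x ^ n = 1) : B ≤ A :=
  fun x hx => h.mem (h1 hx) (h2 hx) (h3 x hx)

theorem MaxE.mem_of_J {S A : Subgroup G} (h : MaxE n S A) {x : G} (h1 : x ∈ S)
    (h2 : x ∈ centralizer (thompsonSubgroupOf n S : Set G)) (h3 : x ^ n = 1) : x ∈ A :=
  h.mem h1 (centralizer_le h.le_J h2) h3

theorem mem_ZJ {S : Subgroup G} {x : G} (h1 : x ∈ S)
    (h2 : x ∈ centralizer (thompsonSubgroupOf n S : Set G)) (h3 : x ^ n = 1) :
    x ∈ centerThompsonOf n S := by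
  obtain ⟨A, hA⟩ := exists_maxE n S
  exact ⟨hA.le_J (hA.mem_of_J h1 h2 h3), h2⟩

theorem omegaOne_center_le_ZJ (S : Subgroup G) :
    omegaOne n (S ⊓ centralizer (S : Set G)) ≤ omegaOne n (centerThompsonOf n S) :=
  omegaOne_le_iff.2 fun _ h1 h2 => mem_omegaOne (mem_ZJ h1.1 (centralizer_le (J_le S) h1.2) h2) h2

variable {p : ℕ} [hp : Fact p.Prime]

theorem omegaOne_center_ne_bot {S : Subgroup G} (hS : IsPGroup p S) (h : S ≠ ⊥) :
    omegaOne p (S ⊓ centralizer (S : Set G)) ≠ ⊥ :=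
  omegaOne_ne_bot (hS.to_le inf_le_left) (inf_centralizer_ne_bot hS le_rfl le_normalizer h)

theorem ZJ_ne_bot (hn : n = p ∨ n = 0) {S : Subgroup G} (hS : IsPGroup p S) (h : S ≠ ⊥) :
    centerThompsonOf n S ≠ ⊥ := by
  intro hb
  have := omegaOne_center_le_ZJ (n := n) S
  rw [hb] at this
  have h2 := le_bot_iff.1 (this.trans (omegaOne_le _))
  rcases hn with rfl | rfl
  · exact omegaOne_center_ne_bot hS h h2
  · rw [omegaOne_zero] at h2
    exact inf_centralizer_ne_bot hS le_rfl le_normalizer h h2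

theorem J_ne_bot (hn : n = p ∨ n = 0) {S : Subgroup G} (hS : IsPGroup p S) (h : S ≠ ⊥) :
    thompsonSubgroupOf n S ≠ ⊥ := fun hb => ZJ_ne_bot hn hS h (le_bot_iff.1 (hb ▸ ZJ_le_J S))

theorem IsSyl.maxE {S H A : Subgroup G} (hS : IsSyl p S H) (h : MaxE p S A) : MaxE p H A :=
  ⟨h.le.trans hS.le, h.elem, fun B h1 h2 => by
    obtain ⟨g, -, hg⟩ := hS.exists_cj_le (elem_isPGroup h2) h1
    rw [← card_cj g]
    exact h.max _ hg (elem_cj h2 g)⟩

theorem IsSyl.J_le {S H : Subgroup G} (hS : IsSyl p S H) :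
    thompsonSubgroupOf p S ≤ thompsonSubgroupOf p H := J_le_iff.2 fun _ h => (hS.maxE h).le_J

theorem thompsonSubgroup_eq_iSup :
    thompsonSubgroup p G = ⨆ S : Sylow p G, thompsonSubgroupOf p (S : Subgroup G) := by
  rw [← J_top]
  refine le_antisymm (J_le_iff.2 fun A hA => ?_) (iSup_le fun S => (isSyl_top S).J_le)
  obtain ⟨S, hS⟩ := (elem_isPGroup hA.elem).exists_le_sylow
  exact le_iSup_of_le S (hA.mono hS le_top).le_J

/-- Frattini argument with the Thompson subgroup -/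
theorem IsSyl.frattini_J {S H L : Subgroup G} (hS : IsSyl p S H) (hL : L ≤ H)
    (hn : H ≤ normalizer (L : Set G)) (hJ : thompsonSubgroupOf n S ≤ L) {g : G} (hg : g ∈ H) :
    ∃ k ∈ L, ∃ m ∈ normalizer (thompsonSubgroupOf n S : Set G), g = k * m := by
  obtain ⟨k, hk, m, hm, h⟩ := (hS.inf_of_le_normalizer hL hn).frattini (hn hg)
  refine ⟨k, hk, m, ?_, h⟩
  rw [← J_eq_of_le (le_inf (Transfer.J_le S) hJ) inf_le_left]
  exact normalizer_le_normalizer_J _ hm

theorem IsSyl.le_of_res_le {S H D K : Subgroup G} (hS : IsSyl p S H) (hD : D ≤ H)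
    (hn : H ≤ normalizer (D : Set G)) (h1 : res p D ≤ K) (h2 : S ⊓ D ≤ K) : D ≤ K := by
  rw [← (hS.inf_of_le_normalizer hD hn).res_sup]
  exact sup_le h1 h2

omit hp [Finite G] in
theorem commutator_sup_left_of_le_centralizer {W C A : Subgroup G} (hC : C ≤ centralizer (A : Set G))
    (hn : C ≤ normalizer (W : Set G)) : ⁅W ⊔ C, A⁆ = ⁅W, A⁆ := by
  refine le_antisymm (commutator_le.2 fun x hx a ha => ?_) (commutator_mono le_sup_left le_rfl)
  obtain ⟨w, hw, c, hc, rfl⟩ := (mem_sup_iff_of_le_normalizer' hn).1 hx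
  have : ⁅w * c, a⁆ = ⁅w, a⁆ := by
    rw [commutatorElement_def, commutatorElement_def, mul_assoc w c, ← hC hc a ha]; group
  rw [this]
  exact commutator_mem_commutator hw ha

omit hp [Finite G] in
theorem commutator_sup_right_of_le_centralizer {W C A : Subgroup G} (hC : C ≤ centralizer (W : Set G))
    (hn : A ≤ normalizer (C : Set G)) : ⁅W, C ⊔ A⁆ = ⁅W, A⁆ := by
  refine le_antisymm (commutator_le.2 fun w hw x hx => ?_) (commutator_mono le_rfl le_sup_right)
  rw [sup_comm] at hx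
  obtain ⟨a, ha, c, hc, rfl⟩ := (mem_sup_iff_of_le_normalizer hn).1 hx
  have : ⁅w, a * c⁆ = ⁅w, a⁆ := by
    have := hC hc w⁻¹ (inv_mem hw)
    rw [commutatorElement_def, commutatorElement_def, mul_assoc w (a * c), mul_assoc a, ← this]; group
  rw [this]
  exact commutator_mem_commutator hw ha

theorem eq_bot_of_le_commutator_of_res {W A : Subgroup G} (hW : IsPGroup p W)
    (hA : A ≤ normalizer (W : Set G)) (hr : res p A ≤ centralizer (W : Set G)) (h : W ≤ ⁅W, A⁆) :
    W = ⊥ := by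
  obtain ⟨S, hS⟩ := exists_isSyl p A
  rw [← hS.res_sup, commutator_sup_right_of_le_centralizer hr (hS.le.trans (le_normalizer_res A))] at h
  exact eq_bot_of_le_commutator (Solv.isPGroup_sup hS.pgroup hW (hS.le.trans hA)) le_sup_right
    (h.trans (commutator_mono le_rfl le_sup_left))

theorem res_le_of_pow_mem {A K : Subgroup G} (h : ∀ a ∈ A, a ^ p ∈ K) : res p A ≤ K := by
  rw [res_le_iff]
  intro g hg hc
  exact zpowers_le.2 (h g hg) (mem_zpowers_pow_iff.2 hc.symm)

/-! ### action on an abelian group -/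

omit hp [Finite G] in
def commHom {V : Subgroup G} (hV : IsMulCommutative V) {a : G} (ha : a ∈ normalizer (V : Set G)) :
    V →* G := MonoidHom.mk' (fun v => ⁅a, (v : G)⁆) fun v w => by
  have h1 := comm_iff.1 hV _ (inv_mem v.2) _ (mul_mem (conj_mem_of_mem_normalizer ha w.2) (inv_mem w.2))
  simp only [commutatorElement_def, coe_mul]
  calc a * (v * w) * a⁻¹ * ((v : G) * w)⁻¹ = a * v * a⁻¹ * (a * w * a⁻¹ * (w : G)⁻¹ * (v : G)⁻¹) := by group
    _ = _ := by rw [← h1]; group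

theorem commHom_range {V : Subgroup G} (hV : IsMulCommutative V) {a : G}
    (ha : a ∈ normalizer (V : Set G)) : (commHom hV ha).range = ⁅V, zpowers a⁆ := by
  rw [commutator_comm]
  apply le_antisymm
  · rintro _ ⟨v, rfl⟩
    exact commutator_mem_commutator (mem_zpowers a) v.2
  · rw [commutator_le]
    intro x hx
    obtain ⟨k, rfl⟩ := (mem_powers_iff_mem_zpowers).2 hx
    clear hx
    induction k with
    | zero => intro v _; simp
    | succ k ih =>
      intro v hv
      have : ⁅a ^ (k + 1), v⁆ = ⁅a ^ k, a * v * a⁻¹⁆ * ⁅a, v⁆ := by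
        simp only [commutatorElement_def, pow_succ]; group
      change ⁅a ^ (k + 1), v⁆ ∈ _
      rw [this]
      exact mul_mem (ih _ (conj_mem_of_mem_normalizer ha hv)) ⟨⟨v, hv⟩, rfl⟩

theorem mem_commutator_zpowers {V : Subgroup G} (hV : IsMulCommutative V) {a : G}
    (ha : a ∈ normalizer (V : Set G)) {x : G} : x ∈ ⁅V, zpowers a⁆ ↔ ∃ v ∈ V, ⁅a, v⁆ = x := by
  rw [← commHom_range hV ha]
  exact ⟨fun ⟨v, h⟩ => ⟨v, v.2, h⟩, fun ⟨v, hv, h⟩ => ⟨⟨v, hv⟩, h⟩⟩

theorem card_commutator_zpowers {V : Subgroup G} (hV : IsMulCommutative V) {a : G}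
    (ha : a ∈ normalizer (V : Set G)) :
    Nat.card (⁅V, zpowers a⁆ : Subgroup G) *
      Nat.card (V ⊓ centralizer (zpowers a : Set G) : Subgroup G) = Nat.card V := by
  have h1 : (commHom hV ha).ker = (centralizer (zpowers a : Set G)).subgroupOf V := by
    ext v
    rw [MonoidHom.mem_ker, mem_subgroupOf, mem_centralizer_zpowers, Commute.symm_iff,
      ← commutatorElement_eq_one_iff_commute]
    rfl
  rw [← commHom_range hV ha, inf_comm, ← Solv.card_subgroupOf, ← h1, ← index_ker, mul_comm,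
    card_mul_index]

omit hp [Finite G] in
theorem conj_pow_of_commute {a v : G} (h : Commute a ⁅a, v⁆) (k : ℕ) :
    a ^ k * v * (a ^ k)⁻¹ = ⁅a, v⁆ ^ k * v := by
  induction k with
  | zero => simp
  | succ k ih =>
    calc a ^ (k + 1) * v * (a ^ (k + 1))⁻¹ = a * (a ^ k * v * (a ^ k)⁻¹) * a⁻¹ := by
          rw [pow_succ']; group
      _ = a * ⁅a, v⁆ ^ k * v * a⁻¹ := by rw [ih]; group
      _ = ⁅a, v⁆ ^ (k + 1) * v := by
          rw [(h.pow_right k).eq, pow_succ, commutatorElement_def]; group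

omit hp [Finite G] in
theorem commute_of_commutator_eq_bot {A B : Subgroup G} (h : ⁅A, B⁆ = ⊥) {a b : G} (ha : a ∈ A)
    (hb : b ∈ B) : Commute a b :=
  commutatorElement_eq_one_iff_commute.1 (mem_bot.1 (h ▸ commutator_mem_commutator ha hb))

omit hp [Finite G] in
theorem pow_mem_centralizer_of_quad {V H : Subgroup G} (hV : IsElementaryAbelian n V)
    (hHV : H ≤ normalizer (V : Set G)) (hq : ⁅⁅V, H⁆, H⁆ = ⊥) {a : G} (ha : a ∈ H) :
    a ^ n ∈ centralizer (V : Set G) := by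
  intro v hv
  have h1 : ⁅a, v⁆ ∈ ⁅V, H⁆ := by rw [commutator_comm]; exact commutator_mem_commutator ha hv
  have h2 := conj_pow_of_commute (commute_of_commutator_eq_bot hq h1 ha).symm n
  rw [hV.2 _ (Solv.commutator_le_left_of_le_normalizer hHV h1), one_mul] at h2
  rw [← mul_inv_eq_iff_eq_mul.1 h2]

omit hp [Finite G] in
theorem commutator_le_centralizer_of_quad {V H : Subgroup G} (hq : ⁅⁅V, H⁆, H⁆ = ⊥) :
    ⁅H, H⁆ ≤ centralizer (V : Set G) :=
  commutator_eq_bot_iff_le_centralizer.1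
    (commutator_commutator_eq_bot_of_rotate (by rwa [commutator_comm H V]) hq)

/-! ### replacement -/

omit hp in
theorem replacement_single {V A : Subgroup G} (hV : IsMulCommutative V)
    (hAV : A ≤ normalizer (V : Set G)) (hab : ⁅A, A⁆ ≤ centralizer (V : Set G)) {u : G} (hu : u ∈ V)
    {Y : Subgroup G} (hY : Y = closure {x | ∃ a ∈ A, ⁅u, a⁆ = x}) :
    Nat.card A * Nat.card (V ⊓ centralizer (A : Set G) : Subgroup G) ≤
      Nat.card (Y ⊔ (V ⊓ centralizer (A : Set G)) : Subgroup G) *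
        Nat.card (A ⊓ centralizer (Y : Set G) : Subgroup G) := by
  have hc := comm_iff.1 hV
  have h0 := cnt_prod (fun a : G => a ∈ A) (fun c : G => c ∈ V ⊓ centralizer (A : Set G))
  refine le_trans h0.ge (cnt_le_mul (p := fun x : G × G => x.1 ∈ A ∧ x.2 ∈ V ⊓ centralizer (A : Set G))
    (q := fun y : G => y ∈ Y ⊔ (V ⊓ centralizer (A : Set G))) (fun x y => ⁅u, x.1⁆ * x.2 = y)
    (fun x hx => ⟨_, mul_mem (mem_sup_left (hY ▸ subset_closure ⟨_, hx.1, rfl⟩)) (mem_sup_right hx.2),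
      rfl⟩) fun y _ => ?_)
  by_cases hne : ∃ x : G × G, (x.1 ∈ A ∧ x.2 ∈ V ⊓ centralizer (A : Set G)) ∧ ⁅u, x.1⁆ * x.2 = y
  swap
  · rw [cnt_eq_zero (not_exists.1 hne)]; exact Nat.zero_le _
  obtain ⟨⟨a₀, c₀⟩, ⟨ha₀, hc₀⟩, h₀⟩ := hne
  refine cnt_le_of_injOn (q := fun d : G => d ∈ A ⊓ centralizer (Y : Set G)) (fun x => a₀⁻¹ * x.1)
    ?_ ?_
  · rintro ⟨a, c⟩ ⟨⟨ha, hc'⟩, h⟩
    have hd : a₀⁻¹ * a ∈ A := mul_mem (inv_mem ha₀) ha
    refine ⟨hd, ?_⟩
    change ⁅u, a⁆ * c = y at h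
    change ⁅u, a₀⁆ * c₀ = y at h₀
    change a₀⁻¹ * a ∈ centralizer (Y : Set G)
    have e1 : a₀⁻¹ * a * u * (a₀⁻¹ * a)⁻¹ = c₀⁻¹ * c * u := by
      have e : a * u * a⁻¹ = c * c₀⁻¹ * (a₀ * u * a₀⁻¹) := by
        calc a * u * a⁻¹ = c * (⁅u, a⁆ * c)⁻¹ * u := by simp only [commutatorElement_def]; group
          _ = c * (⁅u, a₀⁆ * c₀)⁻¹ * u := by rw [h, h₀]
          _ = _ := by simp only [commutatorElement_def]; group
      have e2 := (mul_mem hc' (inv_mem hc₀)).2 a₀⁻¹ (inv_mem ha₀)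
      calc a₀⁻¹ * a * u * (a₀⁻¹ * a)⁻¹ = a₀⁻¹ * (a * u * a⁻¹) * a₀ := by group
        _ = (a₀⁻¹ * (c * c₀⁻¹)) * (a₀ * u) := by rw [e]; group
        _ = c₀⁻¹ * c * u := by rw [e2, hc _ hc'.1 _ (inv_mem hc₀.1)]; group
    have hz : c₀⁻¹ * c ∈ V ⊓ centralizer (A : Set G) := mul_mem (inv_mem hc₀) hc'
    generalize a₀⁻¹ * a = d at *
    generalize c₀⁻¹ * c = z at *
    rw [← zpowers_le, le_centralizer_iff, hY, closure_le]
    rintro _ ⟨b, hb, rfl⟩
    rw [SetLike.mem_coe, mem_centralizer_zpowers, Commute.symm_iff, commute_iff_conj]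
    have e3 : d * (b * u * b⁻¹) * d⁻¹ = z * (b * u * b⁻¹) := by
      have := hab (commutator_mem_commutator (inv_mem hb) hd) _ (conj_mem_of_mem_normalizer (hAV hd) hu)
      calc d * (b * u * b⁻¹) * d⁻¹
          = b * ⁅b⁻¹, d⁆ * (d * u * d⁻¹) * ⁅b⁻¹, d⁆⁻¹ * b⁻¹ := by
            simp only [commutatorElement_def]; group
        _ = b * (d * u * d⁻¹) * b⁻¹ := by rw [mul_assoc b, ← this]; group
        _ = z * (b * u * b⁻¹) := by rw [e1, ← mul_assoc, hz.2 b hb]; group
    calc d * ⁅u, b⁆ * d⁻¹ = d * u * d⁻¹ * (d * (b * u * b⁻¹) * d⁻¹)⁻¹ := by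
          simp only [commutatorElement_def]; group
      _ = z * ⁅u, b⁆ * z⁻¹ := by rw [e1, e3]; simp only [commutatorElement_def]; group
      _ = ⁅u, b⁆ := by
          rw [hc z hz.1 _ (Solv.commutator_le_left_of_le_normalizer hAV (commutator_mem_commutator hu hb)),
            mul_inv_cancel_right]
  · rintro ⟨a, c⟩ ⟨a', c'⟩ ⟨-, h1⟩ ⟨-, h2⟩ h3
    have h4 : a = a' := mul_left_cancel h3
    subst h4
    exact Prod.ext rfl (mul_left_cancel (h1.trans h2.symm))

/-- the measure `|B| |C_V(B)|` -/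
noncomputable abbrev ms (V B : Subgroup G) : ℕ :=
  Nat.card B * Nat.card (V ⊓ centralizer (B : Set G) : Subgroup G)

omit hp [Finite G] in
theorem centralizer_sup (A B : Subgroup G) :
    centralizer ((A ⊔ B : Subgroup G) : Set G) = centralizer (A : Set G) ⊓ centralizer (B : Set G) := by
  ext x
  simp only [← zpowers_le, le_inf_iff, le_centralizer_iff (K := A ⊔ B), le_centralizer_iff (K := A),
    le_centralizer_iff (K := B), sup_le_iff]

omit hp [Finite G] in
theorem le_normalizer_of_comm {V A B : Subgroup G} (hV : IsMulCommutative V) (hA : A ≤ V) (hB : B ≤ V) :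
    A ≤ normalizer (B : Set G) :=
  fun a ha => centralizer_le_normalizer _ fun b hb => comm_iff.1 hV b (hB hb) a (hA ha)

omit hp in
theorem replacement_sup {V A Y₁ Y₂ : Subgroup G} (hV : IsMulCommutative V)
    (hab : ⁅A, A⁆ ≤ centralizer (V : Set G)) (hmax : ∀ B ≤ A, ms V B ≤ ms V A)
    (h₁ : Y₁ ≤ V) (h₂ : Y₂ ≤ V)
    (m₁ : ms V A ≤ ms V (A ⊓ centralizer (Y₁ : Set G))) (m₂ : ms V A ≤ ms V (A ⊓ centralizer (Y₂ : Set G))) :
    ms V A ≤ Nat.card (A ⊓ centralizer ((Y₁ ⊔ Y₂ : Subgroup G) : Set G) : Subgroup G) *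
      Nat.card ((V ⊓ centralizer ((A ⊓ centralizer (Y₁ : Set G) : Subgroup G) : Set G)) ⊔
        (V ⊓ centralizer ((A ⊓ centralizer (Y₂ : Set G) : Subgroup G) : Set G)) : Subgroup G) := by
  have he : A ⊓ centralizer ((Y₁ ⊔ Y₂ : Subgroup G) : Set G) =
      (A ⊓ centralizer (Y₁ : Set G)) ⊓ (A ⊓ centralizer (Y₂ : Set G)) := by
    rw [centralizer_sup, inf_inf_distrib_left]
  rw [he]
  have hB₁ : A ⊓ centralizer (Y₁ : Set G) ≤ A := inf_le_left
  have hB₂ : A ⊓ centralizer (Y₂ : Set G) ≤ A := inf_le_left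
  have hn : A ≤ normalizer ((A ⊓ centralizer (Y₂ : Set G) : Subgroup G) : Set G) :=
    Solv.le_normalizer_of_commutator_le_of_le (N := ⁅A, A⁆) (commutator_mono hB₂ le_rfl)
      (le_inf (commutator_le_self A) (hab.trans (centralizer_le h₂)))
  generalize A ⊓ centralizer (Y₁ : Set G) = B₁ at *
  generalize A ⊓ centralizer (Y₂ : Set G) = B₂ at *
  have e1 := card_sup_mul_card_inf (hB₁.trans hn)
  have e2 := card_sup_mul_card_inf (le_normalizer_of_comm hV
    (inf_le_left : V ⊓ centralizer (B₁ : Set G) ≤ V) (inf_le_left : V ⊓ centralizer (B₂ : Set G) ≤ V))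
  rw [← inf_inf_distrib_left, ← centralizer_sup] at e2
  have e3 := hmax _ (sup_le hB₁ hB₂)
  have e4 : 0 < ms V A := Nat.mul_pos Nat.card_pos Nat.card_pos
  refine Nat.le_of_mul_le_mul_left ?_ e4
  refine (Nat.mul_le_mul m₁ m₂).trans (le_trans (le_of_eq ?_) (Nat.mul_le_mul_right _ e3))
  simp only [ms]
  rw [mul_mul_mul_comm, ← e1, ← e2]
  ring

omit hp in
theorem replacement {V A U : Subgroup G} (hV : IsMulCommutative V)
    (hAV : A ≤ normalizer (V : Set G)) (hab : ⁅A, A⁆ ≤ centralizer (V : Set G))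
    (hmax : ∀ B ≤ A, ms V B ≤ ms V A) (hU : U ≤ V) :
    V ⊓ centralizer ((A ⊓ centralizer ((⁅U, A⁆ : Subgroup G) : Set G) : Subgroup G) : Set G) =
        ⁅U, A⁆ ⊔ (V ⊓ centralizer (A : Set G)) ∧
      ms V A = ms V (A ⊓ centralizer ((⁅U, A⁆ : Subgroup G) : Set G)) := by
  have key : ∀ Y ≤ V, ms V A ≤ Nat.card (A ⊓ centralizer (Y : Set G) : Subgroup G) *
      Nat.card (Y ⊔ (V ⊓ centralizer (A : Set G)) : Subgroup G) →
      V ⊓ centralizer ((A ⊓ centralizer (Y : Set G) : Subgroup G) : Set G) =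
        Y ⊔ (V ⊓ centralizer (A : Set G)) ∧ ms V A = ms V (A ⊓ centralizer (Y : Set G)) := by
    intro Y hY h
    have h1 : Y ⊔ (V ⊓ centralizer (A : Set G)) ≤
        V ⊓ centralizer ((A ⊓ centralizer (Y : Set G) : Subgroup G) : Set G) :=
      sup_le (le_inf hY (le_centralizer_iff.1 inf_le_right))
        (inf_le_inf_left _ (centralizer_le (fun _ h => h.1)))
    have h2 := hmax _ (inf_le_left : A ⊓ centralizer (Y : Set G) ≤ A)
    exact ⟨(eq_of_le_of_card_ge h1 (Nat.le_of_mul_le_mul_left (h2.trans h) Nat.card_pos)).symm,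
      le_antisymm (h.trans (Nat.mul_le_mul_left _ (card_le_of_le h1))) h2⟩
  have he : ⁅U, A⁆ = ⨆ u : U, closure {x | ∃ a ∈ A, ⁅(u : G), a⁆ = x} := by
    refine le_antisymm (commutator_le.2 fun u hu a ha => ?_) (iSup_le fun u => (closure_le _).2 ?_)
    · exact mem_iSup_of_mem ⟨u, hu⟩ (subset_closure ⟨a, ha, rfl⟩)
    · rintro _ ⟨a, ha, rfl⟩
      exact commutator_mem_commutator u.2 ha
  rw [he]
  refine (Comp.iSup_induction_finite (P := fun Y => Y ≤ V ∧
    V ⊓ centralizer ((A ⊓ centralizer (Y : Set G) : Subgroup G) : Set G) =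
        Y ⊔ (V ⊓ centralizer (A : Set G)) ∧ ms V A = ms V (A ⊓ centralizer (Y : Set G))) ?_ ?_ ?_).2
  · refine ⟨bot_le, key _ bot_le (le_of_eq ?_)⟩
    rw [coe_bot, bot_sup_eq, centralizer_eq_top_iff_subset.2 (by simp), inf_top_eq]
  · intro u
    have h1 : closure {x | ∃ a ∈ A, ⁅(u : G), a⁆ = x} ≤ V := (closure_le _).2 (by
      rintro _ ⟨a, ha, rfl⟩
      exact Solv.commutator_le_left_of_le_normalizer hAV (commutator_mem_commutator (hU u.2) ha))
    exact ⟨h1, key _ h1 (mul_comm (Nat.card _) _ ▸ replacement_single hV hAV hab (hU u.2) rfl)⟩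
  · rintro Y₁ Y₂ ⟨h₁, a₁, b₁⟩ ⟨h₂, a₂, b₂⟩
    refine ⟨sup_le h₁ h₂, key _ (sup_le h₁ h₂) ?_⟩
    have := replacement_sup hV hab hmax h₁ h₂ b₁.le b₂.le
    rwa [a₁, a₂, ← sup_sup_distrib_right] at this

theorem timmesfeld {V A U : Subgroup G} (hV : IsElementaryAbelian p V)
    (hAV : A ≤ normalizer (V : Set G)) (hA : IsBestOffenderOn p V A) (hU : U ≤ V) :
    IsBestOffenderOn p V (A ⊓ centralizer ((⁅U, A⁆ : Subgroup G) : Set G)) ∧
      (⁅V, A⁆ ≠ ⊥ → ⁅V, A ⊓ centralizer ((⁅U, A⁆ : Subgroup G) : Set G)⁆ ≠ ⊥) := by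
  obtain ⟨h1, h2⟩ := replacement hV.1 hAV hA.2.1 hA.1 hU
  refine ⟨⟨fun B hB => (hA.1 B (hB.trans inf_le_left)).trans h2.le,
    (commutator_mono inf_le_left inf_le_left).trans hA.2.1, fun a ha => hA.2.2 a ha.1⟩,
    fun h3 h4 => h3 ?_⟩
  rw [inf_eq_left.2 (commutator_eq_bot_iff_le_centralizer.1 h4)] at h1
  have h5 := Solv.commutator_le_left_of_le_normalizer hAV
  refine eq_bot_of_le_commutator_of_res ((elem_isPGroup hV).to_le h5)
    (fun a ha => mem_normalizer_commutator (hAV ha) (le_normalizer ha))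
    ((res_le_of_pow_mem hA.2.2).trans (centralizer_le h5)) ?_
  nth_rewrite 1 [h1]
  rw [commutator_sup_left_of_le_centralizer inf_le_right
    (le_normalizer_of_comm hV.1 inf_le_left ((commutator_mono hU le_rfl).trans h5))]
  exact commutator_mono (commutator_mono hU le_rfl) le_rfl

omit hp in
theorem MaxE.inf_centralizer_eq {S A V : Subgroup G} (hA : MaxE n S A) (hV : IsElementaryAbelian n V)
    (hVS : V ≤ S) : V ⊓ centralizer (A : Set G) = V ⊓ A :=
  le_antisymm (le_inf inf_le_left (hA.le_of_centralizer (inf_le_left.trans hVS) inf_le_right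
    fun x hx => hV.2 x hx.1)) (inf_le_inf_left _ (comm_iff_le_centralizer.1 hA.elem.1))

omit hp in
theorem MaxE.bestOffender {S A V : Subgroup G} (hA : MaxE n S A) (hV : IsElementaryAbelian n V)
    (hVS : V ≤ S) : IsBestOffenderOn n V A := by
  refine ⟨fun B hB => ?_, ?_, fun a ha => by rw [hA.elem.2 a ha]; exact one_mem _⟩
  · have h1 := hA.max _ (sup_le (hB.trans hA.le) (inf_le_left.trans hVS))
      (elem_sup (elem_mono hA.elem hB) (elem_mono hV inf_le_left)
        (le_centralizer_iff.1 (inf_le_right : V ⊓ centralizer (B : Set G) ≤ _)))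
    rw [← card_sup_mul_card_inf ((le_centralizer_iff.1 inf_le_right).trans (centralizer_le_normalizer _)),
      hA.inf_centralizer_eq hV hVS]
    exact Nat.mul_le_mul h1 (card_le_of_le (le_inf (inf_le_right.trans inf_le_left) (inf_le_left.trans hB)))
  · rw [commutator_eq_bot_iff_le_centralizer.2 (comm_iff_le_centralizer.1 hA.elem.1)]; exact bot_le

theorem MaxE.replace {S A V : Subgroup G} (hA : MaxE p S A) (hV : IsElementaryAbelian p V)
    (hVS : V ≤ S) (hAV : A ≤ normalizer (V : Set G)) {A₀ : Subgroup G}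
    (h₀ : A₀ = ⁅V, A⁆ ⊔ (A ⊓ centralizer ((⁅V, A⁆ : Subgroup G) : Set G))) :
    MaxE p S A₀ ∧ ⁅⁅V, A₀⁆, A₀⁆ = ⊥ ∧ (⁅V, A⁆ ≠ ⊥ → ⁅V, A₀⁆ ≠ ⊥) := by
  have hb := hA.bestOffender hV hVS
  obtain ⟨h1, h2⟩ := replacement hV.1 hAV hb.2.1 hb.1 le_rfl
  have h5 := Solv.commutator_le_left_of_le_normalizer hAV
  have h6 : ⁅V, A₀⁆ = ⁅V, A ⊓ centralizer ((⁅V, A⁆ : Subgroup G) : Set G)⁆ := by
    rw [h₀, commutator_sup_right_of_le_centralizer (h5.trans (comm_iff_le_centralizer.1 hV.1))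
      (inf_le_right.trans (centralizer_le_normalizer _))]
  have hVA : V ⊓ A ≤ A ⊓ centralizer ((⁅V, A⁆ : Subgroup G) : Set G) :=
    le_inf inf_le_right (inf_le_left.trans ((comm_iff_le_centralizer.1 hV.1).trans (centralizer_le h5)))
  have he : IsElementaryAbelian p A₀ := h₀ ▸ elem_sup (elem_mono hV h5) (elem_mono hA.elem inf_le_left)
    (le_centralizer_iff.1 inf_le_right)
  refine ⟨hA.of_card_le (h₀ ▸ sup_le (h5.trans hVS) (inf_le_left.trans hA.le)) he ?_, ?_,
    fun h => h6 ▸ (timmesfeld hV hAV hb le_rfl).2 h⟩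
  · have hB : A ⊓ centralizer ((⁅V, A⁆ : Subgroup G) : Set G) ≤ A := inf_le_left
    generalize A ⊓ centralizer ((⁅V, A⁆ : Subgroup G) : Set G) = B at *
    have e1 := card_sup_mul_card_inf (H := B) (N := V ⊓ centralizer (B : Set G))
      ((le_centralizer_iff.1 inf_le_right).trans (centralizer_le_normalizer _))
    have e2 : B ⊔ V ⊓ centralizer (B : Set G) = A₀ := by
      rw [h1, hA.inf_centralizer_eq hV hVS, h₀, sup_comm, sup_assoc, sup_eq_right.2 hVA]
    have e3 : B ⊓ (V ⊓ centralizer (B : Set G)) = V ⊓ centralizer (A : Set G) := by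
      rw [hA.inf_centralizer_eq hV hVS]
      exact le_antisymm (le_inf (inf_le_right.trans inf_le_left) (inf_le_left.trans hB))
        (le_inf hVA (inf_le_inf_left _ ((comm_iff_le_centralizer.1 hA.elem.1).trans (centralizer_le hB))))
    rw [e2, e3] at e1
    exact (Nat.eq_of_mul_eq_mul_right Nat.card_pos (h2.trans e1.symm)).le
  · rw [commutator_eq_bot_iff_le_centralizer, h6]
    exact ((commutator_mono le_rfl inf_le_left).trans (h₀ ▸ le_sup_left)).trans
      (comm_iff_le_centralizer.1 he.1)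

/-- if `J(S)` does not centralize `V`, some member acts quadratically and nontrivially -/
theorem exists_quad_of_not_J_le {S V : Subgroup G} (hV : IsElementaryAbelian p V) (hVS : V ≤ S)
    (hn : S ≤ normalizer (V : Set G)) (h : ¬ thompsonSubgroupOf p S ≤ centralizer (V : Set G)) :
    ∃ A, MaxE p S A ∧ ⁅⁅V, A⁆, A⁆ = ⊥ ∧ ¬ A ≤ centralizer (V : Set G) := by
  obtain ⟨A, hA, h1⟩ : ∃ A, MaxE p S A ∧ ¬ A ≤ centralizer (V : Set G) := by
    by_contra hc
    push Not at hc
    exact h (J_le_iff.2 hc)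
  obtain ⟨h2, h3, h4⟩ := hA.replace hV hVS (hA.le.trans hn) rfl
  refine ⟨_, h2, h3, fun h5 => h4 (fun h6 => h1 ?_) ?_⟩
  · exact le_centralizer_iff.1 (commutator_eq_bot_iff_le_centralizer.1 h6)
  · exact commutator_eq_bot_iff_le_centralizer.2 (le_centralizer_iff.1 h5)

end Cfsg.Agent.Transfer
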