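import Mathlib.GroupTheory.Sylow
import Mathlib.GroupTheory.Nilpotent
import Mathlib.GroupTheory.Commutator.Basic
import Mathlib.GroupTheory.Index
import Mathlib.Algebra.Group.Subgroup.Pointwise

/-!
Conjugate subgroups and Sylow subgroups of a subgroup, written with subgroups of the ambient group.
-/

set_option autoImplicit false
set_option linter.unusedSectionVars false
set_option linter.style.haveILetI false

namespace Cfsg.Agent.Transfer

open Subgroup

variable {G : Type*} [Group G]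

/-- The conjugate `g H g⁻¹`. -/
abbrev cj (g : G) (H : Subgroup G) : Subgroup G := H.map (MulAut.conj g).toMonoidHom

theorem mem_cj {g x : G} {H : Subgroup G} : x ∈ cj g H ↔ g⁻¹ * x * g ∈ H := by
  constructor
  · rintro ⟨y, hy, rfl⟩
    simpa [mul_assoc] using hy
  · intro h
    exact ⟨_, h, by simp [mul_assoc]⟩

theorem conj_mem_cj {g x : G} {H : Subgroup G} (hx : x ∈ H) : g * x * g⁻¹ ∈ cj g H :=
  ⟨x, hx, rfl⟩

theorem conj_mem_cj_iff {g x : G} {H : Subgroup G} : g * x * g⁻¹ ∈ cj g H ↔ x ∈ H := by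
  rw [mem_cj]; simp [mul_assoc]

theorem cj_le_iff {g : G} {H K : Subgroup G} : cj g H ≤ K ↔ ∀ x ∈ H, g * x * g⁻¹ ∈ K := by
  constructor
  · intro h x hx; exact h (conj_mem_cj hx)
  · rintro h _ ⟨x, hx, rfl⟩; exact h x hx

@[simp] theorem cj_one (H : Subgroup G) : cj 1 H = H := by
  ext x; rw [mem_cj]; simp

theorem cj_cj (g h : G) (H : Subgroup G) : cj g (cj h H) = cj (g * h) H := by
  ext x; simp only [mem_cj]; simp [mul_assoc]

theorem cj_inv_cj (g : G) (H : Subgroup G) : cj g⁻¹ (cj g H) = H := by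
  rw [cj_cj]; simp

theorem cj_cj_inv (g : G) (H : Subgroup G) : cj g (cj g⁻¹ H) = H := by
  rw [cj_cj]; simp

theorem cj_mono (g : G) {H K : Subgroup G} (h : H ≤ K) : cj g H ≤ cj g K := map_mono h

theorem cj_le_cj_iff {g : G} {H K : Subgroup G} : cj g H ≤ cj g K ↔ H ≤ K := by
  refine ⟨fun h => ?_, cj_mono g⟩
  have := cj_mono g⁻¹ h
  rwa [cj_inv_cj, cj_inv_cj] at this

theorem cj_inj {g : G} {H K : Subgroup G} : cj g H = cj g K ↔ H = K := by
  simp only [le_antisymm_iff, cj_le_cj_iff]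

theorem cj_lt_cj_iff {g : G} {H K : Subgroup G} : cj g H < cj g K ↔ H < K := by
  simp only [lt_iff_le_not_ge, cj_le_cj_iff]

theorem cj_le_iff_le_cj_inv {g : G} {H K : Subgroup G} : cj g H ≤ K ↔ H ≤ cj g⁻¹ K := by
  rw [← cj_le_cj_iff (g := g⁻¹), cj_inv_cj]

theorem le_cj_iff_cj_inv_le {g : G} {H K : Subgroup G} : H ≤ cj g K ↔ cj g⁻¹ H ≤ K := by
  rw [cj_le_iff_le_cj_inv, inv_inv]

theorem cj_eq_iff_eq_cj_inv {g : G} {H K : Subgroup G} : cj g H = K ↔ H = cj g⁻¹ K := by
  rw [← cj_inj (g := g⁻¹), cj_inv_cj]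

theorem cj_inf (g : G) (H K : Subgroup G) : cj g (H ⊓ K) = cj g H ⊓ cj g K := by
  ext x; simp only [mem_inf, mem_cj]

theorem cj_sup (g : G) (H K : Subgroup G) : cj g (H ⊔ K) = cj g H ⊔ cj g K := map_sup _ _ _

@[simp] theorem cj_top (g : G) : cj g (⊤ : Subgroup G) = ⊤ := by
  ext x; simp only [mem_cj, mem_top]

@[simp] theorem cj_bot (g : G) : cj g (⊥ : Subgroup G) = ⊥ := map_bot _

theorem cj_eq_bot_iff {g : G} {H : Subgroup G} : cj g H = ⊥ ↔ H = ⊥ := by
  rw [cj_eq_iff_eq_cj_inv, cj_bot]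

theorem cj_commutator (g : G) (H K : Subgroup G) : cj g ⁅H, K⁆ = ⁅cj g H, cj g K⁆ :=
  map_commutator _ _ _

/-- Conjugation as an isomorphism `H ≃* cj g H`. -/
noncomputable def cjEquiv (g : G) (H : Subgroup G) : H ≃* cj g H :=
  H.equivMapOfInjective _ (MulAut.conj g).injective

theorem card_cj (g : G) (H : Subgroup G) : Nat.card (cj g H) = Nat.card H :=
  (Nat.card_congr (cjEquiv g H).toEquiv).symm

theorem relIndex_cj (g : G) (H K : Subgroup G) : (cj g H).relIndex (cj g K) = H.relIndex K :=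
  relIndex_map_map_of_injective _ _ (MulAut.conj g).injective

theorem index_cj (g : G) (H : Subgroup G) : (cj g H).index = H.index := by
  rw [← relIndex_top_right, ← relIndex_top_right, ← relIndex_cj g H, cj_top]

theorem mem_normalizer_iff_cj {g : G} {H : Subgroup G} : g ∈ normalizer (H : Set G) ↔ cj g H = H := by
  rw [mem_normalizer_iff'']
  constructor
  · intro h; ext x; rw [mem_cj, h x]
  · intro h x; rw [← mem_cj, h]

theorem cj_eq_of_mem_normalizer {g : G} {H : Subgroup G} (h : g ∈ normalizer (H : Set G)) :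
    cj g H = H := mem_normalizer_iff_cj.1 h

theorem cj_eq_of_mem {g : G} {H : Subgroup G} (h : g ∈ H) : cj g H = H :=
  cj_eq_of_mem_normalizer (le_normalizer h)

theorem cj_eq_of_normal (g : G) (H : Subgroup G) [hH : H.Normal] : cj g H = H :=
  cj_eq_of_mem_normalizer (by rw [normalizer_eq_top]; trivial)

theorem conj_mem_of_mem_normalizer {g x : G} {H : Subgroup G} (h : g ∈ normalizer (H : Set G))
    (hx : x ∈ H) : g * x * g⁻¹ ∈ H := (mem_normalizer_iff.1 h x).1 hx

theorem inv_conj_mem_of_mem_normalizer {g x : G} {H : Subgroup G} (h : g ∈ normalizer (H : Set G))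
    (hx : x ∈ H) : g⁻¹ * x * g ∈ H := (mem_normalizer_iff''.1 h x).1 hx

theorem mem_normalizer_of_cj_le [Finite G] {g : G} {H : Subgroup G} (h : cj g H ≤ H) :
    g ∈ normalizer (H : Set G) :=
  mem_normalizer_fintype fun n hn => cj_le_iff.1 h n hn

theorem mem_normalizer_of_conj_mem [Finite G] {g : G} {H : Subgroup G}
    (h : ∀ x ∈ H, g * x * g⁻¹ ∈ H) : g ∈ normalizer (H : Set G) :=
  mem_normalizer_fintype h

theorem cj_normalizer (g : G) (H : Subgroup G) :
    cj g (normalizer (H : Set G)) = normalizer (cj g H : Set G) := by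
  ext x
  rw [mem_cj, mem_normalizer_iff_cj, mem_normalizer_iff_cj, cj_cj, cj_eq_iff_eq_cj_inv (g := x * g),
    cj_cj, cj_eq_iff_eq_cj_inv]
  simp [mul_assoc]

theorem cj_centralizer (g : G) (H : Subgroup G) :
    cj g (centralizer (H : Set G)) = centralizer (cj g H : Set G) := by
  ext x
  rw [mem_cj, mem_centralizer_iff, mem_centralizer_iff]
  constructor
  · rintro h _ ⟨y, hy, rfl⟩
    have := h y hy
    simp only [MulEquiv.toMonoidHom_eq_coe, MonoidHom.coe_coe, MulAut.conj_apply]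
    calc g * y * g⁻¹ * x = g * (y * (g⁻¹ * x * g)) * g⁻¹ := by group
      _ = g * (g⁻¹ * x * g * y) * g⁻¹ := by rw [this]
      _ = _ := by group
  · intro h y hy
    have := h _ (conj_mem_cj (g := g) hy)
    calc y * (g⁻¹ * x * g) = g⁻¹ * (g * y * g⁻¹ * x) * g := by group
      _ = g⁻¹ * (x * (g * y * g⁻¹)) * g := by rw [this]
      _ = _ := by group

theorem cj_centralizer_singleton (g a : G) :
    cj g (centralizer ({a} : Set G)) = centralizer ({g * a * g⁻¹} : Set G) := by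
  ext x
  rw [mem_cj, mem_centralizer_singleton_iff, mem_centralizer_singleton_iff]
  constructor
  · intro h
    calc x * (g * a * g⁻¹) = g * (g⁻¹ * x * g * a) * g⁻¹ := by group
      _ = g * (a * (g⁻¹ * x * g)) * g⁻¹ := by rw [h]
      _ = _ := by group
  · intro h
    calc g⁻¹ * x * g * a = g⁻¹ * (x * (g * a * g⁻¹)) * g := by group
      _ = g⁻¹ * (g * a * g⁻¹ * x) * g := by rw [h]
      _ = _ := by group

theorem cj_zpowers (g a : G) : cj g (zpowers a) = zpowers (g * a * g⁻¹) := by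
  simp [cj, MonoidHom.map_zpowers]

theorem cj_eq_smul (g : G) (H : Subgroup G) : cj g H = (open scoped Pointwise in MulAut.conj g • H) :=
  rfl

theorem cj_sylow {p : ℕ} (g : G) (P : Sylow p G) :
    cj g (P : Subgroup G) = ((g • P : Sylow p G) : Subgroup G) := rfl

theorem IsPGroup.cj {p : ℕ} {H : Subgroup G} (h : IsPGroup p H) (g : G) : IsPGroup p (cj g H) :=
  h.map _

theorem normalizer_le_normalizer_centralizer (H : Subgroup G) :
    normalizer (H : Set G) ≤ normalizer (centralizer (H : Set G) : Set G) := by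
  intro g hg
  rw [mem_normalizer_iff_cj] at hg ⊢
  rw [cj_centralizer, hg]

theorem normalizer_le_normalizer_normalizer (H : Subgroup G) :
    normalizer (H : Set G) ≤ normalizer (normalizer (H : Set G) : Set G) := le_normalizer

theorem mem_normalizer_inf {g : G} {H K : Subgroup G} (h1 : g ∈ normalizer (H : Set G))
    (h2 : g ∈ normalizer (K : Set G)) : g ∈ normalizer ((H ⊓ K : Subgroup G) : Set G) := by
  rw [mem_normalizer_iff_cj] at *
  rw [cj_inf, h1, h2]

theorem mem_normalizer_sup {g : G} {H K : Subgroup G} (h1 : g ∈ normalizer (H : Set G))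
    (h2 : g ∈ normalizer (K : Set G)) : g ∈ normalizer ((H ⊔ K : Subgroup G) : Set G) := by
  rw [mem_normalizer_iff_cj] at *
  rw [cj_sup, h1, h2]

theorem mem_normalizer_commutator {g : G} {H K : Subgroup G} (h1 : g ∈ normalizer (H : Set G))
    (h2 : g ∈ normalizer (K : Set G)) : g ∈ normalizer ((⁅H, K⁆ : Subgroup G) : Set G) := by
  rw [mem_normalizer_iff_cj] at *
  rw [cj_commutator, h1, h2]

theorem mem_normalizer_centralizer {g : G} {H : Subgroup G} (h1 : g ∈ normalizer (H : Set G)) :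
    g ∈ normalizer ((centralizer (H : Set G) : Subgroup G) : Set G) :=
  normalizer_le_normalizer_centralizer H h1

theorem mem_normalizer_normalizer {g : G} {H : Subgroup G} (h1 : g ∈ normalizer (H : Set G)) :
    g ∈ normalizer ((normalizer (H : Set G) : Subgroup G) : Set G) := le_normalizer h1

/-- A characteristic subgroup of `H`, mapped to `G`, is normalized by `N(H)`. -/
theorem cj_map_subtype_of_characteristic {H : Subgroup G} (K : Subgroup H) [hK : K.Characteristic]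
    {g : G} (hg : g ∈ normalizer (H : Set G)) : cj g (K.map H.subtype) = K.map H.subtype := by
  have key : ∀ g ∈ normalizer (H : Set G), cj g (K.map H.subtype) ≤ K.map H.subtype := by
    intro g hg
    rw [cj_le_iff]
    rintro _ ⟨x, hx, rfl⟩
    have h1 := (characteristic_iff_map_le.1 hK (H.normalizerMonoidHom ⟨g, hg⟩)) ⟨x, hx, rfl⟩
    exact ⟨_, h1, rfl⟩
  refine le_antisymm (key g hg) ?_
  rw [le_cj_iff_cj_inv_le]
  exact key _ (inv_mem hg)

theorem normalizer_le_normalizer_map_of_characteristic {H : Subgroup G} (K : Subgroup H)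
    [K.Characteristic] : normalizer (H : Set G) ≤ normalizer (K.map H.subtype : Set G) :=
  fun _ hg => mem_normalizer_iff_cj.2 (cj_map_subtype_of_characteristic K hg)

theorem mem_sup_iff_of_le_normalizer {H N : Subgroup G} (h : H ≤ normalizer (N : Set G)) {x : G} :
    x ∈ H ⊔ N ↔ ∃ a ∈ H, ∃ n ∈ N, x = a * n := by
  have := coe_mul_of_left_le_normalizer_right H N h
  rw [← SetLike.mem_coe, this]
  constructor
  · rintro ⟨a, ha, n, hn, rfl⟩; exact ⟨a, ha, n, hn, rfl⟩
  · rintro ⟨a, ha, n, hn, rfl⟩; exact ⟨a, ha, n, hn, rfl⟩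

theorem mem_sup_iff_of_le_normalizer' {H N : Subgroup G} (h : H ≤ normalizer (N : Set G)) {x : G} :
    x ∈ N ⊔ H ↔ ∃ n ∈ N, ∃ a ∈ H, x = n * a := by
  have := coe_mul_of_right_le_normalizer_left N H h
  rw [← SetLike.mem_coe, this]
  constructor
  · rintro ⟨a, ha, n, hn, rfl⟩; exact ⟨a, ha, n, hn, rfl⟩
  · rintro ⟨a, ha, n, hn, rfl⟩; exact ⟨a, ha, n, hn, rfl⟩

theorem card_mul_relIndex {H K : Subgroup G} (h : H ≤ K) :
    Nat.card H * H.relIndex K = Nat.card K := by
  rw [← relIndex_bot_left, ← relIndex_bot_left]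
  exact relIndex_mul_relIndex _ _ _ bot_le h

theorem card_inf_mul_relIndex (H K : Subgroup G) :
    Nat.card (H ⊓ K : Subgroup G) * H.relIndex K = Nat.card K := by
  rw [← inf_relIndex_right]; exact card_mul_relIndex inf_le_right

theorem relIndex_pos [Finite G] (H K : Subgroup G) : 0 < H.relIndex K :=
  Nat.pos_of_ne_zero FiniteIndex.index_ne_zero

theorem card_lt_of_lt [Finite G] {H K : Subgroup G} (h : H < K) : Nat.card H < Nat.card K := by
  refine lt_of_le_of_ne (card_le_of_le h.le) fun h' => h.ne ?_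
  exact eq_of_le_of_card_ge h.le h'.ge

/-- `|HN| |H ∩ N| = |H| |N|` when `H` normalizes `N`. -/
theorem card_sup_mul_card_inf {H N : Subgroup G} (h : H ≤ normalizer (N : Set G)) :
    Nat.card (H ⊔ N : Subgroup G) * Nat.card (H ⊓ N : Subgroup G) = Nat.card H * Nat.card N := by
  have hn : (N.subgroupOf (H ⊔ N)).Normal :=
    normal_subgroupOf_of_le_normalizer (sup_le h le_normalizer)
  have h1 : N.relIndex (H ⊔ N) = N.relIndex H := by
    have := relIndex_sup_right (H.subgroupOf (H ⊔ N)) (N.subgroupOf (H ⊔ N))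
    rw [← subgroupOf_sup le_sup_left le_sup_right, relIndex_subgroupOf le_rfl,
      relIndex_subgroupOf le_sup_left] at this
    exact this
  rw [← card_mul_relIndex (le_sup_right : N ≤ H ⊔ N), h1, ← card_inf_mul_relIndex N H, inf_comm H N]
  ring

theorem relIndex_sup_of_le_normalizer {H N : Subgroup G} (h : H ≤ normalizer (N : Set G)) :
    N.relIndex (H ⊔ N) = N.relIndex H := by
  have hn : (N.subgroupOf (H ⊔ N)).Normal :=
    normal_subgroupOf_of_le_normalizer (sup_le h le_normalizer)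
  have := relIndex_sup_right (H.subgroupOf (H ⊔ N)) (N.subgroupOf (H ⊔ N))
  rw [← subgroupOf_sup le_sup_left le_sup_right, relIndex_subgroupOf le_rfl,
    relIndex_subgroupOf le_sup_left] at this
  exact this

/-! ### Sylow subgroups of subgroups -/

/-- `P` is a Sylow `p`-subgroup of the subgroup `H`. -/
structure IsSyl (p : ℕ) (P H : Subgroup G) : Prop where
  le : P ≤ H
  pgroup : IsPGroup p P
  not_dvd : ¬ p ∣ P.relIndex H

section Syl

variable {p : ℕ} [hp : Fact p.Prime] [Finite G]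

theorem isSyl_top (P : Sylow p G) : IsSyl p (P : Subgroup G) ⊤ :=
  ⟨le_top, P.2, by rw [relIndex_top_right]; exact P.not_dvd_index⟩

theorem isSyl_map_subtype {H : Subgroup G} (P : Sylow p H) :
    IsSyl p ((P : Subgroup H).map H.subtype) H := by
  refine ⟨map_subtype_le _, P.2.map _, ?_⟩
  rw [relIndex, subgroupOf, comap_map_eq_self_of_injective H.subtype_injective]
  exact P.not_dvd_index

theorem IsSyl.exists_sylow_sub {P H : Subgroup G} (h : IsSyl p P H) :
    ∃ S : Sylow p H, (S : Subgroup H) = P.subgroupOf H :=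
  ⟨(h.pgroup.comap_subtype (K := H)).toSylow h.not_dvd, rfl⟩

theorem IsSyl.exists_sylow_map {P H : Subgroup G} (h : IsSyl p P H) :
    ∃ S : Sylow p H, (S : Subgroup H).map H.subtype = P := by
  obtain ⟨S, hS⟩ := h.exists_sylow_sub
  exact ⟨S, by rw [hS, map_subgroupOf_eq_of_le h.le]⟩

theorem IsSyl.exists_sylow {P : Subgroup G} (h : IsSyl p P ⊤) :
    ∃ S : Sylow p G, (S : Subgroup G) = P :=
  ⟨h.pgroup.toSylow (by have := h.not_dvd; rwa [relIndex_top_right] at this), rfl⟩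

theorem exists_isSyl_ge {Q H : Subgroup G} (hQ : IsPGroup p Q) (hQH : Q ≤ H) :
    ∃ P, IsSyl p P H ∧ Q ≤ P := by
  obtain ⟨S, hS⟩ := (hQ.comap_subtype (K := H)).exists_le_sylow
  refine ⟨_, isSyl_map_subtype S, ?_⟩
  intro x hx
  exact ⟨⟨x, hQH hx⟩, hS hx, rfl⟩

theorem exists_isSyl (p : ℕ) [Fact p.Prime] (H : Subgroup G) : ∃ P, IsSyl p P H := by
  obtain ⟨P, hP, -⟩ := exists_isSyl_ge (p := p) IsPGroup.of_bot (bot_le (a := H))
  exact ⟨P, hP⟩

theorem exists_cj_le_sylow (P : Sylow p G) {Q : Subgroup G} (hQ : IsPGroup p Q) :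
    ∃ g : G, cj g Q ≤ P := by
  obtain ⟨S, hS⟩ := hQ.exists_le_sylow
  obtain ⟨g, hg⟩ := MulAction.exists_smul_eq G S P
  refine ⟨g, ?_⟩
  rw [← hg, ← cj_sylow]
  exact cj_mono g hS

theorem exists_cj_sylow_eq (P Q : Sylow p G) : ∃ g : G, cj g (P : Subgroup G) = Q := by
  obtain ⟨g, hg⟩ := MulAction.exists_smul_eq G P Q
  exact ⟨g, by rw [← hg, ← cj_sylow]⟩

theorem IsSyl.exists_cj_le {P H Q : Subgroup G} (hP : IsSyl p P H) (hQ : IsPGroup p Q)
    (hQH : Q ≤ H) : ∃ h ∈ H, cj h Q ≤ P := by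
  obtain ⟨S, hS⟩ := hP.exists_sylow_sub
  obtain ⟨g, hg⟩ := exists_cj_le_sylow S (hQ.comap_subtype (K := H))
  refine ⟨g, g.2, ?_⟩
  rw [cj_le_iff] at hg ⊢
  intro x hx
  have := hg ⟨x, hQH hx⟩ hx
  rw [hS] at this
  exact this

theorem IsSyl.card_le {P H Q : Subgroup G} (hP : IsSyl p P H) (hQ : IsPGroup p Q)
    (hQH : Q ≤ H) : Nat.card Q ≤ Nat.card P := by
  obtain ⟨h, -, hh⟩ := hP.exists_cj_le hQ hQH
  rw [← card_cj h Q]
  exact card_le_of_le hh

theorem IsSyl.card_dvd {P H Q : Subgroup G} (hP : IsSyl p P H) (hQ : IsPGroup p Q)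
    (hQH : Q ≤ H) : Nat.card Q ∣ Nat.card P := by
  obtain ⟨h, -, hh⟩ := hP.exists_cj_le hQ hQH
  rw [← card_cj h Q]
  exact card_dvd_of_le hh

theorem IsSyl.card_eq {P H Q : Subgroup G} (hP : IsSyl p P H) (hQ : IsSyl p Q H) :
    Nat.card P = Nat.card Q :=
  le_antisymm (hQ.card_le hP.pgroup hP.le) (hP.card_le hQ.pgroup hQ.le)

theorem IsSyl.eq_of_le {P H Q : Subgroup G} (hP : IsSyl p P H) (hQ : IsPGroup p Q)
    (hQH : Q ≤ H) (h : P ≤ Q) : Q = P :=
  (eq_of_le_of_card_ge h (hP.card_le hQ hQH)).symm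

theorem IsSyl.exists_cj_eq {P H Q : Subgroup G} (hP : IsSyl p P H) (hQ : IsSyl p Q H) :
    ∃ h ∈ H, cj h Q = P := by
  obtain ⟨h, hh, hle⟩ := hP.exists_cj_le hQ.pgroup hQ.le
  exact ⟨h, hh, eq_of_le_of_card_ge hle (by rw [card_cj, hP.card_eq hQ])⟩

theorem IsSyl.of_card_le {P H Q : Subgroup G} (hP : IsSyl p P H) (hQ : IsPGroup p Q)
    (hQH : Q ≤ H) (h : Nat.card P ≤ Nat.card Q) : IsSyl p Q H := by
  obtain ⟨R, hR, hQR⟩ := exists_isSyl_ge hQ hQH
  have : Q = R := eq_of_le_of_card_ge hQR (by rw [hR.card_eq hP]; exact h)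
  rwa [this]

theorem isSyl_of_maximal {H Q : Subgroup G} (hQ : IsPGroup p Q) (hQH : Q ≤ H)
    (h : ∀ R : Subgroup G, IsPGroup p R → R ≤ H → Q ≤ R → R ≤ Q) : IsSyl p Q H := by
  obtain ⟨R, hR, hQR⟩ := exists_isSyl_ge hQ hQH
  have : Q = R := le_antisymm hQR (h R hR.pgroup hR.le hQR)
  rwa [this]

omit hp [Finite G] in
theorem IsSyl.cj {P H : Subgroup G} (hP : IsSyl p P H) (g : G) : IsSyl p (cj g P) (cj g H) :=
  ⟨cj_mono g hP.le, hP.pgroup.map _, by rw [relIndex_cj]; exact hP.not_dvd⟩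

omit hp [Finite G] in
theorem IsSyl.cj_of_mem_normalizer {P H : Subgroup G} (hP : IsSyl p P H) {g : G}
    (hg : g ∈ normalizer (H : Set G)) : IsSyl p (Transfer.cj g P) H := by
  have := hP.cj g
  rwa [cj_eq_of_mem_normalizer hg] at this

omit hp [Finite G] in
theorem IsSyl.mono {P H K : Subgroup G} (hP : IsSyl p P H) (h1 : P ≤ K) (h2 : K ≤ H) :
    IsSyl p P K :=
  ⟨h1, hP.pgroup, fun h => hP.not_dvd (by
    rw [← relIndex_mul_relIndex P K H h1 h2]; exact h.mul_right _)⟩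

theorem IsSyl.trans {P H K : Subgroup G} (hP : IsSyl p P K) (h2 : K ≤ H)
    (h3 : ¬ p ∣ K.relIndex H) : IsSyl p P H :=
  ⟨hP.le.trans h2, hP.pgroup, fun h => by
    rw [← relIndex_mul_relIndex P K H hP.le h2] at h
    rcases (Nat.Prime.dvd_mul hp.out).1 h with h | h
    · exact hP.not_dvd h
    · exact h3 h⟩

/-- A normal `p`-subgroup of `H` lies in every Sylow `p`-subgroup of `H`. -/
theorem IsSyl.le_of_normal {P H Q : Subgroup G} (hP : IsSyl p P H) (hQ : IsPGroup p Q)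
    (hQH : Q ≤ H) (hn : H ≤ normalizer (Q : Set G)) : Q ≤ P := by
  obtain ⟨h, hh, hle⟩ := hP.exists_cj_le hQ hQH
  rwa [cj_eq_of_mem_normalizer (hn hh)] at hle

/-- A `p`-subgroup of `H` normalizing a Sylow `p`-subgroup of `H` lies in it. -/
theorem IsSyl.le_of_le_normalizer {P H Q : Subgroup G} (hP : IsSyl p P H) (hQ : IsPGroup p Q)
    (hQH : Q ≤ H) (hn : Q ≤ normalizer (P : Set G)) : Q ≤ P := by
  have h1 : IsPGroup p (Q ⊔ P : Subgroup G) := hQ.to_sup_of_normal_right' hP.pgroup hn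
  have := hP.eq_of_le h1 (sup_le hQH hP.le) le_sup_right
  exact le_sup_left.trans this.le

theorem IsSyl.inf_of_le_normalizer {P H K : Subgroup G} (hP : IsSyl p P H) (hKH : K ≤ H)
    (hn : H ≤ normalizer (K : Set G)) : IsSyl p (P ⊓ K) K := by
  obtain ⟨R, hR, hle⟩ := exists_isSyl_ge (p := p) (Q := P ⊓ K) (H := K)
    (hP.pgroup.to_le inf_le_left) inf_le_right
  obtain ⟨h, hh, hle'⟩ := hP.exists_cj_le hR.pgroup (hR.le.trans hKH)
  refine hR.of_card_le (hP.pgroup.to_le inf_le_left) inf_le_right ?_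
  rw [← card_cj h R]
  refine card_le_of_le (le_inf hle' ?_)
  rw [← cj_eq_of_mem_normalizer (hn hh)]
  exact cj_mono h hR.le

theorem isSyl_inf_normal (P : Sylow p G) (K : Subgroup G) [K.Normal] :
    IsSyl p ((P : Subgroup G) ⊓ K) K :=
  (isSyl_top P).inf_of_le_normalizer le_top (by rw [normalizer_eq_top])

omit hp [Finite G] in
theorem IsSyl.map {G' : Type*} [Group G'] {P H : Subgroup G} (hP : IsSyl p P H) (f : G →* G') :
    IsSyl p (P.map f) (H.map f) := by
  refine ⟨map_mono hP.le, hP.pgroup.map f, fun h => hP.not_dvd (h.trans ?_)⟩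
  rw [← relIndex_comap]
  exact relIndex_dvd_of_le_left H (le_comap_map f P)

/-- Frattini argument. -/
theorem IsSyl.frattini {P K : Subgroup G} (hP : IsSyl p P K) {g : G}
    (hg : g ∈ normalizer (K : Set G)) : ∃ k ∈ K, ∃ n ∈ normalizer (P : Set G), g = k * n := by
  obtain ⟨k, hk, he⟩ := hP.exists_cj_eq (hP.cj_of_mem_normalizer hg)
  rw [cj_cj, ← mem_normalizer_iff_cj] at he
  exact ⟨k⁻¹, inv_mem hk, k * g, he, by group⟩

theorem IsSyl.frattini' {P K : Subgroup G} (hP : IsSyl p P K) {g : G}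
    (hg : g ∈ normalizer (K : Set G)) : ∃ n ∈ normalizer (P : Set G), ∃ k ∈ K, g = n * k := by
  obtain ⟨k, hk, n, hn, he⟩ := hP.frattini (inv_mem hg)
  exact ⟨n⁻¹, inv_mem hn, k⁻¹, inv_mem hk, by rw [← mul_inv_rev, ← he, inv_inv]⟩

theorem IsSyl.eq_bot_iff {P H : Subgroup G} (hP : IsSyl p P H) : P = ⊥ ↔ ¬ p ∣ Nat.card H := by
  constructor
  · rintro rfl
    have := hP.not_dvd
    rwa [relIndex_bot_left] at this
  · intro h
    rw [← card_eq_one]
    exact hP.pgroup.card_eq_or_dvd.resolve_right fun h' => h (h'.trans (card_dvd_of_le hP.le))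

theorem IsSyl.coprime {P H : Subgroup G} (hP : IsSyl p P H) :
    (Nat.card P).Coprime (P.relIndex H) := by
  obtain ⟨n, hn⟩ := hP.pgroup.exists_card_eq
  rw [hn]
  exact Nat.Coprime.pow_left _ ((Nat.Prime.coprime_iff_not_dvd hp.out).2 hP.not_dvd)

/-- If `K ≤ H` has `p`-power index and `P` is Sylow in `H` then `H = ⟨K, P⟩`. -/
theorem IsSyl.sup_eq_of_relIndex {P H K : Subgroup G} (hP : IsSyl p P H) (hK : K ≤ H) {n : ℕ}
    (hn : K.relIndex H = p ^ n) : K ⊔ P = H := by
  refine le_antisymm (sup_le hK hP.le) ?_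
  rw [← relIndex_eq_one]
  have h1 : (K ⊔ P).relIndex H ∣ p ^ n := hn ▸ relIndex_dvd_of_le_left H le_sup_left
  have h2 : (K ⊔ P).relIndex H ∣ P.relIndex H := relIndex_dvd_of_le_left H le_sup_right
  exact Nat.eq_one_of_dvd_coprimes
    (Nat.Coprime.pow_left _ ((Nat.Prime.coprime_iff_not_dvd hp.out).2 hP.not_dvd)) h1 h2

end Syl

/-! ### `p`-groups -/

section PGroup

variable {p : ℕ} [hp : Fact p.Prime] [Finite G]

/-- Normalizers grow in `p`-groups. -/
theorem lt_inf_normalizer {P Q : Subgroup G} (hP : IsPGroup p P) (h : Q < P) :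
    Q < P ⊓ normalizer (Q : Set G) := by
  haveI := hP.isNilpotent
  have hnc := Group.normalizerCondition_of_isNilpotent (G := P)
  have h1 : Q.subgroupOf P < ⊤ := by
    rw [lt_top_iff_ne_top, Ne, subgroupOf_eq_top]
    exact h.not_ge
  have h2 := hnc _ h1
  rw [← subgroupOf_normalizer_eq h.le] at h2
  refine lt_of_le_of_ne (le_inf h.le le_normalizer) fun h3 => h2.not_ge ?_
  intro x hx
  rw [mem_subgroupOf] at hx ⊢
  rw [h3]
  exact ⟨x.2, hx⟩

theorem exists_mem_normalizer_notMem {P Q : Subgroup G} (hP : IsPGroup p P) (h : Q < P) :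
    ∃ x ∈ P, x ∈ normalizer (Q : Set G) ∧ x ∉ Q := by
  obtain ⟨x, hx, hx'⟩ := SetLike.exists_of_lt (lt_inf_normalizer hP h)
  exact ⟨x, hx.1, hx.2, hx'⟩

omit hp [Finite G] in
/-- In a nilpotent group, `Q ≤ Q₀ ⊔ ⁅Q, P⁆` with `Q₀` normalized by `P` forces `Q ≤ Q₀`. -/
theorem le_of_le_sup_commutator_of_nilpotent {P Q Q₀ : Subgroup G} [hP : Group.IsNilpotent P]
    (hQ : Q ≤ P) (hQ₀ : Q₀ ≤ P) (hn : P ≤ normalizer (Q₀ : Set G)) (h : Q ≤ Q₀ ⊔ ⁅Q, P⁆) :
    Q ≤ Q₀ := by
  obtain ⟨n, hn'⟩ := (isNilpotent_iff_lowerCentralSeries P).1 hP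
  have key : ∀ k, Q ≤ Q₀ ⊔ P.lowerCentralSeries k := by
    intro k
    induction k with
    | zero => exact hQ.trans le_sup_right
    | succ k ih =>
      refine h.trans (sup_le le_sup_left ?_)
      rw [commutator_le]
      intro x hx y hy
      have hL : P.lowerCentralSeries k ≤ normalizer (Q₀ : Set G) :=
        (lowerCentralSeries_le_self P k).trans hn
      obtain ⟨a, ha, l, hl, rfl⟩ := (mem_sup_iff_of_le_normalizer' hL).1 (ih hx)
      rw [commutatorElement_mul_left_eq_conj_mul]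
      refine mul_mem ?_ (mem_sup_left ?_)
      · refine mem_sup_right ?_
        refine conj_mem_of_mem_normalizer (self_le_normalizer_lowerCentralSeries P (k + 1) (hQ₀ ha)) ?_
        exact commutator_mem_commutator hl hy
      · exact le_normalizer_iff_commutator_le_left.1 hn (commutator_mem_commutator ha hy)
  have := key n
  rwa [hn', sup_bot_eq] at this

theorem le_of_le_sup_commutator {P Q Q₀ : Subgroup G} (hP : IsPGroup p P)
    (hQ : Q ≤ P) (hQ₀ : Q₀ ≤ P) (hn : P ≤ normalizer (Q₀ : Set G)) (h : Q ≤ Q₀ ⊔ ⁅Q, P⁆) :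
    Q ≤ Q₀ :=
  haveI := hP.isNilpotent
  le_of_le_sup_commutator_of_nilpotent hQ hQ₀ hn h

theorem eq_bot_of_le_commutator {P Q : Subgroup G} (hP : IsPGroup p P)
    (hQ : Q ≤ P) (h : Q ≤ ⁅Q, P⁆) : Q = ⊥ :=
  le_bot_iff.1 (le_of_le_sup_commutator hP hQ bot_le (by
    intro x _; rw [mem_normalizer_iff_cj, cj_bot]) (by rwa [bot_sup_eq]))

end PGroup

end Cfsg.Agent.Transfer
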