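import Mathlib.GroupTheory.Focal
import Mathlib.GroupTheory.SchurZassenhaus
import Cfsg.Prelude.Def_Transfer
import Cfsg.Agent.Lib.Transfer.Basic

/-!
The residual `O^p(G)`, normal `p`-complements, the focal subgroup theorem for subgroups,
and control of transfer by control of fusion.
-/

set_option autoImplicit false
set_option linter.unusedSectionVars false
set_option linter.style.haveILetI false

namespace Cfsg.Agent.Transfer

open Subgroup
open scoped commutatorElement

variable {G : Type*} [Group G] {p : ℕ}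

theorem mem_pResidual_of_coprime {g : G} (h : (orderOf g).Coprime p) : g ∈ pResidual p G :=
  subset_closure h

theorem map_pResidual_le {G' : Type*} [Group G'] (f : G →* G') :
    (pResidual p G).map f ≤ pResidual p G' := by
  rw [map_le_iff_le_comap, pResidual, closure_le]
  intro g hg
  exact mem_pResidual_of_coprime (Nat.Coprime.coprime_dvd_left (orderOf_map_dvd f g) hg)

instance instCharacteristicPResidual : (pResidual p G).Characteristic :=
  characteristic_iff_map_le.2 fun φ => map_pResidual_le φ.toMonoidHom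

instance instNormalPResidual : (pResidual p G).Normal := inferInstance

theorem eq_one_of_coprime_of_isPGroup {H : Type*} [Group H] (hH : IsPGroup p H) {x : H}
    (hx : (orderOf x).Coprime p) : x = 1 := by
  obtain ⟨k, hk⟩ := hH x
  have h1 : orderOf x ∣ p ^ k := orderOf_dvd_of_pow_eq_one hk
  exact orderOf_eq_one_iff.1 (Nat.eq_one_of_self_dvd_coprime' h1 hx)
where
  Nat.eq_one_of_self_dvd_coprime' {a k : ℕ} (h1 : a ∣ p ^ k) (hx : a.Coprime p) : a = 1 :=
    Nat.eq_one_of_dvd_coprimes (Nat.Coprime.pow_right k hx) dvd_rfl h1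

theorem pResidual_le_ker {H : Type*} [Group H] (hH : IsPGroup p H) (f : G →* H) :
    pResidual p G ≤ f.ker := by
  rw [pResidual, closure_le]
  intro g hg
  exact eq_one_of_coprime_of_isPGroup hH (Nat.Coprime.coprime_dvd_left (orderOf_map_dvd f g) hg)

theorem pResidual_le_of_quotient {N : Subgroup G} [N.Normal] (h : IsPGroup p (G ⧸ N)) :
    pResidual p G ≤ N := by
  have := pResidual_le_ker h (QuotientGroup.mk' N)
  rwa [QuotientGroup.ker_mk'] at this

theorem pResidual_eq_bot_of_isPGroup (h : IsPGroup p G) : pResidual p G = ⊥ := by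
  have := pResidual_le_ker h (MonoidHom.id G)
  rwa [MonoidHom.ker_id, le_bot_iff] at this

variable [hp : Fact p.Prime]

theorem exists_pow_coprime [Finite G] (x : G) : ∃ k, (orderOf (x ^ p ^ k)).Coprime p := by
  have h0 : orderOf x ≠ 0 := (orderOf_pos x).ne'
  obtain ⟨k, m, hm, he⟩ := Nat.exists_eq_pow_mul_and_not_dvd h0 p hp.out.ne_one
  refine ⟨k, ?_⟩
  have : orderOf (x ^ p ^ k) ∣ m := by
    apply orderOf_dvd_of_pow_eq_one
    rw [← pow_mul, ← he, pow_orderOf_eq_one]
  exact Nat.Coprime.coprime_dvd_left this ((Nat.Prime.coprime_iff_not_dvd hp.out).2 hm).symm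

/-- Decomposition of an element into its `p`-part and `p'`-part. -/
theorem exists_pPart [Finite G] (p : ℕ) [hp : Fact p.Prime] (x : G) : ∃ a ∈ zpowers x, ∃ b ∈ zpowers x,
    x = a * b ∧ (∃ k, a ^ p ^ k = 1) ∧ (orderOf b).Coprime p := by
  have h0 : orderOf x ≠ 0 := (orderOf_pos x).ne'
  obtain ⟨k, m, hm, he⟩ := Nat.exists_eq_pow_mul_and_not_dvd h0 p hp.out.ne_one
  have hc : Nat.Coprime (p ^ k) m :=
    Nat.Coprime.pow_left _ ((Nat.Prime.coprime_iff_not_dvd hp.out).2 hm)
  obtain ⟨u, v, huv⟩ : ∃ u v : ℤ, (p ^ k : ℕ) * u + m * v = 1 := by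
    refine ⟨Nat.gcdA (p ^ k) m, Nat.gcdB (p ^ k) m, ?_⟩
    rw [← Nat.gcd_eq_gcd_ab, hc]; rfl
  refine ⟨x ^ ((m : ℤ) * v), zpow_mem_zpowers _ _, x ^ (((p ^ k : ℕ) : ℤ) * u),
    zpow_mem_zpowers _ _, ?_, ⟨k, ?_⟩, ?_⟩
  · rw [← zpow_add, add_comm, huv, zpow_one]
  · rw [← zpow_natCast, ← zpow_mul, show (m : ℤ) * v * ((p ^ k : ℕ) : ℤ) =
      ((p ^ k * m : ℕ) : ℤ) * v by push_cast; ring, ← he, zpow_mul, zpow_natCast,
      pow_orderOf_eq_one, one_zpow]
  · have : orderOf (x ^ (((p ^ k : ℕ) : ℤ) * u)) ∣ m := by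
      apply orderOf_dvd_of_pow_eq_one
      rw [← zpow_natCast, ← zpow_mul, show ((p ^ k : ℕ) : ℤ) * u * (m : ℤ) =
        ((p ^ k * m : ℕ) : ℤ) * u by push_cast; ring, ← he, zpow_mul, zpow_natCast,
        pow_orderOf_eq_one, one_zpow]
    exact Nat.Coprime.coprime_dvd_left this ((Nat.Prime.coprime_iff_not_dvd hp.out).2 hm).symm

theorem isPGroup_quotient_pResidual [Finite G] : IsPGroup p (G ⧸ pResidual p G) := by
  intro x
  obtain ⟨x, rfl⟩ := QuotientGroup.mk_surjective x
  obtain ⟨k, hk⟩ := exists_pow_coprime (p := p) x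
  exact ⟨k, by rw [← QuotientGroup.mk_pow, QuotientGroup.eq_one_iff]; exact mem_pResidual_of_coprime hk⟩

theorem index_pResidual [Finite G] : ∃ n, (pResidual p G).index = p ^ n :=
  (isPGroup_quotient_pResidual (G := G) (p := p)).exists_card_eq

theorem pResidual_le_of_index [Finite G] {N : Subgroup G} [N.Normal] {n : ℕ} (h : N.index = p ^ n) :
    pResidual p G ≤ N :=
  pResidual_le_of_quotient (IsPGroup.of_card h)

theorem pResidual_sup_sylow [Finite G] (P : Sylow p G) : pResidual p G ⊔ P = ⊤ := by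
  obtain ⟨n, hn⟩ := index_pResidual (G := G) (p := p)
  exact (isSyl_top P).sup_eq_of_relIndex le_top (by rw [relIndex_top_right, hn])

theorem map_pResidual_eq [Finite G] {G' : Type*} [Group G'] (f : G →* G')
    (hf : Function.Surjective f) : (pResidual p G).map f = pResidual p G' := by
  refine le_antisymm (map_pResidual_le f) ?_
  rw [pResidual, closure_le]
  intro y hy
  obtain ⟨x, rfl⟩ := hf y
  obtain ⟨a, ha, b, hb, rfl, ⟨k, hk⟩, hc⟩ := exists_pPart p x
  have hfa : f a = 1 := by
    have h1 : orderOf (f a) ∣ p ^ k := orderOf_dvd_of_pow_eq_one (by rw [← map_pow, hk, map_one])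
    have h2 : orderOf (f a) ∣ orderOf (f (a * b)) := by
      obtain ⟨z, hz⟩ := ha
      rw [← hz, map_zpow]
      simp only
      exact orderOf_dvd_of_mem_zpowers (by rw [← hz] ; exact ⟨z, by simp [hz]⟩)
    exact orderOf_eq_one_iff.1 (Nat.eq_one_of_dvd_coprimes (Nat.Coprime.pow_right k hy) h2 h1)
  rw [map_mul, hfa, one_mul]
  exact ⟨b, mem_pResidual_of_coprime hc, rfl⟩

omit hp in
/-- `O^p(H)` for a subgroup `H`, as a subgroup of `G`. -/
def res (p : ℕ) (H : Subgroup G) : Subgroup G := (pResidual p H).map H.subtype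

omit hp in
theorem res_def (H : Subgroup G) : res p H = (pResidual p H).map H.subtype := rfl

omit hp in
theorem res_eq_closure (H : Subgroup G) :
    res p H = closure {g | g ∈ H ∧ (orderOf g).Coprime p} := by
  rw [res, pResidual, MonoidHom.map_closure]
  congr 1
  ext g
  constructor
  · rintro ⟨x, hx, rfl⟩
    exact ⟨x.2, by simpa using hx⟩
  · rintro ⟨h1, h2⟩
    exact ⟨⟨g, h1⟩, by simpa using h2, rfl⟩

omit hp in
theorem res_le (H : Subgroup G) : res p H ≤ H := map_subtype_le _

omit hp in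
theorem mem_res {H : Subgroup G} {g : G} (h1 : g ∈ H) (h2 : (orderOf g).Coprime p) :
    g ∈ res p H := by
  rw [res_eq_closure]; exact subset_closure ⟨h1, h2⟩

omit hp in
theorem res_le_iff {H K : Subgroup G} :
    res p H ≤ K ↔ ∀ g ∈ H, (orderOf g).Coprime p → g ∈ K := by
  rw [res_eq_closure, closure_le]
  exact ⟨fun h g h1 h2 => h ⟨h1, h2⟩, fun h g hg => h g hg.1 hg.2⟩

omit hp in
theorem res_mono {H K : Subgroup G} (h : H ≤ K) : res p H ≤ res p K :=
  res_le_iff.2 fun _ h1 h2 => mem_res (h h1) h2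

omit hp in
theorem res_res (H : Subgroup G) : res p (res p H) = res p H :=
  le_antisymm (res_le _) (res_le_iff.2 fun _ h1 h2 => mem_res (mem_res h1 h2) h2)

omit hp in
theorem res_top : res p (⊤ : Subgroup G) = pResidual p G := by
  rw [res_eq_closure, pResidual]; simp

omit hp in
theorem res_le_pResidual (H : Subgroup G) : res p H ≤ pResidual p G := map_pResidual_le _

omit hp in
theorem res_pResidual : res p (pResidual p G) = pResidual p G := by
  rw [← res_top, res_res]

omit hp in
theorem res_eq_of_le_of_le {H K : Subgroup G} (h1 : res p H ≤ K) (h2 : K ≤ H) :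
    res p K = res p H :=
  le_antisymm (res_mono h2) (by rw [← res_res H]; exact res_mono h1)

omit hp in
theorem normalizer_le_normalizer_res (H : Subgroup G) :
    normalizer (H : Set G) ≤ normalizer (res p H : Set G) :=
  normalizer_le_normalizer_map_of_characteristic _

omit hp in
theorem le_normalizer_res (H : Subgroup G) : H ≤ normalizer (res p H : Set G) :=
  le_normalizer.trans (normalizer_le_normalizer_res H)

omit hp in
theorem res_subgroupOf (H : Subgroup G) : (res p H).subgroupOf H = pResidual p H :=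
  comap_map_eq_self_of_injective H.subtype_injective _

omit hp in
theorem res_eq_self_iff {H : Subgroup G} : res p H = H ↔ pResidual p H = ⊤ := by
  rw [← res_subgroupOf, subgroupOf_eq_top]
  exact ⟨fun h => h.ge, fun h => le_antisymm (res_le H) h⟩

omit hp in
theorem card_res (H : Subgroup G) : Nat.card (res p H) = Nat.card (pResidual p H) :=
  card_map_of_injective H.subtype_injective

omit hp in
theorem cj_res (g : G) (H : Subgroup G) : cj g (res p H) = res p (cj g H) := by
  have key : ∀ (g : G) (H : Subgroup G), cj g (res p H) ≤ res p (cj g H) := by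
    intro g H
    rw [cj_le_iff_le_cj_inv, res_le_iff]
    intro x hx hc
    rw [mem_cj, inv_inv]
    refine mem_res (conj_mem_cj hx) ?_
    rwa [show g * x * g⁻¹ = MulAut.conj g x from rfl, MulEquiv.orderOf_eq]
  refine le_antisymm (key g H) ?_
  have := key g⁻¹ (cj g H)
  rwa [cj_inv_cj, ← le_cj_iff_cj_inv_le] at this

omit hp in
theorem res_eq_bot_of_isPGroup {H : Subgroup G} (h : IsPGroup p H) : res p H = ⊥ := by
  rw [res, pResidual_eq_bot_of_isPGroup h, Subgroup.map_bot]

variable [Finite G]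

theorem relIndex_res (H : Subgroup G) : ∃ n, (res p H).relIndex H = p ^ n := by
  rw [relIndex, res_subgroupOf]; exact index_pResidual

theorem IsSyl.res_sup {P H : Subgroup G} (hP : IsSyl p P H) : res p H ⊔ P = H := by
  obtain ⟨n, hn⟩ := relIndex_res (p := p) H
  exact hP.sup_eq_of_relIndex (res_le H) hn

theorem IsSyl.exists_res_mul {P H : Subgroup G} (hP : IsSyl p P H) {x : G} (hx : x ∈ H) :
    ∃ a ∈ res p H, ∃ s ∈ P, x = a * s := by
  rw [← hP.res_sup] at hx
  exact (mem_sup_iff_of_le_normalizer' (hP.le.trans (le_normalizer_res H))).1 hx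

theorem IsSyl.exists_mul_res {P H : Subgroup G} (hP : IsSyl p P H) {x : G} (hx : x ∈ H) :
    ∃ s ∈ P, ∃ a ∈ res p H, x = s * a := by
  rw [← hP.res_sup, sup_comm] at hx
  exact (mem_sup_iff_of_le_normalizer (hP.le.trans (le_normalizer_res H))).1 hx

theorem res_le_of_relIndex {H K : Subgroup G} (hn : H ≤ normalizer (K : Set G)) {n : ℕ}
    (h : K.relIndex H = p ^ n) : res p H ≤ K := by
  haveI : (K.subgroupOf H).Normal := normal_subgroupOf_of_le_normalizer hn
  have := pResidual_le_of_index (N := K.subgroupOf H) h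
  rintro _ ⟨x, hx, rfl⟩
  exact this hx

theorem exists_pow_mem_res {H : Subgroup G} {x : G} (hx : x ∈ H) : ∃ k, x ^ p ^ k ∈ res p H := by
  obtain ⟨k, hk⟩ := exists_pow_coprime (p := p) x
  exact ⟨k, mem_res (pow_mem hx _) hk⟩

theorem map_res {G' : Type*} [Group G'] (f : G →* G') (H : Subgroup G) :
    (res p H).map f = res p (H.map f) := by
  rw [res, res, ← map_pResidual_eq (f.subgroupMap H) (f.subgroupMap_surjective H), map_map, map_map]
  rfl

/-! ### Normal `p`-complements -/

theorem mem_iff_coprime_of_isComplement (P : Sylow p G) (N : Subgroup G) [N.Normal]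
    (hN : N.IsComplement' (P : Subgroup G)) (x : G) : x ∈ N ↔ Nat.Coprime (orderOf x) p := by
  constructor
  · intro hx
    have h1 : orderOf x ∣ Nat.card N := orderOf_dvd_natCard' hx
    rw [← hN.index_eq_card] at h1
    exact Nat.Coprime.coprime_dvd_left h1
      ((Nat.Prime.coprime_iff_not_dvd hp.out).2 P.not_dvd_index).symm
  · intro hx
    obtain ⟨n, hn⟩ := P.2.exists_card_eq
    exact pResidual_le_of_index (hN.symm.index_eq_card.trans hn) (mem_pResidual_of_coprime hx)
where
  orderOf_dvd_natCard' {N : Subgroup G} {x : G} (hx : x ∈ N) : orderOf x ∣ Nat.card N := by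
    have := orderOf_dvd_natCard (⟨x, hx⟩ : N)
    simpa using this

theorem eq_pResidual_of_isComplement (P : Sylow p G) (N : Subgroup G) [N.Normal]
    (hN : N.IsComplement' (P : Subgroup G)) : N = pResidual p G := by
  refine le_antisymm (fun x hx => mem_pResidual_of_coprime
    ((mem_iff_coprime_of_isComplement P N hN x).1 hx)) ?_
  rw [pResidual, closure_le]
  exact fun x hx => (mem_iff_coprime_of_isComplement P N hN x).2 hx

theorem isComplement_pResidual_of_not_dvd (h : ¬ p ∣ Nat.card (pResidual p G)) (P : Sylow p G) :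
    (pResidual p G).IsComplement' (P : Subgroup G) := by
  obtain ⟨n, hn⟩ := P.2.exists_card_eq
  have hd : Disjoint (pResidual p G) (P : Subgroup G) := disjoint_of_coprime_natCard (by
    rw [hn]; exact (Nat.Coprime.pow_left _ ((Nat.Prime.coprime_iff_not_dvd hp.out).2 h)).symm)
  refine isComplement'_of_disjoint_and_mul_eq_univ hd ?_
  rw [← normal_mul, pResidual_sup_sylow, coe_top]

theorem hasNPC_iff_not_dvd : HasNormalPComplement p G ↔ ¬ p ∣ Nat.card (pResidual p G) := by
  constructor
  · rintro ⟨P, N, hN, hc⟩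
    rw [← eq_pResidual_of_isComplement P N hc, ← hc.index_eq_card]
    exact P.not_dvd_index
  · intro h
    obtain ⟨P⟩ := (inferInstance : Nonempty (Sylow p G))
    exact ⟨P, _, inferInstance, isComplement_pResidual_of_not_dvd h P⟩

theorem hasNPC_iff_sylow (P : Sylow p G) : HasNormalPComplement p G ↔
    ∃ N : Subgroup G, N.Normal ∧ N.IsComplement' (P : Subgroup G) :=
  ⟨fun h => ⟨_, inferInstance, isComplement_pResidual_of_not_dvd (hasNPC_iff_not_dvd.1 h) P⟩,
    fun ⟨N, h1, h2⟩ => ⟨P, N, h1, h2⟩⟩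

theorem hasNPC_iff_inf_eq_bot (P : Sylow p G) :
    HasNormalPComplement p G ↔ (P : Subgroup G) ⊓ pResidual p G = ⊥ := by
  rw [hasNPC_iff_not_dvd, (isSyl_inf_normal P _).eq_bot_iff]

theorem hasNPC_sub_iff {H : Subgroup G} :
    HasNormalPComplement p H ↔ ¬ p ∣ Nat.card (res p H) := by
  rw [hasNPC_iff_not_dvd, card_res]

theorem IsSyl.hasNPC_iff {P H : Subgroup G} (hP : IsSyl p P H) :
    HasNormalPComplement p H ↔ P ⊓ res p H = ⊥ := by
  rw [hasNPC_sub_iff, (hP.inf_of_le_normalizer (res_le H) (le_normalizer_res H)).eq_bot_iff]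

theorem hasNPC_of_normal {N : Subgroup G} [N.Normal] (h1 : ¬ p ∣ Nat.card N) {n : ℕ}
    (h2 : N.index = p ^ n) : HasNormalPComplement p G :=
  hasNPC_iff_not_dvd.2 fun h => h1 (h.trans (card_dvd_of_le (pResidual_le_of_index h2)))

theorem hasNPC_of_quotient {N : Subgroup G} [N.Normal] (h1 : ¬ p ∣ Nat.card N)
    (h2 : IsPGroup p (G ⧸ N)) : HasNormalPComplement p G :=
  hasNPC_iff_not_dvd.2 fun h => h1 (h.trans (card_dvd_of_le (pResidual_le_of_quotient h2)))

theorem hasNPC_of_isPGroup (h : IsPGroup p G) : HasNormalPComplement p G := by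
  rw [hasNPC_iff_not_dvd, pResidual_eq_bot_of_isPGroup h, card_bot]
  exact hp.out.not_dvd_one

theorem hasNPC_of_not_dvd (h : ¬ p ∣ Nat.card G) : HasNormalPComplement p G :=
  hasNPC_iff_not_dvd.2 fun h' => h (h'.trans (card_subgroup_dvd_card _))

theorem hasNPC_subgroup (h : HasNormalPComplement p G) (H : Subgroup G) :
    HasNormalPComplement p H := by
  rw [hasNPC_sub_iff]
  exact fun h' => hasNPC_iff_not_dvd.1 h (h'.trans (card_dvd_of_le (res_le_pResidual H)))

theorem hasNPC_mono {H K : Subgroup G} (h : HasNormalPComplement p K) (hle : H ≤ K) :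
    HasNormalPComplement p H := by
  rw [hasNPC_sub_iff] at h ⊢
  exact fun h' => h (h'.trans (card_dvd_of_le (res_mono hle)))

theorem hasNPC_of_surjective {G' : Type*} [Group G'] (f : G →* G') (hf : Function.Surjective f)
    (h : HasNormalPComplement p G) : HasNormalPComplement p G' := by
  haveI : Finite G' := Finite.of_surjective f hf
  rw [hasNPC_iff_not_dvd] at h ⊢
  rw [← map_pResidual_eq f hf]
  exact fun h' => h (h'.trans (card_map_dvd _ _))

theorem hasNPC_of_injective {G' : Type*} [Group G'] (f : G' →* G) (hf : Function.Injective f)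
    (h : HasNormalPComplement p G) : HasNormalPComplement p G' := by
  haveI : Finite G' := Finite.of_injective f hf
  rw [hasNPC_iff_not_dvd] at h ⊢
  refine fun h' => h (h'.trans ?_)
  rw [← card_map_of_injective hf]
  exact card_dvd_of_le (map_pResidual_le f)

theorem hasNPC_quotient (h : HasNormalPComplement p G) (N : Subgroup G) [N.Normal] :
    HasNormalPComplement p (G ⧸ N) :=
  hasNPC_of_surjective _ (QuotientGroup.mk'_surjective N) h

theorem hasNPC_congr {G' : Type*} [Group G'] (e : G ≃* G') :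
    HasNormalPComplement p G ↔ HasNormalPComplement p G' := by
  haveI : Finite G' := Finite.of_equiv G e
  exact ⟨hasNPC_of_surjective e.toMonoidHom e.surjective,
    hasNPC_of_surjective e.symm.toMonoidHom e.symm.surjective⟩

theorem hasNPC_top : HasNormalPComplement p (⊤ : Subgroup G) ↔ HasNormalPComplement p G :=
  hasNPC_congr topEquiv

theorem hasNPC_cj {H : Subgroup G} (g : G) :
    HasNormalPComplement p (cj g H) ↔ HasNormalPComplement p H :=
  (hasNPC_congr (cjEquiv g H)).symm

theorem hasNPC_map {G' : Type*} [Group G'] (f : G →* G') {H : Subgroup G}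
    (h : HasNormalPComplement p H) : HasNormalPComplement p (H.map f) :=
  hasNPC_of_surjective (f.subgroupMap H) (f.subgroupMap_surjective H) h

theorem hasNPC_res_iff (H : Subgroup G) :
    HasNormalPComplement p (res p H) ↔ HasNormalPComplement p H := by
  rw [hasNPC_sub_iff, hasNPC_sub_iff, res_res]

/-- An extension of a `p'`-group by a group with a normal `p`-complement has one. -/
theorem hasNPC_of_quotient_coprime {N : Subgroup G} [N.Normal] (h1 : ¬ p ∣ Nat.card N)
    (h2 : HasNormalPComplement p (G ⧸ N)) : HasNormalPComplement p G := by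
  rw [hasNPC_iff_not_dvd] at h2 ⊢
  rw [← map_pResidual_eq (QuotientGroup.mk' N) (QuotientGroup.mk'_surjective N),
    ← relIndex_ker, QuotientGroup.ker_mk'] at h2
  intro h
  rw [← card_inf_mul_relIndex N] at h
  rcases (Nat.Prime.dvd_mul hp.out).1 h with h | h
  · exact h1 (h.trans (card_dvd_of_le inf_le_left))
  · exact h2 h

/-- In a group with a normal `p`-complement, `p'`-elements normalizing a `p`-subgroup centralize it. -/
theorem mem_centralizer_of_hasNPC {H Q : Subgroup G} (h : HasNormalPComplement p H)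
    (hQ : IsPGroup p Q) (hQH : Q ≤ H) {g : G} (hgH : g ∈ H) (hg : g ∈ normalizer (Q : Set G))
    (hc : (orderOf g).Coprime p) : g ∈ centralizer (Q : Set G) := by
  rw [mem_centralizer_iff]
  intro x hx
  have h1 : x * g * x⁻¹ * g⁻¹ ∈ Q ⊓ res p H := by
    refine mem_inf.2 ⟨?_, ?_⟩
    · have := conj_mem_of_mem_normalizer hg (inv_mem hx)
      have := mul_mem hx this
      simpa [mul_assoc] using this
    · exact mul_mem (conj_mem_of_mem_normalizer (le_normalizer_res H (hQH hx)) (mem_res hgH hc))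
        (inv_mem (mem_res hgH hc))
  have h2 : Q ⊓ res p H = ⊥ := by
    rw [← card_eq_one]
    refine (hQ.to_le inf_le_left).card_eq_or_dvd.resolve_right fun h' => ?_
    exact hasNPC_sub_iff.1 h (h'.trans (card_dvd_of_le inf_le_right))
  rw [h2, mem_bot] at h1
  calc x * g = (x * g * x⁻¹ * g⁻¹) * (g * x) := by group
    _ = g * x := by rw [h1, one_mul]

/-! ### The focal subgroup theorem -/

theorem focalSubgroup_le_of {P Q₁ : Subgroup G}
    (h : ∀ x ∈ P, ∀ k : G, k * x * k⁻¹ ∈ P → k * x * k⁻¹ * x⁻¹ ∈ Q₁) : P.focalSubgroup ≤ Q₁ := by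
  rw [focalSubgroup_def, closure_le]
  rintro g ⟨hg, x, hx, u, rfl⟩
  have h1 : u * x * u⁻¹ ∈ P := by
    have := mul_mem (inv_mem hg) hx
    simpa [commutatorElement_def, mul_assoc] using this
  have := inv_mem (h x hx u h1)
  simpa [commutatorElement_def, mul_assoc] using this

theorem mem_focalSubgroup {P : Subgroup G} {x k : G} (hx : x ∈ P) (h : k * x * k⁻¹ ∈ P) :
    k * x * k⁻¹ * x⁻¹ ∈ P.focalSubgroup := by
  have : ⁅x, k⁆ ∈ P.focalSubgroup := by
    refine subset_closure ⟨?_, x, hx, k, rfl⟩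
    have := mul_mem hx (inv_mem h)
    simpa [commutatorElement_def, mul_assoc] using this
  have := inv_mem this
  simpa [commutatorElement_def, mul_assoc] using this

open scoped IsMulCommutative in
theorem sylow_inf_commutator_sup_pResidual (P : Sylow p G) :
    (P : Subgroup G) ⊓ (_root_.commutator G ⊔ pResidual p G) = P.focalSubgroup := by
  apply le_antisymm
  · rw [← ker_transferFocal_inf_eq_focalSubgroup P, inf_comm]
    refine inf_le_inf_right _ (sup_le (Abelianization.commutator_subset_ker _) ?_)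
    exact pResidual_le_ker (P.2.to_quotient _) _
  · exact le_inf (focalSubgroup_le _) ((focalSubgroup_le_commutator _).trans le_sup_left)

/-- Focal subgroup theorem inside a subgroup `K`. -/
theorem IsSyl.inf_commutator_sup_res_le {Q K Q₁ : Subgroup G} (hQ : IsSyl p Q K)
    (h : ∀ x ∈ Q, ∀ k ∈ K, k * x * k⁻¹ ∈ Q → k * x * k⁻¹ * x⁻¹ ∈ Q₁) :
    Q ⊓ (⁅K, K⁆ ⊔ res p K) ≤ Q₁ := by
  obtain ⟨S, hS⟩ := hQ.exists_sylow_sub
  have h1 := sylow_inf_commutator_sup_pResidual S
  have h2 : (S : Subgroup K).focalSubgroup ≤ Q₁.subgroupOf K := by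
    apply focalSubgroup_le_of
    intro x hx k hk
    rw [hS] at hx hk
    exact h x hx k k.2 hk
  intro x hx
  have hxK : x ∈ K := hQ.le hx.1
  have : (⟨x, hxK⟩ : K) ∈ (S : Subgroup K) ⊓ (_root_.commutator K ⊔ pResidual p K) := by
    refine ⟨by rw [hS]; exact hx.1, ?_⟩
    have h3 := hx.2
    rw [← map_subtype_commutator, res, ← Subgroup.map_sup] at h3
    obtain ⟨y, hy, hyx⟩ := h3
    have : y = ⟨x, hxK⟩ := Subtype.ext hyx
    rwa [← this]
  rw [h1] at this
  exact h2 this

/-- If `V ≥ P` controls the fusion of elements of `P` in `H`, then `P ∩ O^p(H) = P ∩ O^p(V)`. -/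
theorem IsSyl.inf_res_eq_of_controls {P H V : Subgroup G} (hP : IsSyl p P H) (hPV : P ≤ V)
    (hVH : V ≤ H)
    (hc : ∀ x ∈ P, ∀ g ∈ H, g * x * g⁻¹ ∈ P → ∃ v ∈ V, v * x * v⁻¹ = g * x * g⁻¹) :
    P ⊓ res p H = P ⊓ res p V := by
  refine le_antisymm ?_ (inf_le_inf_left _ (res_mono hVH))
  have hQ : IsSyl p (P ⊓ res p H) (res p H) :=
    hP.inf_of_le_normalizer (res_le H) (le_normalizer_res H)
  have hPV' : IsSyl p P V := hP.mono hPV hVH
  refine le_of_le_sup_commutator hP.pgroup inf_le_left inf_le_left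
    (fun x hx => mem_normalizer_inf (le_normalizer hx) (le_normalizer_res V (hPV hx))) ?_
  have key := hQ.inf_commutator_sup_res_le (Q₁ := (P ⊓ res p V) ⊔ ⁅P ⊓ res p H, P⁆) (by
    intro x hx k hk hkx
    obtain ⟨v, hv, he⟩ := hc x hx.1 k (res_le H hk) hkx.1
    obtain ⟨a, ha, s, hs, rfl⟩ := hPV'.exists_res_mul hv
    have hy : s * x * s⁻¹ ∈ P := mul_mem (mul_mem hs hx.1) (inv_mem hs)
    have h1 : k * x * k⁻¹ * (s * x * s⁻¹)⁻¹ ∈ P ⊓ res p V := by
      refine mem_inf.2 ⟨mul_mem (mem_inf.1 hkx).1 (inv_mem hy), ?_⟩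
      rw [← he]
      have := mul_mem ha (conj_mem_of_mem_normalizer (le_normalizer_res V (hPV hy)) (inv_mem ha))
      convert this using 1
      group
    have h2 : s * x * s⁻¹ * x⁻¹ ∈ ⁅P ⊓ res p H, P⁆ := by
      rw [commutator_comm]
      exact commutator_mem_commutator hs hx
    have := mul_mem (mem_sup_left h1 : _ ∈ (P ⊓ res p V) ⊔ ⁅P ⊓ res p H, P⁆) (mem_sup_right h2)
    convert this using 1
    group)
  rw [res_res] at key
  exact le_trans (le_inf le_rfl (inf_le_right.trans le_sup_right)) key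

theorem sylow_inf_pResidual_eq_of_controls (P : Sylow p G) {V : Subgroup G} (hPV : (P : Subgroup G) ≤ V)
    (hc : ∀ x ∈ P, ∀ g : G, g * x * g⁻¹ ∈ P → ∃ v ∈ V, v * x * v⁻¹ = g * x * g⁻¹) :
    (P : Subgroup G) ⊓ pResidual p G = (P : Subgroup G) ⊓ res p V := by
  rw [← res_top]
  exact (isSyl_top P).inf_res_eq_of_controls hPV le_top fun x hx g _ h => hc x hx g h

/-- If `V ≥ P` controls fusion in `P` and has a normal `p`-complement, so has `H`. -/
theorem IsSyl.hasNPC_of_controls {P H V : Subgroup G} (hP : IsSyl p P H) (hPV : P ≤ V)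
    (hVH : V ≤ H)
    (hc : ∀ x ∈ P, ∀ g ∈ H, g * x * g⁻¹ ∈ P → ∃ v ∈ V, v * x * v⁻¹ = g * x * g⁻¹)
    (hV : HasNormalPComplement p V) : HasNormalPComplement p H := by
  rw [hP.hasNPC_iff, hP.inf_res_eq_of_controls hPV hVH hc, ← (hP.mono hPV hVH).hasNPC_iff]
  exact hV

theorem hasNPC_of_controls (P : Sylow p G) {V : Subgroup G} (hPV : (P : Subgroup G) ≤ V)
    (hc : ∀ x ∈ P, ∀ g : G, g * x * g⁻¹ ∈ P → ∃ v ∈ V, v * x * v⁻¹ = g * x * g⁻¹)
    (hV : HasNormalPComplement p V) : HasNormalPComplement p G :=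
  hasNPC_top.1 ((isSyl_top P).hasNPC_of_controls hPV le_top (fun x hx g _ h => hc x hx g h) hV)

/-- A Sylow subgroup controlling its own fusion has a normal complement. -/
theorem hasNPC_of_controls_self (P : Sylow p G)
    (hc : ∀ x ∈ P, ∀ g : G, g * x * g⁻¹ ∈ P → ∃ v ∈ P, v * x * v⁻¹ = g * x * g⁻¹) :
    HasNormalPComplement p G :=
  hasNPC_of_controls P le_rfl hc (hasNPC_of_isPGroup P.2)

/-- With a normal `p`-complement, the Sylow subgroup controls its own fusion (strongly). -/
theorem IsSyl.exists_conj_of_hasNPC {P H : Subgroup G} (hP : IsSyl p P H)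
    (h : HasNormalPComplement p H) {g : G} (hg : g ∈ H) :
    ∃ s ∈ P, ∀ x ∈ P, g * x * g⁻¹ ∈ P → s * x * s⁻¹ = g * x * g⁻¹ := by
  obtain ⟨a, ha, s, hs, rfl⟩ := hP.exists_res_mul hg
  refine ⟨s, hs, fun x hx hgx => ?_⟩
  have hy : s * x * s⁻¹ ∈ P := mul_mem (mul_mem hs hx) (inv_mem hs)
  have h1 : a * s * x * (a * s)⁻¹ * (s * x * s⁻¹)⁻¹ ∈ P ⊓ res p H := by
    refine mem_inf.2 ⟨mul_mem hgx (inv_mem hy), ?_⟩
    have := mul_mem ha (conj_mem_of_mem_normalizer (le_normalizer_res H (hP.le hy)) (inv_mem ha))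
    convert this using 1
    group
  rw [hP.hasNPC_iff.1 h, mem_bot, mul_inv_eq_one] at h1
  exact h1.symm

/-- If `V ≥ P` controls fusion of elements of `P` then the focal subgroups agree. -/
theorem IsSyl.inf_commutator_eq_of_controls {P H V : Subgroup G} (hP : IsSyl p P H) (hPV : P ≤ V)
    (hVH : V ≤ H)
    (hc : ∀ x ∈ P, ∀ g ∈ H, g * x * g⁻¹ ∈ P → ∃ v ∈ V, v * x * v⁻¹ = g * x * g⁻¹) :
    P ⊓ (⁅H, H⁆ ⊔ res p H) ≤ ⁅P, V⁆ := by
  refine hP.inf_commutator_sup_res_le ?_
  intro x hx k hk hkx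
  obtain ⟨v, hv, he⟩ := hc x hx k hk hkx
  rw [← he, commutator_comm]
  exact commutator_mem_commutator hv hx

end Cfsg.Agent.Transfer
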