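import Cfsg.Agent.Lib.Transfer.AutS2

set_option autoImplicit false
set_option linter.unusedSectionVars false

namespace Cfsg.Agent.Transfer
open Subgroup Cfsg.Agent.MS
open scoped commutatorElement

universe u
variable {G : Type u} [Group G] [Finite G]

theorem exists_pow_eq {x y : G} (h : y ∈ zpowers x) : ∃ n : ℕ, x ^ n = y :=
  (mem_powers_iff_mem_zpowers.2 h : y ∈ Submonoid.powers x)

section
variable {p : ℕ} [hp : Fact p.Prime]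

theorem mem_der_of_central {H : Subgroup G} (hH : (#H).Coprime H.index) {z : G} (hz : z ∈ H)
    (hc : z ∈ center G) (hd : z ∈ _root_.commutator G) : z ∈ ⁅H, H⁆ := by
  have h1 := transfer_eq_pow_of_mem (Abelianization.of (G := H)) hz fun k a h => by
    rw [← map_pow]
    congr 1
    refine Subtype.ext ?_
    show a⁻¹ * z ^ k * a = z ^ k
    rw [mul_assoc, ← (mem_center_iff.1 (pow_mem hc k) a), inv_mul_cancel_left]
  have h2 : MonoidHom.transfer (Abelianization.of (G := H)) z = 1 :=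
    Abelianization.commutator_subset_ker _ hd
  rw [h2, eq_comm, ← map_pow] at h1
  have h3 : (⟨z, hz⟩ : H) ^ H.index ∈ _root_.commutator H := by
    rw [← Abelianization.ker_of]; exact h1
  have h4 : z ^ H.index ∈ ⁅H, H⁆ := by
    rw [← map_commutator_eq']; exact mem_map_of_mem _ h3
  exact mem_of_pow_mem_coprime (Nat.Coprime.coprime_dvd_left (orderOf_dvd hz) hH) h4

theorem ab_syl_focal {P H : Subgroup G} (hP : IsSyl p P H) (hab : IsMulCommutative P) :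
    P ⊓ (⁅H, H⁆ ⊔ res p H) = ⁅P, H ⊓ NN P⁆ := by
  refine le_antisymm (hP.inf_commutator_eq_of_controls (le_inf hP.le (le_nn P)) inf_le_left fun x hx g hg h =>
    burnside_fus hP (ab_cc hab hx) hg (ab_cc hab h)) ?_
  exact le_inf (comm_le_left inf_le_right) ((commutator_mono hP.le inf_le_left).trans le_sup_left)

omit hp [Finite G] in
theorem comm_pow_left {x y : G} (h : Commute ⁅x, y⁆ x) (n : ℕ) : ⁅x ^ n, y⁆ = ⁅x, y⁆ ^ n := by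
  induction n with
  | zero => simp
  | succ n ih =>
    rw [pow_succ', pow_succ, ← ih]
    have := (h.pow_left n).eq
    rw [← ih] at this
    calc ⁅x * x ^ n, y⁆ = x * ⁅x ^ n, y⁆ * x⁻¹ * ⁅x, y⁆ := by simp only [commutatorElement_def]; group
      _ = _ := by rw [← this]; group

omit hp [Finite G] in
theorem comm_pow_right {x y : G} (h : Commute ⁅x, y⁆ y) (n : ℕ) : ⁅x, y ^ n⁆ = ⁅x, y⁆ ^ n := by
  rw [← commutatorElement_inv, comm_pow_left (by rw [← commutatorElement_inv]; exact h.inv_left),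
    ← inv_pow, commutatorElement_inv]

omit hp [Finite G] in
theorem comm_mul_left {x y a : G} (h : Commute ⁅y, a⁆ x) : ⁅x * y, a⁆ = ⁅y, a⁆ * ⁅x, a⁆ := by
  calc ⁅x * y, a⁆ = x * ⁅y, a⁆ * x⁻¹ * ⁅x, a⁆ := by simp only [commutatorElement_def]; group
    _ = _ := by rw [← h.eq]; group

omit hp [Finite G] in
theorem comm_eq_one_iff_C1 {x y : G} : ⁅x, y⁆ = 1 ↔ x ∈ C1 y := by
  rw [commutatorElement_eq_one_iff_mul_comm, mem_C1]

/-- splitting off a hyperbolic pair -/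
theorem split_pair {H Z : Subgroup G} (hZ : #Z = p) (hZH : Z ≤ CC H) {x y : G} (hx : x ∈ H) (hy : y ∈ H)
    (hxy : ⁅x, y⁆ ≠ 1) (h1 : ∀ h ∈ H, ⁅h, x⁆ ∈ Z) (h2 : ∀ h ∈ H, ⁅h, y⁆ ∈ Z) {h : G} (hh : h ∈ H) :
    ∃ a b : ℕ, ∃ c ∈ H ⊓ C1 x ⊓ C1 y, h = x ^ a * y ^ b * c := by
  have cm : ∀ z ∈ Z, ∀ g ∈ H, Commute z g := fun z hz g hg => (mem_CC.1 (hZH hz) g hg).symm
  have e : zpowers ⁅x, y⁆ = Z := prime_eq_zpowers (hZ ▸ hp.out) (h2 x hx) hxy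
  have e' : zpowers ⁅y, x⁆ = Z := by rw [← commutatorElement_inv, zpowers_inv, e]
  obtain ⟨a, ha⟩ := exists_pow_eq (e.ge (h2 h hh))
  obtain ⟨b, hb⟩ := exists_pow_eq (e'.ge (h1 h hh))
  have hw : x ^ a * y ^ b ∈ H := mul_mem (pow_mem hx a) (pow_mem hy b)
  have key : ∀ u ∈ H, (∀ h ∈ H, ⁅h, u⁆ ∈ Z) → ⁅x ^ a * y ^ b, u⁆ = ⁅h, u⁆ → (x ^ a * y ^ b)⁻¹ * h ∈ C1 u := by
    intro u hu h3 h4
    have h5 := comm_mul_left (x := x ^ a * y ^ b) (y := (x ^ a * y ^ b)⁻¹ * h) (a := u)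
      (cm _ (h3 _ (mul_mem (inv_mem hw) hh)) _ hw)
    rw [mul_inv_cancel_left, h4] at h5
    exact comm_eq_one_iff_C1.1 (by simpa using h5)
  refine ⟨a, b, (x ^ a * y ^ b)⁻¹ * h, ⟨⟨H.mul_mem (H.inv_mem hw) hh, key x hx h1 ?_⟩, key y hy h2 ?_⟩, by group⟩
  · rw [comm_mul_left (cm _ (h1 _ (pow_mem hy b)) _ (pow_mem hx a)), comm_pow_left (cm _ (h1 _ hy) _ hy), hb,
      comm_eq_one_iff_C1.2 (pow_mem (self_mem_C1 x) a), mul_one]
  · rw [comm_mul_left (cm _ (h2 _ (pow_mem hy b)) _ (pow_mem hx a)), comm_pow_left (cm _ (h2 _ hx) _ hx), ha,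
      comm_eq_one_iff_C1.2 (pow_mem (self_mem_C1 y) b), one_mul]

theorem relIndex_C1_eq {H Z : Subgroup G} (hZ : #Z = p) (hZH : Z ≤ CC H) {x : G}
    (h1 : ∀ h ∈ H, ⁅h, x⁆ ∈ Z) (h : ¬ H ≤ C1 x) : (C1 x).relIndex H = p := by
  let f : H →* Z := MonoidHom.mk' (fun h => ⟨⁅(h : G), x⁆, h1 h h.2⟩) fun a b => Subtype.ext (by
    have e := (mem_CC.1 (hZH (h1 b b.2)) a a.2).symm
    have e' := BG.comm_of_card_le (p := p) (P := Z) (pg_of_card hZ) (by rw [hZ]; nlinarith [hp.out.one_lt])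
    simp only [coe_mul]
    rw [comm_mul_left e]
    exact comm_iff.1 e' _ (h1 b b.2) _ (h1 a a.2))
  have h2 : f.ker = (C1 x).subgroupOf H := by
    ext a
    rw [MonoidHom.mem_ker, mem_subgroupOf, ← comm_eq_one_iff_C1]
    exact ⟨fun h => congrArg Subtype.val h, fun h => Subtype.ext h⟩
  rw [relIndex, ← h2, index_ker]
  refine ((Nat.dvd_prime hp.out).1 (hZ ▸ card_subgroup_dvd_card _)).resolve_left fun e => h fun a ha => ?_
  have : f ⟨a, ha⟩ ∈ f.range := ⟨_, rfl⟩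
  rw [card_eq_one.1 e, mem_bot] at this
  exact comm_eq_one_iff_C1.1 (congrArg Subtype.val this)

theorem card_pair_cent {H Z : Subgroup G} (hZ : #Z = p) (hZH : Z ≤ CC H) {x y : G} (hx : x ∈ H) (hy : y ∈ H)
    (hxy : ⁅x, y⁆ ≠ 1) (h1 : ∀ h ∈ H, ⁅h, x⁆ ∈ Z) (h2 : ∀ h ∈ H, ⁅h, y⁆ ∈ Z) :
    #H = p ^ 2 * #(H ⊓ C1 x ⊓ C1 y : Subgroup G) := by
  have e1 := relIndex_C1_eq hZ hZH h1 fun h => hxy (comm_eq_one_iff_C1.2 (mem_C1_comm.1 (h hy)))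
  have e2 := relIndex_C1_eq (H := H ⊓ C1 x) hZ (hZH.trans (cc_anti inf_le_left)) (fun h hh => h2 h hh.1)
    fun h => hxy (comm_eq_one_iff_C1.2 (h ⟨hx, self_mem_C1 x⟩))
  rw [← card_inf_mul_relIndex (C1 x) H, e1, inf_comm, ← card_inf_mul_relIndex (C1 y) (H ⊓ C1 x), e2,
    inf_comm (C1 y)]
  ring

omit hp [Finite G] in
theorem exists_noncomm {E : Subgroup G} (h : ¬ E ≤ CC E) : ∃ x ∈ E, ∃ y ∈ E, ⁅x, y⁆ ≠ 1 := by
  by_contra h1
  push Not at h1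
  exact h fun x hx => mem_CC.2 fun y hy => commutatorElement_eq_one_iff_mul_comm.1 (h1 y hy x hx)

theorem pair_center {H Z : Subgroup G} (hZ : #Z = p) (hZH : Z ≤ CC H) {x y : G} (hx : x ∈ H) (hy : y ∈ H)
    (hxy : ⁅x, y⁆ ≠ 1) (h1 : ∀ h ∈ H, ⁅h, x⁆ ∈ Z) (h2 : ∀ h ∈ H, ⁅h, y⁆ ∈ Z) :
    C1 x ⊓ C1 y ⊓ CC (H ⊓ C1 x ⊓ C1 y) ≤ CC H := by
  intro w hw
  refine le_C1_iff.1 fun h hh => ?_
  obtain ⟨a, b, c, hc, rfl⟩ := split_pair hZ hZH hx hy hxy h1 h2 hh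
  exact mul_mem (mul_mem (pow_mem (mem_C1_comm.1 hw.1.1) a) (pow_mem (mem_C1_comm.1 hw.1.2) b))
    (le_C1_iff.2 hw.2 hc)

theorem card_eq_center_mul {Z : Subgroup G} (hZ : #Z = p) (E : Subgroup G) : Z ≤ CC E → ⁅E, E⁆ ≤ Z →
    ∃ n, #E = p ^ (2 * n) * #(E ⊓ CC E : Subgroup G) := by
  induction E using WellFoundedLT.induction with
  | _ E ih =>
  intro hZE hE
  by_cases h : E ≤ CC E
  · exact ⟨0, by rw [inf_eq_left.2 h]; simp⟩
  obtain ⟨x, hx, y, hy, hxy⟩ := exists_noncomm h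
  have h1 : ∀ u ∈ E, ∀ h ∈ E, ⁅h, u⁆ ∈ Z := fun u hu h hh => hE (commutator_mem_commutator hh hu)
  have hle : E ⊓ C1 x ⊓ C1 y ≤ E := inf_le_left.trans inf_le_left
  obtain ⟨n, hn⟩ := ih (E ⊓ C1 x ⊓ C1 y) (lt_of_le_of_ne hle fun e =>
    hxy (comm_eq_one_iff_C1.2 (e.ge hx).2)) (hZE.trans (cc_anti hle)) ((der_mono hle).trans hE)
  refine ⟨n + 1, ?_⟩
  rw [card_pair_cent hZ hZE hx hy hxy (h1 x hx) (h1 y hy), hn]
  have : E ⊓ C1 x ⊓ C1 y ⊓ CC (E ⊓ C1 x ⊓ C1 y) = E ⊓ CC E := le_antisymm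
    (le_inf (inf_le_left.trans hle) fun w hw => pair_center hZ hZE hx hy hxy (h1 x hx) (h1 y hy)
      ⟨⟨hw.1.1.2, hw.1.2⟩, hw.2⟩)
    (le_inf (le_inf (inf_le_inf_left _ (cc_le_C1 hx)) (inf_le_right.trans (cc_le_C1 hy)))
      (inf_le_right.trans (cc_anti hle)))
  rw [this]; ring

theorem le_sup_cc_of_comm {Z : Subgroup G} (hZ : #Z = p) (E : Subgroup G) : ∀ H : Subgroup G, E ≤ H → Z ≤ CC H →
    ⁅H, E⁆ ≤ Z → E ⊓ CC E ≤ CC H → H ≤ E ⊔ H ⊓ CC E := by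
  induction E using WellFoundedLT.induction with
  | _ E ih =>
  intro H hEH hZH hE hc
  by_cases h : E ≤ CC E
  · exact le_sup_of_le_right (le_inf le_rfl (cc_symm ((le_inf le_rfl h).trans hc)))
  obtain ⟨x, hx, y, hy, hxy⟩ := exists_noncomm h
  have h1 : ∀ u ∈ E, ∀ h ∈ H, ⁅h, u⁆ ∈ Z := fun u hu h hh => hE (commutator_mem_commutator hh hu)
  have hle : E ⊓ C1 x ⊓ C1 y ≤ E := inf_le_left.trans inf_le_left
  have hle' : H ⊓ C1 x ⊓ C1 y ≤ H := inf_le_left.trans inf_le_left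
  have hZE := hZH.trans (cc_anti hEH)
  have h2 := pair_center hZ hZE hx hy hxy (fun h hh => h1 x hx h (hEH hh)) (fun h hh => h1 y hy h (hEH hh))
  have h3 := ih (E ⊓ C1 x ⊓ C1 y) (lt_of_le_of_ne hle fun e => hxy (comm_eq_one_iff_C1.2 (e.ge hx).2))
    (H ⊓ C1 x ⊓ C1 y) (inf_le_inf_right _ (inf_le_inf_right _ hEH)) (hZH.trans (cc_anti hle'))
    ((commutator_mono hle' hle).trans hE)
    (fun w hw => cc_anti hle' (hc ⟨hw.1.1.1, h2 ⟨⟨hw.1.1.2, hw.1.2⟩, hw.2⟩⟩))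
  intro h hh
  obtain ⟨a, b, c, hc, rfl⟩ := split_pair hZ hZH (hEH hx) (hEH hy) hxy (h1 x hx) (h1 y hy) hh
  refine mul_mem (mem_sup_left (mul_mem (pow_mem hx a) (pow_mem hy b))) ?_
  refine (sup_le_sup hle ?_ : _ ≤ E ⊔ H ⊓ CC E) (h3 hc)
  exact fun w hw => ⟨hw.1.1.1, h2 ⟨⟨hw.1.1.2, hw.1.2⟩, hw.2⟩⟩

omit hp in
theorem mem_glue {Γ : Subgroup G} {X Y w : G} (hX : Γ ≤ C1 X) (hY : Γ ≤ C1 Y) (h : ⁅X, Y⁆ ∈ Γ)
    (hw : w ∈ zpowers X ⊔ (zpowers Y ⊔ Γ)) : ∃ a b : ℕ, ∃ c ∈ Γ, w = X ^ a * Y ^ b * c := by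
  have h1 : zpowers Y ≤ NN Γ := nn_of_cc (zpowers_le.2 (le_C1_iff.1 hY))
  have h2 : zpowers X ≤ NN (zpowers Y ⊔ Γ) := zpowers_le.2 (mem_normalizer_of_cj_le (by
    rw [cj_sup, cj_zpowers, cj_cc (le_C1_iff.1 hX)]
    refine sup_le (zpowers_le.2 ?_) le_sup_right
    have : X * Y * X⁻¹ = ⁅X, Y⁆ * Y := by simp only [commutatorElement_def]; group
    rw [this]
    exact mul_mem (mem_sup_right h) (mem_sup_left (mem_zpowers Y))))
  obtain ⟨u, hu, v, hv, rfl⟩ := (mem_sup_r h2).1 hw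
  obtain ⟨v, hv', c, hc, rfl⟩ := (mem_sup_r h1).1 hv
  obtain ⟨a, rfl⟩ := exists_pow_eq hu
  obtain ⟨b, rfl⟩ := exists_pow_eq hv'
  exact ⟨a, b, c, hc, by group⟩

theorem dvd_of_glue {H : Subgroup G} {z x y c : G} (hz : orderOf z = p) (hzH : z ∈ CC H) (hx : x ∈ H) (hy : y ∈ H)
    (hxy : ⁅x, y⁆ = z) (hc : c ∈ H ⊓ C1 x ⊓ C1 y) {a b : ℕ} (h : x ^ a * y ^ b * c = 1) : p ∣ a ∧ p ∣ b := by
  have cm : ∀ g ∈ H, Commute z g := fun g hg => (mem_CC.1 hzH g hg).symm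
  have hyx : ⁅y, x⁆ = z⁻¹ := by rw [← hxy, commutatorElement_inv]
  constructor
  · have h1 : x ^ a ∈ C1 y := by
      have : x ^ a = (y ^ b * c)⁻¹ := by rw [eq_inv_iff_mul_eq_one, ← mul_assoc, h]
      rw [this]; exact inv_mem (mul_mem (pow_mem (self_mem_C1 y) b) hc.2)
    rw [← comm_eq_one_iff_C1, comm_pow_left (hxy ▸ cm x hx), hxy] at h1
    exact hz ▸ orderOf_dvd_of_pow_eq_one h1
  · have h1 : y ^ b ∈ C1 x := by
      have : y ^ b = (x ^ a)⁻¹ * c⁻¹ := by rw [← one_mul c⁻¹, ← h]; group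
      rw [this]; exact mul_mem (inv_mem (pow_mem (self_mem_C1 x) a)) (inv_mem hc.1.2)
    rw [← comm_eq_one_iff_C1, comm_pow_left (hyx ▸ (cm y hy).inv_left), hyx, inv_pow, inv_eq_one] at h1
    exact hz ▸ orderOf_dvd_of_pow_eq_one h1

/-- gluing an isomorphism of centralizers of hyperbolic pairs -/
theorem glue_pair {G' : Type*} [Group G'] [Finite G'] {H : Subgroup G} {H' : Subgroup G'} {z x y : G} {z' x' y' : G'}
    (hz : orderOf z = p) (hz' : orderOf z' = p) (hzH : z ∈ H ⊓ CC H) (hzH' : z' ∈ H' ⊓ CC H')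
    (hx : x ∈ H) (hy : y ∈ H) (hx' : x' ∈ H') (hy' : y' ∈ H') (hxy : ⁅x, y⁆ = z) (hxy' : ⁅x', y'⁆ = z')
    (h1 : ⁅H, H⁆ ≤ zpowers z) (h1' : ⁅H', H'⁆ ≤ zpowers z') {a b : ℕ} (ha : x ^ p = z ^ a) (ha' : x' ^ p = z' ^ a)
    (hb : y ^ p = z ^ b) (hb' : y' ^ p = z' ^ b)
    (e : (H ⊓ C1 x ⊓ C1 y : Subgroup G) ≃* (H' ⊓ C1 x' ⊓ C1 y' : Subgroup G'))
    (he : ∀ w : (H ⊓ C1 x ⊓ C1 y : Subgroup G), (w : G) = z → (e w : G') = z') :
    ∃ f : H ≃* H', ∀ w : H, (w : G) = z → (f w : G') = z' := by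
  let φ : (H ⊓ C1 x ⊓ C1 y : Subgroup G) →* G × G' :=
    (Subgroup.subtype _).prod ((Subgroup.subtype _).comp e.toMonoidHom)
  have hzc : z ∈ H ⊓ C1 x ⊓ C1 y := ⟨⟨hzH.1, cc_le_C1 hx hzH.2⟩, cc_le_C1 hy hzH.2⟩
  have hzφ : φ ⟨z, hzc⟩ = (z, z') := Prod.ext rfl (he _ rfl)
  have hX : φ.range ≤ C1 (x, x') := by
    rintro _ ⟨c, rfl⟩
    exact mem_C1.2 (Prod.ext (mem_C1.1 c.2.1.2) (mem_C1.1 (e c).2.1.2))
  have hY : φ.range ≤ C1 (y, y') := by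
    rintro _ ⟨c, rfl⟩
    exact mem_C1.2 (Prod.ext (mem_C1.1 c.2.2) (mem_C1.1 (e c).2.2))
  have hXY : ⁅(x, x'), (y, y')⁆ ∈ φ.range := ⟨_, hzφ.trans (Prod.ext hxy.symm hxy'.symm)⟩
  have key : ∀ (i j : ℕ) c, p ∣ i ∧ p ∣ j → ∃ d, (x, x') ^ i * (y, y') ^ j * φ c = φ d := by
    rintro _ _ c ⟨⟨i, rfl⟩, j, rfl⟩
    refine ⟨⟨z, hzc⟩ ^ (a * i) * ⟨z, hzc⟩ ^ (b * j) * c, ?_⟩
    rw [map_mul, map_mul, map_pow, map_pow, hzφ, pow_mul, pow_mul, pow_mul, pow_mul]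
    congr 3
    · exact Prod.ext ha ha'
    · exact Prod.ext hb hb'
  obtain ⟨f, hf⟩ := exists_mulEquiv_of_graph (zpowers (x, x') ⊔ (zpowers (y, y') ⊔ φ.range))
    (fun w hw h => by
      obtain ⟨i, j, _, ⟨c, rfl⟩, rfl⟩ := mem_glue hX hY hXY hw
      obtain ⟨d, hd⟩ := key i j c (dvd_of_glue hz hzH.2 hx hy hxy c.2 h)
      rw [hd] at h ⊢
      have : d = 1 := Subtype.ext h
      rw [this, map_one]; rfl)
    (fun w hw h => by
      obtain ⟨i, j, _, ⟨c, rfl⟩, rfl⟩ := mem_glue hX hY hXY hw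
      obtain ⟨d, hd⟩ := key i j c (dvd_of_glue hz' hzH'.2 hx' hy' hxy' (e c).2 h)
      rw [hd] at h ⊢
      have : d = 1 := e.injective ((Subtype.ext h : e d = 1).trans (map_one e).symm)
      rw [this, map_one]; rfl)
  have hne : z ≠ 1 := fun e => hp.out.one_lt.ne (by rw [← hz, e, orderOf_one])
  have hne' : z' ≠ 1 := fun e => hp.out.one_lt.ne (by rw [← hz', e, orderOf_one])
  have m1 : ∀ c, φ c ∈ zpowers (x, x') ⊔ (zpowers (y, y') ⊔ φ.range) := fun c => mem_sup_right (mem_sup_right ⟨c, rfl⟩)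
  have m2 : ∀ i j c, (x, x') ^ i * (y, y') ^ j * φ c ∈ zpowers (x, x') ⊔ (zpowers (y, y') ⊔ φ.range) := fun (i j : ℕ) c =>
    mul_mem (mul_mem (mem_sup_left (npow_mem_zpowers _ i)) (mem_sup_right (mem_sup_left (npow_mem_zpowers _ j)))) (m1 c)
  have e1 : (zpowers (x, x') ⊔ (zpowers (y, y') ⊔ φ.range)).map (MonoidHom.fst G G') = H := by
    refine le_antisymm (map_le_iff_le_comap.2 (sup_le (zpowers_le.2 hx) (sup_le (zpowers_le.2 hy) ?_))) fun h hh => ?_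
    · rintro _ ⟨c, rfl⟩; exact c.2.1.1
    · obtain ⟨i, j, c, hc, rfl⟩ := split_pair (Z := zpowers z) (by rw [Nat.card_zpowers, hz]) (zpowers_le.2 hzH.2) hx hy
        (hxy ▸ hne) (fun h hh => h1 (commutator_mem_commutator hh hx))
        (fun h hh => h1 (commutator_mem_commutator hh hy)) hh
      exact ⟨_, m2 i j ⟨c, hc⟩, rfl⟩
  have e2 : (zpowers (x, x') ⊔ (zpowers (y, y') ⊔ φ.range)).map (MonoidHom.snd G G') = H' := by
    refine le_antisymm (map_le_iff_le_comap.2 (sup_le (zpowers_le.2 hx') (sup_le (zpowers_le.2 hy') ?_))) fun h hh => ?_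
    · rintro _ ⟨c, rfl⟩; exact (e c).2.1.1
    · obtain ⟨i, j, c, hc, rfl⟩ := split_pair (Z := zpowers z') (by rw [Nat.card_zpowers, hz']) (zpowers_le.2 hzH'.2)
        hx' hy' (hxy' ▸ hne') (fun h hh => h1' (commutator_mem_commutator hh hx'))
        (fun h hh => h1' (commutator_mem_commutator hh hy')) hh
      refine ⟨_, m2 i j (e.symm ⟨c, hc⟩), ?_⟩
      simp [φ]
  refine ⟨((MulEquiv.subgroupCongr e1.symm).trans f).trans (MulEquiv.subgroupCongr e2), fun w hw => ?_⟩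
  refine Eq.trans ?_ (hf (z, z') (hzφ ▸ m1 ⟨z, hzc⟩))
  show (f _ : G') = f _
  congr 2
  exact Subtype.ext hw

/-- extraspecial or cyclic of order `p`, with a chosen central generator -/
structure ES (p : ℕ) (z : G) (H : Subgroup G) : Prop where
  ord : orderOf z = p
  cen : H ⊓ CC H = zpowers z
  der : ⁅H, H⁆ ≤ zpowers z
  pw : ∀ h ∈ H, h ^ p ∈ zpowers z

variable {z : G} {H : Subgroup G}

omit hp [Finite G] in
theorem ES.mem (h : ES p z H) : z ∈ H ⊓ CC H := h.cen.ge (mem_zpowers z)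

omit hp [Finite G] in
theorem ES.card_z (h : ES p z H) : #(zpowers z) = p := by rw [Nat.card_zpowers, h.ord]

omit [Finite G] in
theorem ES.ne (h : ES p z H) : z ≠ 1 := fun e => hp.out.one_lt.ne (by rw [← h.ord, e, orderOf_one])

theorem ES.exists_pair (h : ES p z H) {x : G} (hx : x ∈ H) (hxz : x ∉ zpowers z) : ∃ y ∈ H, ⁅x, y⁆ = z := by
  have h1 : ¬ H ≤ C1 x := fun h1 => hxz (h.cen.le ⟨hx, le_C1_iff.1 h1⟩)
  obtain ⟨y, hy, h2⟩ := SetLike.not_le_iff_exists.1 h1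
  have h3 := h.der (commutator_mem_commutator hx hy)
  have h4 : zpowers ⁅x, y⁆ = zpowers z := prime_eq_zpowers (h.card_z ▸ hp.out) h3
    fun e => h2 (mem_C1_comm.1 (comm_eq_one_iff_C1.1 e))
  obtain ⟨n, hn⟩ := exists_pow_eq (h4.ge (mem_zpowers z))
  exact ⟨y ^ n, pow_mem hy n, by
    rw [comm_pow_right (mem_CC.1 (h.cen.ge h3).2 y hy).symm, hn]⟩

theorem ES.sub (h : ES p z H) {x y : G} (hx : x ∈ H) (hy : y ∈ H) (hxy : ⁅x, y⁆ = z) :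
    ES p z (H ⊓ C1 x ⊓ C1 y) ∧ #H = p ^ 2 * #(H ⊓ C1 x ⊓ C1 y : Subgroup G) := by
  have hle : H ⊓ C1 x ⊓ C1 y ≤ H := inf_le_left.trans inf_le_left
  have h1 : ∀ u ∈ H, ∀ g ∈ H, ⁅g, u⁆ ∈ zpowers z := fun u hu g hg => h.der (commutator_mem_commutator hg hu)
  have hZ : zpowers z ≤ CC H := zpowers_le.2 h.mem.2
  refine ⟨⟨h.ord, le_antisymm (fun w hw => h.cen.le ⟨hw.1.1.1, pair_center h.card_z hZ hx hy (hxy ▸ h.ne)
    (h1 x hx) (h1 y hy) ⟨⟨hw.1.1.2, hw.1.2⟩, hw.2⟩⟩) (zpowers_le.2 ⟨⟨⟨h.mem.1, cc_le_C1 hx h.mem.2⟩,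
      cc_le_C1 hy h.mem.2⟩, cc_anti hle h.mem.2⟩), (der_mono hle).trans h.der, fun g hg => h.pw g (hle hg)⟩,
    card_pair_cent h.card_z hZ hx hy (hxy ▸ h.ne) (h1 x hx) (h1 y hy)⟩

omit hp in
theorem ES.eq_of_card (h : ES p z H) (hc : #H = p) : zpowers z = H :=
  eq_of_card_le (zpowers_le.2 h.mem.1) (by rw [hc, h.card_z])

omit hp in
theorem ES.exists_notMem (h : ES p z H) (hc : #H ≠ p) : ∃ x ∈ H, x ∉ zpowers z :=
  SetLike.not_le_iff_exists.1 fun h1 => hc (by rw [le_antisymm h1 (zpowers_le.2 h.mem.1), h.card_z])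

/-- isomorphism matching the chosen central generators -/
def ESIso {G' : Type*} [Group G'] (z : G) (H : Subgroup G) (z' : G') (H' : Subgroup G') : Prop :=
  ∃ f : H ≃* H', ∀ w : H, (w : G) = z → (f w : G') = z'

variable {G' : Type*} [Group G'] [Finite G'] {z' : G'} {H' : Subgroup G'}

omit hp in
theorem ES.iso_base (h : ES p z H) (h' : ES p z' H') (hc : #H = p) (hc' : #H' = p) : ESIso z H z' H' := by
  have g1 : ∀ w : H, w ∈ zpowers (⟨z, h.mem.1⟩ : H) := fun w => by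
    obtain ⟨n, hn⟩ := exists_pow_eq ((h.eq_of_card hc).ge w.2)
    exact ⟨n, Subtype.ext (by simpa using hn)⟩
  have g2 : ∀ w : H', w ∈ zpowers (⟨z', h'.mem.1⟩ : H') := fun w => by
    obtain ⟨n, hn⟩ := exists_pow_eq ((h'.eq_of_card hc').ge w.2)
    exact ⟨n, Subtype.ext (by simpa using hn)⟩
  refine ⟨mulEquivOfOrderOfEq g1 g2 (by rw [Subgroup.orderOf_mk, Subgroup.orderOf_mk, h.ord, h'.ord]), fun w hw => ?_⟩
  have : w = ⟨z, h.mem.1⟩ := Subtype.ext hw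
  rw [this, mulEquivOfOrderOfEq_apply_gen]

theorem ES.glue (h : ES p z H) (h' : ES p z' H') {x y : G} {x' y' : G'}
    (hx : x ∈ H) (hy : y ∈ H) (hx' : x' ∈ H') (hy' : y' ∈ H') (hxy : ⁅x, y⁆ = z) (hxy' : ⁅x', y'⁆ = z')
    {a b : ℕ} (ha : x ^ p = z ^ a) (ha' : x' ^ p = z' ^ a) (hb : y ^ p = z ^ b) (hb' : y' ^ p = z' ^ b)
    (e : ESIso z (H ⊓ C1 x ⊓ C1 y) z' (H' ⊓ C1 x' ⊓ C1 y')) : ESIso z H z' H' := by
  obtain ⟨e, he⟩ := e
  exact glue_pair h.ord h'.ord h.mem h'.mem hx hy hx' hy' hxy hxy' h.der h'.der ha ha' hb hb' e he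

theorem ES.iso_of_exp (n : ℕ) : ∀ {H : Subgroup G} {H' : Subgroup G'}, ES p z H → ES p z' H' → #H = n → #H' = n →
    (∀ x ∈ H, x ^ p = 1) → (∀ x ∈ H', x ^ p = 1) → ESIso z H z' H' := by
  induction n using Nat.strong_induction_on with
  | _ n ih =>
  intro H H' h h' hc hc' e e'
  by_cases hn : n = p
  · exact h.iso_base h' (hc.trans hn) (hc'.trans hn)
  obtain ⟨x, hx, h1⟩ := h.exists_notMem (hc ▸ hn)
  obtain ⟨x', hx', h1'⟩ := h'.exists_notMem (hc' ▸ hn)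
  obtain ⟨y, hy, hxy⟩ := h.exists_pair hx h1
  obtain ⟨y', hy', hxy'⟩ := h'.exists_pair hx' h1'
  obtain ⟨s, c⟩ := h.sub hx hy hxy
  obtain ⟨s', c'⟩ := h'.sub hx' hy' hxy'
  have h2 : 1 < p ^ 2 := Nat.one_lt_pow two_ne_zero hp.out.one_lt
  refine h.glue h' hx hy hx' hy' hxy hxy' (a := 0) (b := 0) (by simp [e x hx]) (by simp [e' x' hx'])
    (by simp [e y hy]) (by simp [e' y' hy']) (ih _ ?_ s s' rfl ?_ (fun w hw => e w hw.1.1) fun w hw => e' w hw.1.1)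
  · rw [← hc, c]; exact lt_mul_of_one_lt_left (card_pos' _) h2
  · exact Nat.eq_of_mul_eq_mul_left (by omega) (c'.symm.trans (hc'.trans (hc.symm.trans c)))

theorem ES.of_extraspecial (h : IsExtraspecial p G) : ∃ z : G, ES p z ⊤ := by
  have h1 : (#(center G)).Prime := h.2 ▸ hp.out
  obtain ⟨z, hz, h2⟩ := exists_ne_one (prime_ne_bot h1)
  have h3 := prime_eq_zpowers h1 hz h2
  refine ⟨z, by rw [← Nat.card_zpowers, h3, h.2], by rw [h3, top_inf_eq, coe_top, centralizer_univ], ?_,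
    fun x _ => ?_⟩
  · rw [h3, ← h.1.2.2]; rfl
  · rw [h3, ← h.1.2.1]; exact Solv.pow_mem_frattini h.1.1 x

omit hp [Finite G] [Finite G'] in
theorem ESIso.top (h : ESIso z ⊤ z' ⊤) : Nonempty (G ≃* G') := by
  obtain ⟨f, -⟩ := h
  exact ⟨(topEquiv.symm.trans f).trans topEquiv⟩

end

section two
variable {z : G} {H : Subgroup G}

theorem ES.two_pair (h : ES 2 z H) (hc : #H ≠ 2) : ∃ x ∈ H, ∃ y ∈ H, ⁅x, y⁆ = z ∧ ∃ a < 2, x ^ 2 = z ^ a ∧ y ^ 2 = z ^ a ∧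
    (a = 0 ∨ #(H ⊓ C1 x ⊓ C1 y : Subgroup G) = 2) := by
  have hz2 : z ^ 2 = 1 := h.ord ▸ pow_orderOf_eq_one z
  have hsq : ∀ x ∈ H, x ^ 2 = 1 ∨ x ^ 2 = z := fun x hx => by
    obtain ⟨n, hn⟩ := exists_pow_eq (h.pw x hx)
    rw [← hn, ← pow_mod_orderOf, h.ord]
    rcases Nat.mod_two_eq_zero_or_one n with e | e <;> simp [e]
  by_cases h1 : ∃ x ∈ H, x ∉ zpowers z ∧ x ^ 2 = 1
  · obtain ⟨x, hx, h1, h2⟩ := h1
    obtain ⟨y, hy, hxy⟩ := h.exists_pair hx h1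
    rcases hsq y hy with e | e
    · exact ⟨x, hx, y, hy, hxy, 0, two_pos, by simpa using h2, by simpa using e, Or.inl rfl⟩
    · refine ⟨x, hx, y * x, mul_mem hy hx, ?_, 0, two_pos, by simpa using h2, ?_, Or.inl rfl⟩
      · rw [← hxy]; simp only [commutatorElement_def]; group
      · have c1 := (mem_CC.1 h.mem.2 y hy)
        calc (y * x) ^ 2 = y * ⁅x, y⁆ * y * x ^ 2 := by simp only [commutatorElement_def, sq]; group
          _ = _ := by rw [hxy, h2, c1, mul_assoc z, ← sq, e, ← sq, hz2, mul_one, pow_zero]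
  · push Not at h1
    have h2 : ∀ x ∈ H, x ∉ zpowers z → x ^ 2 = z := fun x hx h2 => (hsq x hx).resolve_left (h1 x hx h2)
    obtain ⟨x, hx, h3⟩ := h.exists_notMem hc
    obtain ⟨y, hy, hxy⟩ := h.exists_pair hx h3
    have h4 : x ∉ C1 y := fun e => h.ne (hxy ▸ comm_eq_one_iff_C1.2 e)
    refine ⟨x, hx, y, hy, hxy, 1, one_lt_two, by simpa using h2 x hx h3, by
      simpa using h2 y hy fun e => h4 (mem_C1_comm.1 (cc_le_C1 hx (h.cen.ge e).2)), Or.inr ?_⟩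
    by_contra h5
    obtain ⟨w, hw, h6⟩ := (h.sub hx hy hxy).1.exists_notMem h5
    refine h1 (x * w) (mul_mem hx hw.1.1) (fun e => h4 ?_) ?_
    · have : x = x * w * w⁻¹ := by group
      rw [this]; exact mul_mem (cc_le_C1 hy (h.cen.ge e).2) (inv_mem hw.2)
    · rw [Commute.mul_pow (mem_C1.1 hw.1.2).symm, h2 x hx h3, h2 w hw.1.1 h6, ← sq, hz2]

theorem ES.two_of_three {G₂ G₃ : Type*} [Group G₂] [Finite G₂] [Group G₃] [Finite G₃] {z₂ : G₂} {z₃ : G₃} (n : ℕ) :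
    ∀ {H : Subgroup G} {H₂ : Subgroup G₂} {H₃ : Subgroup G₃}, ES 2 z H → ES 2 z₂ H₂ → ES 2 z₃ H₃ → #H = n → #H₂ = n →
      #H₃ = n → ESIso z H z₂ H₂ ∨ ESIso z₂ H₂ z₃ H₃ ∨ ESIso z H z₃ H₃ := by
  induction n using Nat.strong_induction_on with
  | _ n ih =>
  intro H H₂ H₃ h h₂ h₃ c c₂ c₃
  by_cases hn : n = 2
  · exact Or.inl (h.iso_base h₂ (c.trans hn) (c₂.trans hn))
  obtain ⟨x, hx, y, hy, e, a, ha, p1, q1, r1⟩ := h.two_pair (c ▸ hn)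
  obtain ⟨x₂, hx₂, y₂, hy₂, e₂, a₂, ha₂, p2, q2, r2⟩ := h₂.two_pair (c₂ ▸ hn)
  obtain ⟨x₃, hx₃, y₃, hy₃, e₃, a₃, ha₃, p3, q3, r3⟩ := h₃.two_pair (c₃ ▸ hn)
  obtain ⟨s1, d1⟩ := h.sub hx hy e
  obtain ⟨s2, d2⟩ := h₂.sub hx₂ hy₂ e₂
  obtain ⟨s3, d3⟩ := h₃.sub hx₃ hy₃ e₃
  by_cases hb : #(H ⊓ C1 x ⊓ C1 y : Subgroup G) = 2
  · have hb2 : #(H₂ ⊓ C1 x₂ ⊓ C1 y₂ : Subgroup G₂) = 2 := by omega
    have hb3 : #(H₃ ⊓ C1 x₃ ⊓ C1 y₃ : Subgroup G₃) = 2 := by omega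
    obtain rfl | rfl | rfl : a = a₂ ∨ a₂ = a₃ ∨ a = a₃ := by omega
    · exact Or.inl (h.glue h₂ hx hy hx₂ hy₂ e e₂ p1 p2 q1 q2 (s1.iso_base s2 hb hb2))
    · exact Or.inr (Or.inl (h₂.glue h₃ hx₂ hy₂ hx₃ hy₃ e₂ e₃ p2 p3 q2 q3 (s2.iso_base s3 hb2 hb3)))
    · exact Or.inr (Or.inr (h.glue h₃ hx hy hx₃ hy₃ e e₃ p1 p3 q1 q3 (s1.iso_base s3 hb hb3)))
  · obtain rfl : a = 0 := by omega
    obtain rfl : a₂ = 0 := by omega
    obtain rfl : a₃ = 0 := by omega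
    have := card_pos' (H ⊓ C1 x ⊓ C1 y)
    rcases ih _ (by omega) s1 s2 s3 rfl (by omega) (by omega) with i | i | i
    · exact Or.inl (h.glue h₂ hx hy hx₂ hy₂ e e₂ p1 p2 q1 q2 i)
    · exact Or.inr (Or.inl (h₂.glue h₃ hx₂ hy₂ hx₃ hy₃ e₂ e₃ p2 p3 q2 q3 i))
    · exact Or.inr (Or.inr (h.glue h₃ hx hy hx₃ hy₃ e e₃ p1 p3 q1 q3 i))

end two

end Cfsg.Agent.Transfer
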