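import Cfsg.Agent.Lib.Transfer.FC3
import Cfsg.Agent.Lib.Solv.Schmidt
import Cfsg.Agent.Lib.Solv.Frob3

set_option autoImplicit false
set_option linter.unusedSectionVars false
set_option linter.unusedVariables false
set_option linter.style.haveILetI false
set_option linter.unusedSimpArgs false

namespace Cfsg.Agent.Transfer.FC
open Subgroup MS
open scoped commutatorElement

universe u
variable {H : Type u} [Group H] {g x y z : H} {S Q R N : Subgroup H} {p : ℕ}

/-- groups with at most one involution -/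
def UI (H : Type*) [Group H] : Prop := ∀ g h : H, g ≠ 1 → g * g = 1 → h ≠ 1 → h * h = 1 → g = h

theorem FR.ui (h : FR H) : UI H := fun _ _ => h.invol_eq

theorem UI.central (hH : UI H) (h2 : g * g = 1) : g ∈ center H := by
  by_cases h1 : g = 1
  · rw [h1]; exact one_mem _
  exact mem_center_iff.2 fun x => mul_inv_eq_iff_eq_mul.1
    (hH (x * g * x⁻¹) g (by simpa using h1) (by rw [conj_mul, h2]; simp) h1 h2)

theorem UI.of_inj (hH : UI H) {G : Type*} [Group G] {f : G →* H} (hf : Function.Injective f) : UI G :=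
  fun a b h1 h2 h3 h4 => hf (hH _ _ (by simpa [map_eq_one_iff f hf] using h1) (by rw [← map_mul, h2, map_one])
    (by simpa [map_eq_one_iff f hf] using h3) (by rw [← map_mul, h4, map_one]))

variable [Finite H]

theorem UI.card_le (hH : UI H) (h : ∀ x ∈ S, x * x = 1) : #S ≤ 2 := by
  by_cases h0 : S = ⊥
  · rw [h0, card_bot]; decide
  obtain ⟨x, hx, h1⟩ := exists_ne_one h0
  have : S ≤ zpowers x := fun y hy => (mem_zpowers_iff_of_sq (h x hx)).2 (by
    by_cases e : y = 1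
    exacts [Or.inl e, Or.inr (hH _ _ e (h y hy) h1 (h x hx))])
  exact (card_le_of_le this).trans (by rw [Nat.card_zpowers, orderOf_eq_two (h x hx) h1])

theorem UI.pg (hH : UI H) (hS : IsPGroup 2 S) :
    IsCyclic S ∨ ∃ a b n, 1 ≤ n ∧ MC S a b n ∧ b * b = a ^ 2 ^ n ∧ b * a * b⁻¹ = a⁻¹ := by
  refine (Solv.isCyclic_or_quaternion hS fun E _ h1 _ h2 => ?_).imp id
    fun ⟨_, a, b, n, h1, h2, h3, h4, _, h5, h6⟩ => ⟨a, b, n, h1, ⟨h2, h3, h4, ?_, Or.inl h6⟩, pow_two b ▸ h5, h6⟩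
  · have := hH.card_le fun x hx => pow_two x ▸ h2 x hx
    omega
  · rw [← pow_two, h5]; exact pow_mem (mem_zpowers _) _

theorem UI.not_klein (hH : UI H) : ¬ IsKleinFour S := fun h => by
  have := hH.card_le fun x hx => elem_mul_self (klein_elem h) hx
  rw [h.card_four] at this; omega

theorem UI.ess (hH : UI H) (hS : IsPGroup 2 S) (he : Ess S) : IsQ8 S := by
  rcases hH.pg hS with h | ⟨a, b, n, -, h, -⟩
  exacts [absurd he (not_ess_of_cyc hS h), (h.ess le_rfl he).resolve_left hH.not_klein]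

theorem UI.three (hH : UI H) (hn : ¬ HasNormalPComplement 2 H) : 3 ∣ #H := by
  by_contra h
  refine hn (npc_ess default fun B hB _ he => h ?_)
  obtain ⟨g, h1, h2, h3⟩ := id he
  obtain ⟨i, j, t, -⟩ := (hH.ess ((default : Sylow 2 H).isPGroup'.to_le hB) he).tet h2 h1 h3
  exact t.three.trans (orderOf_dvd_natCard g)

theorem FR.pg [hp : Fact p.Prime] (hH : FR H) (h2 : p ≠ 2) (hS : IsPGroup p S) : IsCyclic S :=
  (Solv.isCyclic_or_quaternion hS fun E _ h1 h3 h4 => by
    obtain ⟨a, ha, rfl⟩ := exists_zpowers (hH.cyc h3)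
    have := Nat.le_of_dvd hp.out.pos (orderOf_dvd_of_pow_eq_one (h4 a ha))
    rw [← Nat.card_zpowers, h1] at this
    nlinarith [hp.out.two_le]).resolve_right fun h => h2 h.1

theorem IsQ8.cc_of_perfect (h : IsQ8 Q) (hR : ⁅R, R⁆ = R) (h1 : R ≤ NN Q) : R ≤ CC Q := by
  haveI := isPerfect_iff.2 hR
  let φ := Q.normalizerMonoidHom.comp (inclusion h1)
  haveI : Group.IsSolvable (MulAut Q) := Solv.isSolvable_of_card_primeFactors_le_two (by
    rw [Nat.card_congr (MulAut.congr h.some).toEquiv, card_aut_q8]; decide +kernel)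
  have : φ.range = ⊥ := Comp.solvable_perfect_eq_bot (isPerfect_iff.1 (Group.IsPerfect.range φ)) inferInstance
  intro x hx
  have : inclusion h1 ⟨x, hx⟩ ∈ Q.normalizerMonoidHom.ker := this.le ⟨_, rfl⟩
  rwa [normalizerMonoidHom_ker] at this

theorem FR.cc_of_perfect [hp : Fact p.Prime] (hH : FR H) (hQ : IsPGroup p Q) (hR : ⁅R, R⁆ = R) (h1 : R ≤ NN Q) :
    R ≤ CC Q := by
  by_cases h2 : p = 2
  · subst h2
    by_cases he : Ess Q
    · exact IsQ8.cc_of_perfect (hH.ui.ess hQ he) hR h1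
    · rw [ess_iff, not_not] at he
      refine le_trans ?_ ((res_mono h1).trans he)
      rw [res_eq_closure, ← Comp.Res_eq_closure, Comp.Res_eq_self_of_perfect hR]
  · exact hR.ge.trans (der_cc_of_cyc (hH.pg h2 hQ) h1)

theorem FR.sol_le_cc (hH : FR H) (hR : ⁅R, R⁆ = R) (hN : Group.IsSolvable N) (h1 : N ≤ R) (h2 : R ≤ NN N) :
    N ≤ CC R := by
  have : F N ≤ CC R := F_le_of_O fun q hq _ => by
    haveI := Fact.mk hq
    exact cc_symm (hH.cc_of_perfect (O_pg N) hR (nn_O h2))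
  exact (le_inf le_rfl (h1.trans (cc_symm this))).trans ((cc_F_le hN).trans this)

/-- the subgroup generated by the elements of order three -/
def N3 (H : Type*) [Group H] : Subgroup H := closure {g | g ^ 3 = 1}

instance : (N3 H).Normal := normalizer_eq_top_iff.1 (eq_top_iff.2 fun g _ => mem_normalizer_of_cj_le (by
  rw [N3, cj, MonoidHom.map_closure]
  refine closure_mono ?_
  rintro _ ⟨x, hx, rfl⟩
  exact (map_pow _ x 3).symm.trans (by rw [show x ^ 3 = 1 from hx, map_one])))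

theorem exists_perfect (hn : ¬ Group.IsSolvable S) : ∃ R ≤ S, ⁅R, R⁆ = R ∧ ¬ Group.IsSolvable R := by
  obtain ⟨R, h1, h2, h3⟩ := Comp.exists_minimal_subgroup (P := fun R : Subgroup H => ¬ Group.IsSolvable R) hn
  refine ⟨R, h1, h3 _ (fun h => h2 ?_) (der_le R), h2⟩
  refine Solv.isSolvable_of_normal_of_quotient (_root_.commutator R) ?_ (inferInstanceAs (Group.IsSolvable (Abelianization R)))
  rw [← map_commutator_eq'] at h
  exact Group.isSolvable_of_isSolvable_injective (f := ((_root_.commutator R).equivMapOfInjective _ R.subtype_injective).toMonoidHom)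
    (MulEquiv.injective _)

theorem FR.not_sol (hH : FR H) (hn : ¬ Group.IsSolvable H) : ¬ Group.IsSolvable (N3 H) := fun hs => by
  obtain ⟨R, -, hR, h1⟩ := exists_perfect (S := (⊤ : Subgroup H)) fun h => hn
    (Group.isSolvable_of_surjective (f := (⊤ : Subgroup H).subtype) fun x => ⟨⟨x, trivial⟩, rfl⟩)
  obtain ⟨y, hy, h3⟩ := Solv.exists_subgroup_card_prime Nat.prime_three
    ((hH.sub R).ui.three fun h => h1 (sol_of_hasNPC_two h))
  have m : y ∈ CC R := hH.sol_le_cc hR (sol_mono hs inf_le_left) inf_le_right (nn_inf nn_normal (le_nn R))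
    ⟨subset_closure (h3 ▸ pow_orderOf_eq_one y), hy⟩
  haveI : Fact (Nat.Prime 3) := ⟨Nat.prime_three⟩
  obtain ⟨P, hP, h4⟩ := exists_isSyl_ge (p := 3) (pg_of_card ((Nat.card_zpowers y).trans h3)) (zpowers_le.2 hy)
  have := hP.mem_der_of_central (h4 (mem_zpowers y)) m (hR.ge hy)
  rw [ab_iff_der.1 (ab_of_cyc (hH.pg (by decide) hP.pgroup)), mem_bot] at this
  rw [this, orderOf_one] at h3; omega

theorem card_le_120 (h1 : x * x * (x * x) = 1) (h2 : Commute (x * x) y) (h3 : y ^ 3 = 1) (h5 : (x * y) ^ 5 = 1) :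
    #(closure ({x, y} : Set H)) ≤ 120 := by
  let K := closure ({x, y} : Set H)
  let a : K := ⟨x, subset_closure (by simp)⟩
  let b : K := ⟨y, subset_closure (by simp)⟩
  have hK : closure {a, b} = ⊤ := closure_sub fun t ht => by
    rcases ht with e | e
    exacts [Or.inl (Subtype.ext e), Or.inr (Subtype.ext e)]
  have c : zpowers (a * a) ≤ center K := zpowers_le.2 (mem_center_iff.2 fun g => by
    have : closure {a, b} ≤ C1 (a * a) := (closure_le _).2 (by
      rintro _ (rfl | rfl)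
      exacts [mem_C1.2 (mul_assoc _ _ _).symm, mem_C1.2 (Subtype.ext h2.symm)])
    exact mem_C1.1 (this (hK.ge trivial)))
  haveI : (zpowers (a * a)).Normal := ⟨fun n hn g => by rwa [mem_center_iff.1 (c hn) g, mul_inv_cancel_right]⟩
  let π := QuotientGroup.mk' (zpowers (a * a))
  have e := Perm.Tri.tri_card (x := π a) (y := π b) (n := 5) (N := 60)
    (by rw [← map_pow, pow_two]; exact (QuotientGroup.eq_one_iff _).2 (mem_zpowers _))
    (by rw [← map_pow, show b ^ 3 = 1 from Subtype.ext h3, map_one])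
    (by rw [← map_mul, ← map_pow, show (a * b) ^ 5 = 1 from Subtype.ext h5, map_one]) (by simp)
  rw [← Set.image_pair, ← MonoidHom.map_closure, hK, map_top_of_surjective _ (QuotientGroup.mk'_surjective _), card_top] at e
  have e2 : #(zpowers (a * a)) ≤ 2 := by
    rw [Nat.card_zpowers]; exact orderOf_le_of_pow_eq_one two_pos (by rw [pow_two]; exact Subtype.ext h1)
  rw [card_eq_card_quotient_mul_card_subgroup (zpowers (a * a))]
  exact Nat.mul_le_mul e e2

theorem closure_x0 : closure {x0, y0} = alternatingGroup (Fin 5) := by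
  have := congrArg (Subgroup.map (alternatingGroup (Fin 5)).subtype) Perm.Tri.closure_A5
  rwa [MonoidHom.map_closure, Set.image_pair, Comp.map_subtype_top] at this

theorem sl25_gens : ∃ a b : SL2 (ZMod 5), Subgroup.closure {a, b} = ⊤ ∧ #(SL2 (ZMod 5)) = 120 ∧
    a * a * (a * a) = 1 ∧ a * a * b = b * (a * a) ∧ b ^ 3 = 1 ∧ (a * b) ^ 5 = 1 := by
  obtain ⟨a, b, e1, e2, h⟩ : ∃ a b : SL2 (ZMod 5), a * b = upU 1 ∧ b * a = loU (-1) ∧
      a * a * (a * a) = 1 ∧ a * a * b = b * (a * a) ∧ b ^ 3 = 1 ∧ (a * b) ^ 5 = 1 :=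
    ⟨⟨!![0, -1; 1, 0], by decide⟩, ⟨!![0, 1; -1, -1], by decide⟩, by decide⟩
  have n1 : (1 : ZMod 5) ≠ 0 := by decide
  have n2 : (-1 : ZMod 5) ≠ 0 := by decide
  haveI : Fact (Nat.Prime 5) := ⟨Nat.prime_five⟩
  have m1 : a ∈ Subgroup.closure {a, b} := Subgroup.subset_closure (by simp)
  have m2 : b ∈ Subgroup.closure {a, b} := Subgroup.subset_closure (by simp)
  exact ⟨a, b, sl2_zmod_eq_top (s := 1) (t := -1) n1 n2 (e1 ▸ mul_mem m1 m2) (e2 ▸ mul_mem m2 m1),
    by rw [Perm.GL2.card_SL2, ZMod.card], h⟩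

section Five
variable {f : H →* Equiv.Perm (Fin 5)} (hU : UI H) (k : K5 f) (hr : f.range = alternatingGroup (Fin 5))
include hU k hr

theorem K5.gens : ∃ x y : H, f x = x0 ∧ f y = y0 ∧ x * x * (x * x) = 1 ∧ y ^ 3 = 1 ∧ (x * y) ^ 5 = 1 ∧
    closure {x, y} = ⊤ := by
  obtain ⟨x, hx⟩ := hr.ge (closure_x0.le (subset_closure (show x0 ∈ _ by simp)))
  obtain ⟨y, hy⟩ := hr.ge (closure_x0.le (subset_closure (show y0 ∈ _ by simp)))
  have e1 : y ^ 3 * y ^ 3 = 1 := (k _).1 (by rw [map_pow, hy]; decide)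
  have e2 : (y ^ 4) ^ 3 = 1 := by rw [show (y ^ 4) ^ 3 = y ^ 3 * y ^ 3 * (y ^ 3 * y ^ 3) by group, e1, mul_one]
  have e3 : f (y ^ 4) = y0 := by rw [map_pow, hy]; decide
  generalize y ^ 4 = w at e2 e3
  have key : ∀ x, f x = x0 → x * x * (x * x) = 1 ∧ x * x ≠ 1 ∧ closure {x, w} = ⊤ := fun x hx => by
    have a1 : x * x * (x * x) = 1 := (k _).1 (by rw [map_mul, hx]; decide)
    have a2 : x * x ≠ 1 := fun e => absurd (hx ▸ (k _).2 e) (by decide)
    refine ⟨a1, a2, eq_top_iff.2 fun g _ => ?_⟩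
    have m : x ∈ closure {x, w} := subset_closure (by simp)
    obtain ⟨t, ht, e⟩ : f g ∈ (closure {x, w}).map f := by
      rw [MonoidHom.map_closure, Set.image_pair, hx, e3, closure_x0, ← hr]; exact ⟨g, rfl⟩
    refine (Subgroup.mul_mem_cancel_left _ (inv_mem ht)).1 ?_
    by_cases h : t⁻¹ * g = 1
    · rw [h]; exact one_mem _
    · rw [hU _ _ h ((k _).1 (by rw [map_mul, map_inv, e, inv_mul_cancel])) a2 a1]; exact mul_mem m m
  obtain ⟨a1, a2, a3⟩ := key x hx
  by_cases h : (x * w) ^ 5 = 1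
  · exact ⟨x, w, hx, e3, a1, e2, h, a3⟩
  have hx' : f (x * x * x) = x0 := by rw [map_mul, map_mul, hx]; decide
  refine ⟨x * x * x, w, hx', e3, (key _ hx').1, e2, ?_, (key _ hx').2.2⟩
  have c : Commute (x * x) (x * w) := (mem_center_iff.1 (hU.central a1) _).symm
  rw [mul_assoc, c.mul_pow, hU _ _ h ((k _).1 (by rw [map_pow, map_mul, hx, e3]; decide +kernel)) a2 a1, ← pow_succ,
    show 5 + 1 = 2 * 3 by rfl, pow_mul, pow_two, a1, one_pow]

theorem K5.card : #H = 120 := by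
  obtain ⟨x, y, h1, -, h2, -⟩ := k.gens hU hr
  have a2 : x * x ≠ 1 := fun e => absurd (h1 ▸ (k _).2 e) (by decide)
  have : f.ker = zpowers (x * x) := by
    ext g; rw [mem_zpowers_iff_of_sq h2, MonoidHom.mem_ker, k]
    refine ⟨fun h => ?_, by rintro (rfl | rfl); exacts [mul_one _, h2]⟩
    by_cases e : g = 1
    exacts [Or.inl e, Or.inr (hU _ _ e h a2 h2)]
  rw [← f.ker.card_mul_index, index_ker, hr, Perm.Tri.card_A5, this, Nat.card_zpowers, orderOf_eq_two h2 a2]

theorem K5.iso : Nonempty (H ≃* SL2 (ZMod 5)) := by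
  obtain ⟨x, y, -, -, h2, h3, h5, hc⟩ := k.gens hU hr
  obtain ⟨a, b, hab, c, r1, r2, r3, r4⟩ := sl25_gens
  obtain ⟨φ, e1, e2⟩ := Perm.Tri.exists_hom_pair hab (x := x) (y := y) (c ▸ card_le_120 (H := SL2 (ZMod 5) × H)
    (Prod.ext r1 h2) (Prod.ext r2 (mem_center_iff.1 (hU.central h2) y).symm) (Prod.ext r3 h3) (Prod.ext r4 h5))
  have sj : Function.Surjective φ := by
    rw [← MonoidHom.range_eq_top, Perm.Tri.range_eq_of_pair hab, e1, e2, hc]
  exact ⟨(MulEquiv.ofBijective φ (sj.bijective_of_nat_card_le (by rw [c, k.card hU hr]))).symm⟩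
end Five

theorem exists_ext [S.Normal] {f : S →* Equiv.Perm (Fin 5)} (hU : UI S) (k : K5 f)
    (hr : f.range = alternatingGroup (Fin 5)) : ∃ φ : H →* Equiv.Perm (Fin 5), (∀ s : S, φ s = f s) ∧ φ.ker = CC S := by
  obtain ⟨x, y, hx, hy, h2, h3, h5, hc⟩ := k.gens hU hr
  have ex : ∀ g : H, ∃ σ, ∀ s, f (MulAut.conjNormal g s) = σ * f s * σ⁻¹ := fun g => by
    have k' : K5 (f.comp (MulAut.conjNormal g).toMonoidHom) := fun s => by
      rw [MonoidHom.comp_apply, k, ← map_mul]; exact map_eq_one_iff _ (MulEquiv.injective _)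
    change ∃ σ, ∀ s, (f.comp (MulAut.conjNormal g).toMonoidHom) s = _
    generalize f.comp (MulAut.conjNormal g).toMonoidHom = f' at k'
    obtain ⟨τ, e⟩ := isConj_iff.1 (c3 (f' y) (by rw [← map_pow, h3, map_one]) fun e =>
      absurd (hy ▸ (k _).2 ((k' _).1 e)) (by decide))
    obtain ⟨σ, e1, e2⟩ := d3 (τ * f' x * τ⁻¹) (by rw [conj_mul, ← map_mul, (k' _).2 h2]; simp)
      (by simpa using fun e => absurd (hx ▸ (k _).2 ((k' _).1 e)) (by decide))
      (by rw [← e, conj_mul, conj_pow, ← map_mul, ← map_pow, h5]; simp)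
    refine ⟨τ⁻¹ * σ, fun s => ?_⟩
    have : closure {x, y} ≤ f'.eqLocus ((MulAut.conj (τ⁻¹ * σ)).toMonoidHom.comp f) := (closure_le _).2 (by
      rintro _ (rfl | rfl)
      · change f' _ = τ⁻¹ * σ * f _ * _⁻¹
        rw [hx, show τ⁻¹ * σ * x0 * (τ⁻¹ * σ)⁻¹ = τ⁻¹ * (σ * x0 * σ⁻¹) * τ by group, e1]; group
      · change f' _ = τ⁻¹ * σ * f _ * _⁻¹
        rw [hy, show τ⁻¹ * σ * y0 * (τ⁻¹ * σ)⁻¹ = τ⁻¹ * (σ * y0 * σ⁻¹) * τ by group, e2, ← e]; group)
    exact this (hc.ge trivial)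
  have un : ∀ σ τ : Equiv.Perm (Fin 5), (∀ s, σ * f s * σ⁻¹ = τ * f s * τ⁻¹) → σ = τ := fun σ τ h => by
    have e : ∀ s, τ⁻¹ * σ * f s = f s * (τ⁻¹ * σ) := fun s => by
      rw [show τ⁻¹ * σ * f s = τ⁻¹ * (σ * f s * σ⁻¹) * σ by group, h]; group
    exact (inv_mul_eq_one.1 (d4 _ (hx ▸ e x) (hy ▸ e y))).symm
  choose σ hσ using ex
  refine ⟨MonoidHom.mk' σ fun a b => un _ _ fun s => ?_, fun s => un _ _ fun t => ?_, ?_⟩
  · rw [← hσ, map_mul, MulAut.mul_apply, hσ, hσ]; group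
  · change σ s * _ * (σ s)⁻¹ = _
    rw [← hσ, ← map_inv, ← map_mul, ← map_mul]; rfl
  · ext g
    change σ g = 1 ↔ _
    constructor
    · intro h
      have od : ∀ (s : S) (n : ℕ), Odd n → s ^ n = 1 → MulAut.conjNormal g s = s := fun s n hn hs => by
        have e : MulAut.conjNormal g s * s⁻¹ * (MulAut.conjNormal g s * s⁻¹) = 1 :=
          (k _).1 (by rw [map_mul, hσ, h]; simp)
        have c : Commute (MulAut.conjNormal g s * s⁻¹) s := (mem_center_iff.1 (hU.central e) _).symm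
        have := c.mul_pow n
        rw [inv_mul_cancel_right, ← map_pow, hs, map_one, mul_one] at this
        obtain ⟨m, rfl⟩ := hn
        rw [pow_succ, pow_mul, pow_two, e, one_pow, one_mul] at this
        exact mul_inv_eq_one.1 this.symm
      have : closure {x, y} ≤ (MulAut.conjNormal g).toMonoidHom.eqLocus (MonoidHom.id S) := (closure_le _).2 (by
        have m := od y 3 (by decide) h3
        rintro _ (rfl | rfl)
        · have := od _ 5 (by decide) h5
          rw [map_mul, m] at this; exact mul_right_cancel this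
        · exact m)
      refine mem_CC.2 fun s hs => ?_
      have := congrArg Subtype.val (show MulAut.conjNormal g ⟨s, hs⟩ = ⟨s, hs⟩ from this (hc.ge trivial))
      exact (mul_inv_eq_iff_eq_mul.1 this).symm
    · intro h
      refine un _ _ fun s => ?_
      rw [← hσ, show MulAut.conjNormal g s = s from Subtype.ext (conj_eq_of_cc h s.2)]; simp

/-- Zassenhaus' theorem on non-solvable Frobenius complements -/
theorem FR.nonsol (hH : FR H) (hn : ¬ Group.IsSolvable H) : ∃ (S : Subgroup H) (φ : H →* Equiv.Perm (Fin 5)),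
    S.Normal ∧ Nonempty (S ≃* SL2 (ZMod 5)) ∧ #S = 120 ∧ φ.ker = CC S ∧ S.map φ = alternatingGroup (Fin 5) ∧
      ∀ s ∈ S, φ s = 1 ↔ s * s = 1 := by
  have hs := hH.not_sol hn
  obtain ⟨f, k, hr⟩ := ((hH.sub (N3 H)).five (closure_sub fun x hx => Subtype.ext hx)).resolve_left
    fun h => hs (sol_of_ab h)
  have hr := hr.resolve_left hs
  have hU := (hH.sub (N3 H)).ui
  obtain ⟨φ, h1, h2⟩ := exists_ext hU k hr
  refine ⟨N3 H, φ, inferInstance, k.iso hU hr, k.card hU hr, h2, ?_, fun s hs => ?_⟩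
  · rw [← hr, ← MonoidHom.restrict_range]; congr 1; exact MonoidHom.ext h1
  · rw [show φ s = _ from h1 ⟨s, hs⟩, k, Subtype.ext_iff]; rfl

omit [Finite H] in
theorem FR.of_fpf {G : Type*} [Group G] [Finite G] {K L : Subgroup G} (hn : L ≤ NN K) (hK : K ≠ ⊥) (hL : L ≠ ⊥)
    (hf : ∀ h ∈ L, h ≠ 1 → K ⊓ C1 h = ⊥) : FR L := by
  haveI := (nontrivial_iff_ne_bot K).2 hK
  refine FR.of_action (sol_of_nil (Solv.thompson_fpf hn hL hf)) (K.normalizerMonoidHom.comp (inclusion hn))
    fun h h1 b hb => Subtype.ext (Solv.eq_one_of_fpf (hf h h.2 fun e => h1 (Subtype.ext e)) b.2 ?_)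
  exact mul_inv_eq_iff_eq_mul.1 (congrArg Subtype.val hb)

omit [Finite H] in
theorem FR.of_frob {G : Type*} [Group G] [Finite G] {L : Subgroup G} (h : IsFrobeniusComplement L) (e : H ≃* L) :
    FR H := by
  obtain ⟨K, -, h1, -, h2, h3⟩ := Solv.exists_frobenius_kernel h
  exact (FR.of_fpf nn_normal h2 h.1 h3).of_inj (f := e.toMonoidHom) e.injective

end Cfsg.Agent.Transfer.FC
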