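import Cfsg.Agent.Lib.Transfer.Dih
import Cfsg.Agent.Lib.Transfer.Thom
import Cfsg.Agent.Lib.Solv.Prim

set_option autoImplicit false
set_option linter.unusedSectionVars false

namespace Cfsg.Agent.Transfer
open Subgroup Cfsg.Agent.MS
open scoped commutatorElement

universe u
variable {G : Type u} [Group G] [Finite G]

/-- `g` has odd order and permutes the generators `i`, `j`, `ij` of a quaternion group cyclically. -/
structure Tet (i j g : G) : Prop where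
  ord : orderOf i = 4
  sq : j * j = i * i
  inv : j * i * j⁻¹ = i⁻¹
  notMem : j ∉ zpowers i
  r1 : g * i * g⁻¹ = j
  r2 : g * j * g⁻¹ = i * j
  odd : Odd (orderOf g)

namespace Tet
variable {i j g : G} (h : Tet i j g)
include h

theorem q8 : IsQ8 (zpowers i ⊔ zpowers j) := isQ8_of h.ord h.sq h.inv h.notMem

theorem nn : g ∈ NN (zpowers i ⊔ zpowers j : Subgroup G) := mem_normalizer_of_cj_le (by
  rw [cj_sup, cj_zpowers, cj_zpowers, h.r1, h.r2]
  exact sup_le le_sup_right (zpowers_le.2 (mul_mem (mem_sup_left (mem_zpowers _)) (mem_sup_right (mem_zpowers _)))))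

theorem card : #(zpowers i ⊔ zpowers j ⊔ zpowers g : Subgroup G) = 8 * orderOf g := by
  rw [card_sup_l (zpowers_le.2 h.nn) (inf_eq_bot_of_coprime ?_), h.q8.card, Nat.card_zpowers]
  rw [h.q8.card, Nat.card_zpowers]
  exact Nat.Coprime.pow_left 3 (Nat.coprime_two_left.2 h.odd)

theorem cube : g ^ 3 * i = i * g ^ 3 := by
  have : g * (i * j) * g⁻¹ = i := by
    rw [← conj_mul, h.r1, h.r2, ← mul_assoc, ← mul_inv_cancel_right (j * i) j⁻¹, h.inv, inv_inv, mul_assoc, h.sq]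
    simp
  rw [← mul_inv_eq_iff_eq_mul]
  conv_rhs => rw [← this, ← h.r2, ← h.r1]
  simp only [pow_succ, pow_zero, one_mul, mul_inv_rev, mul_assoc]

theorem three : 3 ∣ orderOf g := by
  by_contra e
  have : g ∈ C1 i := mem_of_pow_mem_coprime ((Nat.Prime.coprime_iff_not_dvd Nat.prime_three).2 e).symm
    (mem_C1.2 h.cube)
  exact h.notMem (by rw [← h.r1, mem_C1.1 this]; simp)

theorem prod {H : Type} [Group H] [Finite H] {i' j' g' : H} (h' : Tet i' j' g') :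
    Tet (i, i') (j, j') (g, g') :=
  ⟨by rw [Prod.orderOf, h.ord, h'.ord]; rfl, Prod.ext h.sq h'.sq, Prod.ext h.inv h'.inv,
    fun ⟨k, e⟩ => h.notMem ⟨k, congrArg Prod.fst e⟩, Prod.ext h.r1 h'.r1, Prod.ext h.r2 h'.r2, by
      rw [Prod.orderOf]; exact (h.odd.mul h'.odd).of_dvd_nat (Nat.lcm_dvd_mul _ _)⟩

end Tet

theorem tet_SL23 : ∃ i j g : SL2 (ZMod 3), Tet i j g ∧ orderOf g = 3 ∧ zpowers i ⊔ zpowers j ⊔ zpowers g = ⊤ := by
  obtain ⟨i, j, g, a1, a2, a3, a4, a5, a6, a7, a8, a9⟩ : ∃ i j g : SL2 (ZMod 3), g ^ 3 = 1 ∧ g ^ 1 ≠ 1 ∧ i ^ 2 ^ 1 ≠ 1 ∧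
      i ^ 2 ^ 2 = 1 ∧ j * j = i * i ∧ j * i * j⁻¹ = i⁻¹ ∧ j * i ≠ i * j ∧ g * i = j * g ∧ g * j * g⁻¹ = i * j :=
    ⟨⟨!![0, 2; 1, 0], by decide⟩, ⟨!![1, 1; 1, 2], by decide⟩, ⟨!![1, 1; 0, 1], by decide⟩, by decide, by decide,
      by decide, by decide, by decide, by decide, by decide, by decide, by decide⟩
  have h1 : orderOf g = 3 := orderOf_eq_prime a1 (by rwa [pow_one] at a2)
  have h2 : Tet i j g := ⟨orderOf_eq_prime_pow a3 a4, a5, a6, fun e => a7 (Solv.commute_of_mem_zpowers e).eq,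
    mul_inv_eq_of_eq_mul a8, a9,
    by rw [h1]; decide⟩
  refine ⟨_, _, _, h2, h1, eq_of_card_le le_top ?_⟩
  rw [h2.card, h1, card_top, Nat.card_eq_fintype_card]; decide

theorem Tet.exists_hom {i j g : G} (h : Tet i j g) :
    ∃ f : ↥(zpowers i ⊔ zpowers j ⊔ zpowers g) →* SL2 (ZMod 3), Function.Surjective f := by
  obtain ⟨i', j', g', h1, h2, h3⟩ := tet_SL23
  have h4 := (h.prod h1).card
  rw [Prod.orderOf, h2, Nat.lcm_eq_left h.three, ← h.card] at h4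
  set D := zpowers (i, i') ⊔ zpowers (j, j') ⊔ zpowers (g, g')
  have h5 : D.map (MonoidHom.fst _ _) = zpowers i ⊔ zpowers j ⊔ zpowers g := by
    simp only [D, Subgroup.map_sup, MonoidHom.map_zpowers, MonoidHom.coe_fst]
  have h6 : D.map (MonoidHom.snd _ _) = ⊤ := by
    simp only [D, Subgroup.map_sup, MonoidHom.map_zpowers, MonoidHom.coe_snd, h3]
  have e := (MulEquiv.ofBijective _ ((Nat.bijective_iff_surjective_and_card _).2
    ⟨(MonoidHom.fst _ _).subgroupMap_surjective D, h4.trans (by rw [h5])⟩)).trans (MulEquiv.subgroupCongr h5)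
  refine ⟨((MonoidHom.snd _ _).comp D.subtype).comp e.symm.toMonoidHom, fun y => ?_⟩
  obtain ⟨x, hx, rfl⟩ := h6.ge (mem_top y)
  exact ⟨e ⟨x, hx⟩, by simp⟩

theorem IsQ8.tet {Q : Subgroup G} (h : IsQ8 Q) {g : G} (ho : Odd (orderOf g)) (h1 : g ∈ NN Q) (h2 : g ∉ CC Q) :
    ∃ i j, Tet i j g ∧ zpowers i ⊔ zpowers j = Q := by
  obtain ⟨t, -, ht, h3, h4⟩ := h.exists_t
  have a1 : ∀ x : G, x * x ≠ 1 → g * x * g⁻¹ * (g * x * g⁻¹) ≠ 1 := fun x h e => h (by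
    rwa [conj_mul, conj_eq_one_iff] at e)
  have key : ∀ x ∈ Q, x * x ≠ 1 → g * (g * x * g⁻¹) * g⁻¹ = x * (g * x * g⁻¹) →
      ∃ i j, Tet i j g ∧ zpowers i ⊔ zpowers j = Q := fun x hx h5 e => by
    have a2 := conj_mem_of_mem_normalizer h1 hx
    have a3 := h.conj_notMem ho h1 h2 hx h5
    obtain ⟨y, hy, a4⟩ := (h4 x hx h5).2
    have a5 : y ∉ zpowers x := fun e => h5 (by
      rwa [(Solv.commute_of_mem_zpowers e).eq, mul_inv_cancel_right, eq_inv_iff_mul_eq_one] at a4)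
    exact ⟨x, _, ⟨h.ord4 hx h5, (h4 _ a2 (a1 x h5)).1.trans (h4 x hx h5).1.symm,
      ((A2.mk (h.ix2 hx h5) (ab_of_cyc (cyc_zpowers x))).conj_eq a2 a3 hy a5 (mem_zpowers x)).trans a4, a3, rfl, e, ho⟩,
      ((h.ix2 hx h5).eq_sup a2 a3).symm⟩
  obtain ⟨x, hx, h5⟩ := h.exists_four
  have a2 := conj_mem_of_mem_normalizer h1 hx
  have a3 := conj_mem_of_mem_normalizer h1 a2
  have a4 := h.conj_notMem ho h1 h2 hx h5
  have a5 := h.conj_notMem ho h1 h2 a2 (a1 x h5)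
  have a6 : g * (g * x * g⁻¹) * g⁻¹ ∉ zpowers x := by
    rw [show g * (g * x * g⁻¹) * g⁻¹ = g * g * x * (g * g)⁻¹ by group]
    exact h.conj_notMem (odd_orderOf_of_mem_zpowers ho (mul_mem (mem_zpowers g) (mem_zpowers g))) (mul_mem h1 h1)
      (fun e => h2 (mem_of_pow_mem_coprime (odd_iff_coprime_two.1 ho) (sq g ▸ e))) hx h5
  set y := g * x * g⁻¹
  have b1 : x * y ≠ y * x := fun e => a4 (h.mem_of_comm hx a2 h5 e)
  have b2 := h.six hx a2 (mul_mem hx a2) a3 (a1 y (a1 x h5)) b1 (fun e => b1 (by rwa [mul_assoc, mul_right_inj] at e))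
    (fun e => b1 (by rw [← mul_assoc, mul_left_inj] at e; exact e.symm))
  rcases b2 with e | e | e | e | e | e
  · exact absurd (e ▸ mem_zpowers x) a6
  · exact absurd (e ▸ inv_mem (mem_zpowers x)) a6
  · exact absurd (by rw [e]; exact mem_zpowers y) a5
  · exact absurd (by rw [e]; exact inv_mem (mem_zpowers y)) a5
  · exact key x hx h5 e
  refine key x⁻¹ (inv_mem hx) (by rwa [← mul_inv_rev, ne_eq, inv_eq_one]) ?_
  rw [← conj_inv, ← conj_inv, e, inv_inv, eq_inv_mul_iff_mul_eq, eq_inv_iff_mul_eq_one]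
  change x * (x * y) * y = 1
  rw [← mul_assoc x x y, mul_assoc (x * x) y y, (h4 x hx h5).1, (h4 y a2 (a1 x h5)).1, mul_self_of_orderOf ht]

theorem IsQ8.exists_hom {Q : Subgroup G} (h : IsQ8 Q) {g : G} (ho : Odd (orderOf g)) (h1 : g ∈ NN Q)
    (h2 : g ∉ CC Q) : ∃ f : ↥(Q ⊔ zpowers g) →* SL2 (ZMod 3), Function.Surjective f := by
  obtain ⟨i, j, h3, rfl⟩ := h.tet ho h1 h2
  exact h3.exists_hom

theorem IsQ8.iso_SL23 {Q : Subgroup G} (h : IsQ8 Q) {g : G} (ho : orderOf g = 3) (h1 : g ∈ NN Q)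
    (h2 : g ∉ CC Q) : Nonempty (↥(Q ⊔ zpowers g) ≃* SL2 (ZMod 3)) := by
  obtain ⟨i, j, h3, rfl⟩ := h.tet (ho ▸ by decide) h1 h2
  obtain ⟨f, hf⟩ := h3.exists_hom
  exact ⟨MulEquiv.ofBijective f ((Nat.bijective_iff_surjective_and_card _).2 ⟨hf, by
    rw [h3.card, ho, Nat.card_eq_fintype_card]; decide⟩)⟩

theorem exists_sylow_quot {p : ℕ} [Fact p.Prime] (P : Sylow p G) {N : Subgroup G} [N.Normal] (h : (#N).Coprime p) :
    ∃ Q : Sylow p (G ⧸ N), (Q : Subgroup (G ⧸ N)) = (P : Subgroup G).map (QuotientGroup.mk' N) ∧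
      Nonempty ((Q : Subgroup (G ⧸ N)) ≃* (P : Subgroup G)) :=
  ⟨P.mapSurjective (QuotientGroup.mk'_surjective N), rfl,
    ⟨(Solv.nonempty_equiv_map_of_inf_ker _ (inf_ker_mk_eq_bot h P.isPGroup')).some.symm⟩⟩

theorem ess_of_normal {Q : Subgroup G} [Q.Normal] (hQ : IsPGroup 2 Q) (h : CC Q ≤ Q) (hG : ¬ IsPGroup 2 G) : Ess Q := by
  rw [ess_iff, normalizer_eq_top]
  refine fun e => hG (IsPGroup.of_equiv (isPGroup_iff_res_eq_bot.2 ?_) topEquiv)
  rw [← res_res, eq_bot_iff]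
  exact (res_mono (e.trans h)).trans (res_eq_bot_of_isPGroup hQ).le

theorem ess_pCore [Group.IsSolvable G] (hO : oddCore G = ⊥) (hG : ¬ IsPGroup 2 G) : Ess (pCore 2 G) :=
  ess_of_normal (Solv.isPGroup_pCore _ _) (Solv.centralizer_pCore_le hO) hG

/-- A Klein four-subgroup is self-centralizing when outer elements fix only involutions of a cyclic subgroup of index
two. -/
theorem Ix2.cc_klein {S V : Subgroup G} {a : G} (h : Ix2 S (zpowers a)) (hV : V ≤ S) (h4 : IsKleinFour V)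
    (hf : ∀ s ∈ S, s ∉ zpowers a → ∀ c ∈ zpowers a, s * c = c * s → c * c = 1) : S ⊓ CC V ≤ V := by
  obtain ⟨s, hs, hs'⟩ := SetLike.not_le_iff_exists.1 fun e : V ≤ zpowers a =>
    h4.not_isCyclic (cyc_mono (cyc_zpowers a) e)
  have h1 := (h.inf (X := S ⊓ C1 s) inf_le_left ⟨hV hs, self_mem_C1 s⟩ hs').card
  have h2 : #(S ⊓ C1 s ⊓ zpowers a : Subgroup G) ∣ 2 := by
    have := cyc_mono (cyc_zpowers a) (inf_le_right (a := S ⊓ C1 s))
    rw [← IsCyclic.exponent_eq_card]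
    exact Monoid.exponent_dvd_of_forall_pow_eq_one fun c => Subtype.ext
      ((sq (c : G)).trans (hf s (hV hs) hs' c c.2.2 (mem_C1.1 c.2.1.2).symm))
  refine (inf_le_inf_left _ (cc_le_C1 hs)).trans (eq_of_card_le (le_inf hV
    ((ab_cc (klein_isMulCommutative h4)).trans (cc_le_C1 hs))) ?_).ge
  have := Nat.le_of_dvd two_pos h2
  rw [h1, h4.card_four]; omega

end Cfsg.Agent.Transfer
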