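import Cfsg.Agent.Lib.Transfer.Count
import Mathlib.Topology.Compactification.OnePoint.ProjectiveLine
import Mathlib.Algebra.Field.MinimalAxioms
import Mathlib.Algebra.Field.Shrink
import Mathlib.LinearAlgebra.Matrix.ProjectiveSpecialLinearGroup
import Mathlib.FieldTheory.Finite.Basic

/-!
Groups all of whose involution centralizers are elementary abelian two-groups.
-/

set_option autoImplicit false
set_option linter.unusedSectionVars false
set_option linter.style.haveILetI false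

namespace Cfsg.Agent.Transfer

open Subgroup

variable {G : Type*} [Group G] [Finite G]

theorem exists_central_invol {T : Subgroup G} (hT : IsPGroup 2 T) (h : T ≠ ⊥) :
    ∃ z ∈ T, orderOf z = 2 ∧ T ≤ centralizer ({z} : Set G) := by
  haveI : Nontrivial T := (nontrivial_iff_ne_bot T).2 h
  have h1 : center T ≠ ⊥ := (nontrivial_iff_ne_bot _).1 hT.center_nontrivial
  obtain ⟨z, hz, hz2⟩ := exists_invol_mem_of_isPGroup (hT.to_subgroup (center T)) h1
  refine ⟨z, z.2, by simpa using hz2, fun x hx => mem_centralizer_singleton_iff.2 ?_⟩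
  exact congrArg Subtype.val (mem_center_iff.1 hz ⟨x, hx⟩)

theorem smul_mk_eq_iff {H : Subgroup G} (i a b : G) :
    i • (a : G ⧸ H) = b ↔ b⁻¹ * i * a ∈ H := by
  rw [eq_comm, MulAction.Quotient.smul_mk, QuotientGroup.eq, smul_eq_mul, mul_assoc]

theorem smul_mk_eq_self_iff {H : Subgroup G} (i a : G) : i • (a : G ⧸ H) = a ↔ i ∈ cj a H := by
  rw [smul_mk_eq_iff, mem_cj]

/-- The hypothesis: non-cyclic non-normal Sylow two-subgroup, elementary involution centralizers. -/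
structure ElemC (T : Sylow 2 G) : Prop where
  hnc : ¬ IsCyclic (T : Subgroup G)
  hnn : ¬ (T : Subgroup G).Normal
  hC : ∀ t : G, orderOf t = 2 → IsMulCommutative (centralizer ({t} : Set G)) ∧
    ∀ c ∈ centralizer ({t} : Set G), c ^ 2 = 1

namespace ElemC

variable {T : Sylow 2 G}

theorem ne_bot (h : ElemC T) : (T : Subgroup G) ≠ ⊥ := fun h' => h.hnn (h' ▸ inferInstance)

theorem mul_self_of_commute (h : ElemC T) {t c : G} (ht : orderOf t = 2) (hc : Commute c t) :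
    c * c = 1 := by
  rw [← pow_two]; exact (h.hC t ht).2 c (mem_centralizer_singleton'.2 hc)

theorem mul_self (h : ElemC T) {x : G} (hx : x ∈ (T : Subgroup G)) : x * x = 1 := by
  obtain ⟨z, -, hz, h1⟩ := exists_central_invol T.2 h.ne_bot
  exact h.mul_self_of_commute hz (mem_centralizer_singleton'.1 (h1 hx))

theorem invol (h : ElemC T) {x : G} (hx : x ∈ (T : Subgroup G)) (h1 : x ≠ 1) : orderOf x = 2 :=
  orderOf_eq_two (h.mul_self hx) h1

theorem commute (h : ElemC T) {x y : G} (hx : x ∈ (T : Subgroup G)) (hy : y ∈ (T : Subgroup G)) :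
    Commute x y := by
  have := inv_eq_of_mul_eq_one_right (h.mul_self (mul_mem hx hy))
  rw [mul_inv_rev, inv_eq_of_mul_eq_one_right (h.mul_self hx),
    inv_eq_of_mul_eq_one_right (h.mul_self hy)] at this
  exact this.symm

theorem centralizer_eq (h : ElemC T) {t : G} (ht : t ∈ (T : Subgroup G)) (h1 : t ≠ 1) :
    centralizer ({t} : Set G) = T :=
  (isSyl_top T).eq_of_le (isPGroup_of_forall_mem fun x hx => ⟨1, by
    rw [pow_one]; exact (h.hC t (h.invol ht h1)).2 x hx⟩) le_top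
    fun _ hx => mem_centralizer_singleton'.2 (h.commute hx ht)

theorem mem_of_commute (h : ElemC T) {t c : G} (ht : t ∈ (T : Subgroup G)) (h1 : t ≠ 1)
    (hc : Commute c t) : c ∈ (T : Subgroup G) :=
  h.centralizer_eq ht h1 ▸ mem_centralizer_singleton'.2 hc

theorem mem_of_invol {t : G} (ht : t ∈ normalizer ((T : Subgroup G) : Set G)) (h2 : t * t = 1) :
    t ∈ (T : Subgroup G) :=
  (isSyl_top T).le_of_le_normalizer (isPGroup_two_zpowers h2) le_top (zpowers_le.2 ht) (mem_zpowers t)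

theorem se (h : ElemC T) : IsStronglyEmbedded (normalizer ((T : Subgroup G) : Set G)) := by
  refine stronglyEmbedded_iff.2 ⟨by rw [Ne, normalizer_eq_top_iff]; exact h.hnn, ?_,
    fun t ht h2 g hg => ?_⟩
  · obtain ⟨z, hz, hz2, -⟩ := exists_central_invol T.2 h.ne_bot
    exact even_card_of_invol_mem hz2 (le_normalizer hz)
  · have h3 := mem_of_invol ht (mul_self_of_orderOf h2)
    have h4 := mem_of_invol hg (conj_mul_self (mul_self_of_orderOf h2) g)
    rw [mem_normalizer_iff_cj, ← h.centralizer_eq h3 (ne_one_of_orderOf h2), cj_centralizer_singleton,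
      h.centralizer_eq h4 (ne_one_of_orderOf (by rw [orderOf_conj, h2])),
      h.centralizer_eq h3 (ne_one_of_orderOf h2)]

theorem two_lt (h : ElemC T) : 2 < Nat.card (T : Subgroup G) := by
  by_contra hc
  have h0 : 0 < Nat.card (T : Subgroup G) := Nat.card_pos
  have : Nat.card (T : Subgroup G) = 1 ∨ Nat.card (T : Subgroup G) = 2 := by omega
  rcases this with h1 | h1
  · exact h.ne_bot (card_eq_one.1 h1)
  · exact h.hnc (isCyclic_of_prime_card (p := 2) h1)

theorem exists_ne_one (h : ElemC T) : ∃ t ∈ (T : Subgroup G), t ≠ 1 := by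
  obtain ⟨z, hz, hz2, -⟩ := exists_central_invol T.2 h.ne_bot
  exact ⟨z, hz, ne_one_of_orderOf hz2⟩

theorem eq_one_of_mem (h : ElemC T) {g t : G} (hg : g ∉ normalizer ((T : Subgroup G) : Set G))
    (ht : t ∈ (T : Subgroup G)) (ht' : t ∈ cj g (normalizer ((T : Subgroup G) : Set G))) : t = 1 := by
  by_contra h1
  exact odd_card_iff.1 (h.se.2.2 g hg) t (mem_inf.2 ⟨le_normalizer ht, ht'⟩) (h.invol ht h1)

theorem exists_conj (h : ElemC T) {u s t : G} (hu2 : orderOf u = 2)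
    (hu : u ∉ normalizer ((T : Subgroup G) : Set G)) (hs : s ∈ (T : Subgroup G)) (hs1 : s ≠ 1)
    (ht : t ∈ (T : Subgroup G)) (ht1 : t ≠ 1) :
    ∃ d ∈ normalizer ((T : Subgroup G) : Set G) ⊓ cj u (normalizer ((T : Subgroup G) : Set G)),
      u * d * u⁻¹ = d⁻¹ ∧ d * s * d⁻¹ = t := by
  obtain ⟨d, hd, h1, h2⟩ := se_exists_inverted_conj h.se hu hu2 (le_normalizer hs) (h.invol hs hs1)
    (le_normalizer ht) (h.invol ht ht1)
  exact ⟨d, mem_inf_cj_of_inverts hd h1, h1, h2⟩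

theorem eq_of_conj_eq (h : ElemC T) {g s d e : G} (hg : g ∉ normalizer ((T : Subgroup G) : Set G))
    (hs : s ∈ (T : Subgroup G)) (hs1 : s ≠ 1)
    (hd : d ∈ cj g (normalizer ((T : Subgroup G) : Set G)))
    (he : e ∈ cj g (normalizer ((T : Subgroup G) : Set G))) (hde : d * s * d⁻¹ = e * s * e⁻¹) :
    d = e :=
  (inv_mul_eq_one.1 (h.eq_one_of_mem hg (h.mem_of_commute hs hs1 (conj_eq_conj_iff.1 hde))
    (mul_mem (inv_mem he) hd))).symm

theorem conj_ne_one {d s : G} (hs1 : s ≠ 1) : d * s * d⁻¹ ≠ 1 := fun h' => hs1 (by simpa using h')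

theorem inverts (h : ElemC T) {u d : G} (hu2 : orderOf u = 2)
    (hu : u ∉ normalizer ((T : Subgroup G) : Set G))
    (hd : d ∈ normalizer ((T : Subgroup G) : Set G) ⊓ cj u (normalizer ((T : Subgroup G) : Set G))) :
    u * d * u⁻¹ = d⁻¹ := by
  obtain ⟨s, hs, hs1⟩ := h.exists_ne_one
  obtain ⟨e, he, h1, h2⟩ := h.exists_conj hu2 hu hs hs1
    (conj_mem_of_mem_normalizer (mem_inf.1 hd).1 hs) (conj_ne_one hs1)
  rwa [← h.eq_of_conj_eq hu hs hs1 (mem_inf.1 he).2 (mem_inf.1 hd).2 h2]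

theorem card_inf' (h : ElemC T) {u : G} (hu2 : orderOf u = 2)
    (hu : u ∉ normalizer ((T : Subgroup G) : Set G)) :
    Nat.card (normalizer ((T : Subgroup G) : Set G) ⊓ cj u (normalizer ((T : Subgroup G) : Set G)) :
      Subgroup G) + 1 = Nat.card (T : Subgroup G) := by
  obtain ⟨s, hs, hs1⟩ := h.exists_ne_one
  rw [← cnt_erase (p := fun x => x ∈ (T : Subgroup G)) (one_mem _)]
  congr 1
  refine cnt_eq_of_bij (fun d => d * s * d⁻¹)
    (fun d hd => ⟨conj_mem_of_mem_normalizer (mem_inf.1 hd).1 hs, conj_ne_one hs1⟩)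
    (fun d e hd he hde => h.eq_of_conj_eq hu hs hs1 (mem_inf.1 hd).2 (mem_inf.1 he).2 hde)
    fun t ht => ?_
  obtain ⟨d, hd, -, h1⟩ := h.exists_conj hu2 hu hs hs1 ht.1 ht.2
  exact ⟨d, hd, h1⟩

theorem exists_mul (h : ElemC T) {u w : G} (hu2 : orderOf u = 2)
    (hu : u ∉ normalizer ((T : Subgroup G) : Set G)) (hw : w ∈ normalizer ((T : Subgroup G) : Set G)) :
    ∃ d ∈ normalizer ((T : Subgroup G) : Set G) ⊓ cj u (normalizer ((T : Subgroup G) : Set G)),
      ∃ t ∈ (T : Subgroup G), w = d * t := by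
  obtain ⟨s, hs, hs1⟩ := h.exists_ne_one
  obtain ⟨d, hd, -, h1⟩ := h.exists_conj hu2 hu hs hs1 (conj_mem_of_mem_normalizer hw hs)
    (conj_ne_one hs1)
  exact ⟨d, hd, d⁻¹ * w, h.mem_of_commute hs hs1 (conj_eq_conj_iff.1 h1.symm), by group⟩

theorem card_normalizer (h : ElemC T) : Nat.card (normalizer ((T : Subgroup G) : Set G)) =
    Nat.card (T : Subgroup G) * (Nat.card (T : Subgroup G) - 1) := by
  obtain ⟨s, hs, hs1⟩ := h.exists_ne_one
  obtain ⟨u, hu2, hu⟩ := se_exists_invol_notMem h.se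
  rw [← card_class_mul _ s, h.centralizer_eq hs hs1, inf_eq_right.2 le_normalizer, mul_comm,
    ← cnt_erase (p := fun x => x ∈ (T : Subgroup G)) (one_mem _), Nat.add_sub_cancel,
    cnt_erase (p := fun x => x ∈ (T : Subgroup G)) (one_mem _)]
  congr 1
  refine cnt_congr fun y => ⟨?_, fun hy => ?_⟩
  · rintro ⟨g, hg, rfl⟩
    exact ⟨conj_mem_of_mem_normalizer hg hs, conj_ne_one hs1⟩
  · obtain ⟨d, hd, -, h1⟩ := h.exists_conj hu2 hu hs hs1 hy.1 hy.2
    exact ⟨d, (mem_inf.1 hd).1, h1⟩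

theorem commute_of_mem (h : ElemC T) {u d e : G} (hu2 : orderOf u = 2)
    (hu : u ∉ normalizer ((T : Subgroup G) : Set G))
    (hd : d ∈ normalizer ((T : Subgroup G) : Set G) ⊓ cj u (normalizer ((T : Subgroup G) : Set G)))
    (he : e ∈ normalizer ((T : Subgroup G) : Set G) ⊓ cj u (normalizer ((T : Subgroup G) : Set G))) :
    Commute d e := by
  have := h.inverts hu2 hu (mul_mem hd he)
  rw [← conj_mul, h.inverts hu2 hu hd, h.inverts hu2 hu he, ← mul_inv_rev, inv_inj] at this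
  exact this.symm

theorem cj_eq_of_coset {H : Subgroup G} {g v : G} (h : g⁻¹ * v ∈ H) : cj v H = cj g H := by
  rw [show v = g * (g⁻¹ * v) by group, ← cj_cj, cj_eq_of_mem h]

theorem card_inf (h : ElemC T) {g : G} (hg : g ∉ normalizer ((T : Subgroup G) : Set G)) :
    Nat.card (normalizer ((T : Subgroup G) : Set G) ⊓ cj g (normalizer ((T : Subgroup G) : Set G)) :
      Subgroup G) + 1 = Nat.card (T : Subgroup G) := by
  obtain ⟨v, hv2, hv⟩ := se_exists_invol_mem_coset h.se hg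
  rw [← cj_eq_of_coset hv]
  exact h.card_inf' hv2 fun h' => hg (by simpa using mul_mem h' (inv_mem hv))

theorem eq_one_of_inverts (h : ElemC T) {g w d : G} (hg : g ∉ normalizer ((T : Subgroup G) : Set G))
    (hw : w ∈ normalizer ((T : Subgroup G) : Set G))
    (hd : d ∈ normalizer ((T : Subgroup G) : Set G) ⊓ cj g (normalizer ((T : Subgroup G) : Set G)))
    (hinv : w * d * w⁻¹ = d⁻¹) : d = 1 := by
  obtain ⟨v, hv2, hv⟩ := se_exists_invol_mem_coset h.se hg
  have hv' : v ∉ normalizer ((T : Subgroup G) : Set G) :=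
    fun h' => hg (by simpa using mul_mem h' (inv_mem hv))
  rw [← cj_eq_of_coset hv] at hd
  obtain ⟨e, he, t, ht, rfl⟩ := h.exists_mul hv2 hv' hw
  have h1 : t * d * t⁻¹ = d⁻¹ := by
    calc t * d * t⁻¹ = e⁻¹ * (e * t * d * (e * t)⁻¹) * e := by group
      _ = d⁻¹ := by
        rw [hinv, mul_assoc, (h.commute_of_mem hv2 hv' hd he).inv_left.eq, inv_mul_cancel_left]
  have h2 : d⁻¹ * d⁻¹ ∈ (T : Subgroup G) := by
    have := mul_mem ht (conj_mem_of_mem_normalizer (mem_inf.1 hd).1 (inv_mem ht))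
    rwa [show t * (d * t⁻¹ * d⁻¹) = t * d * t⁻¹ * d⁻¹ by group, h1] at this
  have h3 := h.eq_one_of_mem hv' h2 (mul_mem (inv_mem (mem_inf.1 hd).2) (inv_mem (mem_inf.1 hd).2))
  rw [← mul_inv_rev, inv_eq_one] at h3
  exact eq_one_of_odd_of_mul_self (odd_orderOf_of_mem (h.se.2.2 v hv') hd) h3

/-- An involution swapping two points and inverting their stabilizer. -/
theorem exists_swap (h : ElemC T) {x y : G ⧸ normalizer ((T : Subgroup G) : Set G)} (hxy : x ≠ y) :
    ∃ v : G, v • x = y ∧ ∀ d : G, d • x = x → d • y = y → v * d * v⁻¹ = d⁻¹ := by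
  obtain ⟨a, rfl⟩ := QuotientGroup.mk_surjective x
  obtain ⟨b, rfl⟩ := QuotientGroup.mk_surjective y
  have hab : a⁻¹ * b ∉ normalizer ((T : Subgroup G) : Set G) := fun h' => hxy (QuotientGroup.eq.2 h')
  obtain ⟨v, hv2, hv⟩ := se_exists_invol_mem_coset h.se hab
  have hv' : v ∉ normalizer ((T : Subgroup G) : Set G) :=
    fun h' => hab (by simpa using mul_mem h' (inv_mem hv))
  refine ⟨a * v * a⁻¹, (smul_mk_eq_iff _ _ _).2 (by simpa [mul_assoc] using hv), fun d h1 h2 => ?_⟩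
  rw [smul_mk_eq_iff] at h1 h2
  have := h.inverts hv2 hv' (d := a⁻¹ * d * a) (mem_inf.2 ⟨h1, by
    rw [cj_eq_of_coset hv, mem_cj]; simpa [mul_assoc] using h2⟩)
  calc _ = a * (v * (a⁻¹ * d * a) * v⁻¹) * a⁻¹ := by group
    _ = _ := by rw [this]; group

theorem eq_one_of_fix (h : ElemC T) {d : G} {x y z : G ⧸ normalizer ((T : Subgroup G) : Set G)}
    (hxy : x ≠ y) (hxz : x ≠ z) (hyz : y ≠ z) (hx : d • x = x) (hy : d • y = y) (hz : d • z = z) :
    d = 1 := by
  obtain ⟨v₁, h1, h1'⟩ := h.exists_swap hxy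
  obtain ⟨v₂, h2, h2'⟩ := h.exists_swap hyz
  obtain ⟨v₃, h3, h3'⟩ := h.exists_swap hxz.symm
  have h4 : (v₃ * v₂ * v₁) • x = x := by rw [mul_smul, mul_smul, h1, h2, h3]
  have h5 : v₃ * v₂ * v₁ * d * (v₃ * v₂ * v₁)⁻¹ = d⁻¹ := by
    calc _ = v₃ * (v₂ * (v₁ * d * v₁⁻¹) * v₂⁻¹) * v₃⁻¹ := by group
      _ = _ := by rw [h1' d hx hy, ← conj_inv, h2' d hy hz, inv_inv, h3' d hz hx]
  obtain ⟨a, rfl⟩ := QuotientGroup.mk_surjective x
  obtain ⟨b, rfl⟩ := QuotientGroup.mk_surjective y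
  rw [smul_mk_eq_iff] at h4 hx hy
  have := h.eq_one_of_inverts (g := a⁻¹ * b) (fun h' => hxy (QuotientGroup.eq.2 h')) h4
    (d := a⁻¹ * d * a) (mem_inf.2 ⟨hx, by rw [mem_cj]; simpa [mul_assoc] using hy⟩) (by
      calc _ = a⁻¹ * (v₃ * v₂ * v₁ * d * (v₃ * v₂ * v₁)⁻¹) * a := by group
        _ = _ := by rw [h5]; group)
  simpa [mul_assoc, inv_mul_eq_one] using this

theorem smul_one_iff {H : Subgroup G} {d : G} : d • ((1 : G) : G ⧸ H) = ((1 : G) : G ⧸ H) ↔ d ∈ H := by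
  rw [smul_mk_eq_self_iff, cj_one]

theorem card_points (h : ElemC T) :
    Nat.card {y : G ⧸ normalizer ((T : Subgroup G) : Set G) // y ≠ ((1 : G) : G ⧸ _)} ≤
      Nat.card (T : Subgroup G) := by
  have h1 := cnt_mul_le (p := fun y : G ⧸ normalizer ((T : Subgroup G) : Set G) => y ≠ ((1 : G) : G ⧸ _))
    (q := fun d : G => d ∈ normalizer ((T : Subgroup G) : Set G) ∧ d ∉ (T : Subgroup G))
    (fun y d => d • y = y) (m := Nat.card (T : Subgroup G) - 2) (n := 1) (by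
      intro y hy
      obtain ⟨g, rfl⟩ := QuotientGroup.mk_surjective y
      have hg : g ∉ normalizer ((T : Subgroup G) : Set G) := fun h' =>
        hy (QuotientGroup.eq.2 (by simpa using h'))
      have h2 := h.card_inf hg
      rw [← cnt_erase (p := fun x => x ∈ normalizer ((T : Subgroup G) : Set G) ⊓
        cj g (normalizer ((T : Subgroup G) : Set G))) (one_mem _)] at h2
      refine le_trans (by omega) (cnt_mono (p := fun x => x ∈ normalizer ((T : Subgroup G) : Set G) ⊓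
        cj g (normalizer ((T : Subgroup G) : Set G)) ∧ x ≠ 1) fun d hd => ?_)
      exact ⟨⟨(mem_inf.1 hd.1).1, fun h' => hd.2 (h.eq_one_of_mem hg h' (mem_inf.1 hd.1).2)⟩,
        (smul_mk_eq_self_iff _ _).2 (mem_inf.1 hd.1).2⟩) (by
      intro d hd
      refine Finite.card_le_one_iff_subsingleton.2 ⟨fun y z => Subtype.ext ?_⟩
      by_contra hne
      refine hd.2 ?_
      rw [h.eq_one_of_fix y.2.1.symm z.2.1.symm hne (smul_one_iff.2 hd.1) y.2.2 z.2.2]
      exact one_mem _)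
  have h2 := cnt_split (fun d : G => d ∈ normalizer ((T : Subgroup G) : Set G))
    (fun d => d ∈ (T : Subgroup G))
  rw [cnt_congr (p := fun d => d ∈ normalizer ((T : Subgroup G) : Set G) ∧ d ∈ (T : Subgroup G))
    (q := fun d => d ∈ (T : Subgroup G)) fun d => ⟨And.right, fun h => ⟨le_normalizer h, h⟩⟩,
    h.card_normalizer] at h2
  have h3 := h.two_lt
  obtain ⟨q, hq⟩ : ∃ q, Nat.card (T : Subgroup G) = q + 2 := ⟨Nat.card (T : Subgroup G) - 2, by omega⟩
  rw [hq] at h1 h2 h3 ⊢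
  simp only [Nat.add_sub_cancel, show q + 2 - 1 = q + 1 by omega] at h1 h2
  refine Nat.le_of_mul_le_mul_right (c := q) ?_ (by omega)
  nlinarith

theorem surj_of_card {α β : Type*} [Finite β] {p : α → Prop} {q : β → Prop} (f : α → β)
    (h1 : ∀ x, p x → q (f x)) (h2 : ∀ x y, p x → p y → f x = f y → x = y)
    (h3 : Nat.card {y // q y} ≤ Nat.card {x // p x}) (y : β) (hy : q y) : ∃ x, p x ∧ f x = y := by
  have := (Function.Injective.bijective_of_nat_card_le
    (f := fun x : {x // p x} => (⟨f x.1, h1 x.1 x.2⟩ : {y // q y}))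
    (fun x y h => Subtype.ext (h2 _ _ x.2 y.2 (congrArg Subtype.val h))) h3).2 ⟨y, hy⟩
  obtain ⟨x, hx⟩ := this
  exact ⟨x.1, x.2, congrArg Subtype.val hx⟩

theorem smul_ne {X : Type*} [MulAction G X] {d : G} {x y : X} (hd : d • x = x) (hy : y ≠ x) :
    d • y ≠ x := fun h => hy (smul_left_cancel d (h.trans hd.symm))

theorem regular (h : ElemC T) {x y : G ⧸ normalizer ((T : Subgroup G) : Set G)}
    (hx : x ≠ ((1 : G) : G ⧸ _)) (hy : y ≠ ((1 : G) : G ⧸ _)) :
    ∃! t : G, t ∈ (T : Subgroup G) ∧ t • x = y := by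
  have hinj : ∀ s t : G, s ∈ (T : Subgroup G) → t ∈ (T : Subgroup G) → s • x = t • x → s = t := by
    intro s t hs ht he
    obtain ⟨g, rfl⟩ := QuotientGroup.mk_surjective x
    refine (inv_mul_eq_one.1 (h.eq_one_of_mem (g := g) (fun h' => hx (QuotientGroup.eq.2
      (by simpa using h'))) (mul_mem (inv_mem ht) hs) ((smul_mk_eq_self_iff _ _).1 ?_))).symm
    rw [mul_smul, he, inv_smul_smul]
  obtain ⟨t, ht, h1⟩ := surj_of_card (p := fun t => t ∈ (T : Subgroup G))
    (q := fun y => y ≠ ((1 : G) : G ⧸ _)) (fun t => t • x)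
    (fun t ht => smul_ne (smul_one_iff.2 (le_normalizer ht)) hx) hinj h.card_points y hy
  exact ⟨t, ⟨ht, h1⟩, fun s hs => hinj s t hs.1 ht (hs.2.trans h1.symm)⟩

theorem exists_smul_three (h : ElemC T) {g : G} (hg : g ∉ normalizer ((T : Subgroup G) : Set G))
    {x y : G ⧸ normalizer ((T : Subgroup G) : Set G)}
    (hx : x ≠ ((1 : G) : G ⧸ _)) (hx' : x ≠ g) (hy : y ≠ ((1 : G) : G ⧸ _)) (hy' : y ≠ g) :
    ∃ d ∈ normalizer ((T : Subgroup G) : Set G) ⊓ cj g (normalizer ((T : Subgroup G) : Set G)),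
      d • x = y := by
  have hg' : (g : G ⧸ normalizer ((T : Subgroup G) : Set G)) ≠ ((1 : G) : G ⧸ _) := fun h' =>
    hg (by simpa using QuotientGroup.eq.1 h')
  refine surj_of_card (q := fun y => y ≠ ((1 : G) : G ⧸ _) ∧ y ≠ g) (fun t => t • x)
    (fun d hd => ⟨smul_ne (smul_one_iff.2 (mem_inf.1 hd).1) hx,
      smul_ne ((smul_mk_eq_self_iff _ _).2 (mem_inf.1 hd).2) hx'⟩) (fun d e hd he hde => ?_) ?_ y
      ⟨hy, hy'⟩
  · have h1 := mem_inf.1 (mul_mem (inv_mem he) hd)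
    refine (inv_mul_eq_one.1 (h.eq_one_of_fix hg'.symm hx.symm hx'.symm (smul_one_iff.2 h1.1)
      ((smul_mk_eq_self_iff _ _).2 h1.2) ?_)).symm
    rw [mul_smul, hde, inv_smul_smul]
  · have h1 := cnt_erase (p := fun y => y ≠ ((1 : G) : G ⧸ normalizer ((T : Subgroup G) : Set G))) hg'
    have h2 := h.card_points
    have h3 := h.card_inf hg
    omega

theorem exists_smul_two (h : ElemC T) {g : G} (hg : g ∉ normalizer ((T : Subgroup G) : Set G))
    {x y : G ⧸ normalizer ((T : Subgroup G) : Set G)} (hxy : x ≠ y) :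
    ∃ k : G, k • x = ((1 : G) : G ⧸ _) ∧ k • y = g := by
  have hg' : (g : G ⧸ normalizer ((T : Subgroup G) : Set G)) ≠ ((1 : G) : G ⧸ _) := fun h' =>
    hg (by simpa using QuotientGroup.eq.1 h')
  obtain ⟨a, ha⟩ := MulAction.exists_smul_eq G x ((1 : G) : G ⧸ _)
  obtain ⟨t, ⟨ht, h1⟩, -⟩ := h.regular (x := a • y) (fun h' => hxy (smul_left_cancel a (ha.trans h'.symm)))
    hg'
  exact ⟨t * a, by rw [mul_smul, ha, smul_one_iff.2 (le_normalizer ht)], by rw [mul_smul, h1]⟩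

theorem three_trans (h : ElemC T) {x₁ x₂ x₃ y₁ y₂ y₃ : G ⧸ normalizer ((T : Subgroup G) : Set G)}
    (h12 : x₁ ≠ x₂) (h13 : x₁ ≠ x₃) (h23 : x₂ ≠ x₃) (k12 : y₁ ≠ y₂) (k13 : y₁ ≠ y₃) (k23 : y₂ ≠ y₃) :
    ∃ g : G, g • x₁ = y₁ ∧ g • x₂ = y₂ ∧ g • x₃ = y₃ := by
  obtain ⟨u, -, hu⟩ := se_exists_invol_notMem h.se
  obtain ⟨a, a1, a2⟩ := h.exists_smul_two hu h12
  obtain ⟨b, b1, b2⟩ := h.exists_smul_two hu k12
  obtain ⟨d, hd, h1⟩ := h.exists_smul_three hu (x := a • x₃) (y := b • y₃)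
    (fun h' => h13 (smul_left_cancel a (a1.trans h'.symm)))
    (fun h' => h23 (smul_left_cancel a (a2.trans h'.symm)))
    (fun h' => k13 (smul_left_cancel b (b1.trans h'.symm)))
    (fun h' => k23 (smul_left_cancel b (b2.trans h'.symm)))
  refine ⟨b⁻¹ * d * a, ?_, ?_, ?_⟩
  · rw [mul_smul, mul_smul, a1, smul_one_iff.2 (mem_inf.1 hd).1, ← b1, inv_smul_smul]
  · rw [mul_smul, mul_smul, a2, (smul_mk_eq_self_iff _ _).2 (mem_inf.1 hd).2, ← b2, inv_smul_smul]
  · rw [mul_smul, mul_smul, h1, inv_smul_smul]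

end ElemC

end Cfsg.Agent.Transfer
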