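import Cfsg.Agent.Lib.Transfer.FC4
import Cfsg.Agent.Lib.Perm.SylNum
import Cfsg.Agent.Lib.Perm.Prim

set_option autoImplicit false
set_option linter.unusedSectionVars false
set_option linter.unusedVariables false
set_option linter.style.haveILetI false
set_option linter.unusedSimpArgs false

/-! Jordan's theorem on sharply multiply transitive groups -/
namespace Cfsg.Agent.Transfer
open Subgroup MulAction MS Perm SubMulAction
universe u v

/-- sharply `k`-transitive actions -/
structure ShT (G : Type u) (α : Type v) [Group G] [MulAction G α] (k : ℕ) : Prop where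
  trans : IsMultiplyPretransitive G α k
  sharp : ∀ x : Fin k ↪ α, stabilizer G x = ⊥
  le : k ≤ #α

variable {G : Type u} {α : Type v} [Group G] [MulAction G α] [Finite G] [Finite α] {k p : ℕ} {g t : G}

theorem syl_count [hp : Fact p.Prime] (P : Sylow p G) (h1 : #P = p)
    (h2 : ∀ w y : G, (orderOf w).Prime → orderOf w ≠ p → orderOf y = p → ¬ Commute w y) :
    CC (P : Subgroup G) = P ∧ ∃ d m, d ∣ p - 1 ∧ #(NN (P : Subgroup G)) = p * d ∧ #G = p * d * m ∧ m % p = 1 % p := by
  have c : IsCyclic P := isCyclic_of_prime_card h1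
  obtain ⟨y, hy, e⟩ := exists_zpowers c
  have e1 : CC (P : Subgroup G) = P := (isSyl_top P).eq_of_le (pg_of_pi (pi_of_forall fun w hw h3 => by_contra fun h4 =>
    h2 w y h3 h4 (by rw [← Nat.card_zpowers, ← e, h1]) (mem_CC.1 hw y hy).symm)) le_top (ab_cc (ab_of_cyc c))
  have e2 : #(NN (P : Subgroup G)) = p * (CC (P : Subgroup G)).relIndex (NN (P : Subgroup G)) := by
    rw [e1, ← card_mul_relIndex (le_nn (P : Subgroup G)), h1]
  exact ⟨e1, _, _, SylNum.relIndex_centralizer_dvd hp.out h1, e2, by rw [← e2, ← SylNum.card_syl, SylNum.card_syl,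
    card_mul_index], SylNum.card_syl P ▸ card_sylow_modEq_one p G⟩

namespace ShT
variable (h : ShT G α k)
include h

theorem card : #G = (#α).descFactorial k := by
  haveI := h.trans
  haveI := Fintype.ofFinite α
  obtain ⟨x⟩ := Function.Embedding.nonempty_of_card_le (α := Fin k) (β := α) (by simpa using h.le)
  rw [card_eq_of_regular (h.sharp x), Nat.card_eq_fintype_card, Fintype.card_embedding_eq]; simp

theorem fix_lt (h1 : g ≠ 1) : #(fixedBy α g) < k := not_le.1 fun e => by
  haveI := Fintype.ofFinite (fixedBy α g)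
  obtain ⟨x⟩ := Function.Embedding.nonempty_of_card_le (α := Fin k) (β := fixedBy α g) (by simpa using e)
  exact h1 (sharp_iff.1 h.sharp (fun i => x i) (Subtype.val_injective.comp x.injective) g fun i => (x i).2)

theorem comm {w y : G} (h1 : (orderOf w).Prime) (h2 : (orderOf y).Prime) (h3 : orderOf w ≠ orderOf y) (h4 : Commute w y)
    (h5 : #(fixedBy α y) + k ≤ #α) : orderOf y * orderOf w ≤ #α := by
  have := h.fix_lt (g := w) fun e => h1.ne_one (by rw [e, orderOf_one])
  obtain ⟨a, ha⟩ := Set.exists_mem_notMem_of_ncard_lt_ncard (s := fixedBy α w ∪ fixedBy α y) (t := Set.univ)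
    ((Set.ncard_union_le _ _).trans_lt (by rw [Set.ncard_univ, ← Nat.card_coe_set_eq, ← Nat.card_coe_set_eq]; omega))
  exact (Nat.le_add_right _ _).trans (SylNum.comm_fix h2 h1 h3.symm rfl rfl h4 (fun e => ha.2 (Or.inl e)) fun e => ha.2 (Or.inr e))

omit h in
theorem step (h : ShT G α (k + 1)) (a : α) : ShT (stabilizer G a) (ofStabilizer G a) k := by
  haveI := h.trans
  haveI : IsPretransitive G α := is_one_pretransitive_iff.1 (isMultiplyPretransitive_of_le (n := k + 1) (by omega) h.le)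
  refine ⟨ofStabilizer.isMultiplyPretransitive.1 h.trans, fun x => eq_bot_iff.2 fun g hg => Subtype.ext
    (mem_bot.1 ((h.sharp (ofStabilizer.snoc x)).le ((mem_stab_emb _ _).2 fun i => ?_))), by
      have := nat_card_ofStabilizer_add_one_eq (G := G) a; have := h.le; omega⟩
  induction i using Fin.lastCases with
  | last => rw [ofStabilizer.snoc_last]; exact g.2
  | cast i => rw [ofStabilizer.snoc_castSucc]; exact congrArg Subtype.val ((mem_stab_emb _ _).1 hg i)

omit h in
theorem four (h : ShT G α 4) : #α = 4 ∨ #α = 5 ∨ #α = 6 ∨ #α = 11 := by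
  have l := h.le
  by_cases hn : #α ≤ 6
  · omega
  have tr := multTrans_iff.1 h.trans
  have sh : ∀ {a b c d : α}, a ≠ b → a ≠ c → b ≠ c → a ≠ d → b ≠ d → c ≠ d → ∀ g : G, g • a = a → g • b = b → g • c = c →
      g • d = d → g = 1 := fun h1 h2 h3 h4 h5 h6 g e1 e2 e3 e4 =>
    sharp_iff.1 h.sharp _ (inj4 h1 h2 h3 h4 h5 h6) g fun i => by fin_cases i; exacts [e1, e2, e3, e4]
  haveI := Fintype.ofFinite α
  obtain ⟨x⟩ := Function.Embedding.nonempty_of_card_le (α := Fin 4) (β := α) (by simpa using l)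
  obtain ⟨a, b, c, d, h1, h2, h3, h4, h5, h6⟩ : ∃ a b c d : α, a ≠ b ∧ a ≠ c ∧ b ≠ c ∧ a ≠ d ∧ b ≠ d ∧ c ≠ d :=
    ⟨x 0, x 1, x 2, x 3, by simp, by simp, by simp, by simp, by simp, by simp⟩
  obtain ⟨t, ht⟩ := tr _ _ (inj4 h1 h2 h3 h4 h5 h6) (inj4 h1 h4 h5 h2 h3 h6.symm)
  have ta : t • a = a := ht 0
  have tb : t • b = b := ht 1
  have tc : t • c = d := ht 2
  have td : t • d = c := ht 3
  have t2 : t * t = 1 := sh h1 h2 h3 h4 h5 h6 _ (by simp [mul_smul, ta]) (by simp [mul_smul, tb]) (by simp [mul_smul, tc, td])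
    (by simp [mul_smul, tc, td])
  have tt : ∀ y : α, t • t • y = y := fun y => by rw [← mul_smul, t2, one_smul]
  have f1 := h.fix_lt (g := t) fun e => h6 (by rw [← tc, e, one_smul])
  have f2 := card_modEq_fixedBy (α := α) Nat.prime_two (g := t) (k := 1) (by simpa [pow_two] using t2)
  let D := C1 t ⊓ stabilizer G c
  have cD : ∀ g ∈ D, ∀ y : α, g • t • y = t • g • y := fun g hg y => by rw [← mul_smul, ← mul_smul, mem_C1.1 hg.1]
  have dD : ∀ g ∈ D, g • d = d := fun g hg => by rw [← tc, cD g hg, show g • c = c from hg.2]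
  let S : SubMulAction D α := ⟨fixedBy α t, fun g y hy => ((cD g g.2 y).symm.trans (congrArg _ hy) : t • g.1 • y = g.1 • y)⟩
  have e1 : #D ∣ (#(fixedBy α t)).factorial := by
    rw [← Nat.card_perm]
    refine card_dvd_of_injective (toPermHom D S) ((injective_iff_map_eq_one _).2 fun g hg => Subtype.ext
      (sh h1 h2 h3 h4 h5 h6 _ ?_ ?_ g.2.2 (dD g g.2)))
    exacts [congrArg Subtype.val (DFunLike.congr_fun hg ⟨a, ta⟩), congrArg Subtype.val (DFunLike.congr_fun hg ⟨b, tb⟩)]
  let M := (fixedBy α t ∪ {c, d})ᶜ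
  have hM : ∀ y, y ∈ M ↔ t • y ≠ y ∧ y ≠ c ∧ y ≠ d := fun y => by simp [M, not_or]
  have e2 : #(fixedBy α t) + 2 + #M = #α := by
    rw [← Set.ncard_add_ncard_compl (fixedBy α t ∪ {c, d}), Set.ncard_union_eq, Set.ncard_pair h6]; rfl
    rw [Set.disjoint_right]
    rintro _ (rfl | rfl) e
    exacts [h6 (e.symm.trans tc), h6 (td.symm.trans e)]
  have i4 : ∀ y ∈ M, Function.Injective ![c, d, y, t • y] := fun y hy => by
    obtain ⟨a1, a2, a3⟩ := (hM y).1 hy
    exact inj4 h6 a2.symm a3.symm (fun e => a3 (by rw [← tt y, ← e, tc])) (fun e => a2 (by rw [← tt y, ← e, td])) a1.symm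
  obtain ⟨y, hy⟩ : Nonempty M := Finite.card_pos_iff.1 (by omega)
  have e3 : #D = #M := Nat.card_eq_of_bijective (fun g => ⟨g.1 • y, by
      obtain ⟨a1, a2, a3⟩ := (hM y).1 hy
      exact (hM _).2 ⟨by rwa [← cD g g.2, ne_eq, smul_left_cancel_iff], fun e => a2 (smul_left_cancel g.1 (e.trans g.2.2.symm)),
        fun e => a3 (smul_left_cancel g.1 (e.trans (dD g g.2).symm))⟩⟩) ⟨fun g g' e => by
      have e : (g'⁻¹ * g).1 • y = y := by simpa [mul_smul, inv_smul_eq_iff] using e
      refine (inv_mul_eq_one.1 (Subtype.ext (sharp_iff.1 h.sharp _ (i4 y hy) (g'⁻¹ * g).1 fun i => ?_))).symm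
      fin_cases i
      exacts [(g'⁻¹ * g).2.2, dD _ (g'⁻¹ * g).2, e, (cD _ (g'⁻¹ * g).2 y).trans (congrArg _ e)], fun z => by
      obtain ⟨g, hg⟩ := tr _ _ (i4 y hy) (i4 z z.2)
      have g0 : g • c = c := hg 0
      have g1 : g • d = d := hg 1
      have g2 : g • y = z := hg 2
      have g3 : g • t • y = t • z.1 := hg 3
      refine ⟨⟨g, mem_C1.2 ?_, g0⟩, Subtype.ext g2⟩
      rw [← mul_inv_eq_iff_eq_mul, ← inv_mul_eq_one, show (g * t * g⁻¹)⁻¹ * t = g * (t⁻¹ * g⁻¹ * t) by group,
        mul_eq_one_comm]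
      refine sharp_iff.1 h.sharp _ (i4 y hy) _ fun i => ?_
      simp only [mul_smul, inv_smul_eq_iff]
      fin_cases i
      exacts [by simp [g0, g1, tc], by simp [g0, g1, td], by simp [g2, g3], by simp [g2, g3, tt]]⟩
  have f3 : 2 ≤ #(fixedBy α t) := by
    rw [Nat.card_coe_set_eq, ← Set.ncard_pair h1]
    exact Set.ncard_le_ncard (by rintro _ (rfl | rfl); exacts [ta, tb])
  have n7 : #α ≠ 7 := fun e => by
    haveI : Fact (Nat.Prime 5) := ⟨Nat.prime_five⟩
    have c := h.card
    rw [e] at c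
    obtain ⟨-, d, m, a1, -, a2, a3⟩ := syl_count (default : Sylow 5 G) (by rw [Sylow.card_eq_multiplicity, c]; decide +kernel)
      fun w y a1 a2 a3 a4 => by
        have := h.fix_lt (g := y) fun e => by simp [e] at a3
        have := h.comm a1 (a3 ▸ Nat.prime_five) (a3 ▸ a2) a4 (by omega)
        have := a1.two_le
        rw [a3] at *; omega
    have := Nat.le_of_dvd (by decide) a1
    rw [c] at a2
    interval_cases d <;> simp [Nat.descFactorial] at a1 a2 <;> omega
  rw [e3] at e1
  unfold Nat.ModEq at f2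
  generalize #(fixedBy α t) = f at *
  have := Nat.le_of_dvd (Nat.factorial_pos _) e1
  generalize #M = m at *
  interval_cases f <;> simp only [Nat.factorial] at this e1 <;> interval_cases m <;> omega

end ShT

theorem ShT.all (k : ℕ) : ∀ {G : Type u} {α : Type v} [Group G] [MulAction G α] [Finite G] [Finite α], ShT G α (k + 4) →
    #α = k + 4 ∨ #α = k + 5 ∨ #α = k + 6 ∨ (k ≤ 1 ∧ #α = k + 11) := by
  induction k with
  | zero => intro G α _ _ _ _ h; simpa using h.four
  | succ k ih =>
    intro G α _ _ _ _ h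
    obtain ⟨a⟩ : Nonempty α := Finite.card_pos_iff.1 (by have := h.le; omega)
    have e := nat_card_ofStabilizer_add_one_eq (G := G) a
    have := ih (h.step a)
    suffices k = 1 → #α ≠ 13 by omega
    rintro rfl e
    haveI : Fact (Nat.Prime 13) := ⟨by decide⟩
    have c := h.card
    rw [e] at c
    obtain ⟨-, d, m, a1, -, a2, a3⟩ := syl_count (default : Sylow 13 G) (by rw [Sylow.card_eq_multiplicity, c]; decide +kernel)
      fun w y a1 a2 a3 a4 => by
        have := h.fix_lt (g := y) fun e => by simp [e] at a3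
        have := h.comm a1 (a3 ▸ Fact.out) (a3 ▸ a2) a4 (by omega)
        have := a1.two_le
        rw [a3] at *; omega
    have := Nat.le_of_dvd (by decide) a1
    rw [c] at a2
    interval_cases d <;> simp [Nat.descFactorial] at a1 a2 <;> omega

theorem ShT.prim (h : ShT G α (k + 2)) : IsPreprimitive G α ∧ FaithfulSMul G α := by
  haveI := h.trans
  refine ⟨isPreprimitive_of_is_two_pretransitive (isMultiplyPretransitive_of_le (n := k + 2) (by omega) h.le),
    ⟨fun {a b} e => (inv_mul_eq_one.1 (by_contra fun e1 => ?_)).symm⟩⟩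
  have := h.fix_lt e1
  rw [show fixedBy α (b⁻¹ * a) = Set.univ from Set.eq_univ_of_forall fun x => by simp [mul_smul, e], Nat.card_univ] at this
  exact this.not_ge h.le

theorem ShT.simple11 (h : ShT G α 4) (e : #α = 11) : IsSimpleGroup G := by
  obtain ⟨_, _⟩ := h.prim
  haveI : Fact (Nat.Prime 11) := ⟨by decide⟩
  have c : #G = 7920 := by rw [h.card, e]; rfl
  obtain ⟨a⟩ : Nonempty α := Finite.card_pos_iff.1 (by omega)
  have key : ∀ N : Subgroup G, N.Normal → N ≠ ⊥ → 11 ∣ #N := fun N _ hN => by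
    haveI := normal_trans_of_prim (α := α) N hN
    exact ⟨_, (card_eq_mul_stab (G := N) a).trans (by rw [e])⟩
  let P : Sylow 11 G := default
  have cP : #P = 11 := by rw [Sylow.card_eq_multiplicity, c]; decide +kernel
  obtain ⟨a0, d, m, a1, a4, a2, a3⟩ := syl_count P cP fun w y a1 a2 a3 a4 => by
    have := h.fix_lt (g := y) fun e => by simp [e] at a3
    have := h.comm a1 (a3 ▸ Fact.out) (a3 ▸ a2) a4 (by omega)
    have := a1.two_le
    rw [a3] at *; omega
  obtain rfl : d = 5 := by
    have := Nat.le_of_dvd (by decide) a1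
    rw [c] at a2
    interval_cases d <;> simp at a1 a2 ⊢ <;> omega
  haveI : Nontrivial G := Finite.one_lt_card_iff_nontrivial.1 (by omega)
  refine ⟨fun N _ => or_iff_not_imp_left.2 fun hN => by_contra fun hT => ?_⟩
  have hP := isSyl_inf_normal P N
  have l : (P : Subgroup G) ≤ N := inf_eq_left.1 (eq_of_le_of_card_ge inf_le_left
    (cP.le.trans (Nat.le_of_dvd Nat.card_pos (pg_dvd hP.pgroup (syl_ne_bot hP (key N inferInstance hN))))))
  rw [inf_eq_left.2 l] at hP
  have f := frattini (M := ⊤) hP le_top nn_normal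
  have b : N ⊓ NN (P : Subgroup G) = P := by
    have b1 := card_dvd (inf_le_right (a := N) (b := NN (P : Subgroup G)))
    obtain ⟨j, hj⟩ := cP ▸ card_dvd (le_inf l (le_nn (P : Subgroup G)))
    rw [a4, hj, Nat.mul_dvd_mul_iff_left (by decide), Nat.dvd_prime Nat.prime_five] at b1
    rcases b1 with rfl | rfl
    · exact (eq_of_le_of_card_ge (le_inf l (le_nn _)) (by omega)).symm
    · rw [top_inf_eq, sup_eq_left.2 (inf_eq_right.1 (eq_of_le_of_card_ge inf_le_right (by omega)))] at f
      exact absurd f hT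
  have n := burnside hP (b.le.trans a0.ge)
  have := (O_pi {11}ᶜ N).not_dvd (p := 11) Fact.out (by simp)
  refine this (key _ (normalizer_eq_top_iff.1 (eq_top_iff.2 (nn_O nn_normal))) fun e => ?_)
  have e1 := n.sup hP
  rw [e, bot_sup_eq] at e1
  rw [← e1, top_inf_eq, sup_eq_right.2 (le_nn _)] at f
  rw [f, card_top] at a4; omega

theorem ShT.simple12 (h : ShT G α 5) (e : #α = 12) : IsSimpleGroup G := by
  obtain ⟨_, _⟩ := h.prim
  have c : #G = 95040 := by rw [h.card, e]; rfl
  obtain ⟨a⟩ : Nonempty α := Finite.card_pos_iff.1 (by omega)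
  haveI := (h.step a).simple11 (by have := nat_card_ofStabilizer_add_one_eq (G := G) a; omega)
  haveI : Nontrivial G := Finite.one_lt_card_iff_nontrivial.1 (by omega)
  refine ⟨fun N hn => or_iff_not_imp_left.2 fun hN => ?_⟩
  haveI := normal_trans_of_prim (α := α) N hN
  rcases (inferInstance : (N.subgroupOf (stabilizer G a)).Normal).eq_bot_or_eq_top with e1 | e1
  · have r : ∀ x ∈ N, x • a = a → x = 1 := fun x h1 h2 => disjoint_def.1 (subgroupOf_eq_bot.1 e1) h1 h2
    have c1 : #N = 12 := e ▸ card_eq_of_regular (a := a) (eq_bot_iff.2 fun x hx => Subtype.ext (r x x.2 hx))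
    obtain ⟨x, hx, a1⟩ := Solv.exists_subgroup_card_prime (A := N) Nat.prime_two (by omega)
    obtain ⟨y, hy, a2⟩ := Solv.exists_subgroup_card_prime (A := N) Nat.prime_three (by omega)
    haveI := h.trans
    obtain ⟨g, g1, g2⟩ := two_trans_iff.1 (isMultiplyPretransitive_of_le (G := G) (α := α) (n := 5) (by omega) h.le) a (x • a) a (y • a)
      (fun e => by simp [r x hx e.symm] at a1) fun e => by simp [r y hy e.symm] at a2
    have := inv_mul_eq_one.1 (r (y⁻¹ * (g * x * g⁻¹)) (mul_mem (inv_mem hy) (hn.conj_mem x hx g)) (by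
      rw [mul_smul, mul_smul, mul_smul, show g⁻¹ • a = a from inv_smul_eq_iff.2 g1.symm, g2, inv_smul_smul]))
    rw [this, orderOf_conj] at a2; omega
  · refine eq_top_iff.2 fun g _ => ?_
    obtain ⟨x, hx⟩ := exists_smul_eq N a (g • a)
    exact (Subgroup.mul_mem_cancel_left N (inv_mem x.2)).1 (subgroupOf_eq_top.1 e1 (by
      rw [mem_stabilizer_iff, mul_smul, inv_smul_eq_iff]; exact hx.symm))

end Cfsg.Agent.Transfer
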