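import Cfsg.Agent.Lib.Block.Cover
import Cfsg.Agent.Lib.Char.Misc
import Cfsg.Agent.Lib.Solv.Cores
import Cfsg.Agent.Lib.Transfer.Count
import Mathlib.RingTheory.Ideal.GoingUp

/-!
Column calculus for the principal block.
-/

set_option linter.unusedSectionVars false
set_option linter.unusedVariables false
set_option linter.style.haveILetI false
set_option linter.unusedSimpArgs false

namespace Cfsg.Agent.Transfer

open Subgroup Cfsg.Agent.Blk Cfsg.Agent.Char
open scoped ComplexConjugate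

theorem exists_isPModular {p : ℕ} (hp : p.Prime) : ∃ M : Ideal AlgInt, IsPModular p M := by
  haveI : (Ideal.span {(p : ℤ)}).IsMaximal :=
    PrincipalIdealRing.isMaximal_of_irreducible (Nat.prime_iff_prime_int.1 hp).irreducible
  obtain ⟨Q, hQ, h⟩ := Ideal.exists_ideal_over_maximal_of_isIntegral (S := AlgInt)
    (Ideal.span {(p : ℤ)}) (by
      intro x hx
      rw [RingHom.mem_ker] at hx
      have : (x : ℂ) = 0 := by simpa using congrArg Subtype.val hx
      have : x = 0 := by exact_mod_cast this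
      simp [this])
  refine ⟨Q, hp, hQ, ?_⟩
  have : (p : ℤ) ∈ Q.comap (algebraMap ℤ AlgInt) := h ▸ Ideal.mem_span_singleton_self _
  simpa using this

/-- The principal block as a finite set. -/
noncomputable def b0 (M : Ideal AlgInt) (G : Type*) [Group G] [Finite G] :
    Finset (IrrCharacter G) := (Set.toFinite (principalBlock M G)).toFinset

variable {G : Type*} [Group G] [Finite G] {M : Ideal AlgInt} {p : ℕ}

theorem mem_b0 {χ : IrrCharacter G} : χ ∈ b0 M G ↔ χ ∈ principalBlock M G := by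
  simp [b0]

theorem sum_b0_ite {β : Type*} [AddCommMonoid β] (f : IrrCharacter G → β)
    [DecidablePred (· ∈ principalBlock M G)] :
    (∑ χ, if χ ∈ principalBlock M G then f χ else 0) = ∑ χ ∈ b0 M G, f χ := by
  rw [← Finset.sum_filter]
  refine Finset.sum_congr ?_ fun _ _ => rfl
  ext; simp [mem_b0]

theorem finsum_b0 {β : Type*} [AddCommMonoid β] (f : IrrCharacter G → β) :
    ∑ᶠ χ ∈ principalBlock M G, f χ = ∑ χ ∈ b0 M G, f χ := by
  rw [← finsum_mem_coe_finset]; simp [b0]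

theorem card_b0 : Nat.card (principalBlock M G) = (b0 M G).card := by
  rw [b0, ← Set.ncard_eq_toFinset_card, Nat.card_coe_set_eq]

theorem hasNPC_iff_index [Fact p.Prime] :
    HasNormalPComplement p G ↔ ∃ k, (pPrimeCore p G).index = p ^ k := by
  refine ⟨fun h => ?_, fun ⟨k, hk⟩ => hasNPC_of_normal Solv.not_dvd_card_pPrimeCore hk⟩
  have h1 := hasNPC_iff_not_dvd.1 h
  have h2 : pResidual p G ≤ pPrimeCore p G :=
    Solv.le_pPrimeCore ((Nat.Prime.coprime_iff_not_dvd Fact.out).2 h1).symm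
  obtain ⟨n, hn⟩ := index_pResidual (p := p) (G := G)
  obtain ⟨k, -, hk⟩ := (Nat.dvd_prime_pow Fact.out).1 (hn ▸ index_dvd_of_le h2)
  exact ⟨k, hk⟩

theorem mem_pPrimeCore_iff_of_hasNPC [Fact p.Prime] (h : HasNormalPComplement p G) {g : G} :
    g ∈ pPrimeCore p G ↔ ¬ p ∣ orderOf g := by
  obtain ⟨k, hk⟩ := hasNPC_iff_index.1 h
  exact ⟨fun hg hd => Solv.not_dvd_card_pPrimeCore (hd.trans (orderOf_dvd_card_of_mem hg)),
    mem_of_preg_of_index hk⟩

theorem index_pPrimeCore_of_hasNPC [Fact p.Prime] (h : HasNormalPComplement p G) :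
    (pPrimeCore p G).index = p ^ (Nat.card G).factorization p := by
  obtain ⟨k, hk⟩ := hasNPC_iff_index.1 h
  rw [← factorization_index_add p (pPrimeCore p G), hk, factorization_pow_self,
    Nat.factorization_eq_zero_of_not_dvd Solv.not_dvd_card_pPrimeCore, add_zero]

theorem irr_ne_one {χ : IrrCharacter G} : χ ≠ irrOne G ↔ (χ : G → ℂ) ≠ fun _ => 1 :=
  not_congr ⟨fun h => h ▸ rfl, fun h => Subtype.ext h⟩

theorem irr_eq_one {χ : IrrCharacter G} : χ = irrOne G ↔ (χ : G → ℂ) = fun _ => 1 :=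
  ⟨fun h => h ▸ rfl, fun h => Subtype.ext h⟩

theorem exists_int_of_invol (χ : IrrCharacter G) {t : G} (ht : t * t = 1) :
    ∃ n : ℤ, (χ : G → ℂ) t = n := by
  obtain ⟨s, -, h2, h3⟩ := χ.2.isCharacter.exists_eigenvalues t
  have h4 := h3 1
  simp only [zpow_one, Multiset.map_id'] at h4
  rw [h4]
  have h5 : ∀ z ∈ s, z = 1 ∨ z = -1 := fun z hz => by
    have h6 : orderOf t ∣ 2 := orderOf_dvd_of_pow_eq_one (by rw [pow_two, ht])
    obtain ⟨c, hc⟩ := h6
    exact sq_eq_one_iff.1 (by rw [hc, pow_mul, h2 z hz, one_pow])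
  clear h4 h3 h2
  induction s using Multiset.induction_on with
  | empty => exact ⟨0, by simp⟩
  | cons a s ih =>
    obtain ⟨n, hn⟩ := ih fun z hz => h5 z (Multiset.mem_cons_of_mem hz)
    rw [Multiset.sum_cons, hn]
    rcases h5 a (Multiset.mem_cons_self _ _) with rfl | rfl
    · exact ⟨1 + n, by simp⟩
    · exact ⟨-1 + n, by simp⟩

theorem one_mem_b0 [M.IsMaximal] : irrOne G ∈ b0 M G := mem_b0.2 irrOne_mem_principal

variable [PMod M p]

theorem b0_orth {x y x' y' : G} (hx : IsPPart p x x') (hy : IsPPart p y y')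
    (hc : ¬ IsConj x' y') :
    ∑ χ ∈ b0 M G, (χ : G → ℂ) x * conj ((χ : G → ℂ) y) = 0 := by
  rw [← finsum_b0]; exact isPBlock_principal.isUB.orthogonality' hx hy hc

theorem b0_section {x : G} {u v : Ce1 x} (hu : IsPPart p (u : G) x) (hv : IsPPart p (v : G) x) :
    ∑ χ ∈ b0 M G, (χ : G → ℂ) u * conj ((χ : G → ℂ) v) =
      ∑ ξ ∈ b0 M (Ce1 x), (ξ : Ce1 x → ℂ) u * conj ((ξ : Ce1 x → ℂ) v) := by
  classical
  have h1 := sum_mul_conj_eq_locSet (isPBlock_principal (M := M)).isUB hu hv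
  simp only [locSet_Ce1_principal hu.pelt] at h1
  rw [← sum_b0_ite, ← sum_b0_ite]
  convert h1

/-- the section formula, with the central element removed. -/
theorem b0_section' {x : G} (hx : ∃ k : ℕ, orderOf x = p ^ k) {y z : Ce1 x}
    (hy : ¬ p ∣ orderOf y) (hz : ¬ p ∣ orderOf z) :
    ∑ χ ∈ b0 M G, (χ : G → ℂ) (x * y) * conj ((χ : G → ℂ) (x * z)) =
      ∑ ξ ∈ b0 M (Ce1 x), (ξ : Ce1 x → ℂ) y * conj ((ξ : Ce1 x → ℂ) z) := by
  set x' : Ce1 x := ⟨x, mem_Ce1.2 rfl⟩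
  have hp : ∀ y : Ce1 x, ¬ p ∣ orderOf y → IsPPart p ((x' * y : Ce1 x) : G) x := fun y hy =>
    isPPart_mul (mem_Ce1.1 y.2).symm hx (by rwa [Subgroup.orderOf_coe])
  have h1 := b0_section (M := M) (hp y hy) (hp z hz)
  refine h1.trans (Finset.sum_congr rfl fun ξ _ => ?_)
  obtain ⟨ω, h3, h4⟩ := exists_root_mul ξ.2 (mem_center_Ce1 x)
  have h5 : ω * conj ω = 1 := by
    rw [Complex.mul_conj, Complex.normSq_eq_norm_sq, norm_eq_one_of_pow (orderOf_pos _).ne' h3]
    simp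
  rw [h4, h4, map_mul]
  linear_combination ((ξ : Ce1 x → ℂ) y * conj ((ξ : Ce1 x → ℂ) z)) * h5

theorem b0_norm {x : G} (hx : ∃ k : ℕ, orderOf x = p ^ k) :
    ∑ χ ∈ b0 M G, (χ : G → ℂ) x * conj ((χ : G → ℂ) x) =
      ∑ ξ ∈ b0 M (Ce1 x), (ξ : Ce1 x → ℂ) 1 ^ 2 := by
  haveI := Fact.mk (PMod.prime M)
  have := b0_section' (M := M) hx (y := 1) (z := 1) preg_one preg_one
  simp only [OneMemClass.coe_one, mul_one] at this
  rw [this]
  exact Finset.sum_congr rfl fun ξ _ => by rw [ξ.2.isCharacter.conj_apply_one, pow_two]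

theorem mem_b0_iff_of_hasNPC (h : HasNormalPComplement p G) {χ : IrrCharacter G} :
    χ ∈ b0 M G ↔ pPrimeCore p G ≤ charKer (χ : G → ℂ) := by
  haveI := Fact.mk (PMod.prime M)
  obtain ⟨k, hk⟩ := hasNPC_iff_index.1 h
  rw [mem_b0, mem_principal_iff_of_npc Solv.not_dvd_card_pPrimeCore hk]

theorem b0_sum_sq_of_hasNPC (h : HasNormalPComplement p G) :
    ∑ χ ∈ b0 M G, (χ : G → ℂ) 1 ^ 2 = (p ^ (Nat.card G).factorization p : ℕ) := by
  classical
  haveI := Fact.mk (PMod.prime M)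
  have h3 := sum_degree_mul_conj_ker (pPrimeCore p G) (one_mem _)
  rw [← index_pPrimeCore_of_hasNPC h, ← h3, ← sum_b0_ite]
  refine Finset.sum_congr rfl fun ξ _ => ?_
  rw [← mem_b0, mem_b0_iff_of_hasNPC h, ξ.2.isCharacter.conj_apply_one, pow_two]

theorem b0_norm_of_hasNPC {x : G} (hx : ∃ k : ℕ, orderOf x = p ^ k)
    (h : HasNormalPComplement p (Ce1 x)) :
    ∑ χ ∈ b0 M G, (χ : G → ℂ) x * conj ((χ : G → ℂ) x) =
      (p ^ (Nat.card (Ce1 x)).factorization p : ℕ) := by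
  rw [b0_norm hx, b0_sum_sq_of_hasNPC h]

theorem b0_apply_mul {u : G} (hu : ∃ k : ℕ, orderOf u = p ^ k) {v : Ce1 u}
    (hv : v ∈ pPrimeCore p (Ce1 u)) {χ : IrrCharacter G} (hχ : χ ∈ b0 M G) :
    (χ : G → ℂ) (u * v) = (χ : G → ℂ) u := by
  haveI := Fact.mk (PMod.prime M)
  have := principal_apply_mul hu Solv.not_dvd_card_pPrimeCore (mem_b0.1 hχ) (y := 1) preg_one hv
    fun h => Solv.not_dvd_card_pPrimeCore (h.trans (by
      rw [one_mul]; exact orderOf_dvd_card_of_mem hv))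
  simpa using this

theorem b0_apply_of_hasNPC {u g : G} (hg : IsPPart p g u) (h : HasNormalPComplement p (Ce1 u))
    {χ : IrrCharacter G} (hχ : χ ∈ b0 M G) : (χ : G → ℂ) g = (χ : G → ℂ) u := by
  haveI := Fact.mk (PMod.prime M)
  have hu := hg.pelt
  obtain ⟨y, rfl, hc, -, hy⟩ := hg
  exact b0_apply_mul hu (v := ⟨y, mem_Ce1.2 hc.symm⟩)
    ((mem_pPrimeCore_iff_of_hasNPC h).2 (by rwa [Subgroup.orderOf_mk])) hχ

theorem b0_apply_of_isConj {u g z : G} (hg : IsPPart p g z) (hc : IsConj u z)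
    (h : HasNormalPComplement p (Ce1 u)) {χ : IrrCharacter G} (hχ : χ ∈ b0 M G) :
    (χ : G → ℂ) g = (χ : G → ℂ) u := by
  haveI := Fact.mk (PMod.prime M)
  obtain ⟨c, rfl⟩ := isConj_iff.1 hc
  have h1 := hg.conj c⁻¹
  simp only [inv_inv, ← mul_assoc, inv_mul_cancel, one_mul, inv_mul_cancel_right] at h1
  rw [← b0_apply_of_hasNPC h1 h hχ, χ.2.isClassFunction.apply_conj']

theorem le_charKer_of_b0 {χ : IrrCharacter G} (hχ : χ ∈ b0 M G) :
    pPrimeCore p G ≤ charKer (χ : G → ℂ) := by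
  haveI := Fact.mk (PMod.prime M)
  exact le_charKer_of_principal Solv.not_dvd_card_pPrimeCore (mem_b0.1 hχ)

theorem blockPart_b0 [Fintype G] (θ : G → ℂ) (g : G) :
    blockPart (principalBlock M G) θ g = ∑ χ ∈ b0 M G, classInner θ χ * (χ : G → ℂ) g := by
  classical
  rw [blockPart_eq, ← sum_b0_ite]

theorem b0_part_eq_zero [Fintype G] {θ : G → ℂ} {x : G}
    (h : ∀ u z : G, IsPPart p u z → IsConj x z → θ u = 0) {u z : G} (hz : IsPPart p u z)
    (hxz : IsConj x z) : ∑ χ ∈ b0 M G, classInner θ χ * (χ : G → ℂ) u = 0 := by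
  rw [← blockPart_b0]; exact isPBlock_principal.isUB.blockPart_eq_zero h hz hxz

/-- second main theorem for the principal block -/
theorem b0_apply_eq_sum {x : G} [Fintype (Ce1 x)] {h : Ce1 x} (hx : IsPPart p (h : G) x)
    {χ : IrrCharacter G} (hχ : χ ∈ b0 M G) :
    (χ : G → ℂ) h = ∑ ξ ∈ b0 M (Ce1 x),
      classInner (fun h : Ce1 x => (χ : G → ℂ) h) ξ * (ξ : Ce1 x → ℂ) h := by
  classical
  have := apply_eq_sum_locSet (H := Ce1 x) (h := h) isPBlock_principal.isUB (mem_b0.1 hχ) hx le_rfl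
  simp only [locSet_Ce1_principal hx.pelt] at this
  rw [← sum_b0_ite]
  convert this

/-- second main theorem outside the principal block -/
theorem sum_b0_eq_zero_of_notMem {x : G} [Fintype (Ce1 x)] {h : Ce1 x} (hx : IsPPart p (h : G) x)
    {χ : IrrCharacter G} (hχ : χ ∉ b0 M G) :
    ∑ ξ ∈ b0 M (Ce1 x),
      classInner (fun h : Ce1 x => (χ : G → ℂ) h) ξ * (ξ : Ce1 x → ℂ) h = 0 := by
  classical
  have hA := (isPBlock_principal (M := M) (G := G)).isUB
  have := apply_eq_sum_locSet (H := Ce1 x) (h := h) hA.compl (χ := χ)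
    (fun h => hχ (mem_b0.2 h)) hx le_rfl
  simp only [locSet_Ce1_compl hx.pelt hA, locSet_Ce1_principal hx.pelt] at this
  have h2 := (χ.2.isClassFunction.res (Ce1 x)).apply_eq_sum h
  rw [← sum_b0_ite]
  have h3 : ∀ ξ : IrrCharacter (Ce1 x),
      (if ξ ∈ principalBlock M (Ce1 x) then classInner (fun h : Ce1 x => (χ : G → ℂ) h) ξ *
        (ξ : Ce1 x → ℂ) h else 0) = classInner (fun h : Ce1 x => (χ : G → ℂ) h) ξ *
        (ξ : Ce1 x → ℂ) h - if ξ ∈ (principalBlock M (Ce1 x))ᶜ then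
          classInner (fun h : Ce1 x => (χ : G → ℂ) h) ξ * (ξ : Ce1 x → ℂ) h else 0 := by
    intro ξ
    by_cases h : ξ ∈ principalBlock M (Ce1 x) <;> simp [h]
  simp only [h3, Finset.sum_sub_distrib]
  rw [← h2, sub_eq_zero]
  convert this

theorem classInner_card_class_mul [Fintype G] (a b : G) (χ : IrrCharacter G) :
    classInner (fun c => (Nat.card {p : G × G // IsConj a p.1 ∧ IsConj b p.2 ∧ p.1 * p.2 = c} : ℂ))
      χ = (Ce1 a).index * (Ce1 b).index / Nat.card G *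
        conj ((χ : G → ℂ) a * (χ : G → ℂ) b / (χ : G → ℂ) 1) := by
  rw [classInner, sum_card_class_mul a b (fun c => conj ((χ : G → ℂ) c)),
    sum_classInd_mul_mul χ.2.conj a b]
  simp only [map_mul, map_div₀]
  ring

/-- the class multiplication relation inside the principal block -/
theorem b0_class_mul {a b x : G}
    (h : ∀ a' b' z : G, IsConj a a' → IsConj b b' → IsPPart p (a' * b') z → ¬ IsConj x z)
    {u z : G} (hz : IsPPart p u z) (hxz : IsConj x z) :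
    ∑ χ ∈ b0 M G, (χ : G → ℂ) a * (χ : G → ℂ) b / (χ : G → ℂ) 1 * conj ((χ : G → ℂ) u) = 0 := by
  haveI := Fintype.ofFinite G
  have h1 := b0_part_eq_zero (M := M) (θ := fun c =>
    (Nat.card {p : G × G // IsConj a p.1 ∧ IsConj b p.2 ∧ p.1 * p.2 = c} : ℂ)) (x := x)
    (fun u z hu hz => by
      rw [Nat.cast_eq_zero, Nat.card_eq_zero]
      left
      exact ⟨fun ⟨q, h1, h2, h3⟩ => h _ _ z h1 h2 (h3 ▸ hu) hz⟩) hz hxz
  simp only [classInner_card_class_mul, mul_assoc, ← Finset.mul_sum] at h1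
  have h2 : ((Ce1 a).index * (Ce1 b).index / Nat.card G : ℂ) ≠ 0 := by
    have := card_ne_zero' G
    have h3 : ((Ce1 a).index : ℂ) ≠ 0 := Nat.cast_ne_zero.2 index_ne_zero_of_finite
    have h4 : ((Ce1 b).index : ℂ) ≠ 0 := Nat.cast_ne_zero.2 index_ne_zero_of_finite
    positivity
  have h3 := congrArg conj ((mul_eq_zero.1 h1).resolve_left h2)
  simpa only [map_sum, map_mul, Complex.conj_conj, map_zero] using h3

/-- relation for products of two conjugates of an involution. -/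
theorem b0_invol {t x : G} (ht : t * t = 1)
    (h : ∀ g : G, g * t * g⁻¹ * x * (g * t * g⁻¹)⁻¹ ≠ x⁻¹) {u : G} (hz : IsPPart p u x) :
    ∑ χ ∈ b0 M G, (χ : G → ℂ) t ^ 2 / (χ : G → ℂ) 1 * conj ((χ : G → ℂ) u) = 0 := by
  haveI := Fact.mk (PMod.prime M)
  simp only [pow_two]
  refine b0_class_mul (x := x) (fun a b z ha hb hp hx => ?_) hz (IsConj.refl _)
  obtain ⟨c, rfl⟩ := isConj_iff.1 ha
  obtain ⟨d, rfl⟩ := isConj_iff.1 hb
  obtain ⟨e, rfl⟩ := isConj_iff.1 hx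
  have h1 := inverts_of_mem_zpowers (inverts_mul_left (conj_mul_self ht c) (conj_mul_self ht d))
    hp.mem_zpowers
  apply h (e⁻¹ * c)
  have h2 : e⁻¹ * c * t * (e⁻¹ * c)⁻¹ * x * (e⁻¹ * c * t * (e⁻¹ * c)⁻¹)⁻¹ =
      e⁻¹ * (c * t * c⁻¹ * (e * x * e⁻¹) * (c * t * c⁻¹)⁻¹) * e := by group
  rw [h2, h1]; group

theorem b0_sum_reg_ne_zero [Fintype G] {χ : IrrCharacter G} (hχ : χ ∈ b0 M G) :
    ∑ g, reg p (χ : G → ℂ) g ≠ 0 := by
  have := (isPBlock_principal (M := M) (G := G)).ch_zr_ne_zero (mem_b0.1 hχ)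
    irrOne_mem_principal (height_irrOne p _)
  rw [ch_zr] at this
  intro h
  apply this
  simp [h]

theorem b0_exists_ne_zero {χ : IrrCharacter G} (hχ : χ ∈ b0 M G) (h1 : χ ≠ irrOne G) :
    ∃ g, p ∣ orderOf g ∧ (χ : G → ℂ) g ≠ 0 := by
  haveI := Fintype.ofFinite G
  by_contra h
  push Not at h
  apply b0_sum_reg_ne_zero hχ
  have h2 := χ.2.classInner_of_ne isIrrCharacter_one (irr_ne_one.1 h1)
  rw [classInner_one_right] at h2
  rw [← (mul_eq_zero.1 h2).resolve_left (inv_ne_zero (card_ne_zero' G))]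
  refine Finset.sum_congr rfl fun g _ => ?_
  rw [reg]; split_ifs with hg
  · exact (h g hg).symm
  · rfl

/-- the average of a class function over `u O_{p'}(C(u))`. -/
theorem b0_avg [Fintype G] {θ : G → ℂ} (hθ : IsClassFunction G θ) {u : G}
    (hu : ∃ k : ℕ, orderOf u = p ^ k) (h : HasNormalPComplement p (Ce1 u))
    [Fintype (pPrimeCore p (Ce1 u))] :
    ∑ y : pPrimeCore p (Ce1 u), θ (u * ((y : Ce1 u) : G)) =
      Nat.card (pPrimeCore p (Ce1 u)) * ∑ χ ∈ b0 M G, classInner θ χ * (χ : G → ℂ) u := by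
  classical
  haveI := Fact.mk (PMod.prime M)
  haveI := Fintype.ofFinite (Ce1 u)
  set u' : Ce1 u := ⟨u, mem_Ce1.2 rfl⟩
  simp only [hθ.apply_eq_sum]
  rw [Finset.sum_comm, ← sum_b0_ite, Finset.mul_sum]
  refine Finset.sum_congr rfl fun χ _ => ?_
  rw [← Finset.mul_sum]
  split_ifs with hχ
  · rw [Finset.sum_congr rfl fun (y : pPrimeCore p (Ce1 u)) _ => b0_apply_mul hu y.2 (mem_b0.2 hχ)]
    simp only [Finset.sum_const, Finset.card_univ, nsmul_eq_mul, Nat.card_eq_fintype_card]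
    ring
  · rw [mul_zero]
    refine mul_eq_zero_of_right _ ?_
    have h1 : ∀ y : pPrimeCore p (Ce1 u), (χ : G → ℂ) (u * ((y : Ce1 u) : G)) = ∑ ξ : IrrCharacter (Ce1 u),
        classInner (fun h : Ce1 u => (χ : G → ℂ) h) ξ * (ξ : Ce1 u → ℂ) (y * u') := fun y => by
      rw [← (χ.2.isClassFunction.res (Ce1 u)).apply_eq_sum (y * u')]
      exact χ.2.isClassFunction.apply_mul_comm _ _
    simp only [h1]
    rw [Finset.sum_comm]
    have h2 := sum_b0_eq_zero_of_notMem (M := M) (x := u) (h := u') (isPPart_self hu)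
      (χ := χ) (fun h => hχ (mem_b0.1 h))
    rw [← mul_zero (Nat.card (pPrimeCore p (Ce1 u)) : ℂ), ← h2, ← sum_b0_ite, Finset.mul_sum]
    refine Finset.sum_congr rfl fun ξ _ => ?_
    rw [← Finset.mul_sum, ← mem_b0, mem_b0_iff_of_hasNPC h]
    split_ifs with hξ
    · rw [Finset.sum_congr rfl fun (y : pPrimeCore p (Ce1 u)) _ => mem_charKer.1 (hξ y.2) u']
      simp only [Finset.sum_const, Finset.card_univ, nsmul_eq_mul, Nat.card_eq_fintype_card]
      ring
    · rw [ξ.2.sum_mul_eq_zero hξ, mul_zero, mul_zero]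

theorem b0_inner_eq {ι κ : Type*} [Fintype ι] [Fintype κ] (f : ι → G) (g : κ → G) (a : ι → ℂ)
    (b : κ → ℂ) :
    ∑ χ ∈ b0 M G, (∑ i, a i * (χ : G → ℂ) (f i)) * conj (∑ j, b j * (χ : G → ℂ) (g j)) =
      ∑ i, ∑ j, a i * conj (b j) *
        ∑ χ ∈ b0 M G, (χ : G → ℂ) (f i) * conj ((χ : G → ℂ) (g j)) := by
  simp only [map_sum, map_mul, Finset.sum_mul_sum]
  rw [Finset.sum_comm]
  refine Finset.sum_congr rfl fun i _ => ?_
  rw [Finset.sum_comm]
  simp only [Finset.mul_sum]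
  refine Finset.sum_congr rfl fun j _ => Finset.sum_congr rfl fun χ _ => by ring

omit [PMod M p] in
theorem card_conj_fiber_sub {N : Subgroup G} {u v n : G} (hn : n ∈ N) (h : n * u * n⁻¹ = v) :
    Nat.card {x : N // (x : G) * u * (x : G)⁻¹ = v} = Nat.card (N ⊓ Ce1 u : Subgroup G) := by
  subst h
  refine Nat.card_congr ⟨fun x => ⟨n⁻¹ * x.1, N.mul_mem (N.inv_mem hn) x.1.2, mem_Ce1.2 ?_⟩,
    fun c => ⟨⟨n * c, mul_mem hn c.2.1⟩, ?_⟩, fun x => by ext; simp, fun c => by ext; simp⟩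
  · have := x.2
    calc n⁻¹ * x.1 * u = n⁻¹ * (x.1 * u * (x.1 : G)⁻¹) * x.1 := by group
      _ = _ := by rw [this]; group
  · have := mem_Ce1.1 c.2.2
    calc n * c * u * (n * c)⁻¹ = n * (c * u) * (n * c)⁻¹ := by group
      _ = _ := by rw [this]; group

theorem b0_pair {u v : G} (hu : ∃ k : ℕ, orderOf u = p ^ k) (hv : ∃ k : ℕ, orderOf v = p ^ k)
    [Decidable (IsConj u v)] :
    ∑ χ ∈ b0 M G, (χ : G → ℂ) u⁻¹ * conj ((χ : G → ℂ) v⁻¹) =
      if IsConj u v then ∑ ξ ∈ b0 M (Ce1 u), (ξ : Ce1 u → ℂ) 1 ^ 2 else 0 := by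
  haveI := Fact.mk (PMod.prime M)
  split_ifs with h
  · rw [← b0_norm hu]
    refine Finset.sum_congr rfl fun χ _ => ?_
    rw [χ.2.isCharacter.apply_inv, χ.2.isCharacter.apply_inv, Complex.conj_conj,
      ← χ.2.isClassFunction.eq_of_isConj h, mul_comm]
  · rw [← b0_orth (M := M) (isPPart_self hv) (isPPart_self hu) fun h' => h h'.symm]
    refine Finset.sum_congr rfl fun χ _ => ?_
    rw [χ.2.isCharacter.apply_inv, χ.2.isCharacter.apply_inv, Complex.conj_conj, mul_comm]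

/-- inner products of columns attached to functions on a `p`-subgroup. -/
theorem b0_inner_controlled {P N : Subgroup G} [Fintype P] [Fintype N] (hP : IsPGroup p P)
    (hNN : N ≤ normalizer (P : Set G)) {θ η : P → ℂ} {w : ℂ}
    (hfus : ∀ u : P, θ u ≠ 0 → ∀ g : G, g * u * g⁻¹ ∈ P → ∃ n ∈ N, n * u * n⁻¹ = g * u * g⁻¹)
    (hw : ∀ u : P, θ u ≠ 0 → ∑ ξ ∈ b0 M (Ce1 (u : G)), (ξ : Ce1 (u : G) → ℂ) 1 ^ 2 =
      w * Nat.card (N ⊓ Ce1 (u : G) : Subgroup G)) :
    ∑ χ ∈ b0 M G, (∑ y : P, θ y * (χ : G → ℂ) (y : G)⁻¹) *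
        conj (∑ y : P, η y * (χ : G → ℂ) (y : G)⁻¹) =
      w * ∑ y : P, θ y * conj (∑ x : N, extendByZero P η (x * y * (x : G)⁻¹)) := by
  classical
  haveI := Fact.mk (PMod.prime M)
  rw [b0_inner_eq (fun y : P => (y : G)⁻¹) (fun y : P => (y : G)⁻¹), Finset.mul_sum]
  refine Finset.sum_congr rfl fun y _ => ?_
  by_cases hy : θ y = 0
  · simp [hy]
  have h1 : ∀ x : N, extendByZero P η (x * y * (x : G)⁻¹) =
      ∑ z : P, if (x : G) * y * (x : G)⁻¹ = z then η z else 0 := fun x => by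
    have h2 : (x : G) * y * (x : G)⁻¹ ∈ P := (mem_normalizer_iff.1 (hNN x.2) y).1 y.2
    rw [extendByZero_of_mem _ _ h2, Finset.sum_eq_single ⟨_, h2⟩]
    · simp
    · intro z _ hz
      exact if_neg fun h => hz (Subtype.ext h.symm)
    · simp
  simp only [h1]
  rw [Finset.sum_comm, map_sum, Finset.mul_sum, Finset.mul_sum]
  refine Finset.sum_congr rfl fun z _ => ?_
  rw [b0_pair (pelt_of_mem hP y.2) (pelt_of_mem hP z.2), ← Finset.sum_filter, Finset.sum_const,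
    nsmul_eq_mul, ← Fintype.card_subtype, ← Nat.card_eq_fintype_card]
  split_ifs with h
  · obtain ⟨g, hg⟩ := isConj_iff.1 h
    obtain ⟨n, hn, h3⟩ := hfus y hy g (hg ▸ z.2)
    rw [card_conj_fiber_sub hn (h3.trans hg), hw y hy]
    simp only [map_mul, map_natCast]
    ring
  · rw [Nat.card_eq_zero.2 (.inl ⟨fun x => h (isConj_iff.2 ⟨_, x.2⟩)⟩)]
    simp

/-- the sign argument: three relations and a lonely sign force a kernel. -/
theorem exists_ker_of_signs {ι : Type*} {s : Finset ι} {a y : ι → ℤ} {d : ι → ℕ}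
    (hd : ∀ i ∈ s, 0 < d i) {o : ι} (ho : o ∈ s) (hao : a o ≠ 0) (hyo : y o = d o)
    (h1 : ∑ i ∈ s, (a i : ℚ) * d i = 0) (h2 : ∑ i ∈ s, (a i : ℚ) * y i = 0)
    (h3 : ∑ i ∈ s, (a i : ℚ) * (y i ^ 2 / d i) = 0) {j : ι}
    (hj : (∀ i ∈ s, i ≠ j → 0 ≤ a i) ∨ ∀ i ∈ s, i ≠ j → a i ≤ 0) :
    ∃ i ∈ s, i ≠ o ∧ a i ≠ 0 ∧ y i = d i := by
  classical
  set c : ℚ := if j ∈ s then y j / d j else 1 with hc
  have hd' : ∀ i ∈ s, (0 : ℚ) < d i := fun i hi => Nat.cast_pos.2 (hd i hi)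
  have h4 : ∑ i ∈ s, (a i : ℚ) * (d i * (y i / d i - c) ^ 2) = 0 := by
    have : ∀ i ∈ s, (a i : ℚ) * (d i * (y i / d i - c) ^ 2) =
        a i * (y i ^ 2 / d i) - 2 * c * (a i * y i) + c ^ 2 * (a i * d i) := fun i hi => by
      have := (hd' i hi).ne'
      field_simp
      ring
    rw [Finset.sum_congr rfl this, Finset.sum_add_distrib, Finset.sum_sub_distrib,
      ← Finset.mul_sum, ← Finset.mul_sum, h1, h2, h3]
    simp
  have h5 : ∀ i ∈ s, (a i : ℚ) * (d i * (y i / d i - c) ^ 2) = 0 := by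
    have hz : ∀ i ∈ s, i = j → (a i : ℚ) * (d i * (y i / d i - c) ^ 2) = 0 := by
      rintro i hi rfl
      simp [hc, hi]
    rcases hj with hj | hj
    · refine (Finset.sum_eq_zero_iff_of_nonneg fun i hi => ?_).1 h4
      by_cases h : i = j
      · exact (hz i hi h).ge
      · have := hd' i hi
        have : (0 : ℚ) ≤ a i := by exact_mod_cast hj i hi h
        positivity
    · refine (Finset.sum_eq_zero_iff_of_nonpos fun i hi => ?_).1 h4
      by_cases h : i = j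
      · exact (hz i hi h).le
      · have := hd' i hi
        have h6 : (a i : ℚ) ≤ 0 := by exact_mod_cast hj i hi h
        exact mul_nonpos_of_nonpos_of_nonneg h6 (by positivity)
  have h6 : ∀ i ∈ s, a i ≠ 0 → (y i : ℚ) / d i = c := fun i hi h => by
    have := h5 i hi
    simp only [mul_eq_zero, Int.cast_eq_zero, h, (hd' i hi).ne', false_or,
      pow_eq_zero_iff two_ne_zero] at this
    exact sub_eq_zero.1 this
  have h7 : c = 1 := by
    rw [← h6 o ho hao, hyo]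
    push_cast
    exact div_self (hd' o ho).ne'
  by_contra h
  push Not at h
  rw [Finset.sum_eq_single o] at h1
  · exact mul_ne_zero (Int.cast_ne_zero.2 hao) (hd' o ho).ne' h1
  · intro i hi hio
    by_contra h8
    have h9 : a i ≠ 0 := fun h => h8 (by simp [h])
    apply h i hi hio h9
    have := h6 i hi h9
    rw [h7, div_eq_one_iff_eq (hd' i hi).ne'] at this
    exact_mod_cast this
  · exact fun h => absurd ho h

omit [PMod M p] in
/-- the sign argument for an integral column of the principal block -/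
theorem b0_exists_ker [M.IsMaximal] {t : G} (ht : t * t = 1) {a : IrrCharacter G → ℤ} (ha : a (irrOne G) ≠ 0)
    (h1 : ∑ χ ∈ b0 M G, (a χ : ℂ) * (χ : G → ℂ) 1 = 0)
    (h2 : ∑ χ ∈ b0 M G, (a χ : ℂ) * (χ : G → ℂ) t = 0)
    (h3 : ∑ χ ∈ b0 M G, (a χ : ℂ) * ((χ : G → ℂ) t ^ 2 / (χ : G → ℂ) 1) = 0) {j : IrrCharacter G}
    (hj : (∀ i ∈ b0 M G, i ≠ j → 0 ≤ a i) ∨ ∀ i ∈ b0 M G, i ≠ j → a i ≤ 0) :
    ∃ χ ∈ b0 M G, χ ≠ irrOne G ∧ a χ ≠ 0 ∧ (χ : G → ℂ) t = (χ : G → ℂ) 1 := by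
  choose y hy using fun χ : IrrCharacter G => exists_int_of_invol χ ht
  simp only [hy, ← cast_deg] at h1 h2 h3 ⊢
  obtain ⟨i, hi, h4, h5, h6⟩ := exists_ker_of_signs (s := b0 M G) (a := a) (y := y)
    (d := fun χ => charDegree (χ : G → ℂ)) (fun χ _ => Nat.pos_of_ne_zero (charDegree_ne_zero χ))
    one_mem_b0 ha (by
      have := hy (irrOne G)
      have h := cast_deg (irrOne G)
      simp only [irrOne_apply] at this h
      exact_mod_cast this.symm.trans h.symm)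
    (by exact_mod_cast h1) (by exact_mod_cast h2) (by exact_mod_cast h3) hj
  exact ⟨i, hi, h4, h5, by exact_mod_cast h6⟩

end Cfsg.Agent.Transfer
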