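import Cfsg.Agent.Lib.Transfer.A2

set_option autoImplicit false
set_option linter.unusedSectionVars false

namespace Cfsg.Agent.Transfer
open Subgroup Cfsg.Agent.MS
open scoped commutatorElement

universe u
variable {G : Type u} [Group G] [Finite G]

theorem ix2_sq {a : G} {m : ℕ} (ha : orderOf a = 2 ^ (m + 1)) : Ix2 (zpowers a) (zpowers (a * a)) :=
  ix2_of_card (zpowers_le.2 (mul_mem (mem_zpowers a) (mem_zpowers a))) (by
    rw [Nat.card_zpowers, Nat.card_zpowers, ← sq, show a ^ 2 = a ^ 2 ^ 1 from rfl, orderOf_two_pow ha (by omega), ha,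
      pow_succ, mul_comm]; rfl)

theorem notMem_sq {a : G} {m : ℕ} (ha : orderOf a = 2 ^ (m + 1)) : a ∉ zpowers (a * a) := fun e =>
  (ix2_sq ha).ne (le_antisymm (ix2_sq ha).le (zpowers_le.2 e))

/-- 2-groups of maximal class (and the groups of order four). -/
structure MC (S : Subgroup G) (a b : G) (n : ℕ) : Prop where
  ord : orderOf a = 2 ^ (n + 1)
  notMem : b ∉ zpowers a
  eq : S = zpowers a ⊔ zpowers b
  sq : b * b ∈ zpowers a
  cnj : b * a * b⁻¹ = a⁻¹ ∨ (2 ≤ n ∧ b * a * b⁻¹ = a ^ 2 ^ n * a⁻¹)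

abbrev Xk (a : G) (k : ℕ) (s : G) : Subgroup G := zpowers (a ^ 2 ^ k) ⊔ zpowers s

namespace MC
variable {S B K : Subgroup G} {a b c s t : G} {n k : ℕ} (h : MC S a b n)
include h

theorem z_mem : a ^ 2 ^ n ∈ zpowers a := pow_mem (mem_zpowers a) _

theorem a2 : A2 S (zpowers a) := by
  refine ⟨h.eq ▸ ix2_sup (mem_normalizer_zpowers ?_) h.sq h.notMem, ab_of_cyc (cyc_zpowers a)⟩
  rcases h.cnj with e | ⟨-, e⟩ <;> rw [e]
  exacts [inv_mem (mem_zpowers a), mul_mem h.z_mem (inv_mem (mem_zpowers a))]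

theorem le : zpowers a ≤ S := h.a2.le
theorem mem_a : a ∈ S := h.le (mem_zpowers a)
theorem mem_b : b ∈ S := h.eq ▸ mem_sup_right (mem_zpowers b)
theorem card : #S = 2 ^ (n + 2) := by rw [h.a2.card, Nat.card_zpowers, h.ord, pow_succ 2 (n + 1), mul_comm]
theorem pg : IsPGroup 2 S := IsPGroup.of_card h.card
theorem ord_z : orderOf (a ^ 2 ^ n) = 2 := by rw [orderOf_two_pow h.ord (by omega)]; simp
theorem z_mul : a ^ 2 ^ n * a ^ 2 ^ n = 1 := mul_self_of_orderOf h.ord_z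
theorem inv_eq (hc : c ∈ zpowers a) (h1 : c * c = 1) : c = 1 ∨ c = a ^ 2 ^ n :=
  Solv.eq_one_or_eq_of_sq h.ord hc (by rwa [pow_two])
theorem ab_out : a * b ∉ zpowers a := by rw [(zpowers a).mul_mem_cancel_left (mem_zpowers a)]; exact h.notMem
theorem mem_ab : a * b ∈ S := mul_mem h.mem_a h.mem_b

theorem out (hs : s ∈ S) (hs' : s ∉ zpowers a) : MC S a s n :=
  ⟨h.ord, hs', h.a2.eq_sup hs hs', h.a2.sq_mem hs, h.a2.conj_eq hs hs' h.mem_b h.notMem (mem_zpowers a) ▸ h.cnj⟩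

theorem inv_sq (hc : c ∈ zpowers (a * a)) : b * c * b⁻¹ = c⁻¹ := by
  refine inverts_of_mem_zpowers ?_ hc
  rw [← conj_mul]
  rcases h.cnj with e | ⟨-, e⟩ <;> rw [e, mul_inv_rev]
  rw [mul_assoc, ← mul_assoc a⁻¹, ← h.a2.comm h.z_mem (inv_mem (mem_zpowers a)), ← mul_assoc, ← mul_assoc, h.z_mul,
    one_mul]

theorem cnj_cases (hc : c ∈ zpowers a) : b * c * b⁻¹ = c⁻¹ ∨ b * c * b⁻¹ = a ^ 2 ^ n * c⁻¹ := by
  obtain hc | ⟨u, hu, rfl⟩ := (ix2_sq h.ord).cases (mem_zpowers a) (notMem_sq h.ord) hc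
  · exact .inl (h.inv_sq hc)
  · have hu' := inv_mem ((ix2_sq h.ord).le hu)
    rw [← conj_mul, h.inv_sq hu, mul_inv_rev, h.a2.comm (inv_mem (mem_zpowers a)) hu']
    rcases h.cnj with e | ⟨-, e⟩ <;> rw [e]
    · exact .inl rfl
    · exact .inr (by rw [← mul_assoc, h.a2.comm hu' h.z_mem, mul_assoc])

theorem mem_pow_iff (hk : k ≤ n + 1) (hc : c ∈ zpowers a) : c ∈ zpowers (a ^ 2 ^ k) ↔ c ^ 2 ^ (n + 1 - k) = 1 :=
  mem_zpowers_pow_iff h.ord hk hc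

theorem pow_le_sq (hk : 1 ≤ k) : zpowers (a ^ 2 ^ k) ≤ zpowers (a * a) := by
  obtain ⟨k, rfl⟩ := Nat.exists_eq_add_of_le hk
  rw [zpowers_le, pow_add, pow_mul, ← pow_two]; exact pow_mem (mem_zpowers _) _

theorem pow_le_pow {l : ℕ} (hk : k ≤ l) : zpowers (a ^ 2 ^ l) ≤ zpowers (a ^ 2 ^ k) := by
  obtain ⟨l, rfl⟩ := Nat.exists_eq_add_of_le hk
  rw [zpowers_le, pow_add, pow_mul]; exact pow_mem (mem_zpowers _) _

theorem inv4 (hc : c ∈ zpowers a) (h4 : c ^ 4 = 1) : b * c * b⁻¹ = c⁻¹ := by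
  rcases h.cnj with e | ⟨hn, -⟩
  · exact inverts_of_mem_zpowers e hc
  · refine h.inv_sq (h.pow_le_sq (k := n - 1) (by omega) ((h.mem_pow_iff (by omega) hc).2 ?_))
    rwa [show n + 1 - (n - 1) = 2 by omega]

theorem fix (hc : c ∈ zpowers a) (e : b * c = c * b) : c * c = 1 := by
  have e1 : b * c * b⁻¹ = c := by rw [e, mul_inv_cancel_right]
  have : c ^ 4 = 1 := by
    rw [show c ^ 4 = c * c * (c * c) by rw [← pow_two, ← pow_two, ← pow_mul]]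
    rcases h.cnj_cases hc with e2 | e2 <;> rw [e1] at e2
    · rw [eq_inv_iff_mul_eq_one.1 e2, mul_one]
    · rw [eq_mul_inv_iff_mul_eq.1 e2, h.z_mul]
  exact eq_inv_iff_mul_eq_one.1 (e1.symm.trans (h.inv4 hc this))

theorem sq_b : b * b = 1 ∨ b * b = a ^ 2 ^ n := h.inv_eq h.sq (h.fix h.sq (mul_assoc _ _ _).symm)

theorem sq_out (hs : s ∈ S) (hs' : s ∉ zpowers a) : s * s = 1 ∨ s * s = a ^ 2 ^ n := (h.out hs hs').sq_b

theorem z_cent : a ^ 2 ^ n ∈ CC S := by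
  refine h.a2.cent h.mem_b h.notMem h.z_mem (mul_inv_eq_iff_eq_mul.1 ?_)
  rw [h.inv4 h.z_mem (by rw [show 4 = 2 * 2 from rfl, pow_mul, pow_two (a ^ 2 ^ n), h.z_mul, one_pow]),
    inv_eq_of_orderOf h.ord_z]

theorem ess (hB : B ≤ S) (he : Ess B) : IsKleinFour B ∨ IsQ8 B := by
  by_cases e : B ≤ zpowers a
  · exact absurd he (not_ess_of_cyc (h.pg.to_le hB) (cyc_mono (cyc_zpowers a) e))
  · obtain ⟨s, hs, hs'⟩ := SetLike.not_le_iff_exists.1 e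
    exact ess_cyc (h.pg.to_le hB) (h.a2.inf hB hs hs') (cyc_mono (cyc_zpowers a) inf_le_right) he

theorem sq_mem_d : a * a ∈ zpowers (a * (b * a * b⁻¹)⁻¹) := by
  rcases h.cnj with e | ⟨hn, e⟩ <;> rw [e]
  · rw [inv_inv]; exact mem_zpowers _
  · rw [mul_inv_rev, inv_inv, inv_eq_of_orderOf h.ord_z, ← mul_assoc]
    have e1 : (a * a * a ^ 2 ^ n) ^ 2 = a ^ 2 ^ 2 := by
      rw [Commute.mul_pow (h.a2.comm (mul_mem (mem_zpowers a) (mem_zpowers a)) h.z_mem), pow_two (a ^ 2 ^ n), h.z_mul,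
        mul_one, ← pow_two, ← pow_mul]; rfl
    exact (Subgroup.mul_mem_cancel_right _ (zpowers_le.2 (e1 ▸ pow_mem (mem_zpowers _) 2)
      (h.pow_le_pow hn (mem_zpowers _)))).1 (mem_zpowers _)

theorem conj_out (hc : c ∈ zpowers (a * a)) : ∃ u ∈ zpowers a, u * b * u⁻¹ = c * b := by
  obtain ⟨k, rfl⟩ := exists_pow_eq (zpowers_le.2 h.sq_mem_d hc)
  refine ⟨a ^ k, pow_mem (mem_zpowers a) k, ?_⟩
  rw [h.a2.conj_out, Commute.mul_pow (h.a2.comm (mem_zpowers a) (inv_mem (h.a2.conj_mem h.mem_b (mem_zpowers a)))),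
    inv_pow, conj_pow]

theorem sq_le_of_nn (h1 : a ∈ NN K) (h2 : b ∈ K) : zpowers (a * a) ≤ K :=
  zpowers_le.2 (zpowers_le.2 ((K.mul_mem_cancel_right h2).1
    (h.a2.conj_out a b ▸ conj_mem_of_mem_normalizer h1 h2)) h.sq_mem_d)

theorem b_nn (k : ℕ) : b ∈ NN (zpowers (a ^ 2 ^ k)) :=
  cyc_nn (cyc_zpowers a) (zpowers_le.2 (pow_mem (mem_zpowers a) _)) h.a2.nn h.mem_b

theorem sq_mem_pow (hk : k ≤ n) : b * b ∈ zpowers (a ^ 2 ^ k) := by
  rcases h.sq_b with e | e <;> rw [e]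
  exacts [one_mem _, h.pow_le_pow hk (mem_zpowers _)]

theorem ix2_X (hk : k ≤ n) : Ix2 (Xk a k b) (zpowers (a ^ 2 ^ k)) :=
  ix2_sup (h.b_nn k) (h.sq_mem_pow hk) fun e => h.notMem (zpowers_le.2 (pow_mem (mem_zpowers a) _) e)

theorem X_le (k : ℕ) : Xk a k b ≤ S := sup_le (zpowers_le.2 (pow_mem h.mem_a _)) (zpowers_le.2 h.mem_b)
theorem b_mem_X (k : ℕ) : b ∈ Xk a k b := mem_sup_right (mem_zpowers b)
theorem z_mem_X (hk : k ≤ n) : a ^ 2 ^ n ∈ Xk a k b := mem_sup_left (h.pow_le_pow hk (mem_zpowers _))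

theorem card_X (hk : k ≤ n) : #(Xk a k b) = 2 ^ (n + 2 - k) := by
  rw [(h.ix2_X hk).card, Nat.card_zpowers, orderOf_two_pow h.ord (by omega), ← pow_succ']; congr 1; omega

theorem X_inf (hk : k ≤ n) (hc : c ∈ zpowers a) (h1 : c ∈ Xk a k b) : c ∈ zpowers (a ^ 2 ^ k) := by
  obtain e | ⟨u, hu, rfl⟩ := (h.ix2_X hk).cases (h.b_mem_X k) (fun e => h.notMem (zpowers_le.2 (pow_mem (mem_zpowers a) _) e)) h1
  · exact e
  · exact absurd (((zpowers a).mul_mem_cancel_left (zpowers_le.2 (pow_mem (mem_zpowers a) _) hu)).1 hc) h.notMem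

theorem X_eq (hk : k ≤ n) (hs : s ∈ Xk a k b) (hs' : s ∉ zpowers a) : Xk a k s = Xk a k b :=
  ((h.ix2_X hk).eq_sup hs fun e => hs' (zpowers_le.2 (pow_mem (mem_zpowers a) _) e)).symm

theorem X_zero : Xk a 0 b = S := by rw [h.eq, Xk, pow_zero, pow_one]

theorem ix2_XX (hk : k + 1 ≤ n) : Ix2 (Xk a k b) (Xk a (k + 1) b) :=
  ix2_of_card (sup_le_sup_right (h.pow_le_pow (by omega)) _) (by
    rw [h.card_X hk, h.card_X (by omega), ← pow_succ']; congr 1; omega)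

theorem nn_X (hk : k + 1 ≤ n) : S ⊓ NN (Xk a (k + 1) b) = Xk a k b := by
  refine le_antisymm (fun x hx => ?_) (le_inf (h.X_le k) (h.ix2_XX hk).nn)
  have key : ∀ u ∈ zpowers a, u ∈ NN (Xk a (k + 1) b) → u ∈ Xk a k b := fun u hu h1 => by
    have h2 := (Subgroup.mul_mem_cancel_right _ (h.b_mem_X _)).1
      (h.a2.conj_out u b ▸ conj_mem_of_mem_normalizer h1 (h.b_mem_X _))
    have h3 : u * u ∈ Xk a (k + 1) b := by
      rcases h.cnj_cases hu with e | e <;> rw [e] at h2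
      · rwa [inv_inv] at h2
      · rwa [mul_inv_rev, inv_inv, ← mul_assoc, Subgroup.mul_mem_cancel_right _ (inv_mem (h.z_mem_X hk))] at h2
    have h4 := (h.mem_pow_iff (by omega) (mul_mem hu hu)).1 (h.X_inf hk (mul_mem hu hu) h3)
    refine mem_sup_left ((h.mem_pow_iff (by omega) hu).2 ?_)
    rw [← h4, ← pow_two, ← pow_mul, ← pow_succ']; congr 2; omega
  obtain e | ⟨u, hu, rfl⟩ := h.a2.cases h.mem_b h.notMem hx.1
  · exact key x e hx.2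
  · exact mul_mem (key u hu ((Subgroup.mul_mem_cancel_right _ (le_nn _ (h.b_mem_X _))).1 hx.2)) (h.b_mem_X _)

theorem sub_eq (hB : B ≤ S) (h1 : b ∈ B) (hk : k ≤ n) (hc : #B = 2 ^ (n + 2 - k)) : B = Xk a k b := by
  have h2 := h.a2.inf hB h1 h.notMem
  rw [h2.eq_sup h1 fun e => h.notMem e.2]
  refine congrArg (· ⊔ _) (cyc_eq (cyc_zpowers a) inf_le_right (zpowers_le.2 (pow_mem (mem_zpowers a) _)) ?_)
  have := h2.card
  have := (h.ix2_X hk).card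
  have := h.card_X hk
  omega

theorem cc_b : S ⊓ C1 b = Xk a n b := by
  refine le_antisymm (fun x hx => ?_) (le_inf (h.X_le n) (sup_le (zpowers_le.2 (cc_le_C1 h.mem_b h.z_cent))
    (zpowers_le.2 (self_mem_C1 b))))
  have key : ∀ u ∈ zpowers a, u ∈ C1 b → u ∈ Xk a n b := fun u hu h1 => by
    rcases h.inv_eq hu (h.fix hu (mem_C1.1 h1).symm) with rfl | rfl
    exacts [one_mem _, h.z_mem_X le_rfl]
  obtain e | ⟨u, hu, rfl⟩ := h.a2.cases h.mem_b h.notMem hx.1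
  · exact key x e hx.2
  · exact mul_mem (key u hu ((Subgroup.mul_mem_cancel_right _ (self_mem_C1 b)).1 hx.2)) (h.b_mem_X _)

theorem not_ab (hn : 1 ≤ n) : ¬ IsMulCommutative S := fun e => by
  have h1 := h.card_X le_rfl
  rw [← h.cc_b, inf_eq_left.2 (le_C1_iff.2 (ab_cc e h.mem_b)), h.card] at h1
  have := Nat.pow_right_injective le_rfl h1
  omega

theorem center (hn : 1 ≤ n) : S ⊓ CC S = zpowers (a ^ 2 ^ n) :=
  le_antisymm (fun _ hx => h.X_inf le_rfl (h.a2.center_le_U (h.not_ab hn) hx) (h.cc_b ▸ ⟨hx.1, cc_le_C1 h.mem_b hx.2⟩))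
    (zpowers_le.2 ⟨h.le h.z_mem, h.z_cent⟩)

theorem X_one (s : G) : Xk a 1 s = zpowers (a * a) ⊔ zpowers s := by rw [Xk, pow_one, pow_two]

theorem ix2_M (hn : 1 ≤ n) : Ix2 S (Xk a 1 b) := by have := h.ix2_XX (k := 0) hn; rwa [h.X_zero] at this

theorem out_cases (hs : s ∈ S) (hs' : s ∉ zpowers a) :
    (∃ c ∈ zpowers (a * a), s = c * b) ∨ ∃ c ∈ zpowers (a * a), s = c * (a * b) := by
  obtain e | ⟨u, hu, rfl⟩ := h.a2.cases h.mem_b h.notMem hs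
  · exact absurd e hs'
  obtain hu | ⟨c, hc, rfl⟩ := (ix2_sq h.ord).cases (mem_zpowers a) (notMem_sq h.ord) hu
  exacts [.inl ⟨u, hu, rfl⟩, .inr ⟨c, hc, mul_assoc _ _ _⟩]

theorem out_conj (hs : s ∈ S) (hs' : s ∉ zpowers a) : ∃ u ∈ zpowers a, u * b * u⁻¹ = s ∨ u * (a * b) * u⁻¹ = s := by
  obtain ⟨c, hc, rfl⟩ | ⟨c, hc, rfl⟩ := h.out_cases hs hs'
  · exact (h.conj_out hc).imp fun _ h => ⟨h.1, .inl h.2⟩
  · exact ((h.out h.mem_ab h.ab_out).conj_out hc).imp fun _ h => ⟨h.1, .inr h.2⟩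

theorem mul_mem_M (hc : c ∈ zpowers (a * a)) : c * b ∈ Xk a 1 b :=
  mul_mem (h.X_one b ▸ mem_sup_left hc) (h.b_mem_X 1)

theorem out_mem (hs : s ∈ S) (hs' : s ∉ zpowers a) : s ∈ Xk a 1 b ∨ s ∈ Xk a 1 (a * b) := by
  obtain ⟨c, hc, rfl⟩ | ⟨c, hc, rfl⟩ := h.out_cases hs hs'
  exacts [.inl (h.mul_mem_M hc), .inr ((h.out h.mem_ab h.ab_out).mul_mem_M hc)]

theorem a_notMem (hn : 1 ≤ n) : a ∉ Xk a 1 b := fun e =>
  notMem_sq h.ord (by simpa [pow_two] using h.X_inf hn (mem_zpowers a) e)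

theorem ab_notMem (hn : 1 ≤ n) : a * b ∉ Xk a 1 b := fun e =>
  h.a_notMem hn ((Subgroup.mul_mem_cancel_right _ (h.b_mem_X 1)).1 e)

theorem mem_M (hn : 1 ≤ n) (hs : s ∈ Xk a 1 b) (hs' : s ∉ zpowers a) : ∃ c ∈ zpowers (a * a), s = c * b :=
  (h.out_cases (h.X_le 1 hs) hs').resolve_right fun ⟨c, hc, e⟩ => h.ab_notMem hn
    ((Subgroup.mul_mem_cancel_left _ (h.X_one b ▸ mem_sup_left hc)).1 (e ▸ hs))

theorem M_le (h1 : a ∈ NN K) (h2 : b ∈ K) : Xk a 1 b ≤ K := h.X_one b ▸ sup_le (h.sq_le_of_nn h1 h2) (zpowers_le.2 h2)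

theorem der (hn : 1 ≤ n) : ⁅S, S⁆ = zpowers (a * a) := by
  refine le_antisymm (fun x hx => ?_) (zpowers_le.2 (zpowers_le.2 ?_ h.sq_mem_d))
  · simpa [pow_two] using h.X_inf hn (h.a2.der_le hx) ((h.ix2_M hn).der_le hx)
  · have := commutator_mem_commutator h.mem_a h.mem_b
    rwa [commutatorElement_def, show a * b * a⁻¹ * b⁻¹ = a * (b * a * b⁻¹)⁻¹ by group] at this

theorem ix2_cases (hn : 1 ≤ n) (hK : Ix2 S K) : K = zpowers a ∨ K = Xk a 1 b ∨ K = Xk a 1 (a * b) := by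
  by_cases e : K ≤ zpowers a
  · exact .inl (eq_of_card_le e (by have := hK.card; have := h.a2.card; omega))
  obtain ⟨s, hs, hs'⟩ := SetLike.not_le_iff_exists.1 e
  have h1 := (h.out (hK.le hs) hs').sub_eq hK.le hs hn (by have := hK.card; rw [h.card, pow_succ] at this; simp; omega)
  rcases h.out_mem (hK.le hs) hs' with e | e
  exacts [.inr (.inl (h1.trans (h.X_eq hn e hs'))), .inr (.inr (h1.trans ((h.out h.mem_ab h.ab_out).X_eq hn e hs')))]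

theorem klein (hB : B ≤ S) (h4 : IsKleinFour B) : ∃ s ∈ S, s ∉ zpowers a ∧ s * s = 1 ∧ B = Xk a n s := by
  obtain ⟨s, hs, hs'⟩ := SetLike.not_le_iff_exists.1 fun e : B ≤ zpowers a =>
    h4.not_isCyclic (cyc_mono (cyc_zpowers a) e)
  exact ⟨s, hB hs, hs', elem_mul_self (klein_elem h4) hs,
    (h.out (hB hs) hs').sub_eq hB hs le_rfl (by rw [h4.card_four]; simp)⟩

theorem klein_X (hb : b * b = 1) : IsKleinFour (Xk a n b) :=
  klein_closure h.ord_z (orderOf_eq_two hb fun e => h.notMem (e ▸ one_mem _)) (fun e => h.notMem (e ▸ h.z_mem))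
    (h.z_cent b h.mem_b).symm

theorem q8 (hB : B ≤ S) (h8 : IsQ8 B) : 1 ≤ n ∧ ∃ s ∈ S, s ∉ zpowers a ∧ s * s = a ^ 2 ^ n ∧ B = Xk a (n - 1) s := by
  obtain ⟨s, hs, hs'⟩ := h.a2.out_of_nonab h8.not_ab
  have hn : 1 ≤ n := by
    have := card_le_of_le hB
    rw [h8.card, h.card] at this
    rcases n with _ | n <;> omega
  refine ⟨hn, s, hB hs, hs', (h.sq_out (hB hs) hs').resolve_left fun e => ?_,
    (h.out (hB hs) hs').sub_eq hB hs (by omega) (by rw [h8.card, show n + 2 - (n - 1) = 3 by omega]; rfl)⟩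
  obtain ⟨t, -, -, h1, h2⟩ := h8.exists_t
  obtain ⟨x, hx, h3⟩ := h8.exists_four
  rcases h1 s hs e with rfl | rfl
  exacts [hs' (one_mem _), hs' ((h2 x hx h3).1 ▸ h.a2.sq_mem (hB hx))]

theorem ord_w (hn : 1 ≤ n) : orderOf (a ^ 2 ^ (n - 1)) = 4 := by
  rw [orderOf_two_pow h.ord (by omega), show n + 1 - (n - 1) = 2 by omega]; rfl

theorem w_mul (hn : 1 ≤ n) : a ^ 2 ^ (n - 1) * a ^ 2 ^ (n - 1) = a ^ 2 ^ n := by
  rw [← pow_two, ← pow_mul, ← pow_succ, Nat.sub_add_cancel hn]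

theorem inv_w (hn : 1 ≤ n) : b * a ^ 2 ^ (n - 1) * b⁻¹ = (a ^ 2 ^ (n - 1))⁻¹ :=
  h.inv4 (pow_mem (mem_zpowers a) _) (h.ord_w hn ▸ pow_orderOf_eq_one _)

theorem q8_X (hn : 1 ≤ n) (hb : b * b = a ^ 2 ^ n) : IsQ8 (Xk a (n - 1) b) :=
  isQ8_of (h.ord_w hn) (hb.trans (h.w_mul hn).symm) (h.inv_w hn)
    fun e => h.notMem (zpowers_le.2 (pow_mem (mem_zpowers a) _) e)

theorem ord4 (hn : 1 ≤ n) (hc : c ∈ zpowers a) (h4 : orderOf c = 4) : c = a ^ 2 ^ (n - 1) ∨ c = (a ^ 2 ^ (n - 1))⁻¹ := by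
  classical
  have h1 := (h.mem_pow_iff (k := n - 1) (by omega) hc).2 (by
    rw [show n + 1 - (n - 1) = 2 by omega]; exact orderOf_dvd_iff_pow_eq_one.1 h4.dvd)
  rw [mem_zpowers_iff_mem_range_orderOf, h.ord_w hn] at h1
  obtain ⟨i, hi, rfl⟩ := Finset.mem_image.1 h1
  rw [Finset.mem_range] at hi
  interval_cases i
  · simp at h4
  · exact .inl (pow_one _)
  · rw [pow_two, h.w_mul hn, h.ord_z] at h4; omega
  · exact .inr (eq_inv_of_mul_eq_one_left (by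
      rw [← pow_succ]; exact orderOf_dvd_iff_pow_eq_one.1 (h.ord_w hn).dvd))

theorem cj_X (hc : c ∈ zpowers a) (k : ℕ) (s : G) : cj c (Xk a k s) = Xk a k (c * s * c⁻¹) := by
  rw [cj_sup, cj_zpowers, cj_zpowers, h.a2.conj_in hc (pow_mem (mem_zpowers a) _)]

theorem sq_mul (hc : c ∈ zpowers (a * a)) : c * b * (c * b) = b * b := mul_self_of_inverts (h.inv_sq hc)

theorem mc_M (hn : 1 ≤ n) : MC (Xk a 1 b) (a * a) b (n - 1) :=
  ⟨by rw [← pow_two]; exact (orderOf_two_pow (k := 1) h.ord (by omega)).trans (by congr 1; omega),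
    fun e => h.notMem ((ix2_sq h.ord).le e), h.X_one b, by simpa [pow_two] using h.sq_mem_pow hn,
    .inl (h.inv_sq (mem_zpowers _))⟩

theorem dih_M (hn : 1 ≤ n) (hb : b * b = 1) : Nonempty (Xk a 1 b ≃* DihedralGroup (2 ^ n)) := by
  have := nonempty_dihedral_closure (h.inv_sq (mem_zpowers _)) (by rwa [pow_two]) (h.mc_M hn).notMem
  rwa [closure_pair_eq, ← h.X_one, (h.mc_M hn).ord, Nat.sub_add_cancel hn] at this

theorem quat_M (hn : 1 ≤ n) (hb : b * b = a ^ 2 ^ n) : Nonempty (Xk a 1 b ≃* QuaternionGroup (2 ^ (n - 1))) := by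
  have := nonempty_quaternion_closure (n := 2 ^ (n - 1)) ((h.mc_M hn).ord.trans (pow_succ' _ _))
    (h.inv_sq (mem_zpowers _)) (by rw [pow_two, hb, ← pow_two, ← pow_mul, ← pow_succ', Nat.sub_add_cancel hn])
    (h.mc_M hn).notMem
  rwa [closure_pair_eq, ← h.X_one] at this

theorem map {G' : Type u} [Group G'] [Finite G'] {f : G →* G'} (hf : Function.Injective f) :
    MC (S.map f) (f a) (f b) n := by
  refine ⟨(orderOf_injective f hf a).trans h.ord, MonoidHom.map_zpowers f a ▸ mt (mem_map_iff_mem hf).1 h.notMem,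
    by rw [h.eq, Subgroup.map_sup, MonoidHom.map_zpowers, MonoidHom.map_zpowers],
    by rw [← map_mul, ← MonoidHom.map_zpowers]; exact mem_map_of_mem f h.sq,
    h.cnj.imp (fun e => ?_) (And.imp_right fun e => ?_)⟩ <;>
  simpa only [map_mul, map_inv, map_pow] using congrArg f e

theorem cj (g : G) : MC (cj g S) (g * a * g⁻¹) (g * b * g⁻¹) n := h.map (MulAut.conj g).injective

theorem not_ess (hn : 1 ≤ n) (h2 : 2 ≤ n ∨ b * b = 1) : ¬ Ess S := fun he => by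
  rcases h.ess le_rfl he with e | e
  · exact h.not_ab hn (klein_isMulCommutative e)
  · have h1 := e.card
    rw [h.card] at h1
    obtain rfl : n = 1 := by have := Nat.pow_right_injective le_rfl (h1.trans (show 8 = 2 ^ 3 from rfl)); omega
    obtain ⟨t, -, -, h3, h4⟩ := e.exists_t
    obtain ⟨x, hx, h5⟩ := e.exists_four
    rcases h3 b h.mem_b (h2.resolve_left (by omega)) with rfl | rfl
    exacts [h.notMem (one_mem _), h.notMem ((h4 x hx h5).1 ▸ h.a2.sq_mem hx)]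

end MC

theorem mc_of_dihedral {S : Subgroup G} (hS : IsPGroup 2 S) {m : ℕ} (hm : 2 ≤ m) (e : S ≃* DihedralGroup m) :
    ∃ a b n, MC S a b n ∧ b * b = 1 ∧ b * a * b⁻¹ = a⁻¹ ∧ m = 2 ^ (n + 1) := by
  haveI : NeZero m := ⟨by omega⟩
  obtain ⟨a, b, h1, h2, h3, h4, h5⟩ := exists_gens_of_dihedral e
  obtain ⟨k, hk⟩ := Solv.exists_orderOf_eq_pow hS (h5 ▸ subset_closure (by simp) : a ∈ S)
  obtain _ | k := k
  · omega
  rw [pow_two] at h3
  exact ⟨a, b, k, ⟨hk, h4, h5.trans (closure_pair_eq a b), h3 ▸ one_mem _, .inl h2⟩, h3, h2, h1.symm.trans hk⟩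

theorem mc_of_quaternion {S : Subgroup G} {m : ℕ} (e : S ≃* QuaternionGroup (2 ^ m)) :
    ∃ a b, MC S a b m ∧ b * b = a ^ 2 ^ m ∧ b * a * b⁻¹ = a⁻¹ := by
  obtain ⟨a, b, h1, h2, h3, h4, h5⟩ := exists_gens_of_quaternion e
  rw [pow_two] at h3
  exact ⟨a, b, ⟨h1.trans (pow_succ' _ _).symm, h4, h5.trans (closure_pair_eq a b), h3 ▸ pow_mem (mem_zpowers a) _,
    .inl h2⟩, h3, h2⟩

structure QD (S : Subgroup G) (a b : G) (n : ℕ) : Prop extends MC S a b n where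
  sq1 : b * b = 1
  two : 2 ≤ n
  cnj' : b * a * b⁻¹ = a ^ 2 ^ n * a⁻¹

theorem qd_top (h : IsQuasiDihedral G) : ∃ a b n, QD (⊤ : Subgroup G) a b n := by
  obtain ⟨_ | n, hn, hc, a, b, ha, hb, h1⟩ := h
  · omega
  have h2 : b * a * b⁻¹ = a ^ 2 ^ n * a⁻¹ := by
    rw [h1, eq_mul_inv_iff_mul_eq, ← pow_succ, Nat.add_sub_cancel, Nat.sub_add_cancel Nat.one_le_two_pow]
  have h3 : b ∉ zpowers a := fun e => by
    rw [(Solv.commute_of_mem_zpowers e).eq, mul_inv_cancel_right, eq_mul_inv_iff_mul_eq, ← pow_two] at h2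
    have h4 := orderOf_two_pow (k := 1) ha (by omega)
    rw [pow_one, h2, orderOf_two_pow ha (by omega)] at h4
    have := Nat.pow_right_injective le_rfl h4; omega
  have h4 : b ∈ NN (zpowers a) := mem_normalizer_zpowers (h1 ▸ pow_mem (mem_zpowers a) _)
  have h5 := mul_self_of_orderOf hb
  refine ⟨a, b, n, ⟨ha, h3, (eq_of_card_le le_top ?_).symm, h5 ▸ one_mem _, .inr ⟨by omega, h2⟩⟩, h5, by omega, h2⟩
  rw [card_top, hc, (ix2_sup h4 (h5 ▸ one_mem _) h3).card, Nat.card_zpowers, ha, ← pow_succ']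

theorem QD.map {S : Subgroup G} {a b : G} {n : ℕ} (h : QD S a b n) {G' : Type u} [Group G'] [Finite G'] {f : G →* G'}
    (hf : Function.Injective f) : QD (S.map f) (f a) (f b) n :=
  ⟨h.toMC.map hf, by rw [← map_mul, h.sq1, map_one], h.two,
    by simpa only [map_mul, map_inv, map_pow] using congrArg f h.cnj'⟩

theorem qd_of {S : Subgroup G} (h : IsQuasiDihedral S) : ∃ a b n, QD S a b n := by
  obtain ⟨a, b, n, h⟩ := qd_top h
  have := h.map S.subtype_injective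
  rw [← MonoidHom.range_eq_map, range_subtype] at this
  exact ⟨_, _, _, this⟩

namespace QD
variable {S B T Q : Subgroup G} {a b c s t : G} {n : ℕ} (h : QD S a b n)
include h

theorem one : 1 ≤ n := by have := h.two; omega
theorem mc' : MC S a (a * b) n := h.out h.mem_ab h.ab_out
theorem sq_ab : a * b * (a * b) = a ^ 2 ^ n := by
  rw [h.a2.sq_out, h.cnj', h.sq1, mul_one, ← h.a2.comm (inv_mem (mem_zpowers a)) h.z_mem, mul_inv_cancel_left]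
theorem z_ne : a ^ 2 ^ n ≠ 1 := ne_one_of_orderOf h.ord_z
theorem ord_b : orderOf b = 2 := orderOf_eq_two h.sq1 fun e => h.notMem (e ▸ one_mem _)
theorem ord_ab : orderOf (a * b) = 4 :=
  (h.mc'.q8_X h.one h.sq_ab).ord4 (h.mc'.b_mem_X _) (h.sq_ab ▸ h.z_ne)

theorem conj_b (hs : s ∈ S) (hs' : s ∉ zpowers a) (h1 : s * s = 1) : ∃ u ∈ zpowers a, u * b * u⁻¹ = s := by
  obtain ⟨u, hu, e | rfl⟩ := h.out_conj hs hs'
  · exact ⟨u, hu, e⟩
  · rw [conj_mul, conj_eq_one_iff, h.sq_ab] at h1; exact absurd h1 h.z_ne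

theorem conj_ab (hs : s ∈ S) (hs' : s ∉ zpowers a) (h1 : s * s ≠ 1) : ∃ u ∈ zpowers a, u * (a * b) * u⁻¹ = s := by
  obtain ⟨u, hu, rfl | e⟩ := h.out_conj hs hs'
  · exact absurd (by rw [conj_mul, h.sq1]; simp) h1
  · exact ⟨u, hu, e⟩

theorem invol (hs : s ∈ S) (h2 : orderOf s = 2) : s = a ^ 2 ^ n ∨ ∃ u ∈ S, u * b * u⁻¹ = s := by
  by_cases e : s ∈ zpowers a
  · exact .inl (invol_eq_of_mem_zpowers e h.z_mem h2 h.ord_z)
  · exact .inr ((h.conj_b hs e (mul_self_of_orderOf h2)).imp fun _ h1 => ⟨h.le h1.1, h1.2⟩)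

theorem four (hs : s ∈ S) (h4 : orderOf s = 4) :
    (∃ u ∈ S, u * a ^ 2 ^ (n - 1) * u⁻¹ = s) ∨ ∃ u ∈ S, u * (a * b) * u⁻¹ = s := by
  by_cases e : s ∈ zpowers a
  · rcases h.ord4 h.one e h4 with rfl | rfl
    exacts [.inl ⟨1, one_mem _, by simp⟩, .inl ⟨b, h.mem_b, h.inv_w h.one⟩]
  · refine .inr ((h.conj_ab hs e fun e => ?_).imp fun _ h1 => ⟨h.le h1.1, h1.2⟩)
    have := orderOf_dvd_of_pow_eq_one (pow_two s ▸ e)
    rw [h4] at this; omega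

theorem klein' (hT : T ≤ S) (h4 : IsKleinFour T) : ∃ u ∈ S, cj u (Xk a n b) = T := by
  obtain ⟨s, hs, hs', h1, rfl⟩ := h.klein hT h4
  obtain ⟨u, hu, rfl⟩ := h.conj_b hs hs' h1
  exact ⟨u, h.le hu, h.cj_X hu _ _⟩

theorem q8' (hQ : Q ≤ S) (h8 : IsQ8 Q) : ∃ u ∈ S, cj u (Xk a (n - 1) (a * b)) = Q := by
  obtain ⟨-, s, hs, hs', h1, rfl⟩ := h.q8 hQ h8
  obtain ⟨u, hu, rfl⟩ := h.conj_ab hs hs' (h1 ▸ h.z_ne)
  exact ⟨u, h.le hu, h.cj_X hu _ _⟩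

theorem sq_D (hs : s ∈ Xk a 1 b) (hs' : s ∉ zpowers a) : s * s = 1 := by
  obtain ⟨c, hc, rfl⟩ := h.mem_M h.one hs hs'
  rw [h.sq_mul hc, h.sq1]

theorem sq_Q (hs : s ∈ Xk a 1 (a * b)) (hs' : s ∉ zpowers a) : s * s = a ^ 2 ^ n := by
  obtain ⟨c, hc, rfl⟩ := h.mc'.mem_M h.one hs hs'
  rw [h.mc'.sq_mul hc, h.sq_ab]

theorem mem_D (hs : s ∈ S) (h1 : s * s = 1) : s ∈ Xk a 1 b := by
  by_cases e : s ∈ zpowers a
  · rcases h.inv_eq e h1 with rfl | rfl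
    exacts [one_mem _, h.z_mem_X h.one]
  · exact (h.out_mem hs e).resolve_right fun e1 => h.z_ne ((h.sq_Q e1 e).symm.trans h1)

theorem q8_le (hQ : Q ≤ S) (h8 : IsQ8 Q) : Q ≤ Xk a 1 (a * b) := by
  obtain ⟨-, s, hs, hs', h1, rfl⟩ := h.q8 hQ h8
  have := h.two
  exact sup_le (le_sup_of_le_left (h.pow_le_pow (by omega))) (zpowers_le.2
    ((h.out_mem hs hs').resolve_left fun e => h.z_ne (h1.symm.trans (h.sq_D e hs'))))

theorem omega : closure {x | x ∈ S ∧ orderOf x = 2} = Xk a 1 b := by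
  refine le_antisymm ((closure_le _).2 fun x hx => h.mem_D hx.1 (mul_self_of_orderOf hx.2))
    ((h.ix2_X h.one).le_of_out fun s hs hs' => subset_closure ⟨h.X_le 1 hs, orderOf_eq_two (h.sq_D hs fun e =>
      hs' (h.X_inf h.one e hs)) fun e => hs' (e ▸ one_mem _)⟩)

section Fus
variable {P : Sylow 2 G} (hP : QD (P : Subgroup G) a b n)
omit h
include hP

theorem essT (hT : T ≤ P) (h4 : IsKleinFour T) : Ess T ↔ Ess (Xk a n b) := by
  obtain ⟨u, -, rfl⟩ := hP.klein' hT h4; exact ess_cj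

theorem essQ (hQ : Q ≤ P) (h8 : IsQ8 Q) : Ess Q ↔ Ess (Xk a (n - 1) (a * b)) := by
  obtain ⟨u, -, rfl⟩ := hP.q8' hQ h8; exact ess_cj

theorem isConj_zb (h1 : Ess (Xk a n b)) : IsConj (a ^ 2 ^ n) b := by
  obtain ⟨g, h1, h2, h3⟩ := h1
  obtain ⟨c, -, e⟩ := klein_conj_of_odd (hP.klein_X hP.sq1) h1 h2 h3 (hP.z_mem_X le_rfl) hP.z_ne (hP.b_mem_X n)
    (ne_one_of_orderOf hP.ord_b)
  exact isConj_iff.2 ⟨c, e⟩

theorem isConj_w (h1 : Ess (Xk a (n - 1) (a * b))) : IsConj (a ^ 2 ^ (n - 1)) (a * b) := by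
  obtain ⟨g, h1, h2, h3⟩ := h1
  obtain ⟨c, -, e⟩ := (hP.mc'.q8_X hP.one hP.sq_ab).trans h2 h1 h3 (mem_sup_left (mem_zpowers _))
    (hP.w_mul hP.one ▸ hP.z_ne) (hP.mc'.b_mem_X _) (hP.sq_ab ▸ hP.z_ne)
  exact isConj_iff.2 ⟨c, e⟩

theorem z_closed (h1 : ¬ Ess (Xk a n b)) {g : G} (hg : g * a ^ 2 ^ n * g⁻¹ ∈ P) : g * a ^ 2 ^ n * g⁻¹ = a ^ 2 ^ n := by
  refine (fusion_ess P (fun x y => x = a ^ 2 ^ n ↔ y = a ^ 2 ^ n) (fun _ _ _ _ => Iff.symm)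
    (fun _ _ _ _ _ _ => Iff.trans) (fun s hs x _ => ?_) (fun B hB _ he k hk x hx => ?_) (hP.le hP.z_mem) hg).1 rfl
  · rw [mul_inv_eq_iff_eq_mul, ← hP.z_cent s hs, mul_right_inj]
  · obtain e | e := hP.ess hB he
    · exact absurd ((hP.essT hB e).1 he) h1
    obtain ⟨-, s, -, -, -, e1⟩ := hP.q8 hB e
    obtain ⟨t, -, -, h2, -⟩ := e.exists_t
    have h3 : a ^ 2 ^ n ∈ B := e1 ▸ mem_sup_left (hP.pow_le_pow (by omega) (mem_zpowers _))
    have h4 := (h2 _ (conj_mem_of_mem_normalizer hk h3) (conj_mul_self hP.z_mul k)).resolve_left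
      (mt conj_eq_one_iff.1 hP.z_ne)
    rw [← (h2 _ h3 hP.z_mul).resolve_left hP.z_ne] at h4
    conv_rhs => rw [← h4]
    simp

theorem not_isConj_zb (h1 : ¬ Ess (Xk a n b)) : ¬ IsConj (a ^ 2 ^ n) b := fun e => by
  obtain ⟨g, e⟩ := isConj_iff.1 e
  exact hP.notMem (e ▸ (hP.z_closed h1 (e ▸ hP.mem_b)).symm ▸ hP.z_mem)

theorem not_isConj_w (h1 : ¬ Ess (Xk a (n - 1) (a * b))) : ¬ IsConj (a ^ 2 ^ (n - 1)) (a * b) := fun e => by
  obtain ⟨g, e⟩ := isConj_iff.1 e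
  have := fusion_ess P (fun x y => x * x ≠ 1 ∧ x ∈ zpowers a ↔ y * y ≠ 1 ∧ y ∈ zpowers a) (fun _ _ _ _ => Iff.symm)
    (fun _ _ _ _ _ _ => Iff.trans) (fun s hs x _ => by
      rw [conj_mul, ne_eq, ne_eq, conj_eq_one_iff, ← mem_normalizer_iff.1 (hP.a2.nn hs)])
    (fun B hB _ he k hk x hx => by
      obtain e | e := hP.ess hB he
      · simp [conj_mul_self, elem_mul_self (klein_elem e) hx]
      · exact absurd ((hP.essQ hB e).1 he) h1) (pow_mem hP.mem_a _) (e ▸ hP.mem_ab)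
  exact hP.ab_out (e ▸ (this.1 ⟨hP.w_mul hP.one ▸ hP.z_ne, pow_mem (mem_zpowers a) _⟩).2)

theorem invol' {t : G} (ht : orderOf t = 2) : IsConj (a ^ 2 ^ n) t ∨ IsConj b t := by
  obtain ⟨y, hy, h1, h2⟩ := exists_conj_invol_mem_sylow P ht
  exact (hP.invol hy h1).imp (fun e => by rwa [← e]) fun ⟨u, _, e⟩ => (isConj_iff.2 ⟨u, e⟩).trans h2

theorem four' {t : G} (ht : orderOf t = 4) : IsConj (a ^ 2 ^ (n - 1)) t ∨ IsConj (a * b) t := by
  obtain ⟨g, hg⟩ := exists_conj_mem_sylow P (k := 2) (x := t) (orderOf_dvd_iff_pow_eq_one.1 ht.dvd)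
  exact (hP.four hg ((orderOf_conj g t).trans ht)).imp
    (fun ⟨u, _, e⟩ => (isConj_iff.2 ⟨u, e⟩).trans (isConj_conj g t).symm)
    fun ⟨u, _, e⟩ => (isConj_iff.2 ⟨u, e⟩).trans (isConj_conj g t).symm

theorem cls2 : (Ess (Xk a n b) → #{C : ConjClasses G // ∃ t : G, orderOf t = 2 ∧ ConjClasses.mk t = C} = 1) ∧
    (¬ Ess (Xk a n b) → #{C : ConjClasses G // ∃ t : G, orderOf t = 2 ∧ ConjClasses.mk t = C} = 2) :=
  ⟨fun h1 => classes_eq_one hP.ord_z fun _ ht => (hP.invol' ht).elim id (hP.isConj_zb h1).trans,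
    fun h1 => classes_eq_two hP.ord_z hP.ord_b (hP.not_isConj_zb h1) fun _ => hP.invol'⟩

theorem cls4 :
    (Ess (Xk a (n - 1) (a * b)) → #{C : ConjClasses G // ∃ t : G, orderOf t = 4 ∧ ConjClasses.mk t = C} = 1) ∧
    (¬ Ess (Xk a (n - 1) (a * b)) → #{C : ConjClasses G // ∃ t : G, orderOf t = 4 ∧ ConjClasses.mk t = C} = 2) :=
  ⟨fun h1 => classes_eq_one (hP.ord_w hP.one) fun _ ht => (hP.four' ht).elim id (hP.isConj_w h1).trans,
    fun h1 => classes_eq_two (hP.ord_w hP.one) hP.ord_ab (hP.not_isConj_w h1) fun _ => hP.four'⟩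

theorem D_le (h1 : Ess (Xk a n b)) : Xk a 1 b ≤ pResidual 2 G := by
  obtain ⟨g, h1, h2, h3⟩ := h1
  obtain ⟨c, hc, e⟩ := klein_conj_of_odd (hP.klein_X hP.sq1) h1 h2 h3 (hP.z_mem_X le_rfl) hP.z_ne (hP.b_mem_X n)
    (ne_one_of_orderOf hP.ord_b)
  have h4 := comm_mem_res (odd_orderOf_of_mem_zpowers h2 hc) (a ^ 2 ^ n)
  rw [e] at h4
  have h5 : b * (a ^ 2 ^ n)⁻¹ ∉ zpowers a := by rw [Subgroup.mul_mem_cancel_right _ (inv_mem hP.z_mem)]; exact hP.notMem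
  have h6 := mul_mem (hP.b_mem_X 1) (inv_mem (hP.z_mem_X hP.one))
  exact (hP.X_eq hP.one h6 h5).ge.trans ((hP.out (hP.X_le 1 h6) h5).M_le (nn_normal (mem_top a)) h4)

theorem Q_le (h1 : Ess (Xk a (n - 1) (a * b))) : Xk a 1 (a * b) ≤ pResidual 2 G := by
  obtain ⟨g, h1, h2, h3⟩ := h1
  have h8 := hP.mc'.q8_X hP.one hP.sq_ab
  have hw : a ^ 2 ^ (n - 1) ∈ Xk a (n - 1) (a * b) := mem_sup_left (mem_zpowers _)
  have h4 := mul_mem (conj_mem_of_mem_normalizer h1 hw) (inv_mem hw)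
  have h5 : g * a ^ 2 ^ (n - 1) * g⁻¹ * (a ^ 2 ^ (n - 1))⁻¹ ∉ zpowers a := fun e =>
    h8.conj_notMem h2 h1 h3 hw (hP.w_mul hP.one ▸ hP.z_ne) ((Subgroup.mul_mem_cancel_right _
      (inv_mem (mem_zpowers _))).1 (hP.mc'.X_inf (by omega) e h4))
  have h6 := hP.q8_le (hP.mc'.X_le _) h8 h4
  exact (hP.mc'.X_eq hP.one h6 h5).ge.trans ((hP.out (hP.mc'.X_le 1 h6) h5).M_le (nn_normal (mem_top a))
    (comm_mem_res h2 _))

theorem res_eq_D (h1 : Ess (Xk a n b)) (h2 : ¬ Ess (Xk a (n - 1) (a * b))) :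
    (P : Subgroup G) ⊓ pResidual 2 G = Xk a 1 b := by
  refine le_antisymm (inf_res_le P (hP.ix2_M hP.one).der_le fun B hB _ he k hk x hx => ?_)
    (le_inf (hP.X_le 1) (hP.D_le h1))
  obtain e | e := hP.ess hB he
  · have := mul_mem (conj_mem_of_mem_normalizer hk hx) (inv_mem hx)
    exact hP.mem_D (hB this) (elem_mul_self (klein_elem e) this)
  · exact absurd ((hP.essQ hB e).1 he) h2

theorem res_eq_Q (h1 : ¬ Ess (Xk a n b)) (h2 : Ess (Xk a (n - 1) (a * b))) :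
    (P : Subgroup G) ⊓ pResidual 2 G = Xk a 1 (a * b) := by
  refine le_antisymm (inf_res_le P (hP.mc'.ix2_M hP.one).der_le fun B hB _ he k hk x hx => ?_)
    (le_inf (hP.mc'.X_le 1) (hP.Q_le h2))
  obtain e | e := hP.ess hB he
  · exact absurd ((hP.essT hB e).1 he) h1
  · exact hP.q8_le hB e (mul_mem (conj_mem_of_mem_normalizer hk hx) (inv_mem hx))

theorem le_res (h1 : Ess (Xk a n b)) (h2 : Ess (Xk a (n - 1) (a * b))) : (P : Subgroup G) ≤ pResidual 2 G :=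
  (hP.ix2_M hP.one).le_of hP.mem_ab (hP.ab_notMem hP.one) (hP.D_le h1) (hP.Q_le h2 (hP.mc'.b_mem_X 1))

theorem npc (h1 : ¬ Ess (Xk a n b)) (h2 : ¬ Ess (Xk a (n - 1) (a * b))) : HasNormalPComplement 2 G :=
  npc_ess P fun _ hB _ he => (hP.ess hB he).elim (fun e => h1 ((hP.essT hB e).1 he)) fun e => h2 ((hP.essQ hB e).1 he)

end Fus
end QD

end Cfsg.Agent.Transfer
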