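import Cfsg.Agent.Lib.Transfer.Cyc2
import Cfsg.Prelude.Def_Involutions
import Cfsg.Prelude.Def_TwoFusion

/-!
The Baer-Suzuki theorem, isolated involutions, strongly embedded subgroups.
-/

set_option autoImplicit false
set_option linter.unusedSectionVars false
set_option linter.style.haveILetI false

namespace Cfsg.Agent.Transfer

open Subgroup

variable {G : Type*} [Group G] [Finite G]

section BaerSuzuki

variable {p : ℕ} [hp : Fact p.Prime]

theorem exists_normalizing_of_conjInvariant {K : Set G} (hK : ∀ g : G, ∀ x ∈ K, g * x * g⁻¹ ∈ K)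
    {P : Subgroup G} (hP : IsPGroup p P) {A : Set G} (hA : A ⊆ K) (hAP : A ⊆ P)
    (hD : ∀ x ∈ K, x ∈ closure A → x ∈ A) {y : G} (hyK : y ∈ K) (hyP : y ∈ P) (hyA : y ∉ A) :
    ∃ x ∈ K, x ∈ P ∧ x ∉ A ∧ x ∈ normalizer (closure A : Set G) := by
  obtain ⟨E, ⟨hE1, hE2, hE3⟩, hmax⟩ := Set.exists_max_image
    {E : Subgroup G | closure A ≤ E ∧ E ≤ P ∧ ∀ x ∈ K, x ∈ E → x ∈ A} (fun E => Nat.card E)
    (Set.toFinite _) ⟨closure A, le_rfl, (closure_le _).2 hAP, hD⟩
  have hlt : E < P := lt_of_le_of_ne hE2 (by rintro rfl; exact hyA (hE3 y hyK hyP))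
  have h2 := lt_inf_normalizer hP hlt
  by_contra hcon
  push Not at hcon
  refine absurd (hmax ((P : Subgroup G) ⊓ normalizer (E : Set G))
    ⟨hE1.trans h2.le, inf_le_left, fun x hx hx' => ?_⟩) (not_le.2 (card_lt_of_lt h2))
  by_contra hxA
  refine hcon x hx (mem_inf.1 hx').1 hxA (mem_normalizer_of_cj_le ?_)
  rw [cj, MonoidHom.map_closure, closure_le]
  rintro _ ⟨a, ha, rfl⟩
  exact subset_closure (hE3 _ (hK x a (hA ha))
    (conj_mem_of_mem_normalizer (mem_inf.1 hx').2 (hE1 (subset_closure ha))))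

/-- The Baer-Suzuki theorem for a normal set. -/
theorem baer_suzuki_set {K : Set G} (hK : ∀ g : G, ∀ x ∈ K, g * x * g⁻¹ ∈ K)
    (h : ∀ x ∈ K, ∀ y ∈ K, IsPGroup p (closure ({x, y} : Set G))) : IsPGroup p (closure K) := by
  by_contra hcon
  have hcard : ∀ P Q : Sylow p G, (K ∩ P).ncard ≤ (K ∩ Q).ncard := by
    intro P Q
    obtain ⟨g, hg⟩ := exists_cj_sylow_eq P Q
    refine Set.ncard_le_ncard_of_injOn (fun x => g * x * g⁻¹) (fun x hx => ⟨hK g x hx.1, ?_⟩)
      (fun x _ y _ hxy => by simpa using hxy)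
    change g * x * g⁻¹ ∈ (Q : Subgroup G)
    rw [← hg]; exact conj_mem_cj hx.2
  have hsymm : ∀ P Q : Sylow p G, K ∩ P ⊆ Q → K ∩ Q ⊆ P := by
    intro P Q hPQ x hx
    have : K ∩ P = K ∩ Q := Set.eq_of_subset_of_ncard_le (fun x hx => ⟨hx.1, hPQ hx⟩) (hcard Q P)
    rw [← this] at hx
    exact hx.2
  have hne : {PQ : Sylow p G × Sylow p G | ¬ K ∩ PQ.1 ⊆ PQ.2}.Nonempty := by
    by_contra hall
    rw [Set.not_nonempty_iff_eq_empty, Set.eq_empty_iff_forall_notMem] at hall
    obtain ⟨P⟩ : Nonempty (Sylow p G) := inferInstance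
    refine hcon (P.2.to_le ((closure_le _).2 fun x hx => ?_))
    obtain ⟨Q, hQ⟩ := (h x hx x hx).exists_le_sylow
    exact not_not.1 (hall (Q, P)) ⟨hx, hQ (subset_closure (by simp))⟩
  obtain ⟨⟨P, Q⟩, hPQ, hmax⟩ := Set.exists_max_image _
    (fun PQ : Sylow p G × Sylow p G => (K ∩ PQ.1 ∩ PQ.2).ncard) (Set.toFinite _) hne
  have hQP : ¬ K ∩ Q ⊆ P := fun h => hPQ (hsymm Q P h)
  obtain ⟨y₁, ⟨hy₁K, hy₁P⟩, hy₁Q⟩ := Set.not_subset.1 hPQ
  obtain ⟨y₂, ⟨hy₂K, hy₂Q⟩, hy₂P⟩ := Set.not_subset.1 hQP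
  set A : Set G := K ∩ P ∩ Q with hAdef
  have hAP : A ⊆ (P : Subgroup G) := fun x hx => hx.1.2
  have hAQ : A ⊆ (Q : Subgroup G) := fun x hx => hx.2
  have hD : ∀ x ∈ K, x ∈ closure A → x ∈ A := fun x hx hx' =>
    ⟨⟨hx, (closure_le _).2 hAP hx'⟩, (closure_le _).2 hAQ hx'⟩
  obtain ⟨x, hxK, hxP, hxA, hxN⟩ := exists_normalizing_of_conjInvariant hK P.2
    (fun x hx => hx.1.1) hAP hD hy₁K hy₁P (fun h => hy₁Q h.2)
  obtain ⟨y, hyK, hyQ, hyA, hyN⟩ := exists_normalizing_of_conjInvariant hK Q.2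
    (fun x hx => hx.1.1) hAQ hD hy₂K hy₂Q (fun h => hy₂P h.1.2)
  have hR : IsPGroup p (closure ({x, y} : Set G) ⊔ closure A : Subgroup G) :=
    (h x hxK y hyK).to_sup_of_normal_right' (P.2.to_le ((closure_le _).2 hAP)) (by
      rw [closure_le]; rintro _ (rfl | rfl) <;> assumption)
  obtain ⟨R, hR⟩ := hR.exists_le_sylow
  have hxR : x ∈ (R : Subgroup G) := hR (mem_sup_left (subset_closure (by simp)))
  have hyR : y ∈ (R : Subgroup G) := hR (mem_sup_left (subset_closure (by simp)))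
  have hAR : A ⊆ (R : Subgroup G) := fun a ha => hR (mem_sup_right (subset_closure ha))
  have h1 : K ∩ P ⊆ R := by
    by_contra hc
    refine absurd (hmax (P, R) hc) (not_le.2 (Set.ncard_lt_ncard ⟨fun a ha => ⟨ha.1, hAR ha⟩, ?_⟩))
    exact fun hh => hxA (hh ⟨⟨hxK, hxP⟩, hxR⟩)
  have h2 : K ∩ Q ⊆ R := by
    by_contra hc
    refine absurd (hmax (Q, R) hc) (not_le.2 (Set.ncard_lt_ncard
      ⟨fun a ha => ⟨⟨ha.1.1, ha.2⟩, hAR ha⟩, ?_⟩))
    exact fun hh => hyA (hh ⟨⟨hyK, hyQ⟩, hyR⟩)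
  exact hPQ fun a ha => hsymm Q R h2 ⟨ha.1, h1 ha⟩

/-- The Baer-Suzuki theorem. -/
theorem baer_suzuki {X : Subgroup G} (h : ∀ g : G, IsPGroup p (X ⊔ cj g X : Subgroup G)) :
    IsPGroup p (normalClosure (X : Set G)) := by
  refine baer_suzuki_set (fun g x hx => Group.conj_mem_conjugatesOfSet hx) fun x hx y hy => ?_
  obtain ⟨a, ha, hax⟩ := Group.mem_conjugatesOfSet_iff.1 hx
  obtain ⟨b, hb, hby⟩ := Group.mem_conjugatesOfSet_iff.1 hy
  obtain ⟨g, rfl⟩ := isConj_iff.1 hax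
  obtain ⟨k, rfl⟩ := isConj_iff.1 hby
  refine (IsPGroup.cj (h (g⁻¹ * k)) g).to_le ?_
  rw [cj_sup, cj_cj, mul_inv_cancel_left, closure_le]
  rintro _ (rfl | rfl)
  · exact mem_sup_left (conj_mem_cj ha)
  · exact mem_sup_right (conj_mem_cj hb)

end BaerSuzuki

theorem isPGroup_closure_invol {x y : G} (hx : x * x = 1) (hy : y * y = 1)
    (h : IsPGroup 2 (zpowers (x * y))) : IsPGroup 2 (closure ({x, y} : Set G)) := by
  rw [closure_pair_invol, closure_pair_eq, sup_comm]
  exact (isPGroup_two_zpowers hx).to_sup_of_normal_right' h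
    (zpowers_le.2 (mem_normalizer_zpowers_of_inv (inverts_mul_left hx hy)))

theorem isPGroup_closure_invol_of_commute {x y : G} (hx : x * x = 1) (hy : y * y = 1)
    (h : Commute x y) : IsPGroup 2 (closure ({x, y} : Set G)) :=
  isPGroup_closure_invol hx hy (isPGroup_two_zpowers (by
    rw [mul_assoc, ← mul_assoc y, ← h.eq, mul_assoc, hy, mul_one, hx]))

theorem conj_mul_self {x : G} (hx : x * x = 1) (g : G) : g * x * g⁻¹ * (g * x * g⁻¹) = 1 := by
  rw [conj_mul, hx]; simp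

theorem odd_iff_coprime_two {n : ℕ} : Odd n ↔ n.Coprime 2 := Nat.coprime_two_right.symm

/-- An involution outside the largest normal two-subgroup inverts an element of odd order. -/
theorem exists_inverts_odd_of_not_isPGroup {t : G} (ht : t * t = 1)
    (h : ¬ IsPGroup 2 (normalClosure ({t} : Set G))) :
    ∃ a : G, a ≠ 1 ∧ Odd (orderOf a) ∧ t * a * t⁻¹ = a⁻¹ := by
  by_contra hcon
  push Not at hcon
  refine h ((baer_suzuki (X := zpowers t) fun g => ?_).to_le (normalClosure_mono (by simp)))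
  rw [cj_zpowers, ← closure_pair_eq]
  refine isPGroup_closure_invol ht (conj_mul_self ht g) ?_
  obtain ⟨a, -, b, hb, hab, ⟨k, hk⟩, hbo⟩ := exists_pPart 2 (t * (g * t * g⁻¹))
  have hb1 : b = 1 := by
    by_contra hb1
    exact hcon b hb1 (odd_iff_coprime_two.2 hbo)
      (inverts_of_mem_zpowers (inverts_mul_left ht (conj_mul_self ht g)) hb)
  rw [hab, hb1, mul_one]
  exact isPGroup_zpowers hk

theorem eq_one_of_odd_of_mul_self {a : G} (ho : Odd (orderOf a)) (h : a * a = 1) : a = 1 := by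
  by_contra h1
  rw [orderOf_eq_two h h1] at ho
  exact absurd ho (by decide)

theorem eq_one_of_odd_of_mem {P : Subgroup G} (hP : IsPGroup 2 P) {a : G} (ha : a ∈ P)
    (ho : Odd (orderOf a)) : a = 1 := by
  have := eq_one_of_coprime_of_isPGroup hP (x := ⟨a, ha⟩) (by
    rw [← odd_iff_coprime_two]; simpa using ho)
  exact congrArg Subtype.val this

theorem eq_of_sq_eq_of_odd {a b : G} (ha : Odd (orderOf a)) (hb : Odd (orderOf b))
    (h : a * a = b * b) : a = b := by
  obtain ⟨m, hm⟩ := ha.mul hb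
  have h1 : a = (a * a) ^ (m + 1) := by
    rw [← pow_two, ← pow_mul, show 2 * (m + 1) = 2 * m + 1 + 1 by ring, ← hm, pow_succ, pow_mul,
      pow_orderOf_eq_one, one_pow, one_mul]
  have h2 : b = (b * b) ^ (m + 1) := by
    rw [← pow_two, ← pow_mul, show 2 * (m + 1) = 2 * m + 1 + 1 by ring, ← hm, pow_succ, pow_mul',
      pow_orderOf_eq_one, one_pow, one_mul]
  rw [h1, h, ← h2]

theorem odd_orderOf_of_mem_zpowers {a b : G} (ha : Odd (orderOf a)) (hb : b ∈ zpowers a) :
    Odd (orderOf b) := ha.of_dvd_nat (orderOf_dvd_of_mem_zpowers hb)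

theorem odd_orderOf_of_mem {H : Subgroup G} (hH : Odd (Nat.card H)) {a : G} (ha : a ∈ H) :
    Odd (orderOf a) := hH.of_dvd_nat (orderOf_dvd_card_of_mem ha)

theorem commute_of_commute_sq_of_odd {a b : G} (ha : Odd (orderOf a)) (h : Commute (a * a) b) :
    Commute a b := by
  obtain ⟨k, hk⟩ := exists_sq_eq_of_odd ha
  rw [← hk, ← Commute.mul_pow (Commute.refl a)]
  exact h.pow_left k

/-- Each reflection of the dihedral group generated by `x`, `y` is conjugate to `x` or `y`. -/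
theorem conj_or_conj_of_zpow_mul {x y : G} (hx : x * x = 1) (hy : y * y = 1) (i : ℤ) :
    (∃ c ∈ zpowers (x * y), c * x * c⁻¹ = (x * y) ^ i * x) ∨
      ∃ c ∈ zpowers (x * y), c * y * c⁻¹ = (x * y) ^ i * x := by
  rcases Int.even_or_odd' i with ⟨k, rfl | rfl⟩
  · left
    refine ⟨_, ⟨k, rfl⟩, ?_⟩
    rw [conj_eq_of_inverts (conj_zpow_of_inverts (inverts_mul_left hx hy) k), ← zpow_add, two_mul]
  · right
    refine ⟨_, ⟨k + 1, rfl⟩, ?_⟩
    rw [conj_eq_of_inverts (conj_zpow_of_inverts (inverts_mul_right hx hy) (k + 1)), ← zpow_add,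
      show k + 1 + (k + 1) = 2 * k + 1 + 1 by ring, zpow_add _ _ 1, zpow_one, mul_assoc, mul_assoc,
      hy, mul_one]

/-- An involution conjugating `x` to `y` when the product has odd order. -/
theorem exists_invol_conj_of_odd {x y : G} (hx : orderOf x = 2) (hy : orderOf y = 2)
    (ho : Odd (orderOf (x * y))) :
    ∃ v ∈ closure ({x, y} : Set G), orderOf v = 2 ∧ v * x * v⁻¹ = y ∧
      ∃ c ∈ zpowers (x * y), c * x * c⁻¹ = v := by
  have hx2 := mul_self_of_orderOf hx
  have hy2 := mul_self_of_orderOf hy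
  obtain ⟨c, hc, h⟩ := exists_conj_of_odd' hx2 hy2 ho
  obtain ⟨d, hd, h'⟩ := exists_conj_of_inverts_odd
    (inverts_of_mem_zpowers (inverts_mul_left hx2 hy2) hc) (odd_orderOf_of_mem_zpowers ho hc)
  refine ⟨c * x, mul_mem (zpowers_le.2 (mul_mem (subset_closure (by simp))
    (subset_closure (by simp))) hc) (subset_closure (by simp)), ?_, ?_, d, zpowers_le.2 hc hd, h'⟩
  · rw [← h', orderOf_conj, hx]
  · rw [← h]; group

/-- Two involutions normalizing `A` whose product has odd order act alike on `A`. -/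
theorem mem_centralizer_of_odd {A : Subgroup G} {x y : G} (hx : x * x = 1) (hy : y * y = 1)
    (ho : Odd (orderOf (x * y))) (hxc : x ∈ centralizer (A : Set G))
    (hyn : y ∈ normalizer (A : Set G)) : y ∈ centralizer (A : Set G) := by
  obtain ⟨c, hc, h⟩ := exists_conj_of_odd' hx hy ho
  rw [← h]
  exact conj_mem_of_mem_normalizer (mem_normalizer_centralizer
    (zpowers_le.2 (mul_mem (centralizer_le_normalizer _ hxc) hyn) hc)) hxc

theorem mem_centralizer_zpowers {a x : G} :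
    x ∈ centralizer (zpowers a : Set G) ↔ Commute x a := by
  constructor
  · intro h; exact (h a (mem_zpowers a)).symm
  · rintro h _ ⟨k, rfl⟩; exact (h.zpow_right k).eq.symm

theorem mem_centralizer_singleton' {a x : G} : x ∈ centralizer ({a} : Set G) ↔ Commute x a := by
  rw [mem_centralizer_singleton_iff]; rfl

theorem commute_iff_conj {a x : G} : Commute x a ↔ x * a * x⁻¹ = a := by
  rw [mul_inv_eq_iff_eq_mul]; rfl

/-- If `x` centralizes `a`, `y` inverts `a`, and `x y` has odd order then `a ^ 2 = 1`. -/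
theorem mul_self_eq_one_of_commute_of_inverts {a x y : G} (hx : x * x = 1) (hy : y * y = 1)
    (ho : Odd (orderOf (x * y))) (h1 : Commute x a) (h2 : y * a * y⁻¹ = a⁻¹) : a * a = 1 := by
  have := mem_centralizer_zpowers.1 (mem_centralizer_of_odd hx hy ho (mem_centralizer_zpowers.2 h1)
    (mem_normalizer_zpowers_of_inv h2))
  rw [commute_iff_conj.1 this] at h2
  conv_lhs => enter [2]; rw [h2]
  exact mul_inv_cancel a

/-! ### Isolated involutions -/

section Isolated

variable {z : G}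

theorem isolated_conj (hz : IsIsolatedInvolution z) (g : G) : IsIsolatedInvolution (g * z * g⁻¹) := by
  refine ⟨by rw [orderOf_conj, hz.1], fun k hk => ?_⟩
  have := hz.2 (g⁻¹ * k * g) (by
    have := hk.map (MulAut.conj g⁻¹)
    simpa [mul_assoc] using this)
  calc k * (g * z * g⁻¹) * k⁻¹ = g * (g⁻¹ * k * g * z * (g⁻¹ * k * g)⁻¹) * g⁻¹ := by group
    _ = _ := by rw [this]

theorem isolated_odd (hz : IsIsolatedInvolution z) (g : G) : Odd (orderOf (z * (g * z * g⁻¹))) := by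
  rw [← Nat.not_even_iff_odd]
  intro he
  have h1 := mul_self_of_orderOf hz.1
  obtain ⟨w, ⟨i, rfl⟩, hw, hc, -⟩ := exists_invol_of_even h1 (conj_mul_self h1 g) he
  simp only at hw hc
  have key : ∀ k : G, k * z * k⁻¹ = (z * (g * z * g⁻¹)) ^ i * z → False := by
    intro k hk
    have := hz.2 k (by rw [hk]; exact hc.symm.mul_right (Commute.refl z))
    rw [hk, mul_eq_right] at this
    exact ne_one_of_orderOf hw this
  rcases conj_or_conj_of_zpow_mul h1 (conj_mul_self h1 g) i with ⟨c, -, h⟩ | ⟨c, -, h⟩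
  · exact key c h
  · exact key (c * g) (by rw [← h]; group)

theorem isolated_odd' (hz : IsIsolatedInvolution z) (g h : G) :
    Odd (orderOf (g * z * g⁻¹ * (h * z * h⁻¹))) := by
  have := isolated_odd (isolated_conj hz g) (h * g⁻¹)
  convert this using 3
  group

theorem isolated_of_odd (hz : orderOf z = 2) (h : ∀ g : G, Odd (orderOf (z * (g * z * g⁻¹)))) :
    IsIsolatedInvolution z := by
  refine ⟨hz, fun g hg => ?_⟩
  have h1 := mul_self_of_orderOf hz
  have := eq_one_of_odd_of_mul_self (h g) (by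
    rw [mul_assoc, ← mul_assoc (g * z * g⁻¹), ← hg.eq, mul_assoc z, conj_mul_self h1, mul_one, h1])
  rw [← inv_eq_of_orderOf hz]
  conv_lhs => rw [inv_eq_of_orderOf hz]
  exact (inv_eq_of_mul_eq_one_right this).symm

theorem isolated_eq_of_mem (hz : IsIsolatedInvolution z) {P : Subgroup G} (hP : IsPGroup 2 P)
    (hzP : z ∈ P) {g : G} (hg : g * z * g⁻¹ ∈ P) : g * z * g⁻¹ = z := by
  have := eq_one_of_odd_of_mem hP (mul_mem hzP hg) (isolated_odd hz g)
  rw [← inv_eq_of_mul_eq_one_right this, inv_eq_of_orderOf hz.1]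

theorem isolated_of_sylow (P : Sylow 2 G) (hz : orderOf z = 2)
    (h : ∀ g : G, g * z * g⁻¹ ∈ P → g * z * g⁻¹ = z) : IsIsolatedInvolution z := by
  refine ⟨hz, fun g hg => ?_⟩
  have h1 := mul_self_of_orderOf hz
  obtain ⟨k, hk⟩ := exists_cj_le_sylow P
    (isPGroup_closure_invol_of_commute h1 (conj_mul_self h1 g) hg)
  have h2 := h k (hk (conj_mem_cj (subset_closure (by simp))))
  have h3 := h (k * g) (by
    have := hk (conj_mem_cj (x := g * z * g⁻¹) (subset_closure (by simp)))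
    rw [show k * g * z * (k * g)⁻¹ = k * (g * z * g⁻¹) * k⁻¹ by group]
    exact this)
  calc g * z * g⁻¹ = k⁻¹ * (k * g * z * (k * g)⁻¹) * k := by group
    _ = k⁻¹ * (k * z * k⁻¹) * k := by rw [h2, h3]
    _ = z := by group

theorem isolated_le_centralizer (hz : IsIsolatedInvolution z) {P : Subgroup G} (hP : IsPGroup 2 P)
    (hzP : z ∈ P) : P ≤ centralizer ({z} : Set G) := fun g hg =>
  mem_centralizer_singleton'.2 (commute_iff_conj.2
    (isolated_eq_of_mem hz hP hzP (mul_mem (mul_mem hg hzP) (inv_mem hg))))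

/-- Every conjugate of an isolated involution is a conjugate by an inverted element of odd order. -/
theorem isolated_exists_conj (hz : IsIsolatedInvolution z) (g : G) :
    ∃ c ∈ zpowers (z * (g * z * g⁻¹)), c * z * c⁻¹ = g * z * g⁻¹ ∧ Odd (orderOf c) ∧
      z * c * z⁻¹ = c⁻¹ := by
  have h1 := mul_self_of_orderOf hz.1
  obtain ⟨c, hc, h⟩ := exists_conj_of_odd' h1 (conj_mul_self h1 g) (isolated_odd hz g)
  exact ⟨c, hc, h, odd_orderOf_of_mem_zpowers (isolated_odd hz g) hc,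
    inverts_of_mem_zpowers (inverts_mul_left h1 (conj_mul_self h1 g)) hc⟩

theorem eq_of_conj_eq_of_inverts {a b : G} (ha : Odd (orderOf a)) (hb : Odd (orderOf b))
    (ha' : z * a * z⁻¹ = a⁻¹) (hb' : z * b * z⁻¹ = b⁻¹) (h : a * z * a⁻¹ = b * z * b⁻¹) : a = b := by
  rw [conj_eq_of_inverts ha', conj_eq_of_inverts hb', mul_left_inj] at h
  exact eq_of_sq_eq_of_odd ha hb h

theorem isolated_controls (hz : IsIsolatedInvolution z) {H : Subgroup G}
    (hzH : z ∈ normalizer (H : Set G)) {A : Set G} {h : G} (hh : h ∈ H)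
    (h1 : ∀ x ∈ A, Commute x z) (h2 : ∀ x ∈ A, Commute (h * x * h⁻¹) z) :
    ∃ c ∈ H, Commute c z ∧ ∀ x ∈ A, c * x * c⁻¹ = h * x * h⁻¹ := by
  obtain ⟨c, hc, hcz, -⟩ := isolated_exists_conj hz h⁻¹
  have hcH : c ∈ H := by
    refine zpowers_le.2 ?_ hc
    have := mul_mem (conj_mem_of_mem_normalizer hzH (inv_mem hh)) hh
    rw [inv_eq_of_orderOf hz.1] at this
    simpa [mul_assoc] using this
  refine ⟨h * c, mul_mem hh hcH, commute_iff_conj.2 ?_, fun x hx => ?_⟩
  · calc h * c * z * (h * c)⁻¹ = h * (c * z * c⁻¹) * h⁻¹ := by group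
      _ = z := by rw [hcz]; group
  · have : Commute c x := by
      refine mem_centralizer_singleton'.1 (zpowers_le.2 (mem_centralizer_singleton'.2 ?_) hc)
      refine (h1 x hx).symm.mul_left ?_
      have := (h2 x hx).symm.map (MulAut.conj h⁻¹)
      simpa [mul_assoc] using this
    calc h * c * x * (h * c)⁻¹ = h * (c * x * c⁻¹) * h⁻¹ := by group
      _ = _ := by rw [commute_iff_conj.1 this]

theorem isolated_orderOf_mul (hz : IsIsolatedInvolution z) {s : G} (hs : s * s = 1)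
    (hn : ¬ IsConj s z) : orderOf (s * z) % 4 = 2 := by
  have h1 := mul_self_of_orderOf hz.1
  have he : Even (orderOf (s * z)) := by
    rw [← Nat.not_odd_iff_even]
    intro ho
    obtain ⟨c, -, h⟩ := exists_conj_of_odd' hs h1 ho
    exact hn (isConj_iff.2 ⟨c, h⟩)
  have h4 : ¬ 4 ∣ orderOf (s * z) := by
    rintro ⟨k, hk⟩
    have hw := orderOf_pow_half he
    rw [show orderOf (s * z) / 2 = k + k by omega] at hw
    have hc := commute_of_inverts_of_sq (conj_pow_of_inverts (inverts_mul_right hs h1) _)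
      (mul_self_of_orderOf hw)
    have h2 : (s * z) ^ k * z * ((s * z) ^ k)⁻¹ = (s * z) ^ (k + k) * z := by
      rw [conj_eq_of_inverts (conj_pow_of_inverts (inverts_mul_right hs h1) k), pow_add]
    have := hz.2 _ (by rw [h2]; exact hc.symm.mul_right (Commute.refl z))
    rw [h2, mul_eq_right] at this
    exact ne_one_of_orderOf hw this
  obtain ⟨m, hm⟩ := he
  omega

end Isolated

/-! ### Strongly embedded subgroups -/

section Strong

variable {H : Subgroup G}

theorem stronglyEmbedded_iff : IsStronglyEmbedded H ↔ H ≠ ⊤ ∧ Even (Nat.card H) ∧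
    ∀ t ∈ H, orderOf t = 2 → ∀ g : G, g * t * g⁻¹ ∈ H → g ∈ H := by
  refine and_congr Iff.rfl (and_congr Iff.rfl ⟨fun h t ht h2 g hg => ?_, fun h g hg => ?_⟩)
  · by_contra hn
    exact odd_card_iff.1 (h g hn) _ (mem_inf.2 ⟨hg, conj_mem_cj ht⟩) (by rw [orderOf_conj, h2])
  · refine odd_card_iff.2 fun t ht h2 => hg (h _ (mem_cj.1 (mem_inf.1 ht).2)
      (by rw [orderOf_conj', h2]) g ?_)
    simpa [mul_assoc] using (mem_inf.1 ht).1

theorem se_mem (h : IsStronglyEmbedded H) {t g : G} (ht : t ∈ H) (h2 : orderOf t = 2)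
    (hg : g * t * g⁻¹ ∈ H) : g ∈ H := (stronglyEmbedded_iff.1 h).2.2 t ht h2 g hg

theorem se_mem_of_commute (h : IsStronglyEmbedded H) {t g : G} (ht : t ∈ H) (h2 : orderOf t = 2)
    (hg : Commute g t) : g ∈ H := se_mem h ht h2 (by rwa [commute_iff_conj.1 hg])

theorem se_normalizer_le (h : IsStronglyEmbedded H) {X : Subgroup G} (hX : X ≤ H)
    (he : Even (Nat.card X)) : normalizer (X : Set G) ≤ H := by
  obtain ⟨t, ht, h2⟩ := exists_invol_mem he
  exact fun g hg => se_mem h (hX ht) h2 (hX (conj_mem_of_mem_normalizer hg ht))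

theorem se_cj (h : IsStronglyEmbedded H) (g : G) : IsStronglyEmbedded (cj g H) := by
  rw [stronglyEmbedded_iff]
  refine ⟨fun h' => h.1 (by rwa [cj_eq_iff_eq_cj_inv, cj_top] at h'), by rw [card_cj]; exact h.2.1,
    fun t ht h2 k hk => ?_⟩
  rw [mem_cj] at ht hk ⊢
  exact se_mem h ht (by rw [orderOf_conj', h2]) (by simpa [mul_assoc] using hk)

theorem se_odd (h : IsStronglyEmbedded H) {s u : G} (hs : s ∈ H) (hs2 : orderOf s = 2)
    (hu : u ∉ H) (hu2 : orderOf u = 2) : Odd (orderOf (s * u)) := by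
  rw [← Nat.not_even_iff_odd]
  intro he
  obtain ⟨w, -, hw, h1, h2⟩ := exists_invol_of_even (mul_self_of_orderOf hs2)
    (mul_self_of_orderOf hu2) he
  exact hu (se_mem_of_commute h (se_mem_of_commute h hs hs2 h1) hw h2.symm)

theorem se_exists_invol_notMem (h : IsStronglyEmbedded H) : ∃ u : G, orderOf u = 2 ∧ u ∉ H := by
  obtain ⟨t, ht, h2⟩ := exists_invol_mem h.2.1
  obtain ⟨g, -, hg⟩ := SetLike.exists_of_lt (lt_top_iff_ne_top.2 h.1)
  exact ⟨g * t * g⁻¹, by rw [orderOf_conj, h2], fun h' => hg (se_mem h ht h2 h')⟩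

theorem se_isConj (h : IsStronglyEmbedded H) {a b : G} (ha : orderOf a = 2) (hb : orderOf b = 2) :
    IsConj a b := by
  have key : ∀ s u : G, s ∈ H → orderOf s = 2 → u ∉ H → orderOf u = 2 → IsConj s u := by
    intro s u hs hs2 hu hu2
    obtain ⟨c, -, hc⟩ := exists_conj_of_odd' (mul_self_of_orderOf hs2) (mul_self_of_orderOf hu2)
      (se_odd h hs hs2 hu hu2)
    exact isConj_iff.2 ⟨c, hc⟩
  obtain ⟨t, ht, h2⟩ := exists_invol_mem h.2.1
  obtain ⟨u, hu2, hu⟩ := se_exists_invol_notMem h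
  by_cases h1 : a ∈ H <;> by_cases h3 : b ∈ H
  · exact (key a u h1 ha hu hu2).trans (key b u h3 hb hu hu2).symm
  · exact key a b h1 ha h3 hb
  · exact (key b a h3 hb h1 ha).symm
  · exact (key t a ht h2 h1 ha).symm.trans (key t b ht h2 h3 hb)

/-- Each involution outside `H` is the conjugate of a given involution of `H` by an involution. -/
theorem se_exists_invol_conj (h : IsStronglyEmbedded H) {t y : G} (ht : t ∈ H) (ht2 : orderOf t = 2)
    (hy : y ∉ H) (hy2 : orderOf y = 2) : ∃ v : G, orderOf v = 2 ∧ v ∉ H ∧ v * t * v⁻¹ = y := by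
  obtain ⟨v, -, hv, h1, -⟩ := exists_invol_conj_of_odd ht2 hy2 (se_odd h ht ht2 hy hy2)
  exact ⟨v, hv, fun hvH => hy (h1 ▸ mul_mem (mul_mem hvH ht) (inv_mem hvH)), h1⟩

theorem se_eq_of_conj_eq (h : IsStronglyEmbedded H) {t u v : G} (ht : t ∈ H) (ht2 : orderOf t = 2)
    (hu : u ∉ H) (hu2 : orderOf u = 2) (hv2 : orderOf v = 2)
    (he : u * t * u⁻¹ = v * t * v⁻¹) : u = v := by
  have hu1 := mul_self_of_orderOf hu2
  have hv1 := mul_self_of_orderOf hv2
  have hc : Commute t (u * v) := by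
    refine (commute_iff_conj.2 ?_).symm
    calc u * v * t * (u * v)⁻¹ = u * (v * t * v⁻¹) * u⁻¹ := by group
      _ = (u * u) * t * (u * u)⁻¹ := by rw [← he]; group
      _ = t := by rw [hu1]; group
  have h1 := mul_self_eq_one_of_commute_of_inverts (mul_self_of_orderOf ht2) hu1
    (se_odd h ht ht2 hu hu2) hc (inverts_mul_left hu1 hv1)
  by_contra hne
  have h2 : orderOf (u * v) = 2 := orderOf_eq_two h1 fun h' =>
    hne (by rw [← inv_eq_of_mul_eq_one_right h', inv_eq_of_orderOf hu2])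
  exact hu (se_mem_of_commute h (se_mem_of_commute h ht ht2 hc.symm) h2
    (commute_of_inverts_of_sq (inverts_mul_left hu1 hv1) h1).symm)

/-- The elements of `H` inverted by an outside involution are transitive on the involutions. -/
theorem se_exists_inverted_conj (h : IsStronglyEmbedded H) {u s t : G} (hu : u ∉ H)
    (hu2 : orderOf u = 2) (hs : s ∈ H) (hs2 : orderOf s = 2) (ht : t ∈ H) (ht2 : orderOf t = 2) :
    ∃ d ∈ H, u * d * u⁻¹ = d⁻¹ ∧ d * s * d⁻¹ = t := by
  have hu1 := mul_self_of_orderOf hu2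
  obtain ⟨v, hv, -, h1⟩ := se_exists_invol_conj h hs hs2 (y := u * t * u⁻¹)
    (fun h' => hu (se_mem h ht ht2 h')) (by rw [orderOf_conj, ht2])
  have h2 : u * v * s * (u * v)⁻¹ = t := by
    calc u * v * s * (u * v)⁻¹ = u * (v * s * v⁻¹) * u⁻¹ := by group
      _ = (u * u) * t * (u * u)⁻¹ := by rw [h1]; group
      _ = t := by rw [hu1]; group
  exact ⟨u * v, se_mem h hs hs2 (h2 ▸ ht), inverts_mul_left hu1 (mul_self_of_orderOf hv), h2⟩

theorem mem_inf_cj_of_inverts {u d : G} (hd : d ∈ H) (h : u * d * u⁻¹ = d⁻¹) : d ∈ H ⊓ cj u H := by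
  refine mem_inf.2 ⟨hd, ?_⟩
  have : d = u * d⁻¹ * u⁻¹ := by rw [← conj_inv, h, inv_inv]
  rw [this]
  exact conj_mem_cj (inv_mem hd)

theorem se_exists_invol_mem_coset (h : IsStronglyEmbedded H) {g : G} (hg : g ∉ H) :
    ∃ v : G, orderOf v = 2 ∧ g⁻¹ * v ∈ H := by
  obtain ⟨t, ht, h2⟩ := exists_invol_mem h.2.1
  obtain ⟨v, hv, -, h1⟩ := se_exists_invol_conj h ht h2 (y := g * t * g⁻¹)
    (fun h' => hg (se_mem h ht h2 h')) (by rw [orderOf_conj, h2])
  refine ⟨v, hv, se_mem h ht h2 ?_⟩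
  have : g⁻¹ * v * t * (g⁻¹ * v)⁻¹ = t := by
    calc _ = g⁻¹ * (v * t * v⁻¹) * g := by group
      _ = t := by rw [h1]; group
  rwa [this]

theorem IsSyl.top_of_normalizer_le {p : ℕ} [Fact p.Prime] {P : Subgroup G} (hP : IsSyl p P H)
    (h : normalizer (P : Set G) ≤ H) : IsSyl p P ⊤ := by
  refine isSyl_of_maximal hP.pgroup le_top fun R hR _ hPR => ?_
  by_contra hn
  obtain ⟨x, hx, hx1, hx2⟩ := exists_mem_normalizer_notMem hR (lt_of_le_not_ge hPR hn)
  exact hx2 (hP.le_of_le_normalizer (Q := zpowers x) (hR.to_le (zpowers_le.2 hx))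
    (zpowers_le.2 (h hx1)) (zpowers_le.2 hx1) (mem_zpowers x))

theorem se_isSyl (h : IsStronglyEmbedded H) {P : Subgroup G} (hP : IsSyl 2 P H) : IsSyl 2 P ⊤ :=
  hP.top_of_normalizer_le (se_normalizer_le h hP.le (by
    rw [even_iff_two_dvd]
    refine hP.pgroup.card_eq_or_dvd.resolve_left fun h1 => ?_
    exact hP.eq_bot_iff.1 (card_eq_one.1 h1) (even_iff_two_dvd.1 h.2.1)))

end Strong

end Cfsg.Agent.Transfer
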