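import Cfsg.Agent.Lib.Transfer.MC

set_option autoImplicit false
set_option linter.unusedSectionVars false

namespace Cfsg.Agent.Transfer
open Subgroup Cfsg.Agent.MS
open scoped commutatorElement

universe u
variable {G : Type u} [Group G] [Finite G]

theorem fusion_ess_sub (P : Sylow 2 G) (r : Subgroup G → Subgroup G → Prop)
    (hsymm : ∀ A B, r A B → r B A) (htrans : ∀ A B C, r A B → r B C → r A C)
    (hP : ∀ s ∈ P, ∀ A ≤ (P : Subgroup G), r A (cj s A))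
    (hE : ∀ B ≤ (P : Subgroup G), (P : Subgroup G) ⊓ CC B ≤ B → Ess B → ∀ k ∈ NN B, ∀ A ≤ B, r A (cj k A))
    {A : Subgroup G} {g : G} (hA : A ≤ P) (hg : cj g A ≤ P) : r A (cj g A) := by
  have hc : ∀ A ≤ (P : Subgroup G), ∀ c ∈ CC A, cj c A = A := fun A _ c hc => cj_eq_of_mem_normalizer (cc_le_nn _ hc)
  refine alperin_centric P (fun A g => ∀ D ≤ A, r D (cj g D)) (fun A B g h _ _ h1 D hD => h1 D (hD.trans h))
    (fun A g h _ _ _ h1 h2 D hD => htrans _ _ _ (h1 D hD) (cj_cj h g D ▸ h2 _ (cj_mono g hD)))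
    (fun A g _ _ h1 D hD => hsymm _ _ (by
      simpa only [cj_cj_inv] using h1 (cj g⁻¹ D) (cj_le_iff_le_cj_inv.2 (by rwa [inv_inv]))))
    (fun A hA c h D hD => ?_) (fun k hk D hD => ?_) (fun B h1 _ h2 h3 _ _ => hE B h1.le h2 (ess_iff.2 h3)) A g hA hg A
    le_rfl
  · rw [hc D (hD.trans hA) c (cc_anti hD h)]; simpa using hP 1 (one_mem _) D (hD.trans hA)
  by_cases e : Ess (P : Subgroup G)
  · exact hE _ le_rfl inf_le_left e k hk D hD
  · obtain ⟨c, h, s, hs, rfl⟩ := ((isSyl_top P).mono (le_nn _) le_top).exists_res_mul hk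
    rw [← cj_cj, hc _ (cj_le' hD hs) c (cc_anti (cj_le' hD hs) (not_not.1 (mt ess_iff.2 e) h))]
    exact hP s hs D hD

theorem npc_nn {p : ℕ} [Fact p.Prime] (h : HasNormalPComplement p G) (P : Sylow p G) {U : Subgroup G} (hU : U ≤ P) :
    NN U = CC U ⊔ (P : Subgroup G) ⊓ NN U := by
  refine le_antisymm (fun g hg => ?_) (sup_le (cc_le_nn _) inf_le_right)
  obtain ⟨s, hs, h1⟩ := (isSyl_top P).exists_conj_of_hasNPC (hasNPC_top.2 h) (mem_top g)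
  have h2 := fun x hx => h1 x (hU hx) (hU (conj_mem_of_mem_normalizer hg hx))
  rw [← mul_inv_cancel_left s g]
  refine mul_mem (mem_sup_right ⟨hs, mem_normalizer_of_conj_mem fun x hx =>
    h2 x hx ▸ conj_mem_of_mem_normalizer hg hx⟩) (mem_sup_left fun x hx => ?_)
  rw [mul_assoc, ← mul_inv_cancel_right (g * x) g⁻¹, ← h2 x hx]; group

theorem not_ess_of_npc (h : HasNormalPComplement 2 G) {B : Subgroup G} (hB : IsPGroup 2 B) : ¬ Ess B :=
  fun e => ess_iff.1 e (res_normalizer_le_of_hasNPC hB (hasNPC_subgroup h _))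

/-- Dihedral 2-groups of order at least four. -/
structure DH (S : Subgroup G) (a b : G) (n : ℕ) : Prop extends MC S a b n where
  sq1 : b * b = 1
  inv : b * a * b⁻¹ = a⁻¹

theorem dh_of {S : Subgroup G} (hS : IsPGroup 2 S) {m : ℕ} (hm : 2 ≤ m) (e : S ≃* DihedralGroup m) :
    ∃ a b n, DH S a b n :=
  let ⟨a, b, n, h, h1, h2, _⟩ := mc_of_dihedral hS hm e
  ⟨a, b, n, h, h1, h2⟩

namespace DH
variable {S B T : Subgroup G} {a b c s t : G} {n : ℕ} (h : DH S a b n)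
include h

theorem inv' (hc : c ∈ zpowers a) : b * c * b⁻¹ = c⁻¹ := inverts_of_mem_zpowers h.inv hc

theorem out' (hs : s ∈ S) (hs' : s ∉ zpowers a) : DH S a s n := by
  refine ⟨h.out hs hs', ?_, (h.a2.conj_eq hs hs' h.mem_b h.notMem (mem_zpowers a)).trans h.inv⟩
  obtain ⟨u, hu, rfl⟩ := (h.a2.cases h.mem_b h.notMem hs).resolve_left hs'
  rw [h.a2.sq_out, h.inv' hu, h.sq1]; simp

theorem dh' : DH S a (a * b) n := h.out' h.mem_ab h.ab_out
theorem z_ne : a ^ 2 ^ n ≠ 1 := ne_one_of_orderOf h.ord_z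
theorem ord_b : orderOf b = 2 := orderOf_eq_two h.sq1 fun e => h.notMem (e ▸ one_mem _)
theorem kl : IsKleinFour (Xk a n b) := h.klein_X h.sq1

theorem not_q8 (hB : B ≤ S) : ¬ IsQ8 B := fun e =>
  let ⟨_, _, hs, hs', h1, _⟩ := h.q8 hB e
  h.z_ne (h1.symm.trans (h.out' hs hs').sq1)

theorem ess' (hB : B ≤ S) (he : Ess B) : IsKleinFour B := (h.ess hB he).resolve_right (h.not_q8 hB)

theorem klein' (hT : T ≤ S) (h4 : IsKleinFour T) :
    ∃ u ∈ zpowers a, cj u (Xk a n b) = T ∨ cj u (Xk a n (a * b)) = T := by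
  obtain ⟨s, hs, hs', -, rfl⟩ := h.klein hT h4
  obtain ⟨u, hu, e⟩ := h.out_conj hs hs'
  rcases e with rfl | rfl
  exacts [⟨u, hu, .inl (h.cj_X hu _ _)⟩, ⟨u, hu, .inr (h.cj_X hu _ _)⟩]

theorem invol (hs : s ∈ S) (h2 : orderOf s = 2) :
    s = a ^ 2 ^ n ∨ ∃ u ∈ zpowers a, u * b * u⁻¹ = s ∨ u * (a * b) * u⁻¹ = s := by
  by_cases e : s ∈ zpowers a
  exacts [.inl (invol_eq_of_mem_zpowers e h.z_mem h2 h.ord_z), .inr (h.out_conj hs e)]

theorem isConj_zb (h1 : Ess (Xk a n b)) : IsConj (a ^ 2 ^ n) b := by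
  obtain ⟨g, h1, h2, h3⟩ := h1
  obtain ⟨c, -, e⟩ := klein_conj_of_odd h.kl h1 h2 h3 (h.z_mem_X le_rfl) h.z_ne (h.b_mem_X n)
    (ne_one_of_orderOf h.ord_b)
  exact isConj_iff.2 ⟨c, e⟩

theorem X_le_res (h1 : Ess (Xk a n b)) : Xk a n b ≤ pResidual 2 G := by
  obtain ⟨g, h1, h2, h3⟩ := h1
  have key : ∀ x ∈ Xk a n b, ∀ y ∈ Xk a n b, x ≠ 1 → y ≠ 1 → y * x⁻¹ ∈ pResidual 2 G := fun x hx y hy h4 h5 => by
    obtain ⟨c, hc, rfl⟩ := klein_conj_of_odd h.kl h1 h2 h3 hx h4 hy h5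
    exact comm_mem_res (odd_orderOf_of_mem_zpowers h2 hc) x
  have h4 := mul_mem (h.z_mem_X le_rfl) (h.b_mem_X n)
  have h5 : a ^ 2 ^ n * b ≠ 1 := fun e => h.notMem ((Subgroup.mul_mem_cancel_left _ h.z_mem).1 (e ▸ one_mem _))
  refine sup_le (zpowers_le.2 ?_) (zpowers_le.2 ?_)
  · simpa using key _ (h.b_mem_X n) _ h4 (ne_one_of_orderOf h.ord_b) h5
  · simpa [← h.z_cent b h.mem_b] using key _ (h.z_mem_X le_rfl) _ h4 h.z_ne h5

/-- a maximal subgroup missing `b` and containing every essential subgroup -/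
theorem exists_M (h1 : ¬ Ess (Xk a n b)) :
    ∃ M, Ix2 S M ∧ a ^ 2 ^ n ∈ M ∧ b ∉ M ∧ ∀ B ≤ S, Ess B → B ≤ M := by
  have key : ∀ B ≤ S, Ess B → Ess (Xk a n (a * b)) ∧ ∃ u ∈ zpowers a, cj u (Xk a n (a * b)) = B := fun B hB he => by
    obtain ⟨u, hu, rfl | rfl⟩ := h.klein' hB (h.ess' hB he)
    exacts [absurd (ess_cj.1 he) h1, ⟨ess_cj.1 he, u, hu, rfl⟩]
  rcases Nat.eq_zero_or_pos n with rfl | hn
  · exact ⟨_, h.a2.toIx2, h.z_mem, h.notMem, fun B hB he => absurd (key B hB he).1 (by rwa [h.dh'.X_zero, ← h.X_zero])⟩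
  refine ⟨_, h.dh'.ix2_M hn, h.dh'.z_mem_X hn, fun e => h.dh'.a_notMem hn ?_, fun B hB he => ?_⟩
  · simpa using mul_mem (h.dh'.b_mem_X 1) (inv_mem e)
  · obtain ⟨-, u, hu, rfl⟩ := key B hB he
    exact cj_le (sup_le_sup_right (h.pow_le_pow hn) _) ((h.dh'.ix2_M hn).nn (h.le hu))

section Fus
variable {P : Sylow 2 G} (hP : DH (P : Subgroup G) a b n)
omit h
include hP

theorem invol' (ht : orderOf t = 2) : IsConj (a ^ 2 ^ n) t ∨ IsConj b t ∨ IsConj (a * b) t := by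
  obtain ⟨y, hy, h1, h2⟩ := exists_conj_invol_mem_sylow P ht
  obtain rfl | ⟨u, -, e | e⟩ := hP.invol hy h1
  exacts [.inl h2, .inr (.inl ((isConj_iff.2 ⟨u, e⟩).trans h2)), .inr (.inr ((isConj_iff.2 ⟨u, e⟩).trans h2))]

theorem isConj_z (h1 : Ess (Xk a n b)) (h2 : Ess (Xk a n (a * b))) (ht : orderOf t = 2) : IsConj (a ^ 2 ^ n) t :=
  (hP.invol' ht).elim id fun e => e.elim (hP.isConj_zb h1).trans (hP.dh'.isConj_zb h2).trans

theorem le_res (h1 : Ess (Xk a n b)) (h2 : Ess (Xk a n (a * b))) : (P : Subgroup G) ≤ pResidual 2 G := by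
  have h3 := hP.X_le_res h1 (hP.b_mem_X n)
  exact hP.eq.le.trans (sup_le (zpowers_le.2 ((Subgroup.mul_mem_cancel_right _ h3).1
    (hP.dh'.X_le_res h2 (hP.dh'.b_mem_X n)))) (zpowers_le.2 h3))

theorem ess_of_conj (h1 : IsConj (a ^ 2 ^ n) b) : Ess (Xk a n b) := by
  by_contra h2
  obtain ⟨M, h3, h4, h5, h6⟩ := hP.exists_M h2
  obtain ⟨g, e⟩ := isConj_iff.1 h1
  exact h5 (e ▸ (fusion_ess P (fun x y => x ∈ M ↔ y ∈ M) (fun _ _ _ _ => Iff.symm) (fun _ _ _ _ _ _ => Iff.trans)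
    (fun s hs x _ => mem_normalizer_iff.1 (h3.nn hs) x) (fun B hB _ he k hk x hx => iff_of_true (h6 B hB he hx)
      (h6 B hB he (conj_mem_of_mem_normalizer hk hx))) (h3.le h4) (e ▸ hP.mem_b)).1 h4)

theorem ess_of_res (h1 : b ∈ pResidual 2 G) : Ess (Xk a n b) := by
  by_contra h2
  obtain ⟨M, h3, -, h5, h6⟩ := hP.exists_M h2
  exact h5 (inf_res_le P h3.der_le (fun B hB _ he k hk x hx =>
    h6 B hB he (mul_mem (conj_mem_of_mem_normalizer hk hx) (inv_mem hx))) ⟨hP.mem_b, h1⟩)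

theorem not_conj_X (hn : 1 ≤ n) (g : G) : cj g (Xk a n b) ≠ Xk a n (a * b) := fun e => by
  have := fusion_ess_sub P (fun A B => #A = 4 ∧ A ≤ Xk a 1 b ↔ #B = 4 ∧ B ≤ Xk a 1 b) (fun _ _ => Iff.symm)
    (fun _ _ _ => Iff.trans) (fun s hs A _ => by
      rw [card_cj, cj_le_iff_le_cj_inv, cj_eq_of_mem_normalizer (inv_mem ((hP.ix2_M hn).nn hs))])
    (fun B hB _ he k hk A hA => by
      rw [card_cj]
      refine and_congr_right fun h4 => ?_
      rw [eq_of_card_le hA (by rw [h4, (hP.ess' hB he).card_four]), cj_eq_of_mem_normalizer hk])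
    (hP.X_le n) (e ▸ hP.dh'.X_le n)
  exact hP.ab_notMem hn ((this.1 ⟨hP.kl.card_four, sup_le_sup_right (hP.pow_le_pow hn) _⟩).2
    (e ▸ hP.dh'.b_mem_X n))

theorem klein_conj {V : Subgroup G} (hV : IsKleinFour V) :
    (∃ g, cj g V = Xk a n b) ∨ ∃ g, cj g V = Xk a n (a * b) := by
  obtain ⟨g, hg⟩ := exists_cj_le_sylow P (IsPGroup.of_card (n := 2) hV.card_four)
  obtain ⟨u, -, e⟩ := hP.klein' hg (klein_cj hV g)
  refine e.imp (fun e => ⟨u⁻¹ * g, ?_⟩) fun e => ⟨u⁻¹ * g, ?_⟩ <;> rw [← cj_cj, ← e, cj_inv_cj]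

end Fus
end DH

end Cfsg.Agent.Transfer
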