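import Cfsg.Agent.Lib.Transfer.Wr2

set_option autoImplicit false
set_option linter.unusedSectionVars false

namespace Cfsg.Agent.Transfer
open Subgroup Cfsg.Agent.MS
open scoped commutatorElement

universe u
variable {G : Type u} [Group G] [Finite G]

theorem Wr.n_eq {S : Subgroup G} {x y z : G} {n m : ℕ} (h : Wr S x y z n) (hm : #S = 2 ^ (2 * m + 1)) : m = n + 1 := by
  have := Nat.pow_right_injective le_rfl (hm.symm.trans h.card); omega

theorem center_eq_of_top {Z : Subgroup G} (h : ⊤ ⊓ CC (⊤ : Subgroup G) = Z) : center G = Z := by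
  rwa [top_inf_eq, coe_top, centralizer_univ] at h

theorem QD.ess_of_le {P : Sylow 2 G} {a b : G} {n : ℕ} (hP : QD (P : Subgroup G) a b n)
    (h1 : (P : Subgroup G) ≤ pResidual 2 G) : Ess (Xk a n b) ∧ Ess (Xk a (n - 1) (a * b)) := by
  have h2 := inf_eq_left.2 h1
  by_cases e1 : Ess (Xk a n b) <;> by_cases e2 : Ess (Xk a (n - 1) (a * b))
  · exact ⟨e1, e2⟩
  · exact absurd ((hP.res_eq_D e1 e2).symm.trans h2) (hP.ix2_M hP.one).ne
  · exact absurd ((hP.res_eq_Q e1 e2).symm.trans h2) (hP.mc'.ix2_M hP.one).ne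
  · rw [(hasNPC_iff_inf_eq_bot P).1 (hP.npc e1 e2)] at h2
    exact absurd (mem_bot.1 (h2.ge hP.mem_b)) (ne_one_of_orderOf hP.ord_b)

theorem qw_congr {H : Type u} [Group H] [Finite H] {S : Subgroup G} {R : Subgroup H} (e : S ≃* R)
    (h : IsQuasiDihedral S ∨ IsWreathed S) : (∃ a b n, QD R a b n) ∨ ∃ x y z n, Wr R x y z n := by
  have hf : Function.Injective (R.subtype.comp e.toMonoidHom) := R.subtype_injective.comp e.injective
  have e1 : (⊤ : Subgroup S).map (R.subtype.comp e.toMonoidHom) = R := by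
    rw [← map_map, map_top_of_surjective _ e.surjective, ← MonoidHom.range_eq_map, range_subtype]
  refine h.imp (fun h => ?_) fun h => ?_
  · obtain ⟨a, b, n, h⟩ := qd_top h
    exact ⟨_, _, _, e1 ▸ h.map hf⟩
  · obtain ⟨x, y, z, n, h⟩ := wr_top h
    exact ⟨_, _, _, _, e1 ▸ h.map hf⟩

/-- common features of fusion simple groups with quasi-dihedral or wreathed Sylow 2-subgroups -/
theorem qw_data (P : Sylow 2 G) (h : (∃ a b n, QD (P : Subgroup G) a b n) ∨ ∃ x y z n, Wr (P : Subgroup G) x y z n)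
    (hG : ∀ H : Subgroup G, H.index ≠ 2) : ∃ t s b : G, orderOf t = 2 ∧ t ∈ (P : Subgroup G) ⊓ CC (P : Subgroup G) ∧
      IsCyclic ((P : Subgroup G) ⊓ CC (P : Subgroup G) : Subgroup G) ∧ (∀ u, orderOf u = 2 → IsConj t u) ∧
      orderOf b = 2 ∧ (P : Subgroup G) ≤ ZZ s b ∧ ¬ IsMulCommutative P ∧ ∃ Q, IsQ8 Q ∧ t ∈ Q ∧ Ess Q := by
  have h1 : (P : Subgroup G) ≤ pResidual 2 G := (pResidual_two_eq_top_iff.2 hG).symm ▸ le_top
  obtain ⟨a, b, n, h⟩ | ⟨x, y, z, n, h⟩ := h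
  · obtain ⟨h2, h3⟩ := h.ess_of_le h1
    exact ⟨_, a, b, h.ord_z, ⟨h.le h.z_mem, h.z_cent⟩, h.center h.one ▸ cyc_zpowers _,
      fun _ ht => (h.invol' ht).elim id (h.isConj_zb h2).trans, h.ord_b, h.eq.le, h.not_ab h.one, _,
      h.mc'.q8_X h.one h.sq_ab, h.mc'.z_mem_X (by omega), h3⟩
  · have hQ := h.X_le h.mem_s0 (n - 1)
    have h8 := h.q8_X h.mem_s0 h.s0_out h.sq_s0
    obtain ⟨h2, h3⟩ := h.ess_of_le hQ h8 h1
    obtain ⟨g, h4, h5, h6, -⟩ := h.ess_V hQ h8 h3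
    refine ⟨_, x, z, h.ord_t, h.center.ge h.t_mem, h.center ▸ cyc_zpowers _, fun _ => h.isConj_t hQ h8 h2 h3, h.ord_z,
      h.eq.le.trans (sup_le (sup_le le_sup_left (zpowers_le.2 ?_)) le_sup_right), h.not_ab, _, h8, h.t_Q hQ h8, g, h4,
      h5, h6⟩
    exact h.cnj ▸ mul_mem (mul_mem Wr.yU Wr.xU) (inv_mem Wr.yU)

theorem IsQ8.not_npc {Q : Subgroup G} (h : IsQ8 Q) {t : G} (ht : t ∈ Q) (h2 : orderOf t = 2) (he : Ess Q) :
    ¬ HasNormalPComplement 2 (C1 t) := fun e => by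
  obtain ⟨s, -, -, h3, -⟩ := h.exists_t
  refine ess_iff.1 he (res_normalizer_le_of_hasNPC h.pg (hasNPC_mono e fun g hg => mem_C1_of_conj ?_))
  rw [(h3 _ (conj_mem_of_mem_normalizer hg ht) (conj_mul_self (mul_self_of_orderOf h2) g)).resolve_left
    (mt conj_eq_one_iff.1 (ne_one_of_orderOf h2)), (h3 t ht (mul_self_of_orderOf h2)).resolve_left (ne_one_of_orderOf h2)]

theorem wc_of_fixed {Z S : Subgroup G} (h : Z ≤ S) (h1 : ∀ u ∈ Z, ∀ g, g * u * g⁻¹ ∈ S → g * u * g⁻¹ = u) :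
    IsWeaklyClosed Z S :=
  ⟨h, fun g hg => cj_cc fun u hu => (mul_inv_eq_iff_eq_mul.1 (h1 u hu g (hg (conj_mem_cj hu)))).symm⟩

theorem normal_core_sup {w : G} (h : IsIsolated w) (hw : IsPGroup 2 (zpowers w)) : (oddCore G ⊔ zpowers w).Normal := by
  have := (Solv.normal_of_le_center (zpowers_le.2 (zstar_elt_quot h hw))).comap (QuotientGroup.mk' (oddCore G))
  rwa [← MonoidHom.map_zpowers, comap_map_eq, QuotientGroup.ker_mk', sup_comm] at this

theorem isol_of_wc (P : Sylow 2 G) {w : G} (hw : w ∈ CC (P : Subgroup G)) (h : IsWeaklyClosed (zpowers w) P) :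
    IsIsolated w := by
  refine isol_of_sylow P (h.1 (mem_zpowers w)) fun g hg => ?_
  have h1 : g ∈ NN (zpowers w) := mem_normalizer_of_cj_le (h.2 g (by rw [← cj, cj_zpowers]; exact zpowers_le.2 hg)).le
  have h2 : (P : Subgroup G) ≤ CC (zpowers w) := cc_symm (zpowers_le.2 hw)
  refine conj_eq_of_cc (?_ : g ∈ CC (zpowers w)) (mem_zpowers w)
  obtain ⟨a, ha, s, hs, rfl⟩ := ((isSyl_top P).mono (nn_of_cc h2) le_top).exists_res_mul h1
  exact mul_mem (not_not.1 (mt ess_iff.2 (not_ess_of_cyc (P.isPGroup'.to_le h.1) (cyc_zpowers w))) ha) (h2 hs)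

end Cfsg.Agent.Transfer
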