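import Cfsg.Agent.Lib.Transfer.ElemC
import Mathlib.Algebra.Ring.Shrink

/-!
Identification of groups with elementary abelian involution centralizers with `PSL(2, 2 ^ n)`.
-/

set_option autoImplicit false
set_option linter.unusedSectionVars false
set_option linter.style.haveILetI false

namespace Cfsg.Agent.Transfer

open Subgroup
open scoped MatrixGroups OnePoint

section Perm

variable {F : Type*} [Field F] [DecidableEq F]

/-- The action of `SL(2, F)` on the projective line. -/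
noncomputable def slPerm (F : Type*) [Field F] [DecidableEq F] : SL(2, F) →* Equiv.Perm (OnePoint F) :=
  (MulAction.toPermHom (GL (Fin 2) F) (OnePoint F)).comp Matrix.SpecialLinearGroup.toGL

theorem slPerm_infty (g : SL(2, F)) :
    slPerm F g ∞ = if g 1 0 = 0 then ∞ else ((g 0 0 / g 1 0 : F) : OnePoint F) :=
  OnePoint.smul_infty_eq_ite _

theorem slPerm_some (g : SL(2, F)) (k : F) :
    slPerm F g (k : OnePoint F) = if g 1 0 * k + g 1 1 = 0 then ∞ else
      (((g 0 0 * k + g 0 1) / (g 1 0 * k + g 1 1) : F) : OnePoint F) :=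
  OnePoint.smul_some_eq_ite

theorem exists_sl (a b c d : F) (h : a * d - b * c = 1) :
    ∃ g : SL(2, F), g 0 0 = a ∧ g 0 1 = b ∧ g 1 0 = c ∧ g 1 1 = d :=
  ⟨⟨!![a, b; c, d], by rw [Matrix.det_fin_two_of, h]⟩, rfl, rfl, rfl, rfl⟩

theorem eq_one_of_slPerm_fix (h2 : (2 : F) = 0) {g : SL(2, F)} (h1 : slPerm F g ∞ = ∞)
    (h3 : slPerm F g (0 : F) = (0 : F)) (h4 : slPerm F g (1 : F) = (1 : F)) : g = 1 := by
  rw [slPerm_infty] at h1
  rw [slPerm_some] at h3 h4
  have hd := g.det_coe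
  rw [Matrix.det_fin_two] at hd
  have e1 : g 1 0 = 0 := by
    by_contra hc
    simp [hc] at h1
  have e2 : g 1 1 ≠ 0 := by
    intro hc
    simp [hc, e1] at hd
  have e3 : g 0 1 = 0 := by simpa [e1, e2] using h3
  have e4 : g 0 0 = g 1 1 := by
    simp only [e1, e2, e3, zero_mul, zero_add, if_false, mul_one, add_zero, OnePoint.coe_eq_coe] at h4
    exact (div_eq_one_iff_eq e2).1 h4
  have e5 : g 1 1 = 1 := by
    have : (g 1 1 - 1) ^ 2 = 0 := by
      simp only [e1, e4, mul_zero, sub_zero] at hd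
      linear_combination hd + (1 - g 1 1) * h2
    exact sub_eq_zero.1 (pow_eq_zero_iff two_ne_zero |>.1 this)
  ext i j
  fin_cases i <;> fin_cases j <;> simp [e1, e3, e4, e5]

theorem center_sl_two_eq_bot (h2 : (2 : F) = 0) : center SL(2, F) = ⊥ := by
  rw [eq_bot_iff]
  intro g hg
  obtain ⟨r, hr, he⟩ := Matrix.SpecialLinearGroup.mem_center_iff.1 hg
  have : r = 1 := by
    have : (r - 1) ^ 2 = 0 := by
      simp only [Fintype.card_fin] at hr
      linear_combination hr + (1 - r) * h2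
    exact sub_eq_zero.1 (pow_eq_zero_iff two_ne_zero |>.1 this)
  subst this
  rw [mem_bot]
  exact Subtype.ext (by rw [← he]; simp)

/-- A faithful permutation group on the projective line over a finite field of characteristic two
generated by translations, scalings and the inversion is `PSL(2, F)`. -/
theorem nonempty_equiv_psl {G : Type*} [Group G] [Finite F] (h2 : (2 : F) = 0)
    (τ : G →* Equiv.Perm (OnePoint F)) (hτ : Function.Injective τ) (S : Set G)
    (hS : closure S = ⊤)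
    (hgen : ∀ g ∈ S, (∃ a : F, τ g ∞ = ∞ ∧ ∀ x : F, τ g x = (x + a : F)) ∨
      (∃ a : F, a ≠ 0 ∧ τ g ∞ = ∞ ∧ ∀ x : F, τ g x = (a * x : F)) ∨
      (τ g ∞ = (0 : F) ∧ τ g (0 : F) = ∞ ∧ ∀ x : F, x ≠ 0 → τ g x = (x⁻¹ : F)))
    (htr : ∀ x y z : OnePoint F, x ≠ y → x ≠ z → y ≠ z →
      ∃ g : G, τ g ∞ = x ∧ τ g (0 : F) = y ∧ τ g (1 : F) = z) :
    Nonempty (G ≃* Matrix.ProjectiveSpecialLinearGroup (Fin 2) F) := by
  have hσ : Function.Injective (slPerm F) := by
    rw [injective_iff_map_eq_one]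
    intro g hg
    exact eq_one_of_slPerm_fix h2 (by rw [hg]; rfl) (by rw [hg]; rfl) (by rw [hg]; rfl)
  have h1 : τ.range ≤ (slPerm F).range := by
    rw [MonoidHom.range_eq_map, ← hS, MonoidHom.map_closure, closure_le]
    rintro _ ⟨g, hg, rfl⟩
    rcases hgen g hg with ⟨a, h1, h3⟩ | ⟨a, ha, h1, h3⟩ | ⟨h1, h3, h4⟩
    · obtain ⟨s, s1, s2, s3, s4⟩ := exists_sl 1 a 0 1 (by simp)
      refine ⟨s, Equiv.ext fun x => ?_⟩
      cases x with
      | infty => rw [slPerm_infty, h1, s1, s3]; simp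
      | coe x => rw [slPerm_some, h3, s1, s2, s3, s4]; simp
    · obtain ⟨b, hb⟩ : ∃ b : F, b * b = a := by
        have hinj : Function.Injective fun b : F => b * b := fun b c h => by
          have : (b - c) ^ 2 = 0 := by
            simp only at h
            linear_combination h + (c * c - b * c) * h2
          exact sub_eq_zero.1 (pow_eq_zero_iff two_ne_zero |>.1 this)
        exact Finite.surjective_of_injective hinj a
      have hb0 : b ≠ 0 := by rintro rfl; exact ha (by simpa using hb.symm)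
      obtain ⟨s, s1, s2, s3, s4⟩ := exists_sl b 0 0 b⁻¹ (by simp [hb0])
      refine ⟨s, Equiv.ext fun x => ?_⟩
      cases x with
      | infty => rw [slPerm_infty, h1, s1, s3]; simp
      | coe x =>
        rw [slPerm_some, h3, s1, s2, s3, s4]
        simp [hb0, ← hb]
        ring
    · obtain ⟨s, s1, s2, s3, s4⟩ := exists_sl (0 : F) 1 1 0 (by linear_combination -h2)
      refine ⟨s, Equiv.ext fun x => ?_⟩
      cases x with
      | infty => rw [slPerm_infty, h1, s1, s3]; simp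
      | coe x =>
        rw [slPerm_some, s1, s2, s3, s4]
        by_cases hx : x = 0
        · rw [hx, h3]; simp
        · rw [h4 x hx]; simp [hx]
  have h3 : (slPerm F).range ≤ τ.range := by
    rintro _ ⟨s, rfl⟩
    obtain ⟨g, e1, e2, e3⟩ := htr (slPerm F s ∞) (slPerm F s (0 : F)) (slPerm F s (1 : F))
      (by simp) (by simp) (by simp)
    obtain ⟨s', hs'⟩ := h1 ⟨g, rfl⟩
    have : s'⁻¹ * s = 1 := by
      refine eq_one_of_slPerm_fix h2 ?_ ?_ ?_ <;>
        rw [map_mul, map_inv, Equiv.Perm.mul_apply, Equiv.Perm.inv_eq_iff_eq, hs']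
      exacts [e1.symm, e2.symm, e3.symm]
    rw [← inv_mul_eq_one.1 this, hs']
    exact ⟨g, rfl⟩
  exact ⟨(MonoidHom.ofInjective hτ).trans ((MulEquiv.subgroupCongr (le_antisymm h1 h3)).trans
    ((MonoidHom.ofInjective hσ).symm.trans (QuotientGroup.quotientBot.symm.trans
      (QuotientGroup.quotientMulEquivOfEq (center_sl_two_eq_bot h2).symm))))⟩

end Perm

/-- An abelian group acting regularly on the nonidentity elements of an abelian group gives a field. -/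
theorem exists_field_of_regular {G : Type*} [Group G] [Finite G] {T D : Subgroup G}
    (hT : ∀ x ∈ T, ∀ y ∈ T, x * y = y * x) (hD : ∀ x ∈ D, ∀ y ∈ D, x * y = y * x)
    (hn : D ≤ normalizer (T : Set G)) {t₀ : G} (ht₀ : t₀ ∈ T) (ht₁ : t₀ ≠ 1)
    (htr : ∀ t ∈ T, t ≠ 1 → ∃ d ∈ D, d * t₀ * d⁻¹ = t) :
    ∃ (F : Type) (_ : Field F) (_ : Fintype F) (φ : F → G) (δ : F → G), Function.Injective φ ∧
      (∀ t, t ∈ T ↔ ∃ a, φ a = t) ∧ (∀ a b, φ (a + b) = φ a * φ b) ∧ φ 1 = t₀ ∧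
      (∀ a, a ≠ 0 → δ a ∈ D ∧ ∀ b, δ a * φ b * (δ a)⁻¹ = φ (a * b)) := by
  classical
  choose! δ hδ hδ' using htr
  have hc : ∀ d ∈ D, ∀ e ∈ D, ∀ x : G, d * (e * x * e⁻¹) * d⁻¹ = e * (d * x * d⁻¹) * e⁻¹ := by
    intro d hd e he x
    calc d * (e * x * e⁻¹) * d⁻¹ = (d * e) * x * (d * e)⁻¹ := by group
      _ = _ := by rw [hD d hd e he]; group
  let K := Additive T
  letI iM : Mul K := ⟨fun a b => if h : (a.toMul : G) = 1 then 0 else Additive.ofMul
    ⟨δ a.toMul * b.toMul * (δ a.toMul)⁻¹,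
      conj_mem_of_mem_normalizer (hn (hδ _ a.toMul.2 h)) b.toMul.2⟩⟩
  have hmul0 : ∀ a b : K, (a.toMul : G) = 1 → ((a * b).toMul : G) = 1 := fun a b h => by
    change ((Additive.toMul (dite _ _ _) : T) : G) = 1
    rw [dif_pos h]; rfl
  have hmul : ∀ a b : K, (a.toMul : G) ≠ 1 →
      ((a * b).toMul : G) = δ a.toMul * b.toMul * (δ a.toMul)⁻¹ := fun a b h => by
    change ((Additive.toMul (dite _ _ _) : T) : G) = _
    rw [dif_neg h]; rfl
  have hext : ∀ a b : K, (a.toMul : G) = b.toMul → a = b := fun a b h => Subtype.ext h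
  letI iO : One K := ⟨Additive.ofMul ⟨t₀, ht₀⟩⟩
  have hone : ((1 : K).toMul : G) = t₀ := rfl
  have hcomm : ∀ a b : K, a * b = b * a := by
    intro a b
    apply hext
    by_cases ha : (a.toMul : G) = 1 <;> by_cases hb : (b.toMul : G) = 1
    · rw [hmul0 a b ha, hmul0 b a hb]
    · rw [hmul0 a b ha, hmul b a hb, ha]; simp
    · rw [hmul a b ha, hmul0 b a hb, hb]; simp
    · rw [hmul a b ha, hmul b a hb]
      conv_lhs => rw [← hδ' _ b.toMul.2 hb]
      conv_rhs => rw [← hδ' _ a.toMul.2 ha]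
      rw [hδ' _ b.toMul.2 hb, hδ' _ a.toMul.2 ha]
      conv_lhs => enter [1, 2]; rw [← hδ' _ b.toMul.2 hb]
      conv_rhs => enter [1, 2]; rw [← hδ' _ a.toMul.2 ha]
      exact hc _ (hδ _ a.toMul.2 ha) _ (hδ _ b.toMul.2 hb) _
  have hlc : ∀ a b c : K, a * (b * c) = b * (a * c) := by
    intro a b c
    apply hext
    by_cases ha : (a.toMul : G) = 1 <;> by_cases hb : (b.toMul : G) = 1
    · rw [hmul0 a _ ha, hmul0 b _ hb]
    · rw [hmul0 a _ ha, hmul b _ hb, hmul0 a _ ha]; simp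
    · rw [hmul a _ ha, hmul0 b _ hb, hmul0 b _ hb]; simp
    · rw [hmul a _ ha, hmul b _ hb, hmul b _ hb, hmul a _ ha]
      exact hc _ (hδ _ a.toMul.2 ha) _ (hδ _ b.toMul.2 hb) _
  letI iI : Inv K := ⟨fun a => if h : (a.toMul : G) = 1 then 0 else Additive.ofMul
    ⟨(δ a.toMul)⁻¹ * t₀ * δ a.toMul,
      inv_conj_mem_of_mem_normalizer (hn (hδ _ a.toMul.2 h)) ht₀⟩⟩
  have hmo : ∀ a : K, a * 1 = a := by
    intro a
    apply hext
    by_cases ha : (a.toMul : G) = 1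
    · rw [hmul0 a _ ha, ha]
    · rw [hmul a _ ha, hone, hδ' _ a.toMul.2 ha]
  letI iF : Field K := Field.ofMinimalAxioms K add_assoc zero_add neg_add_cancel
    (fun a b c => by rw [hcomm (a * b) c, hlc c a b, hcomm c b]) hcomm
    (fun a => by rw [hcomm, hmo])
    (fun a ha => by
      have ha' : (a.toMul : G) ≠ 1 := fun h => ha (hext _ _ h)
      apply hext
      rw [hmul a _ ha', hone]
      change _ * ((Additive.toMul (dite _ _ _) : T) : G) * _ = _
      rw [dif_neg ha']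
      change _ * (_ * _ * _) * _ = _
      group)
    (dif_pos rfl)
    (fun a b c => by
      apply hext
      by_cases ha : (a.toMul : G) = 1
      · rw [hmul0 a _ ha, toMul_add, coe_mul, hmul0 a _ ha, hmul0 a _ ha, mul_one]
      · rw [hmul a _ ha, toMul_add, toMul_add, coe_mul, coe_mul, hmul a _ ha, hmul a _ ha, conj_mul])
    ⟨1, 0, fun h => ht₁ (congrArg (fun a : K => (a.toMul : G)) h)⟩
  haveI : Small.{0} K := inferInstance
  let e : Shrink.{0} K ≃+* K := Shrink.ringEquiv K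
  haveI : Finite (Shrink.{0} K) := Finite.of_equiv _ e.symm.toEquiv
  refine ⟨Shrink.{0} K, inferInstance, Fintype.ofFinite _, fun a => (e a).toMul,
    fun a => δ (e a).toMul, fun a b h => e.injective (hext _ _ h), fun t => ⟨fun ht =>
      ⟨e.symm (Additive.ofMul ⟨t, ht⟩), by simp⟩, ?_⟩, fun a b => ?_, ?_, fun a ha => ?_⟩
  · rintro ⟨a, rfl⟩; exact (e a).toMul.2
  · simp only [map_add]; rfl
  · simp only [map_one]; rfl
  · have ha' : ((e a).toMul : G) ≠ 1 := fun h => ha (e.injective (by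
      rw [map_zero]; exact hext _ _ h))
    refine ⟨hδ _ (e a).toMul.2 ha', fun b => ?_⟩
    simp only [map_mul]
    exact (hmul _ _ ha').symm

variable {G : Type*} [Group G] [Finite G]

theorem ElemC.exists_psl {T : Sylow 2 G} (h : ElemC T) :
    ∃ (F : Type) (_ : Field F) (_ : Fintype F), Fintype.card F = Nat.card T ∧ (2 : F) = 0 ∧
      Nonempty (G ≃* Matrix.ProjectiveSpecialLinearGroup (Fin 2) F) := by
  classical
  set H := normalizer ((T : Subgroup G) : Set G) with hH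
  obtain ⟨u₀, hu₀2, hu₀⟩ := se_exists_invol_notMem h.se
  obtain ⟨t₀, ht₀, ht₁⟩ := h.exists_ne_one
  have hne : (u₀ : G ⧸ H) ≠ ((1 : G) : G ⧸ H) := fun h' => hu₀ (by
    have := QuotientGroup.eq.1 h'
    rwa [mul_one, inv_mem_iff] at this)
  have hTfix : ∀ t ∈ (T : Subgroup G), t • ((1 : G) : G ⧸ H) = (1 : G) := fun t ht =>
    ElemC.smul_one_iff.2 (le_normalizer ht)
  have hTinj : ∀ s ∈ (T : Subgroup G), ∀ t ∈ (T : Subgroup G), s • (u₀ : G ⧸ H) = t • (u₀ : G ⧸ H) →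
      s = t := fun s hs t ht he =>
    (h.regular hne (ElemC.smul_ne (hTfix t ht) hne)).unique ⟨hs, he⟩ ⟨ht, rfl⟩
  obtain ⟨F, iF, iF', φ, δ, hφ, hφT, hadd, hone, hδ⟩ := exists_field_of_regular
    (T := T) (D := H ⊓ cj u₀ H) (fun x hx y hy => h.commute hx hy)
    (fun x hx y hy => h.commute_of_mem hu₀2 hu₀ hx hy) inf_le_left ht₀ ht₁ fun t ht h1 => by
      obtain ⟨d, hd, -, h2⟩ := h.exists_conj hu₀2 hu₀ ht₀ ht₁ ht h1
      exact ⟨d, hd, h2⟩
  have hφm : ∀ a, φ a ∈ (T : Subgroup G) := fun a => (hφT _).2 ⟨a, rfl⟩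
  have hzero : φ 0 = 1 := by
    have := hadd 0 0
    rwa [add_zero, left_eq_mul] at this
  have h2 : (2 : F) = 0 := hφ (by rw [← one_add_one_eq_two, hadd, h.mul_self (hφm 1), hzero])
  let ψ₀ : OnePoint F → G ⧸ H := fun x => x.elim ((1 : G) : G ⧸ H) fun a => φ a • (u₀ : G ⧸ H)
  have hψ₀ : Function.Bijective ψ₀ := by
    constructor
    · intro x y hxy
      cases x <;> cases y
      · rfl
      · exact absurd hxy.symm (ElemC.smul_ne (hTfix _ (hφm _)) hne)
      · exact absurd hxy (ElemC.smul_ne (hTfix _ (hφm _)) hne)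
      · rw [hφ (hTinj _ (hφm _) _ (hφm _) hxy)]
    · intro y
      by_cases hy : y = ((1 : G) : G ⧸ H)
      · exact ⟨∞, hy.symm⟩
      · obtain ⟨t, ⟨ht, h1⟩, -⟩ := h.regular hne hy
        obtain ⟨a, rfl⟩ := (hφT t).1 ht
        exact ⟨a, h1⟩
  let ψ := Equiv.ofBijective ψ₀ hψ₀
  have ψi : ψ ∞ = ((1 : G) : G ⧸ H) := rfl
  have ψs : ∀ a : F, ψ a = φ a • (u₀ : G ⧸ H) := fun a => rfl
  have ψ0 : ψ (0 : F) = u₀ := by rw [ψs, hzero, one_smul]
  let τ : G →* Equiv.Perm (OnePoint F) :=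
    ψ.symm.permCongrHom.toMonoidHom.comp (MulAction.toPermHom G (G ⧸ H))
  have hτ : ∀ g x y, τ g x = y ↔ g • ψ x = ψ y := fun g x y => by
    change ψ.symm (g • ψ x) = y ↔ _
    rw [Equiv.symm_apply_eq]
  have n01 : ψ ∞ ≠ ψ (0 : F) := by simp
  have n02 : ψ ∞ ≠ ψ (1 : F) := by simp
  have n12 : ψ (0 : F) ≠ ψ (1 : F) := by simp
  obtain ⟨u, u1, u2, u3⟩ := h.three_trans n01 n02 n12 n01.symm n12 n02
  have hδfix : ∀ a, a ≠ 0 → δ a • (u₀ : G ⧸ H) = u₀ := fun a ha =>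
    (smul_mk_eq_self_iff _ _).2 (mem_inf.1 (hδ a ha).1).2
  have hδψ : ∀ a, a ≠ 0 → ∀ x : F, δ a • ψ x = ψ (a * x : F) := fun a ha x => by
    rw [ψs, ψs, ← (hδ a ha).2, mul_smul, mul_smul, ← hδfix a ha, inv_smul_smul, hδfix a ha]
  have hDδ : ∀ d ∈ H ⊓ cj u₀ H, ∃ a, a ≠ 0 ∧ d = δ a := by
    intro d hd
    obtain ⟨a, ha⟩ := (hφT _).1 (conj_mem_of_mem_normalizer (mem_inf.1 hd).1 ht₀)
    have ha0 : a ≠ 0 := by
      rintro rfl
      exact ElemC.conj_ne_one ht₁ (ha.symm.trans hzero)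
    refine ⟨a, ha0, h.eq_of_conj_eq hu₀ ht₀ ht₁ (mem_inf.1 hd).2 (mem_inf.1 (hδ a ha0).1).2 ?_⟩
    rw [← ha, ← hone, (hδ a ha0).2, mul_one]
  have huD : u₀⁻¹ * u ∈ H ⊓ cj u₀ H := by
    refine mem_inf.2 ⟨ElemC.smul_one_iff.1 ?_, (smul_mk_eq_self_iff _ _).1 ?_⟩
    · rw [mul_smul, ← ψi, u1, ψ0, ψi, MulAction.Quotient.smul_mk, smul_eq_mul, inv_mul_cancel]
    · rw [mul_smul, ← ψ0, u2, ψ0, ψi, MulAction.Quotient.smul_mk, smul_eq_mul, mul_one,
        inv_eq_of_orderOf hu₀2]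
  have huinv : ∀ d ∈ H ⊓ cj u₀ H, u * d * u⁻¹ = d⁻¹ := fun d hd => by
    calc u * d * u⁻¹ = u₀ * (u₀⁻¹ * u * d * (u₀⁻¹ * u)⁻¹) * u₀⁻¹ := by group
      _ = _ := by rw [commute_iff_conj.1 (h.commute_of_mem hu₀2 hu₀ huD hd), h.inverts hu₀2 hu₀ hd]
  refine ⟨F, iF, iF', ?_, h2, nonempty_equiv_psl h2 τ ?_
    ((T : Subgroup G) ∪ (H ⊓ cj u₀ H : Subgroup G) ∪ {u}) ?_ ?_ ?_⟩
  · rw [← Nat.card_eq_fintype_card, ← cnt_true]
    exact cnt_eq_of_bij φ (fun a _ => hφm a) (fun a b _ _ h => hφ h) fun t ht => by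
      obtain ⟨a, ha⟩ := (hφT t).1 ht
      exact ⟨a, trivial, ha⟩
  · rw [injective_iff_map_eq_one]
    intro g hg
    exact h.eq_one_of_fix n01 n02 n12 ((hτ _ _ _).1 (by rw [hg]; rfl)) ((hτ _ _ _).1 (by rw [hg]; rfl))
      ((hτ _ _ _).1 (by rw [hg]; rfl))
  · set K := closure (((T : Subgroup G) : Set G) ∪ (H ⊓ cj u₀ H : Subgroup G) ∪ {u})
    have hHK : H ≤ K := fun w hw => by
      obtain ⟨d, hd, t, ht, rfl⟩ := h.exists_mul hu₀2 hu₀ hw
      exact mul_mem (subset_closure (Or.inl (Or.inr hd))) (subset_closure (Or.inl (Or.inl ht)))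
    rw [eq_top_iff]
    intro g _
    by_cases hg : g ∈ H
    · exact hHK hg
    obtain ⟨t, ⟨ht, h1⟩, -⟩ := h.regular hne (y := g) fun h' => hg (by
      have := QuotientGroup.eq.1 h'
      rwa [mul_one, inv_mem_iff] at this)
    rw [← ψ0, ← u1, ψi, ← mul_smul, smul_mk_eq_iff, mul_one] at h1
    have := mul_mem (mul_mem (hHK (le_normalizer ht)) (subset_closure (Or.inr rfl) : u ∈ K))
      (inv_mem (hHK h1))
    simpa [mul_assoc] using this
  · rintro g ((hg | hg) | hg)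
    · left
      obtain ⟨a, rfl⟩ := (hφT g).1 hg
      exact ⟨a, (hτ _ _ _).2 (hTfix _ hg), fun x => (hτ _ _ _).2 (by
        rw [ψs, ψs, add_comm, hadd, mul_smul])⟩
    · right; left
      obtain ⟨a, ha, rfl⟩ := hDδ g hg
      exact ⟨a, ha, (hτ _ _ _).2 (ElemC.smul_one_iff.2 (mem_inf.1 hg).1),
        fun x => (hτ _ _ _).2 (hδψ a ha x)⟩
    · right; right
      rw [Set.mem_singleton_iff.1 hg]
      refine ⟨(hτ _ _ _).2 u1, (hτ _ _ _).2 u2, fun x hx => (hτ _ _ _).2 ?_⟩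
      have h3 := hδψ x hx 1
      have h4 := hδψ x hx x⁻¹
      rw [mul_one] at h3
      rw [mul_inv_cancel₀ hx] at h4
      rw [← h3, ← mul_smul, mul_inv_eq_iff_eq_mul.1 (huinv _ (hδ x hx).1), mul_smul, u3, ← h4,
        inv_smul_smul]
  · intro x y z hxy hxz hyz
    obtain ⟨g, h1, h3, h4⟩ := h.three_trans n01 n02 n12 (ψ.injective.ne hxy) (ψ.injective.ne hxz)
      (ψ.injective.ne hyz)
    exact ⟨g, (hτ _ _ _).2 h1, (hτ _ _ _).2 h3, (hτ _ _ _).2 h4⟩

end Cfsg.Agent.Transfer
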