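import Cfsg.Agent.Lib.Transfer.FC6

set_option autoImplicit false
set_option linter.unusedSectionVars false
set_option linter.unusedVariables false
set_option linter.style.haveILetI false
set_option linter.unusedSimpArgs false

/-! Frobenius complements modulo their `Z`-group core -/
namespace Cfsg.Agent.Transfer.FC
open Subgroup MS
open scoped commutatorElement
universe u
variable {G : Type u} [Group G] [Finite G] {N Q : Subgroup G}

open QuaternionGroup in
theorem aut_q8_ord (φ : MulAut (QuaternionGroup 2)) : orderOf φ ≤ 4 := by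
  have h2 : ∀ x y : QuaternionGroup 2, x * y ≠ y * x → x ^ (2 * 2) = 1 ∧ y * y = x ^ 2 ∧ x * y = y * x⁻¹ := by decide
  have hxy : φ (a 1) * φ (xa 0) ≠ φ (xa 0) * φ (a 1) := by
    simp only [← map_mul, ne_eq, EmbeddingLike.apply_eq_iff_eq]; decide
  obtain ⟨h3, h4, h5⟩ := h2 _ _ hxy
  have e : φ.toMonoidHom = Classical.quaternionHom (n := 2) _ _ h3 h4 h5 :=
    MonoidHom.eq_of_eqOn_dense (quaternion_closure_eq_top 2)
      (by rintro _ (rfl | rfl); exacts [(pow_one _).symm, (mul_one _).symm])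
  have key : ∀ x y : QuaternionGroup 2, ∀ h3 h4 h5, x * y ≠ y * x →
      ∀ f, f = Classical.quaternionHom (n := 2) x y h3 h4 h5 →
        (∀ z, f (f (f z)) = z) ∨ ∀ z, f (f (f (f z))) = z := by
    simp only [forall_eq]
    decide +kernel
  rcases key _ _ h3 h4 h5 hxy _ e with h | h
  · exact (orderOf_le_of_pow_eq_one (n := 3) (by decide) (MulEquiv.ext h)).trans (by decide)
  · exact orderOf_le_of_pow_eq_one (n := 4) (by decide) (MulEquiv.ext h)

theorem IsQ8.aut (h : IsQ8 Q) : Nonempty (MulAut Q ≃* Equiv.Perm (Fin 4)) :=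
  ⟨(MulAut.congr h.some).trans (Perm.Small.iso_S4 card_aut_q8 aut_q8_ord).some⟩

/-- `G / N` is `A_n` or `S_n` -/
def TB (n : ℕ) (N : Subgroup G) : Prop := ∃ f : G →* Equiv.Perm (Fin n), alternatingGroup (Fin n) ≤ f.range ∧ f.ker = N

/-- `G / N` is a four-group -/
def TV (N : Subgroup G) : Prop := ∃ f : G →* DihedralGroup 2, Function.Surjective f ∧ f.ker = N

theorem tb_iff {n : ℕ} : TB (n + 2) N ↔ (∃ f : G →* alternatingGroup (Fin (n + 2)), Function.Surjective f ∧ f.ker = N) ∨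
    ∃ f : G →* Equiv.Perm (Fin (n + 2)), Function.Surjective f ∧ f.ker = N := by
  constructor
  · rintro ⟨f, h1, h2⟩
    rcases (Nat.dvd_prime Nat.prime_two).1 ((index_dvd_of_le h1).trans alternatingGroup.index_eq_two.dvd) with e | e
    · exact Or.inr ⟨f, MonoidHom.range_eq_top.1 (index_eq_one.1 e), h2⟩
    · have e := Equiv.Perm.eq_alternatingGroup_of_index_eq_two e
      refine Or.inl ⟨f.codRestrict _ fun x => e.le ⟨x, rfl⟩, fun y => ?_, by rw [MonoidHom.ker_codRestrict, h2]⟩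
      obtain ⟨x, hx⟩ := h1 y.2
      exact ⟨x, Subtype.ext hx⟩
  · rintro (⟨f, h1, h2⟩ | ⟨f, h1, h2⟩)
    · refine ⟨(alternatingGroup _).subtype.comp f, fun y hy => ?_, ?_⟩
      · obtain ⟨x, hx⟩ := h1 ⟨y, hy⟩
        exact ⟨x, congrArg Subtype.val hx⟩
      · rw [MonoidHom.ker_comp_of_injective _ _ Subtype.val_injective, h2]
    · exact ⟨f, le_top.trans (MonoidHom.range_eq_top.2 h1).ge, h2⟩

theorem IsQ8.tb [Q.Normal] (h : IsQ8 Q) (he : Ess Q) : TB 4 (CC Q) := by
  obtain ⟨e⟩ := IsQ8.aut h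
  let f : G →* Equiv.Perm (Fin 4) := e.toMonoidHom.comp MulAut.conjNormal
  have k : f.ker = CC Q := by
    rw [MonoidHom.ker_comp_of_injective _ _ e.injective]
    ext g
    refine ⟨fun hg => mem_CC.2 fun s hs => ?_, fun hg => MulEquiv.ext fun s => Subtype.ext (conj_eq_of_cc hg s.2)⟩
    exact (mul_inv_eq_iff_eq_mul.1 (congrArg Subtype.val (DFunLike.congr_fun hg ⟨s, hs⟩))).symm
  refine ⟨f, Equiv.Perm.alternatingGroup_le_of_index_le_two ?_, k⟩
  have c : #(Equiv.Perm (Fin 4)) = 24 := by rw [Nat.card_perm]; simp [Nat.factorial]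
  have h1 := f.range.card_mul_index
  have h2 : 4 ∣ #f.range := by
    rw [← index_ker, k, ← h.relIndex_cc]
    exact k ▸ relIndex_dvd_index_of_normal _ _
  have h3 : 3 ∣ #f.range := by
    obtain ⟨g, -, h2, h3⟩ := he
    have d1 : orderOf (f g) ∣ 3 := (Nat.Coprime.coprime_dvd_left (orderOf_map_dvd f g)
      ((Nat.coprime_two_right.2 h2).pow_right 3)).dvd_of_dvd_mul_left (by rw [show 2 ^ 3 * 3 = 24 by rfl, ← c]; exact orderOf_dvd_natCard _)
    rw [← ((Nat.dvd_prime Nat.prime_three).1 d1).resolve_left fun e => h3 (k.le (orderOf_eq_one_iff.1 e))]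
    exact orderOf_dvd ⟨g, rfl⟩
  obtain ⟨m, hm⟩ := Nat.Coprime.mul_dvd_of_dvd_of_dvd (by decide) h2 h3
  rw [c, hm] at h1
  rcases m with _ | m
  · omega
  · nlinarith

theorem UI.core [Group.IsSolvable G] (hU : UI G) (hO : oddCore G = ⊥) :
    ∃ N : Subgroup G, IsCyclic N ∧ (N = ⊤ ∨ TV N ∨ TB 4 N) := by
  by_cases hG : IsPGroup 2 G
  · rcases hU.pg (S := ⊤) (hG.to_subgroup ⊤) with h | ⟨a, b, n, hn, h, -⟩
    · exact ⟨⊤, h, Or.inl rfl⟩
    haveI : (zpowers (a * a)).Normal := h.der hn ▸ inferInstance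
    have i1 := ix2_sq h.ord
    have c : #(G ⧸ zpowers (a * a)) = 4 := by
      rw [← index_eq_card, ← relIndex_top_right, ← relIndex_mul_relIndex _ _ _ i1.le le_top, i1.idx, h.a2.idx]
    haveI : Nontrivial (G ⧸ zpowers (a * a)) := Finite.one_lt_card_iff_nontrivial.1 (by omega)
    haveI : IsKleinFour (G ⧸ zpowers (a * a)) := ⟨c, (Monoid.exponent_eq_prime_iff Nat.prime_two).2 fun x hx => by
      obtain ⟨x, rfl⟩ := QuotientGroup.mk_surjective x
      refine orderOf_eq_two ((QuotientGroup.eq_one_iff (x * x)).2 ?_) hx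
      by_cases e : x ∈ zpowers a
      · exact i1.sq_mem e
      · rcases h.sq_out trivial e with e | e <;> rw [e]
        exacts [one_mem _, h.pow_le_sq hn (Subgroup.mem_zpowers _)]⟩
    obtain ⟨e⟩ := IsKleinFour.nonempty_mulEquiv (G₁ := G ⧸ zpowers (a * a)) (G₂ := DihedralGroup 2)
    exact ⟨_, cyc_zpowers _, Or.inr (Or.inl ⟨e.toMonoidHom.comp (QuotientGroup.mk' _),
      e.surjective.comp QuotientGroup.mk_surjective, by
        rw [MonoidHom.ker_comp_of_injective _ _ e.injective, QuotientGroup.ker_mk']⟩)⟩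
  · have he := ess_pCore hO hG
    have h8 := hU.ess (Solv.isPGroup_pCore _ _) he
    have hc := Solv.centralizer_pCore_le hO
    refine ⟨_, ?_, Or.inr (Or.inr (IsQ8.tb h8 he))⟩
    exact isCyclic_of_prime_card (p := 2) (by have := h8.card_center; rwa [inf_eq_right.2 hc] at this)

theorem UI.quot (hU : UI G) [N.Normal] (ho : Odd #N) : UI (G ⧸ N) := by
  have key : ∀ x : G ⧸ N, x * x = 1 → ∃ g : G, g * g = 1 ∧ (g : G ⧸ N) = x := fun x hx => by
    obtain ⟨g, rfl⟩ := QuotientGroup.mk_surjective x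
    obtain ⟨m, hm⟩ := ho
    refine ⟨g ^ (2 * m + 1), ?_, ?_⟩
    · rw [← Commute.mul_pow (Commute.refl g), ← hm]
      exact congrArg Subtype.val (pow_card_eq_one' (x := (⟨g * g, (QuotientGroup.eq_one_iff _).1 hx⟩ : N)))
    · rw [QuotientGroup.mk_pow, pow_succ, pow_mul, pow_two, hx, one_pow, one_mul]
  intro x y h1 h2 h3 h4
  obtain ⟨g, e1, rfl⟩ := key x h2
  obtain ⟨k, e2, rfl⟩ := key y h4
  rw [hU g k (fun e => h1 (by rw [e]; rfl)) e1 (fun e => h3 (by rw [e]; rfl)) e2]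

theorem FR.core (hG : FR G) : ∃ N : Subgroup G, IsZGroup N ∧ (N = ⊤ ∨ TV N ∨ TB 4 N ∨ TB 5 N) := by
  by_cases hs : Group.IsSolvable G
  · obtain ⟨N, h1, h2⟩ := (hG.ui.quot odd_card_oddCore).core Solv.pPrimeCore_quotient_pPrimeCore
    let π := QuotientGroup.mk' (oddCore G)
    have sj : Function.Surjective π := QuotientGroup.mk'_surjective _
    refine ⟨N.comap π, hG.zg fun P h3 h4 => ?_, ?_⟩
    · haveI := cyc_mono h1 (map_le_iff_le_comap.2 h3)
      refine isCyclic_of_injective (π.subgroupMap P) ((injective_iff_map_eq_one _).2 fun x hx => Subtype.ext ?_)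
      exact eq_one_of_inf (inf_ker_mk_eq_bot (Nat.coprime_two_right.2 odd_card_oddCore) h4) x.2 (congrArg Subtype.val hx)
    · rcases h2 with rfl | ⟨f, h3, rfl⟩ | ⟨f, h3, rfl⟩
      · exact Or.inl (comap_top _)
      · exact Or.inr (Or.inl ⟨f.comp π, h3.comp sj, rfl⟩)
      · exact Or.inr (Or.inr (Or.inl ⟨f.comp π, by rwa [MonoidHom.range_comp, MonoidHom.range_eq_top.2 sj,
          ← MonoidHom.range_eq_map], rfl⟩))
  · obtain ⟨S, φ, h⟩ := hG.ns hs
    exact ⟨_, h.zg, Or.inr (Or.inr (Or.inr ⟨φ, h.map.ge.trans (map_le_range _ _), h.ker⟩))⟩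

set_option synthInstance.maxSize 100000 in
set_option maxRecDepth 100000 in
theorem perm_facts : (∀ x : Equiv.Perm (Fin 4), x ≠ 1 → ∃ g, Equiv.Perm.sign g = 1 ∧
    (g * x * g⁻¹ * x ≠ x * (g * x * g⁻¹) ∨ x * x = 1 ∧ g * x * g⁻¹ ≠ x)) ∧
    ∀ x : Equiv.Perm (Fin 5), x ≠ 1 → ∃ g, Equiv.Perm.sign g = 1 ∧
    (g * x * g⁻¹ * x ≠ x * (g * x * g⁻¹) ∨ x * x = 1 ∧ g * x * g⁻¹ ≠ x) := by
  constructor <;> decide +kernel

theorem TB.le {n : ℕ} (hn : n = 4 ∨ n = 5) (h : TB n N) {M : Subgroup G} [M.Normal] (hM : IsZGroup M) : M ≤ N := by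
  obtain ⟨f, h1, rfl⟩ := h
  have key : ∀ K : Subgroup G, K.Normal → IsCyclic (K.map f) → K ≤ f.ker := fun K hK hc k hk => by_contra fun e => by
    obtain ⟨g, h2, h3⟩ : ∃ g, Equiv.Perm.sign g = 1 ∧ (g * f k * g⁻¹ * f k ≠ f k * (g * f k * g⁻¹) ∨
        f k * f k = 1 ∧ g * f k * g⁻¹ ≠ f k) := by
      rcases hn with rfl | rfl
      exacts [perm_facts.1 _ e, perm_facts.2 _ e]
    obtain ⟨g, rfl⟩ := h1 (Equiv.Perm.mem_alternatingGroup.2 h2)
    have m : f g * f k * (f g)⁻¹ ∈ zpowers (f k) := cyc_le hc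
      (zpowers_le.2 ⟨g * k * g⁻¹, hK.conj_mem k hk g, by simp⟩) (zpowers_le.2 ⟨k, hk, rfl⟩)
      (by rw [Nat.card_zpowers, Nat.card_zpowers, orderOf_conj]) (Subgroup.mem_zpowers _)
    rcases h3 with h3 | ⟨h3, h4⟩
    · exact h3 (mem_C1.1 (C1_le_of_mem_zpowers m (self_mem_C1 _))).symm
    · exact ((mem_zpowers_iff_of_sq h3).1 m).elim (fun e1 => e (by simpa using e1)) h4
  have e := key _ inferInstance (by
    haveI := zgroup_der_cyc hM
    exact isCyclic_of_surjective _ (f.subgroupMap_surjective ⁅M, M⁆))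
  refine key M inferInstance ?_
  haveI : IsZGroup (M.map f) := IsZGroup.of_surjective (f.subgroupMap_surjective M)
  haveI := nil_of_ab (ab_iff_der.2 (show ⁅M.map f, M.map f⁆ = ⊥ by rwa [← map_commutator, Subgroup.map_eq_bot_iff]))
  infer_instance

theorem TV.index (h : TV N) : N.index = 4 := by
  obtain ⟨f, h1, rfl⟩ := h
  rw [index_ker, MonoidHom.range_eq_top.2 h1, card_top, DihedralGroup.nat_card]

theorem TV.not_zg (h : TV N) : ¬ IsZGroup G := fun hz => by
  obtain ⟨f, h1, -⟩ := h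
  haveI := IsZGroup.of_surjective h1
  haveI := IsKleinFour.isMulCommutative (G := DihedralGroup 2)
  haveI : Group.IsNilpotent (DihedralGroup 2) := (IsPGroup.of_card (p := 2) (n := 2) DihedralGroup.nat_card).isNilpotent
  exact IsKleinFour.not_isCyclic (G := DihedralGroup 2) inferInstance

theorem TB.three {n : ℕ} (hn : n = 4 ∨ n = 5) (h : TB n N) : 3 ∣ N.index := by
  obtain ⟨f, h1, rfl⟩ := h
  rw [index_ker]
  refine Dvd.dvd.trans ?_ (card_dvd h1)
  rcases hn with rfl | rfl <;> rw [nat_card_alternatingGroup] <;> simp [Nat.factorial]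

theorem TV.eq (hG : FR G) {M : Subgroup G} (h : TV N) (h' : TV M) : N = M := by
  obtain ⟨T, hT⟩ := exists_isSyl 2 (⊤ : Subgroup G)
  obtain ⟨a, b, n, hn, hm, -⟩ := (hG.ui.pg hT.pgroup).resolve_left fun hc => h.not_zg (by
    haveI : IsZGroup (⊤ : Subgroup G) := hG.zg fun P _ hP => by
      obtain ⟨g, -, e⟩ := hT.exists_cj_le hP le_top
      exact cj_inv_cj g P ▸ cyc_cj (cyc_mono hc e) g⁻¹
    exact IsZGroup.of_surjective (f := (topEquiv (G := G)).toMonoidHom) topEquiv.surjective)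
  have i := h.index
  have i' := h'.index
  obtain ⟨f, h1, rfl⟩ := h
  obtain ⟨f', h2, rfl⟩ := h'
  haveI := IsKleinFour.isMulCommutative (G := DihedralGroup 2)
  have d : ∀ f : G →* DihedralGroup 2, ⁅T, T⁆ ≤ f.ker := fun f => by
    rw [← Subgroup.map_eq_bot_iff, map_commutator, ← ab_iff_der]; infer_instance
  obtain ⟨k, -, hk⟩ := (Nat.dvd_prime_pow Nat.prime_two (i := (f.ker ⊓ f'.ker).index) (m := 4)).1 (by
    rw [← MonoidHom.ker_prod, index_ker]
    exact (card_subgroup_dvd_card _).trans (by rw [Nat.card_prod, DihedralGroup.nat_card]; rfl))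
  have e := hT.sup_eq_of_relIndex (K := f.ker ⊓ f'.ker) le_top (by rwa [relIndex_top_right])
  have e1 : (f.ker ⊓ f'.ker).index ∣ 4 := by
    have i1 := ix2_sq hm.ord
    rw [← relIndex_top_right, ← e, relIndex_sup_left, show 4 = ⁅T, T⁆.relIndex T by
      rw [hm.der hn, ← relIndex_mul_relIndex _ _ _ i1.le hm.le, i1.idx, hm.a2.idx]]
    exact relIndex_dvd_of_le_left _ (le_inf (d f) (d f'))
  have e2 : ∀ K : Subgroup G, f.ker ⊓ f'.ker ≤ K → K.index = 4 → K ≤ f.ker ⊓ f'.ker := fun K h1 h2 => by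
    have := relIndex_mul_index h1
    rw [h2] at this
    exact relIndex_eq_one.1 (Nat.dvd_one.1 ((Nat.mul_dvd_mul_iff_right (by decide : 0 < 4)).1 (by rwa [this, one_mul])))
  exact le_antisymm ((e2 _ inf_le_left i).trans inf_le_right) ((e2 _ inf_le_right i').trans inf_le_left)

theorem FR.core_unique (hG : FR G) {M : Subgroup G} [M.Normal] [N.Normal] (hM : IsZGroup M) (hN : IsZGroup N)
    (h : M = ⊤ ∨ TV M ∨ TB 4 M ∨ TB 5 M) (h' : N = ⊤ ∨ TV N ∨ TB 4 N ∨ TB 5 N) : M = N := by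
  have key : ∀ {M N : Subgroup G} [M.Normal] [N.Normal], IsZGroup M → IsZGroup N → (M = ⊤ ∨ TV M ∨ TB 4 M ∨ TB 5 M) →
      (N = ⊤ ∨ TV N ∨ TB 4 N ∨ TB 5 N) → M ≤ N := by
    intro M N _ _ hM hN h h'
    rcases h' with rfl | h' | h' | h'
    · exact le_top
    · have k : ∀ n, n = 4 ∨ n = 5 → ¬ TB n M := fun n hn h =>
        absurd (h'.index ▸ (h.three hn).trans (index_dvd_of_le (h.le hn hN))) (by decide)
      rcases h with rfl | h | h | h
      · exact absurd (IsZGroup.of_surjective (f := (topEquiv (G := G)).toMonoidHom) topEquiv.surjective) h'.not_zg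
      exacts [(h.eq hG h').le, absurd h (k _ (by simp)), absurd h (k _ (by simp))]
    exacts [h'.le (by simp) hM, h'.le (by simp) hM]
  exact le_antisymm (key hM hN h h') (key hN hM h' h)

end Cfsg.Agent.Transfer.FC
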