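import Cfsg.Agent.Lib.Transfer.Q8
import Cfsg.Agent.Lib.Solv.PGrp

/-!
The Brauer–Suzuki theorem and Glauberman's Z*-theorem.
-/

set_option linter.unusedSectionVars false
set_option linter.unusedVariables false
set_option linter.style.haveILetI false
set_option linter.unusedSimpArgs false

namespace Cfsg.Agent.Transfer

open Subgroup Cfsg.Agent.Blk Cfsg.Agent.Char
open scoped ComplexConjugate

variable {G : Type*} [Group G] [Finite G] {M : Ideal AlgInt}

theorem commute_of_odd_of_normalizes {y r : G} {k : ℕ} (hy : orderOf y = 2 ^ k)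
    (hr : r ∈ normalizer (zpowers y : Set G)) (ho : Odd (orderOf r)) : Commute r y := by
  have h1 : (zpowers y).normalizerMonoidHom ⟨r, hr⟩ = 1 := by
    rw [← orderOf_eq_one_iff]
    have h2 := orderOf_map_dvd (zpowers y).normalizerMonoidHom ⟨r, hr⟩
    rw [Subgroup.orderOf_mk] at h2
    have h3 := orderOf_dvd_natCard ((zpowers y).normalizerMonoidHom ⟨r, hr⟩)
    rw [IsCyclic.card_mulAut, Nat.card_zpowers, hy] at h3
    have h4 : Nat.totient (2 ^ k) ∣ 2 ^ k := by
      rcases k with _ | k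
      · simp
      · rw [Nat.totient_prime_pow_succ Nat.prime_two]; simp [pow_succ]
    exact Nat.eq_one_of_dvd_coprimes ((odd_iff_coprime_two.1 ho).pow_right k) h2 (h3.trans h4)
  rw [← MonoidHom.mem_ker, normalizerMonoidHom_ker, mem_subgroupOf] at h1
  exact mem_centralizer_zpowers.1 h1

theorem IsSyl.factorization_card {p : ℕ} [Fact p.Prime] {P H : Subgroup G} (h : IsSyl p P H) :
    Nat.card P = p ^ (Nat.card H).factorization p := by
  obtain ⟨S, hS⟩ := h.exists_sylow_map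
  rw [← hS, card_map_of_injective H.subtype_injective, S.card_eq_multiplicity]

theorem IsSyl.hasNPC_two_of_isCyclic {P H : Subgroup G} (h : IsSyl 2 P H) (hP : IsCyclic P) :
    HasNormalPComplement 2 H := by
  obtain ⟨S, hS⟩ := h.exists_sylow_map
  refine Transfer.hasNPC_two_of_isCyclic S ?_
  subst hS
  exact isCyclic_of_surjective _ ((S : Subgroup H).equivMapOfInjective _
    H.subtype_injective).symm.surjective

/-- A Sylow 2-subgroup generated by `a` and an element `b` inverting it (dihedral or quaternion). -/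
structure InvData (S : Subgroup G) (a b : G) (m : ℕ) : Prop where
  syl : IsSyl 2 S ⊤
  one_le : 1 ≤ m
  ord : orderOf a = 2 ^ (m + 1)
  notMem : b ∉ zpowers a
  eq : S = closure {a, b}
  sq : b ^ 2 ∈ zpowers a
  cnj : b * a * b⁻¹ = a⁻¹

namespace InvData
variable {S : Subgroup G} {a b : G} {m : ℕ} (h : InvData S a b m)
include h

theorem mem_iff {x : G} : x ∈ S ↔ ∃ c ∈ zpowers a, x = c ∨ x = c * b := by
  rw [h.eq, mem_closure_pair_iff (mem_normalizer_zpowers_of_inv h.cnj) h.sq]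
  exact ⟨fun ⟨i, hi⟩ => ⟨_, ⟨i, rfl⟩, hi⟩, fun ⟨_, ⟨i, rfl⟩, hi⟩ => ⟨i, hi⟩⟩

theorem le : zpowers a ≤ S := fun x hx => h.mem_iff.2 ⟨x, hx, .inl rfl⟩

theorem mem_a : a ∈ S := h.le (mem_zpowers a)

theorem mem_b : b ∈ S := h.mem_iff.2 ⟨1, one_mem _, .inr (one_mul b).symm⟩

theorem card : Nat.card S = 2 ^ (m + 2) := by
  rw [h.eq, card_closure_pair (mem_normalizer_zpowers_of_inv h.cnj) h.sq h.notMem, h.ord,
    ← pow_succ']

theorem relIndex : (zpowers a).relIndex S = 2 := by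
  rw [h.eq, closure_pair_eq]
  exact relIndex_sup_zpowers (mem_normalizer_zpowers_of_inv h.cnj) h.sq h.notMem

theorem ord_t : orderOf (a ^ 2 ^ m) = 2 := by
  rw [orderOf_pow_of_dvd (by positivity) (by rw [h.ord]; exact pow_dvd_pow 2 (by omega)), h.ord,
    pow_succ, Nat.mul_div_cancel_left _ (by positivity)]

theorem sq_ne_one : a * a ≠ 1 := fun h1 => by
  have h2 : orderOf a ∣ 2 ^ 1 := orderOf_dvd_of_pow_eq_one (by rw [pow_one, pow_two, h1])
  rw [h.ord, Nat.pow_dvd_pow_iff_le_right one_lt_two] at h2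
  have := h.one_le
  omega

theorem inverts {x c : G} (hx : x ∈ S) (hx' : x ∉ zpowers a) (hc : c ∈ zpowers a) :
    x * c * x⁻¹ = c⁻¹ := by
  obtain ⟨d, hd, rfl | rfl⟩ := h.mem_iff.1 hx
  · exact absurd hd hx'
  · have h1 := inverts_of_mem_zpowers h.cnj hc
    have h2 := (commute_of_mem_zpowers hd (inv_mem hc)).eq
    calc d * b * c * (d * b)⁻¹ = d * (b * c * b⁻¹) * d⁻¹ := by group
      _ = _ := by rw [h1, h2, mul_inv_cancel_right]

theorem conj_cases {x c : G} (hx : x ∈ S) (hc : c ∈ zpowers a) :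
    x * c * x⁻¹ = c ∨ x * c * x⁻¹ = c⁻¹ := by
  by_cases hx' : x ∈ zpowers a
  · left; rw [(commute_of_mem_zpowers hx' hc).eq, mul_inv_cancel_right]
  · exact .inr (h.inverts hx hx' hc)

theorem mul_self_of_notMem {x : G} (hx : x ∈ S) (hx' : x ∉ zpowers a) : x * x = b ^ 2 := by
  obtain ⟨d, hd, rfl | rfl⟩ := h.mem_iff.1 hx
  · exact absurd hd hx'
  · rw [mul_self_of_inverts (inverts_of_mem_zpowers h.cnj hd), pow_two]

theorem central {y : G} (hy : y ∈ S) (hc : ∀ s ∈ S, Commute s y) : y * y = 1 := by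
  by_cases hy' : y ∈ zpowers a
  · have := inverts_of_mem_zpowers h.cnj hy'
    rwa [(hc b h.mem_b).eq, mul_inv_cancel_right, eq_inv_iff_mul_eq_one] at this
  · have := h.inverts hy hy' (mem_zpowers a)
    rw [← (hc a h.mem_a).eq, mul_inv_cancel_right, eq_inv_iff_mul_eq_one] at this
    exact absurd this h.sq_ne_one

theorem pg : IsPGroup 2 (zpowers a) := isPGroup_zpowers_of_orderOf h.ord

theorem isSyl_cent {y : G} (hy : y ∈ zpowers a) (h1 : y * y ≠ 1) : IsSyl 2 (zpowers a) (Ce1 y) := by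
  refine isSyl_of_maximal h.pg (fun c hc => mem_Ce1.2 (commute_of_mem_zpowers hc hy).eq)
    fun R hR h2 h3 => ?_
  by_contra h4
  obtain ⟨g, -, hg⟩ := h.syl.exists_cj_le hR le_top
  have h5 : Nat.card (zpowers a) < Nat.card R := card_lt_of_lt (lt_of_le_not_ge h3 h4)
  obtain ⟨n, hn⟩ := IsPGroup.iff_card.1 hR
  rw [Nat.card_zpowers, h.ord, hn, Nat.pow_lt_pow_iff_right one_lt_two] at h5
  have h6 : cj g R = S := eq_of_le_of_card_ge hg (by
    rw [card_cj, hn, h.card]; exact Nat.pow_le_pow_right two_pos h5)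
  have h7 := h.central (y := g * y * g⁻¹) (hg (conj_mem_cj (h3 hy))) fun s hs => by
    rw [← h6, mem_cj] at hs
    have := mem_Ce1.1 (h2 hs)
    calc s * (g * y * g⁻¹) = g * (g⁻¹ * s * g * y) * g⁻¹ := by group
      _ = _ := by rw [this]; group
  apply h1
  calc y * y = g⁻¹ * (g * y * g⁻¹ * (g * y * g⁻¹)) * g := by group
    _ = 1 := by rw [h7]; group

theorem npc_cent {y : G} (hy : y ∈ zpowers a) (h1 : y * y ≠ 1) :
    HasNormalPComplement 2 (Ce1 y) := (h.isSyl_cent hy h1).hasNPC_two_of_isCyclic inferInstance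

theorem fac_cent {y : G} (hy : y ∈ zpowers a) (h1 : y * y ≠ 1) :
    (Nat.card (Ce1 y)).factorization 2 = m + 1 := by
  have := (h.isSyl_cent hy h1).factorization_card
  rw [Nat.card_zpowers, h.ord] at this
  exact (Nat.pow_right_injective le_rfl this).symm

theorem conj_iff {y z : G} (hy : y ∈ zpowers a) (hz : z ∈ zpowers a) :
    IsConj y z ↔ z = y ∨ z = y⁻¹ := by
  refine ⟨fun h1 => ?_, ?_⟩
  · obtain ⟨g, rfl⟩ := isConj_iff.1 h1
    have h2 : zpowers (g * y * g⁻¹) = zpowers y :=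
      Solv.eq_of_isCyclic_of_card_eq inferInstance (zpowers_le.2 hz) (zpowers_le.2 hy)
        (by rw [Nat.card_zpowers, Nat.card_zpowers, orderOf_conj])
    have h3 : g ∈ normalizer (zpowers y : Set G) := mem_normalizer_zpowers (h2 ▸ mem_zpowers _)
    have h4 : S ≤ normalizer (zpowers y : Set G) := fun s hs => mem_normalizer_zpowers (by
      rcases h.conj_cases hs hy with h | h <;> simp [h])
    obtain ⟨s, hs, r, hr, rfl⟩ := (h.syl.mono h4 le_top).exists_mul_res h3
    obtain ⟨k, hk⟩ := pelt_of_mem h.pg hy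
    have h5 : res 2 (normalizer (zpowers y : Set G)) ≤ Ce1 y := res_le_iff.2 fun r h1 h2 =>
      mem_Ce1.2 (commute_of_odd_of_normalizes hk h1 (odd_iff_coprime_two.2 h2))
    have h6 : s * r * y * (s * r)⁻¹ = s * y * s⁻¹ := by
      calc s * r * y * (s * r)⁻¹ = s * (r * y) * r⁻¹ * s⁻¹ := by group
        _ = _ := by rw [mem_Ce1.1 (h5 hr)]; group
    rw [h6]; exact h.conj_cases hs hy
  · rintro (rfl | rfl)
    · exact IsConj.refl _
    · exact isConj_iff.2 ⟨b, inverts_of_mem_zpowers h.cnj hy⟩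

theorem exists_conj_mem {z : G} (hz : ∃ k : ℕ, orderOf z = 2 ^ k) : ∃ g : G, g * z * g⁻¹ ∈ S := by
  obtain ⟨g, -, hg⟩ := h.syl.exists_cj_le (Blk.isPGroup_zpowers hz) le_top
  exact ⟨g, hg (conj_mem_cj (mem_zpowers z))⟩

/-- pairing of columns at elements of the cyclic subgroup -/
theorem b0_pair [PMod M 2] {y z : G} (hy : y ∈ zpowers a) (h1 : y * y ≠ 1) (hz : z ∈ zpowers a)
    [Decidable (z = y ∨ z = y⁻¹)] :
    ∑ χ ∈ b0 M G, (χ : G → ℂ) y⁻¹ * conj ((χ : G → ℂ) z⁻¹) =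
      if z = y ∨ z = y⁻¹ then 2 ^ (m + 1) else 0 := by
  classical
  rw [Transfer.b0_pair (pelt_of_mem h.pg hy) (pelt_of_mem h.pg hz), h.conj_iff hy hz,
    b0_sum_sq_of_hasNPC (h.npc_cent hy h1), h.fac_cent hy h1]
  split_ifs <;> simp

/-- inner products of the columns attached to functions on the cyclic subgroup -/
theorem b0_inner [PMod M 2] [Fintype (zpowers a)] {θ η : zpowers a → ℂ}
    (hθ : ∀ y, y * y = 1 → θ y = 0) :
    ∑ χ ∈ b0 M G, (∑ y, θ y * (χ : G → ℂ) (y : G)⁻¹) * conj (∑ y, η y * (χ : G → ℂ) (y : G)⁻¹) =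
      2 ^ (m + 1) * ∑ y, θ y * conj (η y + η y⁻¹) := by
  classical
  rw [b0_inner_eq (fun y : zpowers a => (y : G)⁻¹) (fun y : zpowers a => (y : G)⁻¹), Finset.mul_sum]
  refine Finset.sum_congr rfl fun y _ => ?_
  by_cases hy : y * y = 1
  · simp [hθ y hy]
  have h1 : (y : G) * y ≠ 1 := fun h => hy (Subtype.ext h)
  simp only [h.b0_pair y.2 h1 (Subtype.prop _)]
  rw [Finset.sum_eq_add y y⁻¹ (fun h => hy (eq_inv_iff_mul_eq_one.1 h))]
  · simp only [true_or, if_true, Subgroup.coe_inv, or_true, map_add]; ring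
  · intro z _ hz
    rw [if_neg, mul_zero]
    rintro (h | h)
    exacts [hz.1 (Subtype.ext h), hz.2 (Subtype.ext h)]
  · simp
  · simp

section Quat
variable (hq : b ^ 2 = a ^ 2 ^ m)
include hq

theorem invol_eq {x : G} (hx : x ∈ S) (h2 : orderOf x = 2) : x = a ^ 2 ^ m := by
  by_cases hx' : x ∈ zpowers a
  · exact invol_eq_of_mem_zpowers hx' (pow_mem (mem_zpowers a) _) h2 h.ord_t
  · exact absurd ((hq.symm.trans (h.mul_self_of_notMem hx hx').symm).trans (mul_self_of_orderOf h2))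
      (ne_one_of_orderOf h.ord_t)

theorem uniq (x y : G) (hx : orderOf x = 2) (hy : orderOf y = 2) (hc : Commute x y) : x = y := by
  obtain ⟨g, -, hg⟩ := h.syl.exists_cj_le (isPGroup_closure_invol_of_commute
    (mul_self_of_orderOf hx) (mul_self_of_orderOf hy) hc) le_top
  have h1 := h.invol_eq hq (hg (conj_mem_cj (subset_closure (by simp) : x ∈ _)))
    (by rwa [orderOf_conj])
  have h2 := h.invol_eq hq (hg (conj_mem_cj (subset_closure (by simp) : y ∈ _)))
    (by rwa [orderOf_conj])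
  simpa using h1.trans h2.symm

theorem q8Data (hm : m = 1) (hG : ∀ K : Subgroup G, K.Normal → K.index = 2 → ¬ K ≠ ⊤) :
    Q8Data a := by
  classical
  subst hm
  have ht : a ^ 2 ^ 1 = a * a := by rw [pow_one, pow_two]
  refine ⟨h.ord, fun z hz => ?_, isConj_iff.2 ⟨b, h.cnj⟩, h.npc_cent (mem_zpowers a) h.sq_ne_one,
    h.fac_cent (mem_zpowers a) h.sq_ne_one, h.uniq hq⟩
  have key : ∀ y ∈ zpowers a, y = 1 ∨ y = a * a ∨ IsConj a y := fun y hy => by
    by_cases h1 : y * y = 1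
    · by_cases h2 : y = 1
      · exact .inl h2
      · exact .inr (.inl (ht ▸ h.invol_eq hq (h.le hy) (orderOf_eq_two h1 h2)))
    · refine .inr (.inr ((h.conj_iff (mem_zpowers a) hy).2 ?_))
      obtain ⟨k, hk, rfl⟩ := (mem_zpowers_iff_mem_range_orderOf.1 hy |> Finset.mem_image.1)
      rw [h.ord, Finset.mem_range] at hk
      have h4 : a ^ 4 = 1 := by rw [← pow_orderOf_eq_one a, h.ord]; rfl
      interval_cases k
      · simp at h1
      · simp
      · exact absurd (by rw [← pow_add, h4]) h1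
      · exact .inr (eq_inv_iff_mul_eq_one.2 (by rw [← pow_succ, h4]))
  have key2 : ∀ y g : G, g * y * g⁻¹ ∈ zpowers a → y = 1 ∨ IsConj (a * a) y ∨ IsConj a y := by
    intro y g hg
    have h1 : IsConj (g * y * g⁻¹) y := (isConj_iff.2 ⟨g, rfl⟩).symm
    rcases key _ hg with h2 | h2 | h2
    · exact .inl (by simpa using h2)
    · exact .inr (.inl (h2 ▸ h1))
    · exact .inr (.inr (h2.trans h1))
  obtain ⟨g, hg⟩ := h.exists_conj_mem hz
  by_contra h1
  have h2 : ∀ c : G, c * (g * z * g⁻¹) * c⁻¹ ∉ zpowers a := fun c hc =>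
    h1 (key2 z (c * g) (by simpa only [mul_assoc, mul_inv_rev] using hc))
  set u := g * z * g⁻¹
  have h3 : u * u = a * a := by
    rw [h.mul_self_of_notMem hg (by simpa using h2 1), hq, ht]
  have h4 : a * a * (a * a) = 1 := ht ▸ mul_self_of_orderOf h.ord_t
  have h5 : ∀ k : ℕ, u ^ (2 * k) = 1 ∨ u ^ (2 * k) = a * a := fun k => by
    rw [pow_mul, pow_two, h3]
    exact (mem_zpowers_iff_of_sq h4).1 (pow_mem (mem_zpowers _) k)
  obtain ⟨K, hK, h6, h7⟩ := thompson_transfer_gen (u := u)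
    (by obtain ⟨P, rfl⟩ := h.syl.exists_sylow; exact odd_index_sylow_two P) h.relIndex hg
    (by
      rintro c _ ⟨k, rfl⟩ hc
      rw [pow_succ] at hc
      rcases h5 k with h6 | h6 <;> rw [h6] at hc
      · exact h2 c (by simpa using hc)
      · refine h2 c ?_
        have : u = (a * a * u)⁻¹ := by
          rw [eq_inv_iff_mul_eq_one, ← h4, ← h3]
          simp only [mul_assoc]
        rw [this]
        simpa [mul_assoc] using inv_mem hc)
    (by
      rintro c _ ⟨k, rfl⟩ hc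
      rw [← two_mul] at hc ⊢
      rcases h5 k with h6 | h6 <;> rw [h6] at hc ⊢
      · simp
      · rw [h.invol_eq hq hc (by rw [orderOf_conj, ← ht, h.ord_t])]
        exact pow_mem (mem_zpowers a) _)
  exact hG K hK h6 fun h => h7 (h ▸ mem_top u)

theorem exists_ker_of_two_le [PMod M 2] (hm : 2 ≤ m) :
    ∃ χ ∈ b0 M G, χ ≠ irrOne G ∧ (χ : G → ℂ) (a ^ 2 ^ m) = (χ : G → ℂ) 1 := by
  classical
  haveI := Fintype.ofFinite (zpowers a)
  have hI : orderOf (Units.mk0 Complex.I Complex.I_ne_zero) = 4 := by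
    rw [← orderOf_units, Units.val_mk0]
    exact Complex.isPrimitiveRoot_I.eq_orderOf.symm
  set a' : zpowers a := ⟨a, mem_zpowers a⟩
  have hgen : ∀ y : zpowers a, y ∈ zpowers a' := fun ⟨_, k, rfl⟩ => ⟨k, rfl⟩
  have h4 : 4 ∣ 2 ^ m := pow_dvd_pow 2 hm
  set lam : zpowers a →* ℂˣ := monoidHomOfForallMemZpowers hgen
    (g' := Units.mk0 Complex.I Complex.I_ne_zero)
    (by rw [hI, Subgroup.orderOf_mk, h.ord]; exact h4.mul_right 2)
  have hla : (lam a' : ℂ) = Complex.I := by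
    rw [monoidHomOfForallMemZpowers_apply_gen]; rfl
  set θ : zpowers a → ℂ := (fun _ => 1) - fun y => (lam y : ℂ) with hθ
  have hθg : IsGeneralizedCharacter _ θ := isCharacter_one.isGen.sub (isIrrCharacter_units lam).isGen
  have hθ0 : ∀ y, y * y = 1 → θ y = 0 := fun y hy => by
    have : y = 1 ∨ y = a' ^ 2 ^ m := by
      by_cases h1 : y = 1
      · exact .inl h1
      · exact .inr (Subtype.ext (h.invol_eq hq (h.le y.2)
          (by rw [Subgroup.orderOf_coe]; exact orderOf_eq_two hy h1)))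
    rcases this with rfl | rfl
    · simp [hθ]
    · obtain ⟨c, hc⟩ := h4
      simp [hθ, hla, hc, pow_mul]
  choose c hc using fun χ : IrrCharacter G => hθg.classInner_eq_int (χ.2.isGen.res (zpowers a))
  have hcard : (Nat.card (zpowers a) : ℂ) = 2 ^ (m + 1) := by
    rw [Nat.card_zpowers, h.ord]; simp
  have h2m : (2 : ℂ) ^ (m + 1) ≠ 0 := pow_ne_zero _ two_ne_zero
  have hc' : ∀ χ : IrrCharacter G, ∑ y, θ y * (χ : G → ℂ) (y : G)⁻¹ = 2 ^ (m + 1) * c χ := by
    intro χ
    rw [← hc, classInner, hcard, mul_inv_cancel_left₀ h2m]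
    simp only [χ.2.isCharacter.apply_inv]
  have hs : ∀ k : ℕ, Complex.I ^ k ≠ 1 → ∑ y, (lam y : ℂ) ^ k = 0 := fun k hk => by
    have := sum_hom_units_eq_zero ((Units.coeHom ℂ).comp (lam ^ k)) fun h => hk (by
      simpa [hla] using DFunLike.congr_fun h a')
    simpa using this
  have hl4 : ∀ y, (lam y : ℂ) ^ 4 = 1 := fun y => by
    obtain ⟨k, rfl⟩ := hgen y
    simp only [map_zpow, Units.val_zpow_eq_zpow_val, hla]
    rw [← zpow_natCast, ← zpow_mul, mul_comm, zpow_mul]; simp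
  have hconj : ∀ y, conj (lam y : ℂ) = (lam y : ℂ) ^ 3 := fun y => by
    rw [conj_units_hom, Units.val_inv_eq_inv_val]
    exact inv_eq_of_mul_eq_one_right (by rw [← pow_succ', hl4])
  have hnorm : ∑ χ ∈ b0 M G, c χ ^ 2 = 3 := by
    have h1 := h.b0_inner (M := M) (η := θ) hθ0
    have h2 : ∀ y, θ y * conj (θ y + θ y⁻¹) = 3 - 3 * (lam y : ℂ) ^ 1 + (lam y : ℂ) ^ 2 -
        (lam y : ℂ) ^ 3 := fun y => by
      rw [hθg.apply_inv, map_add, Complex.conj_conj]
      simp only [hθ, Pi.sub_apply, map_sub, map_one, hconj]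
      linear_combination hl4 y
    simp only [hc', h2, Finset.sum_sub_distrib, Finset.sum_add_distrib, ← Finset.mul_sum] at h1
    rw [hs 1 (by simp [Complex.ext_iff]), hs 2 (by norm_num), hs 3 (by simp [Complex.ext_iff, pow_succ]),
      Finset.sum_const, Finset.card_univ, ← Nat.card_eq_fintype_card, nsmul_eq_mul, hcard] at h1
    simp only [map_mul, map_pow, map_ofNat, map_intCast] at h1
    have h3 : (2 : ℂ) ^ (m + 1) * 2 ^ (m + 1) * (∑ χ ∈ b0 M G, (c χ : ℂ) ^ 2 - 3) = 0 := by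
      rw [mul_sub, Finset.mul_sum, sub_eq_zero]
      rw [Finset.sum_congr rfl fun χ _ => (by ring : (2 : ℂ) ^ (m + 1) * 2 ^ (m + 1) * (c χ : ℂ) ^ 2 =
        2 ^ (m + 1) * c χ * (2 ^ (m + 1) * c χ)), h1]
      ring
    have h5 := sub_eq_zero.1 ((mul_eq_zero.1 h3).resolve_left (mul_ne_zero h2m h2m))
    exact_mod_cast h5
  have hc1 : c (irrOne G) = 1 := by
    have h1 := hc' (irrOne G)
    simp only [irrOne_apply, mul_one, hθ, Pi.sub_apply, Finset.sum_sub_distrib] at h1
    have h2 := hs 1 (by simp [Complex.ext_iff])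
    simp only [pow_one] at h2
    rw [h2, Finset.sum_const, Finset.card_univ, ← Nat.card_eq_fintype_card, nsmul_eq_mul, hcard,
      sub_zero] at h1
    exact_mod_cast (mul_left_cancel₀ h2m h1).symm
  have key : ∀ φ : IrrCharacter G → ℂ, (∀ y ∈ zpowers a, y * y ≠ 1 →
      ∑ χ ∈ b0 M G, φ χ * conj ((χ : G → ℂ) y) = 0) → ∑ χ ∈ b0 M G, c χ * φ χ = 0 := by
    intro φ hφ
    have h1 : ∑ χ ∈ b0 M G, (∑ y, θ y * (χ : G → ℂ) (y : G)⁻¹) * φ χ = 0 := by
      simp only [Finset.sum_mul]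
      rw [Finset.sum_comm]
      refine Finset.sum_eq_zero fun y _ => ?_
      by_cases hy : y * y = 1
      · simp [hθ0 y hy]
      · rw [← mul_zero (θ y), ← hφ y y.2 fun h => hy (Subtype.ext h), Finset.mul_sum]
        exact Finset.sum_congr rfl fun χ _ => by rw [χ.2.isCharacter.apply_inv]; ring
    simp only [hc', mul_assoc, ← Finset.mul_sum] at h1
    exact (mul_eq_zero.1 h1).resolve_left h2m
  have hpe : ∀ y ∈ zpowers a, IsPPart 2 y y := fun y hy => isPPart_self (pelt_of_mem h.pg hy)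
  obtain ⟨i, hi, j, hj, hij, hio, hjo, ci, cj, h5⟩ := exists_three_of_sum_sq one_mem_b0 hc1 hnorm
  have hsign : ∃ l, (∀ k ∈ b0 M G, k ≠ l → 0 ≤ c k) ∨ ∀ k ∈ b0 M G, k ≠ l → c k ≤ 0 := by
    have h6 : ∀ k ∈ b0 M G, k = irrOne G ∨ k = i ∨ k = j ∨ c k = 0 := fun k hk => by
      by_contra h7
      push Not at h7
      exact h7.2.2.2 (h5 k hk h7.1 h7.2.1 h7.2.2.1)
    rcases ci with ci | ci
    · refine ⟨j, .inl fun k hk h7 => ?_⟩
      rcases h6 k hk with rfl | rfl | rfl | h8 <;> first | omega | exact absurd rfl h7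
    rcases cj with cj | cj
    · refine ⟨i, .inl fun k hk h7 => ?_⟩
      rcases h6 k hk with rfl | rfl | rfl | h8 <;> first | omega | exact absurd rfl h7
    · refine ⟨irrOne G, .inr fun k hk h7 => ?_⟩
      rcases h6 k hk with rfl | rfl | rfl | h8 <;> first | omega | exact absurd rfl h7
  obtain ⟨l, hl⟩ := hsign
  obtain ⟨χ, h6, h7, -, h8⟩ := b0_exists_ker (M := M) (mul_self_of_orderOf h.ord_t) (a := c)
    (by omega)
    (key _ fun y hy h1 => b0_orth (isPPart_self pelt_one) (hpe y hy) fun h2 => h1 (by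
      rw [isConj_one_right.1 h2, one_mul]))
    (key _ fun y hy h1 => b0_orth (isPPart_self ⟨1, h.ord_t⟩) (hpe y hy) fun h2 => h1
      (mul_self_of_orderOf ((orderOf_of_isConj h2).symm.trans h.ord_t)))
    (key _ fun y hy h1 => b0_invol_rank_one (h.uniq hq) h.ord_t
      (dvd_orderOf_of_pelt (pelt_of_mem h.pg hy) fun h => h1 (by rw [h, one_mul]))) hl
  exact ⟨χ, h6, h7, h8⟩

/-- the character-theoretic core of the Brauer–Suzuki theorem -/
theorem exists_normal : ∃ K : Subgroup G, K.Normal ∧ K ≠ ⊤ ∧ a ^ 2 ^ m ∈ K := by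
  obtain ⟨M, hM⟩ := exists_isPModular Nat.prime_two
  haveI : PMod M 2 := ⟨hM⟩
  by_cases hG : ∀ K : Subgroup G, K.Normal → K.index = 2 → ¬ K ≠ ⊤
  · have : ∃ χ ∈ b0 M G, χ ≠ irrOne G ∧ (χ : G → ℂ) (a ^ 2 ^ m) = (χ : G → ℂ) 1 := by
      rcases h.one_le.eq_or_lt with h1 | h1
      · have := ((h.q8Data hq h1.symm hG).exists_ker_and_card (M := M)).1
        rwa [← h1, pow_one, pow_two]
      · exact h.exists_ker_of_two_le hq h1
    obtain ⟨χ, -, h1, h2⟩ := this
    exact ⟨charKer χ, χ.2.isCharacter.normal_charKer, χ.2.charKer_ne_top (irr_ne_one.1 h1),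
      χ.2.isCharacter.mem_charKer.2 h2⟩
  · push Not at hG
    obtain ⟨K, h1, h2, h3⟩ := hG
    exact ⟨K, h1, h3, hq ▸ h2 ▸ K.pow_index_mem b⟩

end Quat
end InvData

theorem IsSyl.isCyclic_or_quat {S : Subgroup G} (hS : IsSyl 2 S ⊤)
    (hU : ∀ x ∈ S, ∀ y ∈ S, orderOf x = 2 → orderOf y = 2 → Commute x y → x = y) :
    IsCyclic S ∨ ∃ a b m, InvData S a b m ∧ b ^ 2 = a ^ 2 ^ m := by
  rcases Solv.isCyclic_or_quaternion hS.pgroup (fun E hE h1 h2 h3 => by
    obtain ⟨H, hH, K, hK, h4, h5, h6⟩ := Solv.exists_two_subgroups_of_card_sq Nat.prime_two h1 h3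
    obtain ⟨x, hx, hx2⟩ := exists_invol_mem (H := H) (by rw [h4]; decide)
    obtain ⟨y, hy, hy2⟩ := exists_invol_mem (H := K) (by rw [h5]; decide)
    have h7 := hU x (hE (hH hx)) y (hE (hK hy)) hx2 hy2
      (congrArg Subtype.val (h2.is_comm.comm ⟨x, hH hx⟩ ⟨y, hK hy⟩))
    subst h7
    exact h6 ((eq_of_le_of_card_ge (zpowers_le.2 hx) (by rw [Nat.card_zpowers, hx2, h4])).symm.trans
      (eq_of_le_of_card_ge (zpowers_le.2 hy) (by rw [Nat.card_zpowers, hx2, h5])))) with h | h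
  · exact .inl h
  · obtain ⟨-, a, b, m, h1, h2, h3, h4, -, h5, h6⟩ := h
    exact .inr ⟨a, b, m, ⟨hS, h1, h2, h3, by rw [h4, closure_pair_eq],
      h5 ▸ pow_mem (mem_zpowers a) _, h6⟩, h5⟩

theorem isolated_sub {H : Subgroup G} {u : H} (hu : IsIsolatedInvolution (u : G)) :
    IsIsolatedInvolution u :=
  ⟨by rw [← Subgroup.orderOf_coe, hu.1], fun g hg =>
    Subtype.ext (hu.2 g (congrArg Subtype.val hg))⟩

theorem isolated_map {G' : Type*} [Group G'] [Finite G'] {f : G →* G'} (hf : Function.Surjective f)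
    {u : G} (hu : IsIsolatedInvolution u) (h : f u ≠ 1) : IsIsolatedInvolution (f u) := by
  refine isolated_of_odd (orderOf_eq_two (by rw [← map_mul, mul_self_of_orderOf hu.1, map_one]) h)
    fun g => ?_
  obtain ⟨g, rfl⟩ := hf g
  rw [← map_inv, ← map_mul, ← map_mul, ← map_mul]
  exact (isolated_odd hu g).of_dvd_nat (orderOf_map_dvd f _)

theorem odd_card_oddCore : Odd (Nat.card (oddCore G)) :=
  odd_iff_coprime_two.2 (Solv.coprime_card_pPrimeCore 2)

theorem le_oddCore {N : Subgroup G} [N.Normal] (h : Odd (Nat.card N)) : N ≤ oddCore G :=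
  Solv.le_pPrimeCore (odd_iff_coprime_two.1 h)

theorem invol_notMem_oddCore {u : G} (hu : orderOf u = 2) : u ∉ oddCore G := fun h =>
  odd_card_iff.1 odd_card_oddCore u h hu

theorem oddCore_eq_bot_iff :
    oddCore G = ⊥ ↔ ∀ N : Subgroup G, N.Normal → Odd (Nat.card N) → N = ⊥ :=
  ⟨fun h N _ hN => eq_bot_iff.2 (h ▸ le_oddCore hN),
    fun h => h _ inferInstance odd_card_oddCore⟩

theorem mem_of_pow_mem_coprime {H : Subgroup G} {y : G} {n : ℕ} (h : (orderOf y).Coprime n)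
    (hy : y ^ n ∈ H) : y ∈ H := by
  obtain ⟨m, hm⟩ := exists_pow_eq_self_of_coprime h.symm
  exact hm ▸ pow_mem hy m

/-- the character-theoretic step of the Z*-theorem. -/
theorem zstar_step [PMod M 2] {u v : G} (hu : IsIsolatedInvolution u) (hv : orderOf v = 2)
    (hn : ¬ IsConj u v) (hc : Commute u v)
    (ih : ∀ z : G, orderOf z = 2 → ∀ s : Ce1 z, IsIsolatedInvolution s →
      ∀ g, s * g * s⁻¹ * g⁻¹ ∈ oddCore (Ce1 z))
    {χ : IrrCharacter G} (hχ : χ ∈ b0 M G) :
    (χ : G → ℂ) u * (χ : G → ℂ) v = (χ : G → ℂ) 1 * (χ : G → ℂ) (u * v) := by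
  haveI := Fintype.ofFinite G
  have key : ∀ c : G, (χ : G → ℂ) (c * v * c⁻¹ * u) = (χ : G → ℂ) (u * v) := by
    intro c
    set t := c * v * c⁻¹ with ht
    have ht2 : orderOf t = 2 := by rw [ht, orderOf_conj, hv]
    have hu1 := mul_self_of_orderOf hu.1
    have ht1 := mul_self_of_orderOf ht2
    have hn' : ¬ IsConj t u := fun h => hn (h.symm.trans (isConj_iff.2 ⟨c, rfl⟩).symm)
    have h4 := isolated_orderOf_mul hu ht1 hn'
    obtain ⟨z, hz⟩ := exists_isPPart 2 (t * u)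
    have hz2 : orderOf z = 2 := by
      obtain ⟨k, hk⟩ := hz.pelt
      have h5 : 2 ^ k ∣ orderOf (t * u) := hk ▸ orderOf_dvd_of_mem_zpowers hz.mem_zpowers
      rcases k with _ | _ | k
      · exact absurd (by omega) (hz.eq_one_iff.1 (orderOf_eq_one_iff.1 hk))
      · exact hk
      · have : 2 ^ 2 ∣ orderOf (t * u) := (pow_dvd_pow 2 (by omega)).trans h5
        omega
    have hz1 := mul_self_of_orderOf hz2
    have htz : Commute z t :=
      commute_of_inverts_of_sq (inverts_of_mem_zpowers (inverts_mul_left ht1 hu1) hz.mem_zpowers) hz1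
    have huz : Commute z u :=
      commute_of_inverts_of_sq (inverts_of_mem_zpowers (inverts_mul_right ht1 hu1) hz.mem_zpowers) hz1
    obtain ⟨y, hy1, hy2, -, hy3⟩ := id hz
    have hyo : Odd (orderOf y) := Nat.odd_iff.2 (by omega)
    have hyz : y ∈ zpowers (t * u) := by
      have := hz.reg_mem_zpowers
      rwa [← hy1, inv_mul_cancel_left, hy1] at this
    have h5 : (χ : G → ℂ) (t * u) = (χ : G → ℂ) z := by
      rw [← hy1]
      refine b0_apply_mul ⟨1, hz2⟩ (v := ⟨y, mem_Ce1.2 hy2.symm⟩) ?_ hχ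
      have h6 := inv_mem (ih z hz2 ⟨u, mem_Ce1.2 huz.symm⟩ (isolated_sub hu) ⟨t, mem_Ce1.2 htz.symm⟩)
      refine mem_of_pow_mem_coprime (n := 2) ?_ ?_
      · rw [Subgroup.orderOf_mk]; exact odd_iff_coprime_two.1 hyo
      · convert h6 using 1
        ext
        simp only [pow_two, Subgroup.coe_mul, Subgroup.coe_inv, mul_inv_rev, inv_inv,
          inv_eq_of_orderOf hu.1, inv_eq_of_orderOf ht2]
        calc y * y = z * z * (y * y) := by rw [hz1, one_mul]
          _ = z * y * (z * y) := by rw [mul_assoc z y, ← mul_assoc y, ← hy2.eq]; group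
          _ = _ := by rw [hy1]; group
    obtain ⟨d, -, hd⟩ := exists_conj_of_inverts_odd (a := y) (s := u * z) (by
      rw [mul_inv_rev, ← mul_assoc, mul_assoc u, mul_assoc u, hy2.eq, mul_inv_cancel_right]
      exact inverts_of_mem_zpowers (inverts_mul_right ht1 hu1) hyz) hyo
    have h6 : y * (u * z) = t := by
      rw [← huz.eq, ← mul_assoc, ← hy2.eq, hy1, mul_assoc, hu1, mul_one]
    have h7 : d⁻¹ * c * v * (d⁻¹ * c)⁻¹ = u * z := by
      calc d⁻¹ * c * v * (d⁻¹ * c)⁻¹ = d⁻¹ * t * d := by rw [ht]; group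
        _ = _ := by rw [← h6, ← hd]; group
    obtain ⟨e, -, he1, he2⟩ := isolated_controls hu (H := ⊤) (le_normalizer (mem_top u))
      (A := {v}) (h := d⁻¹ * c) (mem_top _) (by simpa using hc.symm) (by
        intro w hw
        rw [Set.mem_singleton_iff.1 hw, h7]
        exact (Commute.refl u).mul_left huz)
    have h8 := (he2 v rfl).trans h7
    rw [h5, ← χ.2.isClassFunction.apply_conj (u * v) e]
    refine congrArg χ.1 ?_
    calc z = u * (u * z) := by rw [← mul_assoc, hu1, one_mul]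
      _ = u * e * v * e⁻¹ := by rw [← h8]; group
      _ = _ := by rw [← he1.eq]; group
  have h1 := χ.2.sum_conj_mul v u
  rw [Finset.sum_congr rfl fun x _ => key x, Finset.sum_const, Finset.card_univ, nsmul_eq_mul,
    ← Nat.card_eq_fintype_card] at h1
  have := χ.2.apply_one_ne_zero
  have := card_ne_zero' G
  field_simp at h1
  linear_combination -h1

theorem zstar_normal {u v : G} (hu : IsIsolatedInvolution u) (hv : orderOf v = 2) (hne : u ≠ v)
    (hc : Commute u v)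
    (ih : ∀ z : G, orderOf z = 2 → ∀ s : Ce1 z, IsIsolatedInvolution s →
      ∀ g, s * g * s⁻¹ * g⁻¹ ∈ oddCore (Ce1 z)) :
    ∃ K : Subgroup G, K.Normal ∧ K ≠ ⊤ ∧ u ∈ K := by
  obtain ⟨M, hM⟩ := exists_isPModular Nat.prime_two
  haveI : PMod M 2 := ⟨hM⟩
  have hu1 := mul_self_of_orderOf hu.1
  have hv1 := mul_self_of_orderOf hv
  have hn : ∀ w, Commute u w → u ≠ w → ¬ IsConj u w := fun w h1 h2 h3 => by
    obtain ⟨g, rfl⟩ := isConj_iff.1 h3
    exact h2 (hu.2 g h1).symm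
  have huv : orderOf (u * v) = 2 := orderOf_eq_two (by
    rw [mul_assoc, ← mul_assoc v, ← hc.eq, mul_assoc, hv1, mul_one, hu1])
    fun h => hne (by rw [eq_inv_of_mul_eq_one_left h, inv_eq_of_orderOf hv])
  by_contra hK
  push Not at hK
  have key : ∀ χ ∈ b0 M G, χ ≠ irrOne G → (χ : G → ℂ) 1 * conj ((χ : G → ℂ) v) +
      (χ : G → ℂ) u * conj ((χ : G → ℂ) v) = 0 := fun χ hχ h1 => by
    have e1 := zstar_step hu hv (hn v hc hne) hc ih hχ
    have e2 := zstar_step hu huv (hn _ ((Commute.refl u).mul_right hc)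
      fun h => ne_one_of_orderOf hv (by simpa using h)) ((Commute.refl u).mul_right hc) ih hχ
    rw [← mul_assoc, hu1, one_mul] at e2
    have e3 : (χ : G → ℂ) u - (χ : G → ℂ) 1 ≠ 0 := fun h =>
      hK _ χ.2.isCharacter.normal_charKer (χ.2.charKer_ne_top (irr_ne_one.1 h1))
        (χ.2.isCharacter.mem_charKer.2 (sub_eq_zero.1 h))
    have e4 : ((χ : G → ℂ) u - (χ : G → ℂ) 1) *
        (((χ : G → ℂ) 1 + (χ : G → ℂ) u) * (χ : G → ℂ) v) = 0 := by
      linear_combination (χ : G → ℂ) u * e1 + (χ : G → ℂ) 1 * e2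
    rcases mul_eq_zero.1 ((mul_eq_zero.1 e4).resolve_left e3) with h | h
    · rw [← add_mul, h, zero_mul]
    · simp [h]
  have o1 := b0_orth (M := M) (isPPart_self pelt_one) (isPPart_self ⟨1, hv⟩)
    fun h => ne_one_of_orderOf hv (isConj_one_right.1 h)
  have o2 := b0_orth (M := M) (isPPart_self ⟨1, hu.1⟩) (isPPart_self ⟨1, hv⟩) (hn v hc hne)
  have o3 := (congrArg₂ (· + ·) o1 o2).trans (add_zero 0)
  simp only [← Finset.sum_add_distrib] at o3
  rw [Finset.sum_eq_single (irrOne G) key fun h => absurd one_mem_b0 h] at o3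
  simp at o3

theorem comap_oddCore_le_of_central {z : G} (hz : z * z = 1) (hc : z ∈ center G)
    [(zpowers z).Normal] (hO : oddCore G = ⊥) :
    (oddCore (G ⧸ zpowers z)).comap (QuotientGroup.mk' (zpowers z)) ≤ zpowers z := by
  set L := (oddCore (G ⧸ zpowers z)).comap (QuotientGroup.mk' (zpowers z))
  have h1 : zpowers z ≤ L := fun x hx => by
    rw [mem_comap, QuotientGroup.mk'_apply, (QuotientGroup.eq_one_iff x).2 hx]; exact one_mem _
  have h2 : IsSyl 2 (zpowers z) L := ⟨h1, isPGroup_two_zpowers hz, by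
    have h3 : (zpowers z).relIndex L = Nat.card (oddCore (G ⧸ zpowers z)) := by
      conv_lhs => rw [← QuotientGroup.ker_mk' (zpowers z)]
      rw [relIndex_ker, map_comap_eq_self_of_surjective (QuotientGroup.mk'_surjective _)]
    rw [h3]; exact Solv.not_dvd_card_pPrimeCore⟩
  have h3 := hasNPC_sub_iff.1 (h2.hasNPC_two_of_isCyclic inferInstance)
  haveI : (res 2 L).Normal := normalizer_eq_top_iff.1 (top_le_iff.1
    ((normalizer_eq_top L).ge.trans (normalizer_le_normalizer_res L)))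
  have h4 : res 2 L = ⊥ := oddCore_eq_bot_iff.1 hO _ this (Nat.odd_iff.2 (by omega))
  rw [← h2.res_sup, h4, bot_sup_eq]

universe u in
theorem zstar_aux (n : ℕ) : ∀ (G : Type u) [Group G] [Finite G], Nat.card G = n → ∀ u : G,
    IsIsolatedInvolution u → ∀ g, u * g * u⁻¹ * g⁻¹ ∈ oddCore G := by
  induction n using Nat.strong_induction_on with | _ n ih => ?_
  intro G _ _ hn u hu
  subst hn
  have hquot : ∀ (N : Subgroup G) [N.Normal], N ≠ ⊥ → u ∉ N →
      ∀ g, u * g * u⁻¹ * g⁻¹ ∈ (oddCore (G ⧸ N)).comap (QuotientGroup.mk' N) := by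
    intro N _ hN huN g
    have h1 : Nat.card (G ⧸ N) < Nat.card G := by
      rw [card_eq_card_quotient_mul_card_subgroup N]
      exact lt_mul_of_one_lt_right Nat.card_pos ((one_lt_card_iff_ne_bot N).2 hN)
    have := ih _ h1 _ rfl _ (isolated_map (QuotientGroup.mk'_surjective N) hu
      (by rwa [QuotientGroup.mk'_apply, Ne, QuotientGroup.eq_one_iff])) (QuotientGroup.mk' N g)
    simpa only [mem_comap, map_mul, map_inv] using this
  by_cases hO : oddCore G = ⊥
  swap
  · intro g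
    have := hquot _ hO (invol_notMem_oddCore hu.1) g
    rwa [Solv.comap_mk_pPrimeCore (Solv.coprime_card_pPrimeCore 2)] at this
  suffices h : ∀ g, g * u * g⁻¹ = u by
    intro g
    have : u * g * u⁻¹ * g⁻¹ = u * (g * u * g⁻¹)⁻¹ := by group
    rw [this, h g, mul_inv_cancel]; exact one_mem _
  have hsub : ∀ H : Subgroup G, H ≠ ⊤ → ∀ s : H, IsIsolatedInvolution s →
      ∀ g, s * g * s⁻¹ * g⁻¹ ∈ oddCore H := fun H hH =>
    ih _ (by rw [← card_top (G := G)]; exact card_lt_of_lt (lt_top_iff_ne_top.2 hH)) _ rfl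
  by_cases hK : ∃ K : Subgroup G, K.Normal ∧ K ≠ ⊤ ∧ u ∈ K
  · obtain ⟨K, hK, h1, h2⟩ := hK
    intro g
    refine hu.2 g ?_
    have h3 := hsub K h1 ⟨u, h2⟩ (isolated_sub hu) ⟨_, hK.conj_mem u h2 g⟩
    have h4 := Solv.map_subtype_pPrimeCore_le (p := 2) K (mem_map_of_mem _ h3)
    rw [show pPrimeCore 2 G = ⊥ from hO, mem_bot] at h4
    exact commutatorElement_eq_one_iff_commute.1 h4
  by_cases hZ : ∃ z : G, orderOf z = 2 ∧ Ce1 z = ⊤
  · obtain ⟨z, hz, h1⟩ := hZ
    have h2 : z ∈ center G := mem_center_iff.2 fun g => mem_Ce1.1 (h1 ▸ mem_top g)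
    have hz1 := mul_self_of_orderOf hz
    intro g
    by_cases h3 : u = z
    · rw [h3, mem_center_iff.1 h2 g, mul_inv_cancel_right]
    haveI : (zpowers z).Normal := normal_of_le_center (zpowers_le.2 h2)
    have h4 := comap_oddCore_le_of_central hz1 h2 hO (hquot (zpowers z)
      (by rw [Ne, zpowers_eq_bot]; exact ne_one_of_orderOf hz) (by
        rw [mem_zpowers_iff_of_sq hz1]
        exact fun h => h.elim (ne_one_of_orderOf hu.1) h3) g)
    have h5 : u * g * u⁻¹ * g⁻¹ = u * (g * u * g⁻¹) := by rw [inv_eq_of_orderOf hu.1]; group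
    have h6 := eq_one_of_odd_of_mem (isPGroup_two_zpowers hz1) h4 (h5 ▸ isolated_odd hu g)
    rw [h5, mul_eq_one_iff_inv_eq, inv_eq_of_orderOf hu.1] at h6
    exact h6.symm
  push Not at hZ
  obtain ⟨S, hS, huS⟩ := exists_isSyl_ge (isPGroup_two_zpowers (mul_self_of_orderOf hu.1)) le_top
  replace huS : u ∈ S := huS (mem_zpowers u)
  by_cases hv : ∃ v ∈ S, orderOf v = 2 ∧ u ≠ v
  · obtain ⟨v, h1, h2, h3⟩ := hv
    exact absurd (zstar_normal hu h2 h3
      (mem_centralizer_singleton'.1 (isolated_le_centralizer hu hS.pgroup huS h1)).symm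
      fun z hz => hsub _ (hZ z hz)) hK
  push Not at hv
  rcases hS.isCyclic_or_quat (fun x hx y hy h1 h2 _ => (hv x hx h1).symm.trans (hv y hy h2)) with
    h | ⟨a, b, m, h, hq⟩
  · have h1 := hasNPC_sub_iff.1 (hS.hasNPC_two_of_isCyclic h)
    rw [res_top] at h1
    have h2 : pResidual 2 G = ⊥ := oddCore_eq_bot_iff.1 hO _ inferInstance (Nat.odd_iff.2 (by omega))
    have h3 := hS.res_sup
    rw [res_top, h2, bot_sup_eq] at h3
    intro g
    exact isolated_eq_of_mem hu hS.pgroup huS (h3 ▸ mem_top _)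
  · exact absurd ((h.invol_eq hq huS hu.1) ▸ h.exists_normal hq) hK

/-- Glauberman's Z*-theorem -/
theorem zstar {u : G} (hu : IsIsolatedInvolution u) (g : G) : u * g * u⁻¹ * g⁻¹ ∈ oddCore G :=
  zstar_aux _ G rfl u hu g

theorem zstar_center {u : G} (hu : IsIsolatedInvolution u) (hO : oddCore G = ⊥) : u ∈ center G :=
  mem_center_iff.2 fun g => by
    have := zstar hu g
    rw [hO, mem_bot] at this
    exact (commutatorElement_eq_one_iff_commute.1 this).symm

theorem zstar_sup {u : G} (hu : IsIsolatedInvolution u) : Ce1 u ⊔ oddCore G = ⊤ := by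
  rw [eq_top_iff]
  intro g _
  have h1 := zstar hu g
  have h2 : u * g * u⁻¹ * g⁻¹ = u * (g * u * g⁻¹) := by rw [inv_eq_of_orderOf hu.1]; group
  obtain ⟨c, hc, h3, -⟩ := isolated_exists_conj hu g
  have h4 : c ∈ oddCore G := zpowers_le.2 (h2 ▸ h1) hc
  have h5 : c⁻¹ * g ∈ Ce1 u := mem_Ce1.2 (by
    calc c⁻¹ * g * u = c⁻¹ * (g * u * g⁻¹) * g := by group
      _ = _ := by rw [← h3]; group)
  rw [← mul_inv_cancel_left c g]
  exact mul_mem (mem_sup_right h4) (mem_sup_left h5)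

end Cfsg.Agent.Transfer
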