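import Cfsg.Agent.Lib.Transfer.AutS
import Cfsg.Agent.Lib.Transfer.ZStar
import Cfsg.Agent.Lib.Transfer.PG
import Cfsg.Agent.Lib.Transfer.Hol
import Cfsg.Agent.Lib.Solv.PCyc
import Cfsg.Agent.Lib.BG.GL2
import Cfsg.Agent.Lib.Classical.GroupRec

set_option autoImplicit false
set_option linter.unusedSectionVars false

namespace Cfsg.Agent.Transfer
open Subgroup Cfsg.Agent.MS
open scoped commutatorElement

universe u
variable {G : Type u} [Group G] [Finite G]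

structure Ix2 (S U : Subgroup G) : Prop where
  le : U ≤ S
  idx : U.relIndex S = 2

theorem ix2_of_card {S U : Subgroup G} (h : U ≤ S) (hc : #S = 2 * #U) : Ix2 S U :=
  ⟨h, Nat.eq_of_mul_eq_mul_left (card_pos' U) (by rw [card_mul_relIndex h, hc, mul_comm])⟩

theorem ix2_sup {U : Subgroup G} {s : G} (h1 : s ∈ NN U) (h2 : s * s ∈ U) (h3 : s ∉ U) : Ix2 (U ⊔ zpowers s) U :=
  ⟨le_sup_left, relIndex_sup_zpowers h1 (sq s ▸ h2) h3⟩

namespace Ix2
variable {S U X K : Subgroup G} (h : Ix2 S U) {s t x u g : G}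
include h

theorem mul_iff (hs : s ∈ S) (ht : t ∈ S) : s * t ∈ U ↔ (s ∈ U ↔ t ∈ U) :=
  mul_mem_iff_of_index_two (H := U.subgroupOf S) h.idx (a := ⟨s, hs⟩) (b := ⟨t, ht⟩)

theorem mul_mem (hs : s ∈ S) (hs' : s ∉ U) (ht : t ∈ S) (ht' : t ∉ U) : s * t ∈ U :=
  (h.mul_iff hs ht).2 (iff_of_false hs' ht')

theorem div_mem (hs : s ∈ S) (hs' : s ∉ U) (ht : t ∈ S) (ht' : t ∉ U) : s * t⁻¹ ∈ U :=
  h.mul_mem hs hs' (inv_mem ht) (mt inv_mem_iff.1 ht')

theorem sq_mem (hs : s ∈ S) : s * s ∈ U := (h.mul_iff hs hs).2 Iff.rfl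

theorem card : #S = 2 * #U := by rw [← card_mul_relIndex h.le, h.idx, mul_comm]

theorem nn : S ≤ NN U := fun g hg => mem_normalizer_of_conj_mem fun u hu => by
  rw [h.mul_iff (S.mul_mem hg (h.le hu)) (inv_mem hg), h.mul_iff hg (h.le hu), inv_mem_iff]; tauto

theorem exists_out : ∃ s ∈ S, s ∉ U := SetLike.not_le_iff_exists.1 fun e => by
  have := h.idx; rw [relIndex_eq_one.2 e] at this; omega

theorem cases (hs : s ∈ S) (hs' : s ∉ U) (hx : x ∈ S) : x ∈ U ∨ ∃ u ∈ U, x = u * s :=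
  or_iff_not_imp_left.2 fun hx' => ⟨x * s⁻¹, h.div_mem hx hx' hs hs', by simp⟩

theorem le_of (hs : s ∈ S) (hs' : s ∉ U) (h1 : U ≤ K) (h2 : s ∈ K) : S ≤ K := fun x hx => by
  obtain hx | ⟨u, hu, rfl⟩ := h.cases hs hs' hx
  exacts [h1 hx, K.mul_mem (h1 hu) h2]

theorem eq_sup (hs : s ∈ S) (hs' : s ∉ U) : S = U ⊔ zpowers s :=
  le_antisymm (h.le_of hs hs' le_sup_left (mem_sup_right (mem_zpowers s))) (sup_le h.le (zpowers_le.2 hs))

theorem le_of_out (hK : ∀ s ∈ S, s ∉ U → s ∈ K) : S ≤ K := by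
  obtain ⟨s, hs, hs'⟩ := h.exists_out
  refine h.le_of hs hs' (fun u hu => (K.mul_mem_cancel_right (hK s hs hs')).1 (hK _ (S.mul_mem (h.le hu) hs) ?_))
    (hK s hs hs')
  rwa [U.mul_mem_cancel_left hu]

theorem inf (hX : X ≤ S) (hs : s ∈ X) (hs' : s ∉ U) : Ix2 X (X ⊓ U) := by
  refine ⟨inf_le_left, ?_⟩
  rw [inf_relIndex_left, relIndex_eq_two_iff]
  exact ⟨s, hs, fun b hb => by rw [h.mul_iff (hX hb) (hX hs)]; by_cases b ∈ U <;> simp [*]⟩

theorem eq_of_lt (h1 : U < K) (h2 : K ≤ S) : K = S := by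
  obtain ⟨s, hs, hs'⟩ := SetLike.exists_of_lt h1
  exact le_antisymm h2 (h.le_of (h2 hs) hs' h1.le hs)

theorem ne : U ≠ S := fun e => by obtain ⟨s, hs, hs'⟩ := h.exists_out; exact hs' (e ▸ hs)

theorem cj (g : G) : Ix2 (cj g S) (cj g U) := ⟨cj_mono g h.le, (relIndex_cj g U S).trans h.idx⟩

theorem der_le : ⁅S, S⁆ ≤ U := commutator_le.2 fun a ha b hb => by
  rw [commutatorElement_def, h.mul_iff (S.mul_mem (S.mul_mem ha hb) (inv_mem ha)) (inv_mem hb),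
    h.mul_iff (S.mul_mem ha hb) (inv_mem ha), h.mul_iff ha hb, inv_mem_iff, inv_mem_iff]
  tauto

theorem odd_cc (hS : IsPGroup 2 S) (ho : Odd (orderOf g)) (h1 : g ∈ NN S) (h2 : g ∈ CC U) : g ∈ CC S := by
  refine mem_cc_of_coprime hS h.le (odd_iff_coprime_two.1 ho) (commutator_le.2 fun a ha b hb => ?_) h2
  have h3 : b ∈ NN S := (zpowers_le.2 h1) hb
  have h4 : b ∈ NN U := (zpowers_le.2 (cc_le_nn _ h2)) hb
  have e : ⁅a, b⁆ = a * (b * a⁻¹ * b⁻¹) := by simp [commutatorElement_def, mul_assoc]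
  rw [e, h.mul_iff ha (conj_mem_of_mem_normalizer h3 (inv_mem ha)), ← (mem_normalizer_iff.1 h4 _), inv_mem_iff]

theorem odd_mem (ho : Odd (orderOf g)) (h1 : g ∈ S) : g ∈ U :=
  mem_of_pow_mem_coprime (odd_iff_coprime_two.1 ho) (sq g ▸ h.sq_mem h1)

omit h in
theorem coatom (h : Ix2 ⊤ U) : IsCoatom U := ⟨h.ne, fun _ hK => h.eq_of_lt hK le_top⟩

end Ix2

theorem exists_ix2 {S B : Subgroup G} (hS : IsPGroup 2 S) (h : B < S) : ∃ D, B ≤ D ∧ Ix2 S D :=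
  let ⟨D, h1, h2, h3, _⟩ := Comp.exists_relIndex_eq_prime hS h
  ⟨D, h1, h2, h3⟩

theorem ix2_of_coatom (hG : IsPGroup 2 G) {M : Subgroup G} (hM : IsCoatom M) : Ix2 ⊤ M := by
  obtain ⟨D, h1, h2⟩ := exists_ix2 (hG.to_subgroup ⊤) hM.lt_top
  rwa [(hM.le_iff.1 h1).resolve_left h2.ne] at h2

structure A2 (S U : Subgroup G) : Prop extends Ix2 S U where
  ab : IsMulCommutative U

namespace A2
variable {S U X : Subgroup G} (h : A2 S U) {s t x u v : G}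
include h

theorem comm (hu : u ∈ U) (hv : v ∈ U) : u * v = v * u := comm_iff.1 h.ab u hu v hv

theorem conj_mem (hs : s ∈ S) (hu : u ∈ U) : s * u * s⁻¹ ∈ U := conj_mem_of_mem_normalizer (h.nn hs) hu

theorem conj_in (hu : u ∈ U) (hv : v ∈ U) : u * v * u⁻¹ = v := by rw [h.comm hu hv, mul_inv_cancel_right]

theorem conj_eq (hs : s ∈ S) (hs' : s ∉ U) (ht : t ∈ S) (ht' : t ∉ U) (hu : u ∈ U) :
    s * u * s⁻¹ = t * u * t⁻¹ := by
  rw [← h.conj_in (h.div_mem hs hs' ht ht') (h.conj_mem ht hu)]; group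

theorem cent (hs : s ∈ S) (hs' : s ∉ U) (hu : u ∈ U) (hc : s * u = u * s) : u ∈ CC S :=
  le_C1_iff.1 (h.le_of hs hs' (fun _ hv => mem_C1.2 (h.comm hv hu)) (mem_C1.2 hc))

theorem sq_cent (hs : s ∈ S) (hs' : s ∉ U) : s * s ∈ CC S := h.cent hs hs' (h.sq_mem hs) (mul_assoc _ _ _).symm

theorem inf' (hX : X ≤ S) (hs : s ∈ X) (hs' : s ∉ U) : A2 X (X ⊓ U) := ⟨h.inf hX hs hs', ab_mono h.ab inf_le_right⟩

theorem ab_of (hs : s ∈ S) (hs' : s ∉ U) (hc : U ≤ C1 s) : IsMulCommutative S :=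
  ab_iff.2 (h.le_of hs hs' (fun _ hu => h.cent hs hs' hu (mem_C1.1 (hc hu)).symm)
    (le_C1_iff.1 (h.le_of hs hs' hc (self_mem_C1 s))))

theorem out_of_nonab (hX : ¬ IsMulCommutative X) : ∃ s ∈ X, s ∉ U :=
  SetLike.not_le_iff_exists.1 fun e => hX (ab_mono h.ab e)

theorem center_le_U (hn : ¬ IsMulCommutative S) : S ⊓ CC S ≤ U := fun x hx => by_contra fun hx' =>
  hn (h.ab_of hx.1 hx' (h.le.trans (le_C1_iff.2 hx.2)))

theorem center_le (hX : X ≤ S) (hn : ¬ IsMulCommutative X) : X ⊓ CC X ≤ CC S := fun x hx => by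
  obtain ⟨s, hs, hs'⟩ := h.out_of_nonab hn
  exact h.cent (hX hs) hs' ((h.inf' hX hs hs').center_le_U hn hx).2 (hx.2 s hs)

theorem cc_eq (hn : ¬ IsMulCommutative S) : S ⊓ CC U = U :=
  le_antisymm (fun x hx => by_contra fun hx' => hn (h.ab_of hx.1 hx' (le_C1_iff.2 hx.2))) (le_inf h.le (ab_cc h.ab))

theorem sq_out (u s : G) : u * s * (u * s) = u * (s * u * s⁻¹) * (s * s) := by group

theorem conj_out (u s : G) : u * s * u⁻¹ = u * (s * u * s⁻¹)⁻¹ * s := by group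

theorem cj (g : G) : A2 (cj g S) (cj g U) := ⟨h.toIx2.cj g, ab_cj h.ab g⟩

end A2

section Q8
open QuaternionGroup

set_option synthInstance.maxSize 1024 in
theorem q8_facts : (∀ x : QuaternionGroup 2, x * x = 1 → x = 1 ∨ x = a 2) ∧
    (∀ x : QuaternionGroup 2, x * x ≠ 1 → x * x = a 2 ∧ ∃ y, y * x * y⁻¹ = x⁻¹) ∧
    (∀ x y : QuaternionGroup 2, x * x ≠ 1 → x * y = y * x → y = 1 ∨ y = x ∨ y = x * x ∨ y = x⁻¹) ∧
    ∀ x y z w : QuaternionGroup 2, w * w ≠ 1 → x * y ≠ y * x → x * z ≠ z * x → y * z ≠ z * y →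
      w = x ∨ w = x⁻¹ ∨ w = y ∨ w = y⁻¹ ∨ w = z ∨ w = z⁻¹ := by
  refine ⟨by decide, by decide, by decide, by decide +kernel⟩

theorem card_aut_q8 : #(MulAut (QuaternionGroup 2)) = 24 := by
  have h1 : #{p : QuaternionGroup 2 × QuaternionGroup 2 // p.1 * p.2 ≠ p.2 * p.1} = 24 := by
    rw [Nat.card_eq_fintype_card]; decide
  rw [← h1]
  refine Nat.card_eq_of_bijective (fun φ => ⟨(φ (a 1), φ (xa 0)), by
    simp only [← map_mul, ne_eq, EmbeddingLike.apply_eq_iff_eq]; decide⟩) ⟨fun φ ψ e => ?_, ?_⟩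
  · have e := Prod.ext_iff.1 (congrArg Subtype.val e)
    exact MulEquiv.toMonoidHom_injective (MonoidHom.eq_of_eqOn_dense (quaternion_closure_eq_top 2)
      (by rintro _ (rfl | rfl); exacts [e.1, e.2]))
  · rintro ⟨⟨x, y⟩, hxy⟩
    have h2 : ∀ x y : QuaternionGroup 2, x * y ≠ y * x → x ^ (2 * 2) = 1 ∧ y * y = x ^ 2 ∧ x * y = y * x⁻¹ := by decide
    obtain ⟨h3, h4, h5⟩ := h2 x y hxy
    let f := Classical.quaternionHom (n := 2) x y h3 h4 h5
    have h6 : f (a 1) = x := pow_one x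
    have h7 : f (xa 0) = y := mul_one y
    have h8 : Function.Injective f := (injective_iff_map_eq_one f).2 (by
      revert f h3 h4 h5 hxy x y; decide +kernel)
    exact ⟨MulEquiv.ofBijective f (Finite.injective_iff_bijective.1 h8), Subtype.ext (Prod.ext h6 h7)⟩

abbrev IsQ8 (Q : Subgroup G) : Prop := Nonempty (Q ≃* QuaternionGroup 2)

theorem isQ8_of {i j : G} (hi : orderOf i = 4) (h1 : j * j = i * i) (h2 : j * i * j⁻¹ = i⁻¹) (h3 : j ∉ zpowers i) :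
    IsQ8 (zpowers i ⊔ zpowers j) :=
  closure_pair_eq i j ▸ nonempty_quaternion_closure (n := 2) hi h2 (by rw [sq, sq, h1]) h3

namespace IsQ8
variable {Q : Subgroup G} (h : IsQ8 Q) {x y z w g : G}
include h

theorem card : #Q = 8 := by rw [Nat.card_congr h.some.toEquiv, Nat.card_eq_fintype_card, QuaternionGroup.card]
theorem pg : IsPGroup 2 Q := IsPGroup.of_card (n := 3) h.card
theorem cj (g : G) : IsQ8 (cj g Q) := ⟨(cjEquiv g Q).symm.trans h.some⟩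

theorem exists_t : ∃ t ∈ Q, orderOf t = 2 ∧ (∀ x ∈ Q, x * x = 1 → x = 1 ∨ x = t) ∧
    ∀ x ∈ Q, x * x ≠ 1 → x * x = t ∧ ∃ y ∈ Q, y * x * y⁻¹ = x⁻¹ := by
  obtain ⟨e⟩ := h
  refine ⟨e.symm (a 2), (e.symm _).2, ?_, fun x hx h1 => ?_, fun x hx h1 => ?_⟩
  · rw [orderOf_coe, MulEquiv.orderOf_eq]; exact orderOf_eq_two (by decide) (by decide)
  · have := q8_facts.1 (e ⟨x, hx⟩) (by rw [← map_mul, e.map_eq_one_iff]; exact Subtype.ext h1)
    rw [e.map_eq_one_iff, ← e.eq_symm_apply] at this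
    exact this.imp (congrArg Subtype.val) (congrArg Subtype.val)
  · obtain ⟨h2, y, h3⟩ := q8_facts.2.1 (e ⟨x, hx⟩) (by
      rw [← map_mul, ne_eq, e.map_eq_one_iff]; exact fun e => h1 (congrArg Subtype.val e))
    rw [← map_mul, ← e.eq_symm_apply] at h2
    obtain ⟨y, rfl⟩ := e.surjective y
    rw [← map_inv, ← map_inv, ← map_mul, ← map_mul] at h3
    exact ⟨congrArg Subtype.val h2, y, y.2, congrArg Subtype.val (e.injective h3)⟩

theorem mem_of_comm (hx : x ∈ Q) (hy : y ∈ Q) (h1 : x * x ≠ 1) (h2 : x * y = y * x) : y ∈ zpowers x := by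
  obtain ⟨e⟩ := h
  have := q8_facts.2.2.1 (e ⟨x, hx⟩) (e ⟨y, hy⟩) (by
    rw [← map_mul, ne_eq, e.map_eq_one_iff]; exact fun e => h1 (congrArg Subtype.val e))
    (by rw [← map_mul, ← map_mul]; exact congrArg e (Subtype.ext h2))
  simp only [← map_mul, ← map_inv, e.map_eq_one_iff, EmbeddingLike.apply_eq_iff_eq, Subtype.ext_iff] at this
  rcases this with rfl | rfl | rfl | rfl
  exacts [one_mem _, mem_zpowers _, mul_mem (mem_zpowers _) (mem_zpowers _), inv_mem (mem_zpowers _)]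

theorem six (hx : x ∈ Q) (hy : y ∈ Q) (hz : z ∈ Q) (hw : w ∈ Q) (h1 : w * w ≠ 1) (h2 : x * y ≠ y * x)
    (h3 : x * z ≠ z * x) (h4 : y * z ≠ z * y) : w = x ∨ w = x⁻¹ ∨ w = y ∨ w = y⁻¹ ∨ w = z ∨ w = z⁻¹ := by
  obtain ⟨e⟩ := h
  have := q8_facts.2.2.2 (e ⟨x, hx⟩) (e ⟨y, hy⟩) (e ⟨z, hz⟩) (e ⟨w, hw⟩)
  simp only [← map_mul, ← map_inv, ne_eq, e.map_eq_one_iff, EmbeddingLike.apply_eq_iff_eq, Subtype.ext_iff] at this
  exact this h1 h2 h3 h4

theorem ord4 (hx : x ∈ Q) (h1 : x * x ≠ 1) : orderOf x = 4 := by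
  obtain ⟨t, -, h2, -, h3⟩ := h.exists_t
  refine orderOf_eq_prime_pow (p := 2) (n := 1) (by rwa [pow_one, sq]) ?_
  rw [show x ^ 2 ^ (1 + 1) = x * x * (x * x) by rw [← sq, ← sq, ← pow_mul]; rfl, (h3 x hx h1).1, mul_self_of_orderOf h2]

theorem ix2 (hx : x ∈ Q) (h1 : x * x ≠ 1) : Ix2 Q (zpowers x) :=
  ix2_of_card (zpowers_le.2 hx) (by rw [h.card, Nat.card_zpowers, h.ord4 hx h1])

theorem exists_four : ∃ x ∈ Q, x * x ≠ 1 := by
  obtain ⟨e⟩ := h
  refine ⟨e.symm (a 1), (e.symm _).2, fun h1 => ?_⟩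
  have : e.symm (a 1) * e.symm (a 1) = 1 := Subtype.ext h1
  rw [← map_mul, e.symm.map_eq_one_iff] at this
  exact absurd this (by decide)

theorem not_ab : ¬ IsMulCommutative Q := fun hab => by
  obtain ⟨x, hx, h1⟩ := h.exists_four
  obtain ⟨y, hy, h2⟩ := (h.ix2 hx h1).exists_out
  exact h2 (h.mem_of_comm hx hy h1 (comm_iff.1 hab x hx y hy))

theorem center_sq (hx : x ∈ Q ⊓ CC Q) : x * x = 1 := by_contra fun h1 =>
  h.not_ab (ab_mono (ab_of_cyc (cyc_zpowers x)) fun y hy => h.mem_of_comm hx.1 hy h1 (hx.2 y hy).symm)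

theorem conj_notMem (ho : Odd (orderOf g)) (h1 : g ∈ NN Q) (h2 : g ∉ CC Q) (hx : x ∈ Q) (h3 : x * x ≠ 1) :
    g * x * g⁻¹ ∉ zpowers x := fun h4 => h2 ((h.ix2 hx h3).odd_cc h.pg ho h1 (mem_centralizer_zpowers.2
  (commute_of_odd_of_normalizes (k := 2) (h.ord4 hx h3) (mem_normalizer_zpowers h4) ho)))

theorem trans (ho : Odd (orderOf g)) (h1 : g ∈ NN Q) (h2 : g ∉ CC Q) (hx : x ∈ Q) (h3 : x * x ≠ 1) (hy : y ∈ Q)
    (h4 : y * y ≠ 1) : ∃ c ∈ Q ⊔ zpowers g, c * x * c⁻¹ = y := by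
  have a1 : ∀ c x : G, x * x ≠ 1 → c * x * c⁻¹ * (c * x * c⁻¹) ≠ 1 := fun c x h e => h (by rwa [conj_mul, conj_eq_one_iff] at e)
  have a2 := conj_mem_of_mem_normalizer h1 hx
  have a3 := conj_mem_of_mem_normalizer h1 a2
  have a4 : g * (g * x * g⁻¹) * g⁻¹ = g * g * x * (g * g)⁻¹ := by group
  have a5 := h.six hx a2 a3 hy h4 (fun e => h.conj_notMem ho h1 h2 hx h3 (h.mem_of_comm hx a2 h3 e))
    (fun e => h.conj_notMem (odd_orderOf_of_mem_zpowers ho (mul_mem (mem_zpowers g) (mem_zpowers g))) (mul_mem h1 h1)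
      (fun e => h2 (mem_of_pow_mem_coprime (odd_iff_coprime_two.1 ho) (sq g ▸ e))) hx h3
      (a4 ▸ h.mem_of_comm hx a3 h3 e))
    (fun e => h.conj_notMem ho h1 h2 a2 (a1 _ _ h3) (h.mem_of_comm a2 a3 (a1 _ _ h3) e))
  obtain ⟨t, -, -, -, a6⟩ := h.exists_t
  obtain ⟨q, hq, a7⟩ := (a6 x hx h3).2
  have b1 : q ∈ Q ⊔ zpowers g := mem_sup_left hq
  have b2 : g ∈ Q ⊔ zpowers g := mem_sup_right (mem_zpowers g)
  rcases a5 with rfl | rfl | rfl | rfl | rfl | rfl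
  · exact ⟨1, one_mem _, by simp⟩
  · exact ⟨q, b1, a7⟩
  · exact ⟨g, b2, rfl⟩
  · exact ⟨g * q, mul_mem b2 b1, by rw [conj_inv, ← a7]; group⟩
  · exact ⟨g * g, mul_mem b2 b2, a4.symm⟩
  · exact ⟨g * g * q, mul_mem (mul_mem b2 b2) b1, by rw [conj_inv, conj_inv, ← a7]; group⟩

theorem card_center : #(Q ⊓ CC Q : Subgroup G) = 2 := by
  obtain ⟨t, ht, h1, h2, h3⟩ := h.exists_t
  rw [← h1, ← Nat.card_zpowers]
  refine congrArg (fun H : Subgroup G => #H) (le_antisymm (fun x hx => ?_) (zpowers_le.2 ⟨ht, fun y hy => ?_⟩))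
  · rcases h2 x hx.1 (h.center_sq hx) with rfl | rfl
    exacts [one_mem _, mem_zpowers _]
  · by_cases e : y * y = 1
    · rcases h2 y hy e with rfl | rfl <;> simp
    · rw [← (h3 y hy e).1, mul_assoc]

theorem relIndex_cc : (CC Q).relIndex Q = 4 := by
  have := card_inf_mul_relIndex (CC Q) Q
  rw [inf_comm, h.card_center, h.card] at this; omega

theorem relIndex_dvd : (CC Q).relIndex (NN Q) ∣ 24 := by
  have := card_dvd_of_injective _ (QuotientGroup.kerLift_injective Q.normalizerMonoidHom)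
  rwa [normalizerMonoidHom_ker, Nat.card_congr (MulAut.congr h.some).toEquiv, card_aut_q8] at this

end IsQ8
end Q8

def Ess (B : Subgroup G) : Prop := ∃ g ∈ NN B, Odd (orderOf g) ∧ g ∉ CC B

theorem ess_iff {B : Subgroup G} : Ess B ↔ ¬ res 2 (NN B) ≤ CC B := by
  simp only [Ess, res_le_iff, odd_iff_coprime_two, not_forall, exists_prop]

theorem Ess.cj {B : Subgroup G} (h : Ess B) (c : G) : Ess (cj c B) :=
  let ⟨g, h1, h2, h3⟩ := h
  ⟨c * g * c⁻¹, cj_normalizer c B ▸ conj_mem_cj h1, orderOf_conj c g ▸ h2, cj_centralizer c B ▸ mt conj_mem_cj_iff.1 h3⟩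

theorem ess_cj {B : Subgroup G} {c : G} : Ess (cj c B) ↔ Ess B := ⟨fun h => cj_inv_cj c B ▸ h.cj c⁻¹, fun h => h.cj c⟩

theorem not_ess_of_cyc {B : Subgroup G} (hB : IsPGroup 2 B) (h : IsCyclic B) : ¬ Ess B := by
  rintro ⟨g, h1, h2, h3⟩
  obtain ⟨a, ha, rfl⟩ := exists_zpowers h
  obtain ⟨m, hm⟩ := Solv.exists_orderOf_eq_pow hB ha
  exact h3 (mem_centralizer_zpowers.2 (commute_of_odd_of_normalizes hm h1 h2))

theorem exists_odd_of_relIndex {D N : Subgroup G} (h : 3 ∣ D.relIndex N) : ∃ g ∈ N, Odd (orderOf g) ∧ g ∉ D := by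
  by_contra! hn
  obtain ⟨n, h1⟩ := relIndex_res (p := 2) N
  have := h.trans (h1 ▸ relIndex_dvd_of_le_left N (res_le_iff.2 fun g h1 h2 => hn g h1 (odd_iff_coprime_two.2 h2)))
  exact absurd (Nat.prime_three.dvd_of_dvd_pow this) (by decide)

theorem ess_of_six {B D : Subgroup G} (h1 : CC B ≤ D) (h : D.relIndex (NN B) = 6) : Ess B :=
  let ⟨g, h2, h3, h4⟩ := exists_odd_of_relIndex (h ▸ (by decide : 3 ∣ 6))
  ⟨g, h2, h3, fun e => h4 (h1 e)⟩

theorem odd_mem_cc {B C : Subgroup G} (hB : IsPGroup 2 B) (hn : B ≤ NN C) {g : G} (ho : Odd (orderOf g))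
    (h : g ∈ B ⊔ C) : g ∈ C := by
  obtain ⟨k, hk⟩ := BG.relIndex_eq_pow hB C
  refine mem_of_pow_mem_coprime ((odd_iff_coprime_two.1 ho).pow_right k) ?_
  rw [← hk, ← relIndex_sup_of_le_normalizer hn]
  exact Solv.pow_relIndex_mem le_sup_right (sup_le hn (le_nn _)) h

theorem not_ess_of_two {B : Subgroup G} (h : (CC B).relIndex (NN B) = 2) : ¬ Ess B := fun ⟨_, h1, h2, h3⟩ =>
  h3 ((⟨cc_le_nn B, h⟩ : Ix2 _ _).odd_mem h2 h1)

theorem not_ess_of_two' {B : Subgroup G} (hB : IsPGroup 2 B) (h : (B ⊔ CC B).relIndex (NN B) = 2) : ¬ Ess B :=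
  fun ⟨_, h1, h2, h3⟩ => h3 (odd_mem_cc hB (nn_cc (le_nn B)) h2
    ((⟨sup_le (le_nn B) (cc_le_nn B), h⟩ : Ix2 _ _).odd_mem h2 h1))

theorem two_or_six {D N : Subgroup G} (h1 : D.relIndex N ∣ 6) (hn : N ≤ NN D) {s : G} (hs : s ∈ N) (h2 : s ∉ D)
    (h3 : IsPGroup 2 (zpowers s)) : D.relIndex N = 2 ∨ D.relIndex N = 6 := by
  have h4 : ¬ Odd (D.relIndex N) := fun ho => by
    obtain ⟨m, hm⟩ := Solv.exists_orderOf_eq_pow h3 (mem_zpowers s)
    have := Solv.pow_relIndex_mem (inf_le_right : D ⊓ N ≤ N) (nn_inf hn (le_nn N)) hs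
    rw [inf_relIndex_right] at this
    exact h2 (mem_of_pow_mem_coprime (hm ▸ (Nat.coprime_two_left.2 ho).pow_left m) this.1)
  have := Nat.le_of_dvd (by decide) h1
  generalize D.relIndex N = k at *
  interval_cases k <;> simp_all (config := {decide := true})

theorem fusion_ess (P : Sylow 2 G) (r : G → G → Prop) (hsymm : ∀ x ∈ P, ∀ y ∈ P, r x y → r y x)
    (htrans : ∀ x ∈ P, ∀ y ∈ P, ∀ z ∈ P, r x y → r y z → r x z) (hP : ∀ s ∈ P, ∀ x ∈ P, r x (s * x * s⁻¹))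
    (hE : ∀ B ≤ (P : Subgroup G), (P : Subgroup G) ⊓ CC B ≤ B → Ess B → ∀ k ∈ NN B, ∀ x ∈ B, r x (k * x * k⁻¹))
    {x g : G} (hx : x ∈ P) (hg : g * x * g⁻¹ ∈ P) : r x (g * x * g⁻¹) := by
  refine fusion_invariant_of_centric P r (fun x hx => by simpa using hP 1 (one_mem _) x hx) hsymm htrans
    (fun k hk x hx => ?_) (fun B h1 _ h2 h3 _ => hE B h1.le h2 (ess_iff.2 h3)) x g hx hg
  by_cases e : Ess (P : Subgroup G)
  · exact hE _ le_rfl inf_le_left e k hk x hx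
  · obtain ⟨c, hc, s, hs, rfl⟩ := ((isSyl_top P).mono (le_nn _) le_top).exists_res_mul hk
    have := conj_eq_of_cc (not_not.1 (mt ess_iff.2 e) hc) (conj_mem_of_mem_normalizer (le_nn _ hs) hx)
    rw [show c * s * x * (c * s)⁻¹ = c * (s * x * s⁻¹) * c⁻¹ by group, this]
    exact hP s hs x hx

theorem inf_res_le (P : Sylow 2 G) {Y : Subgroup G} (h1 : ⁅(P : Subgroup G), (P : Subgroup G)⁆ ≤ Y)
    (hE : ∀ B ≤ (P : Subgroup G), (P : Subgroup G) ⊓ CC B ≤ B → Ess B → ∀ k ∈ NN B, ∀ x ∈ B, k * x * k⁻¹ * x⁻¹ ∈ Y) :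
    (P : Subgroup G) ⊓ pResidual 2 G ≤ Y := by
  refine (inf_le_inf_left _ le_sup_right).trans ((sylow_inf_commutator_sup_pResidual P).le.trans
    (focalSubgroup_le_of fun x hx k hk => fusion_ess P (fun x y => y * x⁻¹ ∈ Y) (fun x _ y _ h => ?_)
      (fun x _ y _ z _ h h' => ?_) (fun s hs x hx => h1 (commutator_mem_commutator hs hx)) hE hx hk))
  · simpa using Y.inv_mem h
  · simpa [mul_assoc] using Y.mul_mem h' h

theorem npc_ess (P : Sylow 2 G) (hE : ∀ B ≤ (P : Subgroup G), (P : Subgroup G) ⊓ CC B ≤ B → ¬ Ess B) :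
    HasNormalPComplement 2 G :=
  hasNPC_of_res_normalizer_le' P fun B h1 _ h2 => not_not.1 (mt ess_iff.2 (hE B h1 h2))

theorem comm_mem_res {g : G} (ho : Odd (orderOf g)) (x : G) : g * x * g⁻¹ * x⁻¹ ∈ pResidual 2 G := by
  have h := mem_pResidual_of_coprime (odd_iff_coprime_two.1 ho)
  have := mul_mem h (Normal.conj_mem inferInstance _ (inv_mem h) x)
  simpa only [mul_assoc] using this

theorem res_data (P : Sylow 2 G) {Y : Subgroup G} (h : (P : Subgroup G) ⊓ pResidual 2 G = Y) :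
    (pResidual 2 G).index = Y.relIndex P ∧ (∀ Q : Sylow 2 (pResidual 2 G), Nonempty ((Q : Subgroup (pResidual 2 G)) ≃* Y)) ∧
      ∀ H : Subgroup (pResidual 2 G), H.index ≠ 2 := by
  refine ⟨?_, fun Q => ?_, pResidual_two_eq_top_iff.1 (res_eq_self_iff.1 res_pResidual)⟩
  · rw [← h, inf_relIndex_left, ← relIndex_top_right, ← pResidual_sup_sylow P, relIndex_sup_left]
  · obtain ⟨g, -, hg⟩ := (h ▸ isSyl_inf_normal P (pResidual 2 G)).exists_cj_eq (isSyl_map_subtype Q)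
    exact ⟨((equivMapOfInjective _ _ (pResidual 2 G).subtype_injective).trans (cjEquiv g _)).trans
      (MulEquiv.subgroupCongr hg)⟩

theorem no_two_of_le (P : Sylow 2 G) (h : (P : Subgroup G) ≤ pResidual 2 G) (H : Subgroup G) : H.index ≠ 2 :=
  pResidual_two_eq_top_iff.1 (by rw [← pResidual_sup_sylow P, sup_eq_left.2 h]) H

theorem mem_zpowers_pow_iff {a u : G} {m k : ℕ} (ha : orderOf a = 2 ^ m) (hk : k ≤ m) (hu : u ∈ zpowers a) :
    u ∈ zpowers (a ^ 2 ^ k) ↔ u ^ 2 ^ (m - k) = 1 := by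
  have h1 : orderOf (a ^ 2 ^ k) = 2 ^ (m - k) := by
    rw [orderOf_pow_of_dvd (by positivity) (ha ▸ pow_dvd_pow 2 hk), ha, Nat.pow_div hk two_pos]
  rw [← orderOf_dvd_iff_pow_eq_one, ← h1]
  refine ⟨orderOf_dvd_of_mem_zpowers, fun h => cyc_le (cyc_zpowers a) (zpowers_le.2 hu)
    (zpowers_le.2 (pow_mem (mem_zpowers a) _)) (by rwa [Nat.card_zpowers, Nat.card_zpowers]) (mem_zpowers u)⟩

theorem orderOf_two_pow {a : G} {m k : ℕ} (ha : orderOf a = 2 ^ m) (hk : k ≤ m) : orderOf (a ^ 2 ^ k) = 2 ^ (m - k) := by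
  rw [orderOf_pow_of_dvd (by positivity) (ha ▸ pow_dvd_pow 2 hk), ha, Nat.pow_div hk two_pos]

theorem ess_hol (h : ¬ IsPGroup 2 (MulAut G)) : Ess ((⊤ : Subgroup G).map hl) := by
  obtain ⟨φ, hφ⟩ := not_forall.1 h
  obtain ⟨k, hk⟩ := exists_pow_coprime (p := 2) φ
  exact ⟨hr (φ ^ 2 ^ k), hr_mem_normalizer_char _ _, by rwa [orderOf_injective hr hr_injective, odd_iff_coprime_two],
    fun e => hφ ⟨k, hr_eq_one_of_mem_centralizer e⟩⟩

theorem not_isPGroup_aut {B : Subgroup G} (h : Ess B) : ¬ IsPGroup 2 (MulAut B) := fun hp => by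
  obtain ⟨g, h1, h2, h3⟩ := h
  have := eq_one_of_coprime_of_isPGroup hp (x := B.normalizerMonoidHom ⟨g, h1⟩)
    ((odd_iff_coprime_two.1 h2).coprime_dvd_left ((orderOf_map_dvd _ _).trans (orderOf_mk g h1).dvd))
  rw [← MonoidHom.mem_ker, normalizerMonoidHom_ker] at this
  exact h3 this

theorem Ix2.map {G' : Type u} [Group G'] [Finite G'] {f : G →* G'} (hf : Function.Injective f) {S U : Subgroup G}
    (h : Ix2 S U) : Ix2 (S.map f) (U.map f) :=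
  ix2_of_card (map_mono h.le) (by rw [card_map_of_injective hf, card_map_of_injective hf, h.card])

theorem Ix2.sub {S U K : Subgroup G} (h : Ix2 S U) (hK : S ≤ K) : Ix2 (S.subgroupOf K) (U.subgroupOf K) :=
  ⟨subgroupOf_mono _ h.le, (relIndex_subgroupOf hK).trans h.idx⟩

theorem ess_cyc {T A : Subgroup G} (hT : IsPGroup 2 T) (h : Ix2 T A) (hA : IsCyclic A) (he : Ess T) :
    IsKleinFour T ∨ IsQ8 T := by
  obtain ⟨g, h1, h2, h3⟩ := he
  obtain ⟨c, hc, rfl⟩ := exists_zpowers hA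
  obtain ⟨m, hm⟩ := Solv.exists_orderOf_eq_pow hT (h.le hc)
  have a1 : ∀ g ∈ NN T, Odd (orderOf g) → g ∉ CC T → ∀ c, orderOf c = 2 ^ m → Ix2 T (zpowers c) →
      g * c * g⁻¹ ∉ zpowers c := fun g h1 h2 h3 c hm h h4 =>
    h3 (h.odd_cc hT h2 h1 (mem_centralizer_zpowers.2 (commute_of_odd_of_normalizes hm (mem_normalizer_zpowers h4) h2)))
  have a2 : ∀ g ∈ NN T, Ix2 T (zpowers (g * c * g⁻¹)) := fun g hg => by
    have := h.cj g; rwa [cj_nn hg, cj_zpowers] at this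
  have a3 : ∀ {c d : G}, Ix2 T (zpowers c) → Ix2 T (zpowers d) → c ∉ zpowers d → d ∉ zpowers c := fun h1 h2 h3 h4 =>
    h3 (eq_of_card_le (zpowers_le.2 h4) (by have := h1.card; have := h2.card; omega) ▸ mem_zpowers _)
  set y := g * c * g⁻¹ with hy
  have b1 : y ∉ zpowers c := a1 g h1 h2 h3 c hm h
  have b2 := a1 (g * g) (mul_mem h1 h1) (odd_orderOf_of_mem_zpowers h2 (mul_mem (mem_zpowers g) (mem_zpowers g)))
    (fun e => h3 (mem_of_pow_mem_coprime (odd_iff_coprime_two.1 h2) (sq g ▸ e))) c hm h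
  have b3 := a1 g h1 h2 h3 y ((orderOf_conj g c).trans hm) (a2 g h1)
  rw [show g * y * g⁻¹ = g * g * c * (g * g)⁻¹ by rw [hy]; group] at b3
  have b4 := a2 _ (mul_mem h1 h1)
  have hyT : y ∈ T := (a2 g h1).le (mem_zpowers y)
  have b5 := b4.div_mem (h.le hc) (a3 b4 h b2) hyT (a3 b4 (a2 g h1) b3)
  have b6 : g * (c * c) * g⁻¹ = c * c := by
    have e : g * (c * c) * g⁻¹ ∈ zpowers c := by rw [← conj_mul]; exact h.sq_mem hyT
    refine commute_iff_conj.1 (commute_of_odd_of_normalizes (k := m - 1) ?_ (mem_normalizer_zpowers (cyc_le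
      (cyc_zpowers c) (zpowers_le.2 e) (zpowers_le.2 (mul_mem hc hc)) ?_ (mem_zpowers _))) h2)
    · rcases m with _ | m
      · rw [pow_zero, orderOf_eq_one_iff] at hm; simp [hm]
      · rw [← sq]; exact orderOf_two_pow (k := 1) hm (by omega)
    · rw [Nat.card_zpowers, Nat.card_zpowers, orderOf_conj]
  have b7 : y * y = c * c := by rw [hy, conj_mul, b6]
  have b8 : c * y⁻¹ * (c * y⁻¹) = ⁅c, y⁻¹⁆ := by
    calc c * y⁻¹ * (c * y⁻¹) = c * y⁻¹ * c⁻¹ * (c * c) * y⁻¹ := by group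
      _ = _ := by rw [← b7, commutatorElement_def]; group
  have b9 : ⁅c, y⁻¹⁆ ∈ zpowers c := h.der_le (commutator_mem_commutator (h.le hc) (inv_mem hyT))
  have b10 : ⁅c, y⁻¹⁆ * ⁅c, y⁻¹⁆ = 1 := by
    rw [← sq, ← comm_pow_left (Solv.commute_of_mem_zpowers b9), sq, ← b7, commutatorElement_def]; group
  obtain ⟨w, hw, e⟩ | e := Solv.exists_pow_eq_or_mem Nat.prime_two ((orderOf_conj (g * g) c).trans hm) b5
  · obtain ⟨k, rfl⟩ := exists_pow_eq hw
    rw [← pow_mul, mul_comm k, pow_mul, sq, conj_mul, show g * g * (c * c) * (g * g)⁻¹ =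
      g * (g * (c * c) * g⁻¹) * g⁻¹ by group, b6, b6] at e
    exact absurd (inv_mem_iff.1 (((zpowers c).mul_mem_cancel_left hc).1 (e ▸ pow_mem (mul_mem hc hc) k))) b1
  have b11 : orderOf c ∣ orderOf (c * y⁻¹) := orderOf_conj (g * g) c ▸ orderOf_dvd_of_mem_zpowers e
  by_cases e1 : c * c = 1
  · refine .inl (klein_of_elem (elem_two_of_mul_self fun x hx => ?_) ?_)
    · have := h.sq_mem hx
      obtain hx | ⟨u, hu, rfl⟩ := h.cases hyT b1 hx
      · rcases (mem_zpowers_iff_of_sq e1).1 hx with rfl | rfl; exacts [mul_one _, e1]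
      · rcases (mem_zpowers_iff_of_sq e1).1 hu with rfl | rfl
        · rw [one_mul, b7, e1]
        · rcases (mem_zpowers_iff_of_sq e1).1 this with e | e
          · exact e
          · rw [mul_assoc, mul_eq_left, ← mul_assoc, ← eq_inv_iff_mul_eq_one, eq_comm, inv_eq_iff_mul_eq_one,
              ← mul_assoc, b7, e1, one_mul] at e
            exact absurd (by rw [hy, e]; simp) b1
    · rw [h.card, Nat.card_zpowers, orderOf_eq_two e1 fun e => b1 (by rw [hy, e]; simp)]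
  have b12 : ⁅c, y⁻¹⁆ ≠ 1 := fun e => e1 (sq c ▸ orderOf_dvd_iff_pow_eq_one.1
    (b11.trans (orderOf_dvd_of_pow_eq_one (by rw [sq, b8, e]))))
  have b13 : c * c * (c * c) = 1 := by
    rw [← sq, ← sq, ← pow_mul]
    exact orderOf_dvd_iff_pow_eq_one.1 (b11.trans (orderOf_dvd_of_pow_eq_one (by rw [pow_mul, sq, sq, b8, b10])))
  have b14 := invol_eq_of_mem_zpowers b9 (mul_mem hc hc) (orderOf_eq_two b10 b12) (orderOf_eq_two b13 e1)
  rw [h.eq_sup hyT b1]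
  refine .inr (isQ8_of (orderOf_eq_prime_pow (p := 2) (n := 1) (by rwa [pow_one, sq])
    (by rw [← b13, ← sq, ← sq, ← pow_mul]; rfl)) b7 ?_ b1)
  rw [commutatorElement_def, mul_assoc, mul_assoc, mul_right_inj] at b14
  conv_lhs => rw [← b14]
  group

end Cfsg.Agent.Transfer
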