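import Cfsg.Agent.Lib.Transfer.ZStar
import Cfsg.Agent.Lib.Transfer.Hol
import Cfsg.Agent.Lib.MS.Base2
import Cfsg.Agent.Lib.FT.Final

set_option autoImplicit false
set_option linter.unusedSectionVars false

namespace Cfsg.Agent.Transfer
open Subgroup Cfsg.Agent.MS

universe u
variable {G : Type u} [Group G] [Finite G]

theorem odd_sol {H : Subgroup G} (h : Odd #H) : Group.IsSolvable H := PF.odd_solvable h

section
variable {p : ℕ} [hp : Fact p.Prime] {H P K : Subgroup G} {x : G}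

/-- a local criterion for a central element of a Sylow subgroup to be weakly closed -/
theorem iso_crit (hP : IsSyl p P H) (hx : x ∈ P) (hxc : P ≤ C1 x)
    (h : ∀ B ≤ P, x ∈ B → IsSyl p (P ⊓ NN B) (H ⊓ NN B) →
      (∀ D, B < D → D ≤ H → IsPGroup p D → D ≤ C1 x → H ⊓ NN D ≤ C1 x) → H ⊓ NN B ≤ C1 x)
    {g : G} (hg : g ∈ H) (hgx : g * x * g⁻¹ ∈ P) : g * x * g⁻¹ = x := by
  have hPC : IsSyl p P (H ⊓ C1 x) := hP.mono (le_inf hP.le hxc) inf_le_left
  have key : ∀ n, ∀ D : Subgroup G, #G - #D = n → x ∈ D → D ≤ H → IsPGroup p D → D ≤ C1 x →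
      H ⊓ NN D ≤ C1 x := by
    intro n
    induction n using Nat.strong_induction_on with
    | _ n ih =>
    intro D hn hxD hDH hD hDC
    have ih' : ∀ E : Subgroup G, #D < #E → x ∈ E → E ≤ H → IsPGroup p E → E ≤ C1 x → H ⊓ NN E ≤ C1 x := by
      intro E h1 h2 h3 h4 h5
      have := E.card_le_card_group
      exact ih _ (by omega) E rfl h2 h3 h4 h5
    obtain ⟨R, hR, hDR⟩ := exists_isSyl_ge (H := H ⊓ NN D ⊓ C1 x) hD (le_inf (le_inf hDH (le_nn D)) hDC)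
    obtain ⟨c, hc, hcR⟩ := hPC.exists_cj_le hR.pgroup
      (le_inf (hR.le.trans (inf_le_left.trans inf_le_left)) (hR.le.trans inf_le_right))
    have hcH : cj c H = H := cj_eq_of_mem hc.1
    have hcC : cj c (C1 x) = C1 x := cj_eq_of_mem hc.2
    have hRs : IsSyl p R (H ⊓ NN D) := by
      refine isSyl_of_maximal hR.pgroup (hR.le.trans inf_le_left) fun R1 h1 h2 h3 => ?_
      by_contra h4
      obtain ⟨y, hy1, hy2, hy3⟩ := exists_mem_normalizer_notMem h1 (lt_of_le_of_ne h3 fun e => h4 e.ge)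
      rcases eq_or_lt_of_le hDR with e | hlt
      · subst e
        have h5 : IsSyl p D (H ⊓ C1 x) := syl_of_nn (le_inf hDH hDC) (by rwa [inf_right_comm])
        have h6 := (hP.of_card_le hD hDH (hPC.card_eq h5).le).eq_of_le h1 (h2.trans inf_le_left) h3
        exact h4 h6.le
      · have h5 := ih' R (card_lt_of_lt hlt) (hDR hxD) (hR.le.trans (inf_le_left.trans inf_le_left)) hR.pgroup
          (hR.le.trans inf_le_right) ⟨(h2 hy1).1, hy2⟩
        have h6 := hR.eq_of_le (h1.to_le (inf_le_left : R1 ⊓ C1 x ≤ R1)) (inf_le_inf_right _ h2)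
          (le_inf h3 (hR.le.trans inf_le_right))
        exact hy3 (h6.le ⟨hy1, h5⟩)
    have hR' : IsSyl p (cj c R) (H ⊓ NN (cj c D)) := by
      have := hRs.cj c
      rwa [cj_inf, hcH, cj_normalizer] at this
    have h1 := h (cj c D) ((cj_mono c hDR).trans hcR) (by
        have := conj_mem_cj (g := c) hxD
        rwa [conj_eq_of_C1 hc.2] at this)
      (hR'.of_card_le (hP.pgroup.to_le inf_le_left) (inf_le_inf_right _ hP.le)
        (card_le_of_le (le_inf hcR (hR'.le.trans inf_le_right))))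
      (fun E h1 h2 h3 h4 => ih' E (by rw [← card_cj c D]; exact card_lt_of_lt h1) (h1.le (by
        have := conj_mem_cj (g := c) hxD
        rwa [conj_eq_of_C1 hc.2] at this)) h2 h3 h4)
    rw [← cj_le_cj_iff (g := c), cj_inf, hcH, hcC, cj_normalizer]
    exact h1
  have hP' : IsSyl p (cj g⁻¹ P) H := hP.cj_of_mem_normalizer (le_nn H (inv_mem hg))
  have hx' : x ∈ cj g⁻¹ P := by rw [mem_cj]; simpa using hgx
  have h1 : cj g⁻¹ P ≤ C1 x := by
    by_contra h1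
    have hlt : cj g⁻¹ P ⊓ C1 x < cj g⁻¹ P := lt_of_le_of_ne inf_le_left fun e => h1 (e.ge.trans inf_le_right)
    obtain ⟨y, hy1, hy2, hy3⟩ := exists_mem_normalizer_notMem hP'.pgroup hlt
    exact hy3 ⟨hy1, key _ (cj g⁻¹ P ⊓ C1 x) rfl ⟨hx', self_mem_C1 x⟩ (inf_le_left.trans hP'.le)
      (hP'.pgroup.to_le inf_le_left) inf_le_right ⟨hP'.le hy1, hy2⟩⟩
  obtain ⟨c, hc, hc'⟩ := hPC.exists_cj_eq (hP'.mono (le_inf hP'.le h1) inf_le_left)
  rw [cj_cj] at hc'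
  replace hc := mem_inf.1 hc
  have h2 : c * g⁻¹ ∈ C1 x := key _ _ rfl hx hP.le hP.pgroup hxc ⟨H.mul_mem hc.1 (H.inv_mem hg), mem_normalizer_iff_cj.2 hc'⟩
  have h3 : g ∈ C1 x := by simpa using (C1 x).inv_mem ((C1 x).mul_mem ((C1 x).inv_mem hc.2) h2)
  exact conj_eq_of_C1 h3

theorem mem_cc_of_coprime {B B0 : Subgroup G} (hB : IsPGroup p B) (h0 : B0 ≤ B) {m : G}
    (hm : (orderOf m).Coprime p) (h1 : ⁅B, zpowers m⁆ ≤ B0) (h2 : m ∈ CC B0) : m ∈ CC B := by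
  have : zpowers m ≤ CC B := by
    refine cop_stable ?_ h1 (zpowers_le.2 h2)
    obtain ⟨k, hk⟩ := (hB.to_le h0).exists_card_eq
    rw [hk, Nat.card_zpowers]
    exact hm.pow_right k
  exact this (mem_zpowers m)

theorem iso_crit2 (hP : IsSyl p P H) (hx : x ∈ P) (hxc : P ≤ C1 x) (hK : H ≤ NN K) (hr : res p H ≤ K)
    (h : ∀ B ≤ P, P ⊓ CC (B ⊓ K) ≤ B → IsSyl p (P ⊓ NN B) (H ⊓ NN B) →
      ∀ n ∈ H ⊓ NN B, (orderOf n).Coprime p → n ∈ C1 x)
    {g : G} (hg : g ∈ H) (hgx : g * x * g⁻¹ ∈ P) : g * x * g⁻¹ = x := by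
  refine iso_crit hP hx hxc (fun B hB hxB hR ih => ?_) hg hgx
  have hBp := hP.pgroup.to_le hB
  set N := H ⊓ NN B with hN
  set M := N ⊓ CC (B ⊓ K) with hM
  have hN0 : N ≤ NN (B ⊓ K) := nn_inf inf_le_right (inf_le_left.trans hK)
  have hNM : N ≤ NN M := nn_inf (le_nn N) (nn_cc hN0)
  have hBN : B ≤ N := le_inf (hB.trans hP.le) (le_nn B)
  have hRM := hR.inf_of_le_normalizer (K := M) inf_le_left hNM
  by_cases h1 : P ⊓ NN B ⊓ M ≤ B
  · have h2 : P ⊓ CC (B ⊓ K) ≤ B := by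
      by_contra h2
      have hn : B ≤ NN (P ⊓ CC (B ⊓ K)) := nn_inf (nn_of_le hB) (nn_cc (hBN.trans hN0))
      have hlt : B < B ⊔ P ⊓ CC (B ⊓ K) := lt_of_le_of_ne le_sup_left fun e => h2 (le_sup_right.trans e.ge)
      obtain ⟨y, hy1, hy2, hy3⟩ := exists_mem_normalizer_notMem
        (hP.pgroup.to_le (sup_le hB inf_le_left)) hlt
      obtain ⟨a, ha, b, hb, rfl⟩ := (mem_sup_r hn).1 hy1
      have h3 : b ∈ NN B := by simpa using mul_mem (inv_mem (le_nn B ha)) hy2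
      exact hy3 (mul_mem ha (h1 ⟨⟨hb.1, h3⟩, ⟨hP.le hb.1, h3⟩, hb.2⟩))
    rw [← hR.res_sup]
    exact sup_le (res_le_iff.2 (h B hB h2 hR)) (inf_le_left.trans hxc)
  · have hMC : M ≤ C1 x := by
      rw [← hRM.res_sup]
      refine sup_le (res_le_iff.2 fun m hm hm' => ?_) (inf_le_left.trans (inf_le_left.trans hxc))
      refine cc_le_C1 hxB (mem_cc_of_coprime hBp inf_le_left hm' (le_inf (comm_le_left (zpowers_le.2 hm.1.2)) ?_) hm.2)
      exact (commutator_mono le_rfl (zpowers_le.2 (hr (mem_res hm.1.1 hm')))).trans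
        (comm_le_right (hB.trans (hP.le.trans hK)))
    have hBM : N ≤ NN (B ⊔ M) := nn_sup inf_le_right hNM
    have hD := hR.inf_of_le_normalizer (K := B ⊔ M) (sup_le hBN inf_le_left) hBM
    have hlt : B < P ⊓ NN B ⊓ (B ⊔ M) := lt_of_le_of_ne (le_inf (le_inf hB (le_nn B)) le_sup_left)
      fun e => h1 (le_trans (inf_le_inf_left _ le_sup_right) e.ge)
    have h3 := ih _ hlt (inf_le_left.trans (inf_le_left.trans hP.le)) hD.pgroup
      (inf_le_left.trans (inf_le_left.trans hxc))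
    rw [← frattini hD (sup_le hBN inf_le_left) hBM]
    exact sup_le (sup_le (hB.trans hxc) hMC) (le_trans (inf_le_inf_right _ inf_le_left) h3)

theorem isSyl_sup {S T : Subgroup G} (hS : IsSyl p S K) (hT : IsPGroup p T) (h1 : T ≤ NN S) (h2 : T ≤ NN K) :
    IsSyl p (S ⊔ T) (K ⊔ T) ∧ (S ⊔ T) ⊓ K = S ∧ res p (K ⊔ T) ≤ K := by
  have hp' := pg_sup_l hS.pgroup hT h1
  have h3 : (S ⊔ T) ⊓ K = S := hS.eq_of_le (hp'.to_le inf_le_left) inf_le_right (le_inf le_sup_left hS.le)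
  refine ⟨?_, h3, ?_⟩
  · obtain ⟨P, hP, h4⟩ := exists_isSyl_ge (H := K ⊔ T) hp' (sup_le_sup_right hS.le T)
    have h5 : P ⊓ K = S := hS.eq_of_le (hP.pgroup.to_le inf_le_left) inf_le_right
      (le_inf (le_sup_left.trans h4) hS.le)
    have h6 : P = S ⊔ T := by
      refine le_antisymm (fun y hy => ?_) h4
      obtain ⟨a, ha, b, hb, rfl⟩ := (mem_sup_l h2).1 (hP.le hy)
      have : a ∈ P := by simpa using mul_mem hy (inv_mem (h4 (mem_sup_right hb)))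
      exact mul_mem (mem_sup_left (h5.le ⟨this, ha⟩)) (mem_sup_right hb)
    rwa [← h6]
  · obtain ⟨n, hn⟩ := BG.relIndex_eq_pow hT K
    exact res_le_of_relIndex (sup_le (le_nn K) h2) ((relIndex_sup_l h2).trans hn)

/-- Glauberman: automorphisms centralizing a Sylow subgroup -/
theorem iso_of_cent_syl {S T Γ : Subgroup G} (hS : IsSyl p S K) (hT : IsPGroup p T) (h1 : T ≤ CC S) (h2 : T ≤ NN K)
    (h3 : Γ ≤ CC S) (h4 : Γ ≤ NN K) (h5 : Γ ≤ NN T) (hx : x ∈ ⁅T, Γ⁆) (hx' : x ∈ CC T)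
    {g : G} (hg : g ∈ K ⊔ T) (hgx : g * x * g⁻¹ ∈ S ⊔ T) : g * x * g⁻¹ = x := by
  obtain ⟨hP, hPK, hr⟩ := isSyl_sup hS hT (nn_of_cc h1) h2
  have hxT := comm_le_left h5 hx
  refine iso_crit2 hP (mem_sup_right hxT) (sup_le (le_C1_iff.2 (h1 hxT)) (le_C1_iff.2 hx'))
    (sup_le (le_nn K) h2) hr (fun B hB h6 hR n hn hn' => ?_) hg hgx
  have h0 : B ⊓ K ≤ S := (inf_le_inf_right K hB).trans hPK.le
  have hTB : T ≤ B := (le_inf le_sup_right (h1.trans (cc_anti h0))).trans h6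
  have hBe : B = B ⊓ K ⊔ T := by
    refine le_antisymm (fun y hy => ?_) (sup_le inf_le_left hTB)
    obtain ⟨a, ha, b, hb, rfl⟩ := (mem_sup_l (nn_of_cc h1)).1 (hB hy)
    have : a ∈ B := by simpa using mul_mem hy (inv_mem (hTB hb))
    exact mul_mem (mem_sup_left ⟨this, hS.le ha⟩) (mem_sup_right hb)
  have hΓB : Γ ≤ NN B := by rw [hBe]; exact nn_sup (nn_of_cc (h3.trans (cc_anti h0))) h5
  set A := K ⊓ NN B with hA
  have hA0 : A ≤ NN (B ⊓ K) := nn_inf inf_le_right (nn_of_le inf_le_left)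
  have hΓA : Γ ≤ NN A := nn_inf h4 (nn_nn hΓB)
  have hBA : ⁅B, A⁆ ≤ B ⊓ K := le_inf (comm_le_left inf_le_right)
    ((commutator_mono le_rfl inf_le_left).trans (comm_le_right (hB.trans (hP.le.trans (sup_le (le_nn K) h2)))))
  have hM : A ⊓ CC (B ⊓ K) ≤ CC T := by
    have hNM : (K ⊔ T) ⊓ NN B ≤ NN (A ⊓ CC (B ⊓ K)) := by
      have e1 : (K ⊔ T) ⊓ NN B ≤ NN K := inf_le_left.trans (sup_le (le_nn K) h2)
      exact nn_inf (nn_inf e1 (nn_of_le inf_le_right)) (nn_cc (nn_inf inf_le_right e1))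
    have hRM := hR.inf_of_le_normalizer (K := A ⊓ CC (B ⊓ K))
      (inf_le_left.trans (inf_le_inf_right _ le_sup_left)) hNM
    rw [← hRM.res_sup]
    refine sup_le (res_le_iff.2 fun m hm hm' => cc_anti hTB ?_) ?_
    · exact mem_cc_of_coprime (hP.pgroup.to_le hB) inf_le_left hm'
        ((commutator_mono le_rfl (zpowers_le.2 hm.1)).trans hBA) hm.2
    · exact le_trans (le_trans (inf_le_inf inf_le_left (inf_le_left.trans inf_le_left)) hPK.le) (cc_symm h1)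
  have e1 : ⁅⁅T, A⁆, Γ⁆ ≤ ⊥ := (comm_eq_bot.2 (((commutator_mono hTB le_rfl).trans hBA).trans
    (h0.trans (cc_symm h3)))).le
  have e2 : ⁅⁅A, Γ⁆, T⁆ ≤ ⊥ := (comm_eq_bot.2 ((le_inf (comm_le_left hΓA)
    ((commutator_mono le_rfl (h3.trans (cc_anti h0))).trans (comm_le_right (nn_cc hA0)))).trans hM)).le
  have e3 := three_sub nn_bot nn_bot nn_bot e1 e2
  rw [commutator_comm Γ T] at e3
  exact le_C1_iff.2 (comm_eq_bot.1 (le_bot_iff.1 e3) hx) ⟨hr (mem_res hn.1 hn'), hn.2⟩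

end

theorem O_odd_eq_bot_iff {H : Subgroup G} : O {2}ᶜ H = ⊥ ↔ oddCore H = ⊥ := by
  rw [← map_pPrimeCore, map_eq_bot_iff_of_injective _ H.subtype_injective]

/-- the `Z*`-theorem in subgroup form -/
theorem zstar_sub {H P : Subgroup G} {x : G} (hP : IsSyl 2 P H) (hx : x ∈ P)
    (h : ∀ g ∈ H, g * x * g⁻¹ ∈ P → g * x * g⁻¹ = x) {g : G} (hg : g ∈ H) : g * x * g⁻¹ * x⁻¹ ∈ O {2}ᶜ H := by
  obtain ⟨S, hS⟩ := hP.exists_sylow_sub
  have hxS : (⟨x, hP.le hx⟩ : H) ∈ (S : Subgroup H) := by rw [hS]; exact hx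
  have h1 : IsIsolated (⟨x, hP.le hx⟩ : H) := isol_of_sylow S hxS fun k hk =>
    Subtype.ext (h k k.2 (by
      have : k * ⟨x, hP.le hx⟩ * k⁻¹ ∈ (S : Subgroup H) := hk
      rw [hS] at this; exact this))
  have h2 := zstar_elt h1 (S.isPGroup'.to_le (zpowers_le.2 hxS)) ⟨g, hg⟩
  rw [← map_pPrimeCore]
  exact ⟨_, h2, rfl⟩

theorem zstar_sub_cc {H P : Subgroup G} {x : G} (hP : IsSyl 2 P H) (hx : x ∈ P) (hO : O {2}ᶜ H = ⊥)
    (h : ∀ g ∈ H, g * x * g⁻¹ ∈ P → g * x * g⁻¹ = x) : x ∈ CC H := by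
  refine le_C1_iff.1 fun g hg => mem_C1_of_conj ?_
  have := zstar_sub hP hx h hg
  rwa [hO, mem_bot, mul_inv_eq_one] at this

theorem O_eq_bot_of_res {p : ℕ} [Fact p.Prime] {H K : Subgroup G} (h1 : K ≤ H) (hr : res p H ≤ K)
    (hO : O {p}ᶜ K = ⊥) : O {p}ᶜ H = ⊥ := by
  refine le_bot_iff.1 (hO ▸ O_le_O_of_le h1 fun x hx => hr (mem_res (O_le _ _ hx) ?_))
  exact Nat.Coprime.coprime_dvd_left (orderOf_dvd hx) (pi_compl_iff_coprime.1 (O_pi _ _))

theorem comm_inf_le_cc {K S T Γ : Subgroup G} (hS : IsSyl 2 S K) (hT : IsPGroup 2 T) (h1 : T ≤ CC S)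
    (h2 : T ≤ NN K) (h3 : Γ ≤ CC S) (h4 : Γ ≤ NN K) (h5 : Γ ≤ NN T) (hO : O {2}ᶜ K = ⊥) :
    ⁅T, Γ⁆ ⊓ CC T ≤ CC K := by
  intro x hx
  obtain ⟨hP, -, hr⟩ := isSyl_sup hS hT (nn_of_cc h1) h2
  exact cc_anti le_sup_left (zstar_sub_cc hP (mem_sup_right (comm_le_left h5 hx.1))
    (O_eq_bot_of_res le_sup_left hr hO) fun g hg hgx => iso_of_cent_syl hS hT h1 h2 h3 h4 h5 hx.1 hx.2 hg hgx)

theorem sol_of_hasNPC_two (h : HasNormalPComplement 2 G) : Group.IsSolvable G := by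
  have h1 : Group.IsSolvable (pResidual 2 G) :=
    odd_sol (Nat.odd_iff.2 (Nat.two_dvd_ne_zero.1 (hasNPC_iff_not_dvd.1 h)))
  have h2 : Group.IsSolvable (G ⧸ pResidual 2 G) :=
    haveI := (isPGroup_quotient_pResidual (p := 2) (G := G)).isNilpotent; inferInstance
  exact Group.isSolvable_of_ker_le_range (pResidual 2 G).subtype (QuotientGroup.mk' (pResidual 2 G)) (by simp)

/-- the images of `G` and of `Aut G` in the holomorph -/
theorem hol_cent_syl (hO : oddCore G = ⊥) (S : Sylow 2 G) {C T : Subgroup (MulAut G)}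
    (hC : ∀ φ ∈ C, ∀ s ∈ S, φ s = s) (hT : IsSyl 2 T C) : C ⊓ NN T ≤ CC T := by
  have h1 : IsSyl 2 ((S : Subgroup G).map hl) ((⊤ : Subgroup G).map hl) := (isSyl_top S).map _
  have h2 : C.map hr ≤ CC ((S : Subgroup G).map (hl : G →* Hol G)) := by
    rintro _ ⟨φ, hφ, rfl⟩
    exact hr_mem_centralizer_iff.2 (hC φ hφ)
  have h3 := comm_inf_le_cc (T := T.map hr) (Γ := (C ⊓ NN T).map hr) h1 (hT.pgroup.map _)
    ((map_mono hT.le).trans h2) nn_normal ((map_mono inf_le_left).trans h2) nn_normal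
    (BG.map_le_normalizer _ inf_le_right) (by
      rw [O_odd_eq_bot_iff, oddCore_eq_bot_iff]
      intro N hN hN'
      let e : G ≃* ((⊤ : Subgroup G).map (hl : G →* Hol G)) :=
        topEquiv.symm.trans (equivMapOfInjective _ _ hl_injective)
      have h4 := oddCore_eq_bot_iff.1 hO (N.comap e.toMonoidHom) (hN.comap _) (by
        rwa [Nat.card_congr (N.equivMapOfInjective e.symm.toMonoidHom e.symm.injective).toEquiv,
          map_equiv_eq_comap_symm'] at hN')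
      rw [← map_comap_eq_self_of_surjective (f := e.toMonoidHom) e.surjective N, h4, Subgroup.map_bot])
  have h4 : ⁅T, C ⊓ NN T⁆ ⊓ CC T = ⊥ := by
    rw [eq_bot_iff]
    intro φ hφ
    exact hr_eq_one_of_mem_centralizer (h3 ⟨by rw [← map_commutator]; exact mem_map_of_mem _ hφ.1,
      BG.map_le_centralizer _ (le_refl (CC T)) (mem_map_of_mem _ hφ.2)⟩)
  by_contra h5
  refine nil_meet (nil_of_pg hT.pgroup) (comm_le_left inf_le_right) (left_nn_comm _ _) (fun e => h5 ?_) h4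
  exact comm_eq_bot'.1 e

theorem hasNPC_cent_syl (hO : oddCore G = ⊥) (S : Sylow 2 G) {C : Subgroup (MulAut G)}
    (hC : ∀ φ ∈ C, ∀ s ∈ S, φ s = s) : HasNormalPComplement 2 C := by
  obtain ⟨T, hT⟩ := exists_isSyl 2 C
  exact hT.hasNPC_of_le_centralizer (hol_cent_syl hO S hC hT)

theorem oddCore_eq_bot_of_simple [IsSimpleGroup G] (h : Even #G) : oddCore G = ⊥ := by
  refine oddCore_eq_bot_iff.2 fun N hN hN' => (hN.eq_bot_or_eq_top).resolve_right fun e => ?_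
  rw [e, card_top] at hN'
  exact (Nat.not_odd_iff_even.2 h) hN'

theorem even_of_simple [IsSimpleGroup G] (h : ¬ IsMulCommutative G) : Even #G := by
  by_contra h1
  haveI := PF.odd_solvable (Nat.not_even_iff_odd.1 h1)
  exact h ⟨⟨IsSimpleGroup.comm_iff_isSolvable.2 inferInstance⟩⟩

end Cfsg.Agent.Transfer
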