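import Cfsg.Agent.Lib.Transfer.Tet
import Cfsg.Agent.Lib.Fusion.Yosh
import Cfsg.Agent.Lib.MS.Pre1

set_option autoImplicit false
set_option linter.unusedSectionVars false

namespace Cfsg.Agent.Transfer
open Subgroup Cfsg.Agent.MS
open scoped commutatorElement

universe u
variable {G : Type u} [Group G] [Finite G]

theorem thompson_ext (S : Sylow 2 G) (hG : (S : Subgroup G) ≤ pResidual 2 G) {T : Subgroup G}
    (hT : Ix2 S T) {i : G} (hi : i ∈ (S : Subgroup G)) (h2 : orderOf i = 2) :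
    ∃ g : G, g * i * g⁻¹ ∈ T ∧ #((S : Subgroup G) ⊓ C1 i : Subgroup G) ≤
      #((S : Subgroup G) ⊓ C1 (g * i * g⁻¹) : Subgroup G) := by
  by_contra hc
  push Not at hc
  refine Fusion.thompson_foc S.2 (Fusion.group_saturated S)
    hT.idx hi h2 (fun j hj hn hjT => ?_) (Fusion.hyp_le_foc (p := 2) ?_)
  · obtain ⟨φ, ⟨-, -, g, hg⟩, rfl⟩ := hj
    rw [hg] at hn hjT
    have j2 : orderOf (g * i * g⁻¹) = 2 := by rwa [orderOf_conj]
    have := hn.2 (zpowers i) ⟨((MulAut.conj g⁻¹).toMonoidHom).comp (zpowers _).subtype,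
      ⟨hn.1, fun x => ?_, g⁻¹, fun x => rfl⟩, ?_⟩
    · rw [Fusion.normalizerIn_zpowers_two h2, Fusion.normalizerIn_zpowers_two j2] at this
      unfold FusionSystem.centralizerIn at this
      rw [cc_zpowers, cc_zpowers] at this
      exact absurd this (not_le.2 (hc g hjT))
    · refine zpowers_le.2 hi ?_
      exact (by rw [← cj_zpowers, cj_inv_cj] : cj g⁻¹ (zpowers (g * i * g⁻¹)) = zpowers i).le
        (conj_mem_cj (g := g⁻¹) x.2)
    · rw [MonoidHom.range_comp, range_subtype, ← cj_zpowers]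
      exact cj_inv_cj _ _
  · rw [Fusion.hyp_group]; exact ⟨hi, hG hi⟩

theorem thompson_center (S : Sylow 2 G) (hG : (S : Subgroup G) ≤ pResidual 2 G) {T : Subgroup G}
    (hT : Ix2 S T) {i : G} (hi : i ∈ (S : Subgroup G) ⊓ CC (S : Subgroup G)) (h2 : orderOf i = 2) :
    ∃ g ∈ NN (S : Subgroup G), g * i * g⁻¹ ∈ T := by
  obtain ⟨g, h1, h3⟩ := thompson_ext S hG hT hi.1 h2
  rw [inf_eq_left.2 (le_C1_iff.2 hi.2)] at h3
  have h4 := (eq_of_card_le inf_le_left h3).ge.trans inf_le_right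
  obtain ⟨n, hn, e⟩ := burnside_fus (isSyl_top S) hi.2 (mem_top g) (le_C1_iff.1 h4)
  exact ⟨n, hn.2, e ▸ h1⟩

theorem comm_eq_bot_of_le {p : ℕ} [Fact p.Prime] {P A B : Subgroup G} (hP : IsPGroup p P) (hA : IsPGroup p A)
    (hB : ¬ p ∣ #B) (hnA : A ≤ NN P) (hnB : B ≤ NN P) (hAB : ⁅A, B⁆ = ⊥) (h : ⁅P, B⁆ ≤ ⁅P, A⁆) :
    ⁅P, B⁆ = ⊥ := by
  have n1 : A ≤ NN B := nn_of_cc (comm_eq_bot.1 hAB)
  have n2 : B ≤ NN A := nn_of_cc (comm_eq_bot'.1 hAB)
  have n3 : P ⊔ A ≤ NN ⁅P, B⁆ := sup_le (left_nn_comm _ _) (nn_comm hnA n1)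
  have n4 : P ⊔ A ≤ NN ⁅⁅P, B⁆, P ⊔ A⁆ := right_nn_comm _ _
  refine eq_bot_of_le_commutator (pg_sup_l hP hA hnA) ((comm_le_left hnB).trans le_sup_left) ?_
  rw [← cop_comm_comm hnB ((pi_compl_iff.2 hB).coprime' (pi1_of_pg hP) fun _ h => h) (sol_of_pg hP)]
  refine (commutator_mono h le_rfl).trans ?_
  rw [cop_comm_comm hnB ((pi_compl_iff.2 hB).coprime' (pi1_of_pg hP) fun _ h => h) (sol_of_pg hP)]
  refine three_sub (le_sup_right.trans n4) (nn_comm (right_nn_comm _ _) (nn_sup hnB n2))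
    (le_sup_left.trans n4) (by rw [hAB, commutator_bot_left]; exact bot_le) ?_
  rw [Subgroup.commutator_comm B]
  exact commutator_mono le_rfl le_sup_right

theorem comm_le_iff_comap {N X U : Subgroup G} [N.Normal] :
    ⁅X, U⁆ ≤ N ↔ X ≤ (CC (U.map (QuotientGroup.mk' N))).comap (QuotientGroup.mk' N) := by
  rw [← map_le_iff_le_comap, ← comm_eq_bot, ← map_commutator, Subgroup.map_eq_bot_iff, QuotientGroup.ker_mk']

theorem min_nn_subn (M : Subgroup G) : ∀ {N A : Subgroup G}, N ≤ M → M ≤ NN N →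
    (∀ L ≤ N, M ≤ NN L → L = ⊥ ∨ L = N) → Comp.SubnIn A M → N ≤ NN A := by
  induction M using Comp.subgroup_induction with
  | h M ih =>
  intro N A h1 h2 h3 h4
  rcases h4.eq_or_exists_lt with rfl | ⟨K, k1, k2, k3⟩
  · exact nn_of_le h1
  rcases h3 (N ⊓ K) inf_le_left (nn_inf h2 k2) with h | h
  · exact nn_of_cc ((cc_of_inf_eq_bot (h1.trans k2) (k1.le.trans h2) h).trans (cc_anti k3.le))
  have h5 : N ≤ K := h.ge.trans inf_le_right
  by_cases h0 : N = ⊥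
  · rw [h0]; exact bot_le
  obtain ⟨N₀, a1, ⟨a2, a3⟩, a4⟩ := Comp.exists_minimal_subgroup (P := fun L : Subgroup G => L ≠ ⊥ ∧ K ≤ NN L)
    (A := N) ⟨h0, k1.le.trans h2⟩
  have key : ∀ g ∈ M, cj g N₀ ≤ NN A := fun g hg => by
    refine ih K k1 (cj_le (a1.trans h5) (k2 hg)) (nn_cj_of a3 (k2 hg)) (fun L l1 l2 => ?_) k3
    by_cases l0 : L = ⊥
    · exact Or.inl l0
    · exact Or.inr (cj_eq_iff_eq_cj_inv.1 (a4 (cj g⁻¹ L) ⟨fun h => l0 (cj_eq_bot_iff.1 h),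
        nn_cj_of l2 (inv_mem (k2 hg))⟩ (le_cj_iff_cj_inv_le.1 l1)) |>.trans (by rw [inv_inv]))
  rcases h3 (N₀ ⊔ ⁅N₀, M⁆) (Comp.sup_commutator_le a1 h2) (Comp.le_normalizer_sup_commutator _ _) with h | h
  · exact absurd (le_bot_iff.1 (le_sup_left.trans h.le)) a2
  · rw [← h, Comp.sup_commutator_eq_iSup]
    exact iSup_le fun g => key g g.2

theorem syl_sup_of_nn {p : ℕ} [Fact p.Prime] {S A B : Subgroup G} (h : B ≤ NN A)
    (hS : IsSyl p S (A ⊔ B)) (hB : IsSyl p (B ⊓ S) B) : S ≤ (A ⊓ S) ⊔ (B ⊓ S) := by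
  have hA : IsSyl p (S ⊓ A) A := hS.inf_of_le_normalizer le_sup_left (sup_le (le_nn _) h)
  rw [inf_comm] at hA
  have l1 : (A ⊓ S) ⊔ (B ⊓ S) ≤ S := sup_le inf_le_right inf_le_right
  refine (IsSyl.eq_of_le (H := A ⊔ B) ⟨l1.trans hS.le, hS.pgroup.to_le l1, fun hd => ?_⟩ hS.pgroup hS.le l1).le
  have e1 := card_sup_mul_card_inf h
  have e2 := card_sup_mul_card_inf (nn_inf (inf_le_left.trans h) (nn_of_le inf_le_right) : B ⊓ S ≤ NN (A ⊓ S))
  rw [sup_comm, ← card_mul_relIndex (l1.trans hS.le), ← card_mul_relIndex hA.le, ← card_mul_relIndex hB.le,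
    ← card_mul_relIndex (inf_le_inf inf_le_left inf_le_left : B ⊓ S ⊓ (A ⊓ S) ≤ B ⊓ A)] at e1
  rw [sup_comm] at e2
  have e3 : (A ⊓ S ⊔ B ⊓ S).relIndex (A ⊔ B) * (B ⊓ S ⊓ (A ⊓ S)).relIndex (B ⊓ A) =
      (B ⊓ S).relIndex B * (A ⊓ S).relIndex A := by
    refine Nat.eq_of_mul_eq_mul_left (Nat.mul_pos (card_pos' (B ⊓ S)) (card_pos' (A ⊓ S))) ?_
    calc _ = #(A ⊓ S ⊔ B ⊓ S : Subgroup G) * (A ⊓ S ⊔ B ⊓ S).relIndex (A ⊔ B) *
        (#(B ⊓ S ⊓ (A ⊓ S) : Subgroup G) * (B ⊓ S ⊓ (A ⊓ S)).relIndex (B ⊓ A)) := by rw [← e2]; ring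
      _ = _ := by rw [e1]; ring
  rcases (Nat.Prime.dvd_mul Fact.out).1 (e3 ▸ hd.mul_right _) with h | h
  · exact hB.not_dvd h
  · exact hA.not_dvd h

theorem IsSyl.inf_subn {p : ℕ} [Fact p.Prime] {S A M : Subgroup G} (hS : IsSyl p S M) (h : Comp.SubnIn A M) :
    IsSyl p (A ⊓ S) A := by
  have := Comp.sylIn_iff.1 ((syl_in hS).inf_subnIn h)
  rw [inf_comm] at this
  exact ⟨this.1, this.2.1, this.2.2⟩

theorem IsSyl.mem_der_of_central {p : ℕ} [Fact p.Prime] {S M : Subgroup G} (hS : IsSyl p S M) {z : G}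
    (hz : z ∈ S) (hc : z ∈ CC M) (hd : z ∈ ⁅M, M⁆) : z ∈ ⁅S, S⁆ := by
  have h := Transfer.mem_der_of_central (H := S.subgroupOf M) (z := ⟨z, hS.le hz⟩) (by
    rw [Nat.card_congr (subgroupOfEquivOfLe hS.le).toEquiv]; exact hS.coprime) hz
    (mem_center_iff.2 fun g => Subtype.ext (mem_CC.1 hc g g.2)) (by
      rw [← Subgroup.map_subtype_commutator] at hd
      obtain ⟨y, hy, e⟩ := hd
      rwa [show (⟨z, hS.le hz⟩ : M) = y from Subtype.ext e.symm])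
  have h2 := mem_map_of_mem M.subtype h
  rwa [map_commutator, subgroupOf_map_subtype, inf_eq_left.2 hS.le] at h2

theorem IsSyl.le_der {p : ℕ} [Fact p.Prime] {S M : Subgroup G} (hS : IsSyl p S M) (h : res p M = M) :
    S ≤ ⁅M, M⁆ :=
  (le_inf le_rfl (hS.le.trans (h.ge.trans le_sup_right))).trans (hS.inf_commutator_sup_res_le
    fun _ hx _ hk _ => commutator_mem_commutator hk (hS.le hx))

theorem im_subn {M A : Subgroup G} {Q : Type u} [Group Q] [Finite Q] {f : M →* Q} (h : Comp.SubnIn A M) :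
    Comp.SubnIn (im f A) (im f M) := (h.comap M.subtype).map f

theorem syl_join_aux {p : ℕ} [Fact p.Prime] (n : ℕ) : ∀ (G : Type u) [Group G] [Finite G] (M A B S : Subgroup G),
    #M = n → Comp.SubnIn A M → Comp.SubnIn B M → IsSyl p S M → (A ⊔ B) ⊓ S ≤ (A ⊓ S) ⊔ (B ⊓ S) := by
  induction n using Nat.strong_induction_on with
  | h n ih =>
  intro G _ _ M A B S hn hA hB hS
  subst hn
  -- many subgroups inside a proper subnormal subgroup
  have many : ∀ K < M, Comp.SubnIn K M → ∀ (s : Set (Subgroup G)) (L : Subgroup G),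
      (∀ X ∈ s, Comp.SubnIn X K ∧ X ⊓ S ≤ L) → sSup s ⊓ S ≤ L := by
    intro K k1 k2 s L hs
    have hK := hS.inf_subn k2
    refine (Comp.sSup_induction_finite (P := fun X => Comp.SubnIn X K ∧ X ⊓ S ≤ L)
      ⟨Comp.SubnIn.bot _, inf_le_left.trans bot_le⟩ hs fun X Y hX hY => ⟨hX.1.sup hY.1, ?_⟩).2
    refine le_trans ?_ ((ih _ (card_lt_of_lt k1) G K X Y (K ⊓ S) rfl hX.1 hY.1 hK).trans
      (sup_le ((inf_le_inf_left _ inf_le_right).trans hX.2) ((inf_le_inf_left _ inf_le_right).trans hY.2)))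
    exact le_inf inf_le_left (inf_le_inf_right _ (hX.1.sup hY.1).le)
  rcases (hA.sup hB).le.lt_or_eq with h | h
  · rw [← sSup_pair]
    refine many _ h (hA.sup hB) _ _ ?_
    rintro X (rfl | rfl)
    · exact ⟨hA.of_le le_sup_left h.le, le_sup_left⟩
    · exact ⟨hB.of_le le_sup_right h.le, le_sup_right⟩
  refine inf_le_right.trans ?_
  set L := (A ⊓ S) ⊔ (B ⊓ S) with hL
  have l1 : L ≤ S := sup_le inf_le_right inf_le_right
  have sA := hS.inf_subn hA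
  have sB := hS.inf_subn hB
  have fin : ∀ N ≤ M, M ≤ NN N → S ≤ N ⊔ L → N ⊓ S ≤ L → S ≤ L := fun N n1 n2 n3 n4 x hx => by
    obtain ⟨a, ha, b, hb, rfl⟩ := (mem_sup_l ((l1.trans hS.le).trans n2)).1 (n3 hx)
    exact L.mul_mem (n4 ⟨ha, (Subgroup.mul_mem_cancel_right _ (l1 hb)).1 hx⟩) hb
  rcases (res_le (p := p) M).lt_or_eq with hr | hr
  · set s : Set (Subgroup G) := {X | ∃ l ∈ L, X = cj l (res p A) ∨ X = cj l (res p B)} with hs
    have sub : ∀ {X : Subgroup G}, Comp.SubnIn X M → ∀ l ∈ L, Comp.SubnIn (cj l (res p X)) (res p M) :=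
      fun {X} hX l hl => by
        have : Comp.SubnIn (res p X) (res p M) :=
          ((Comp.SubnIn.of_normalizer (res_le _) (le_normalizer_res _)).trans hX).of_le (res_mono hX.le) (res_le _)
        exact this.cj (le_normalizer_res _ (hS.le (l1 hl)))
    have c1 : sSup s ⊓ S ≤ L := by
      refine many _ hr (Comp.SubnIn.of_normalizer (res_le _) (le_normalizer_res _)) s L ?_
      rintro X ⟨l, hl, rfl | rfl⟩
      · refine ⟨sub hA l hl, ?_⟩
        rw [← cj_eq_of_mem (l1 hl), ← cj_inf]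
        exact cj_le' ((inf_le_inf_right _ (res_le _)).trans le_sup_left) hl
      · refine ⟨sub hB l hl, ?_⟩
        rw [← cj_eq_of_mem (l1 hl), ← cj_inf]
        exact cj_le' ((inf_le_inf_right _ (res_le _)).trans le_sup_right) hl
    have c2 : L ≤ NN (sSup s) := fun l hl => mem_normalizer_of_cj_le (cj_le_iff_le_cj_inv.2 (sSup_le (by
      rintro X ⟨k, hk, rfl | rfl⟩ <;> rw [← cj_le_iff_le_cj_inv, cj_cj]
      · exact le_sSup ⟨_, L.mul_mem hl hk, Or.inl rfl⟩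
      · exact le_sSup ⟨_, L.mul_mem hl hk, Or.inr rfl⟩)))
    have c3 : M ≤ sSup s ⊔ L := by
      rw [← h, ← sA.res_sup, ← sB.res_sup]
      exact sup_le (sup_le_sup (le_sSup ⟨1, L.one_mem, Or.inl (cj_one _).symm⟩) le_sup_left)
        (sup_le_sup (le_sSup ⟨1, L.one_mem, Or.inr (cj_one _).symm⟩) le_sup_right)
    refine fin _ (sSup_le ?_) (c3.trans (sup_le (le_nn _) c2)) (hS.le.trans c3) c1
    rintro X ⟨l, hl, rfl | rfl⟩
    · exact (sub hA l hl).le.trans (res_le _)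
    · exact (sub hB l hl).le.trans (res_le _)
  by_cases h0 : M = ⊥
  · exact hS.le.trans (h0.le.trans bot_le)
  obtain ⟨N, n1, ⟨n0, n2⟩, n3⟩ := Comp.exists_minimal_subgroup (P := fun N : Subgroup G => N ≠ ⊥ ∧ M ≤ NN N)
    (A := M) ⟨h0, le_nn _⟩
  have n4 : ∀ K ≤ N, M ≤ NN K → K = ⊥ ∨ K = N := fun K k1 k2 => or_iff_not_imp_left.2 fun k0 => n3 K ⟨k0, k2⟩ k1
  have nA := min_nn_subn M n1 n2 n4 hA
  have nB := min_nn_subn M n1 n2 n4 hB
  have q1 : S ≤ N ⊔ L := by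
    obtain ⟨Q, _, _, f, q⟩ := exists_qm n1 n2
    have lt : #(im f M) < #M := by
      rw [q.card_im le_rfl, ← card_mul_relIndex n1]
      exact lt_mul_left (relIndex_pos _ _) (one_lt_card_iff_ne_bot _ |>.2 n0)
    have k := ih _ lt Q (im f M) (im f A) (im f B) (im f S) rfl (im_subn hA) (im_subn hB) (im_syl hS le_rfl)
    have e : ∀ {X : Subgroup G}, X ≤ M → IsSyl p (X ⊓ S) X → im f X ⊓ im f S = im f (X ⊓ S) := fun {X} x1 x2 =>
      (im_syl x2 x1).eq_of_le ((im_pg hS.pgroup).to_le inf_le_right) inf_le_left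
        (le_inf (im_mono inf_le_left) (im_mono inf_le_right))
    rw [e hA.le sA, e hB.le sB, ← im_sup hA.le hB.le, h, inf_eq_right.2 (im_mono hS.le),
      ← im_sup (inf_le_left.trans hA.le) (inf_le_left.trans hB.le)] at k
    exact (q.im_le_iff hS.le (l1.trans hS.le)).1 k
  refine fin N n1 n2 q1 ?_
  have cA : ⁅N, A⁆ ≤ N ⊓ A := le_inf (comm_le_left (hA.le.trans n2)) (comm_le_right nA)
  have cB : ⁅N, B⁆ ≤ N ⊓ B := le_inf (comm_le_left (hB.le.trans n2)) (comm_le_right nB)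
  have m1 : (N ⊓ A) ⊔ (N ⊓ B) ≤ N := sup_le inf_le_left inf_le_left
  rcases n4 _ m1 (h.ge.trans (sup_le (nn_of_comm_le (cA.trans le_sup_left) m1)
    (nn_of_comm_le (cB.trans le_sup_right) m1))) with k | k
  · have z1 : N ≤ CC M := by
      rw [← h]
      exact le_cc_sup (comm_eq_bot.1 (le_bot_iff.1 (cA.trans (le_sup_left.trans k.le))))
        (comm_eq_bot.1 (le_bot_iff.1 (cB.trans (le_sup_right.trans k.le))))
    intro z hz
    have z2 := hS.mem_der_of_central hz.2 (z1 hz.1) (hS.le_der hr hz.2)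
    refine der_le L (der_sup_center (C := N) (z1.trans (cc_anti (sup_le (l1.trans hS.le) n1))) ?_)
    exact der_mono (q1.trans (sup_comm _ _).le) z2
  · have s1 : IsSyl p (N ⊓ S) ((N ⊓ A) ⊔ (N ⊓ B)) := by
      rw [k]; exact hS.inf_subn (Comp.SubnIn.of_normalizer n1 n2)
    have s2 : IsSyl p (N ⊓ B ⊓ (N ⊓ S)) (N ⊓ B) :=
      s1.inf_subn (Comp.SubnIn.of_normalizer le_sup_right (m1.trans (nn_inf (le_nn _) nB)))
    refine (syl_sup_of_nn (inf_le_left.trans (nn_inf (le_nn _) nA)) s1 s2).trans ?_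
    exact sup_le_sup (inf_le_inf inf_le_right inf_le_right) (inf_le_inf inf_le_right inf_le_right)

theorem syl_join {p : ℕ} [Fact p.Prime] {M A B S : Subgroup G} (hA : Comp.SubnIn A M) (hB : Comp.SubnIn B M)
    (hS : IsSyl p S M) : (A ⊔ B) ⊓ S = (A ⊓ S) ⊔ (B ⊓ S) :=
  le_antisymm (syl_join_aux _ G M A B S rfl hA hB hS)
    (sup_le (inf_le_inf_right _ le_sup_left) (inf_le_inf_right _ le_sup_right))

end Cfsg.Agent.Transfer
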