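import Cfsg.Agent.Lib.Transfer.Rank
import Cfsg.Agent.Lib.Solv.Frob
import Cfsg.Agent.Lib.Char.Frob
import Mathlib.LinearAlgebra.Matrix.SpecialLinearGroup
import Mathlib.LinearAlgebra.Matrix.Charpoly.Coeff
import Mathlib.Algebra.Polynomial.AlgebraMap
import Mathlib.Algebra.CharP.Lemmas
import Mathlib.Algebra.Field.ZMod

/-!
Subgroups of `SL(2, K)` containing two opposite transvections.
-/

set_option autoImplicit false
set_option linter.unusedSectionVars false
set_option linter.style.haveILetI false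

namespace Cfsg.Agent.Transfer

open Subgroup
open scoped commutatorElement

abbrev SL2 (K : Type*) [CommRing K] := Matrix.SpecialLinearGroup (Fin 2) K

section Ring
variable {K : Type*} [CommRing K]

def upU (t : K) : SL2 K := ⟨!![1, t; 0, 1], by simp [Matrix.det_fin_two]⟩
def loU (t : K) : SL2 K := ⟨!![1, 0; t, 1], by simp [Matrix.det_fin_two]⟩

@[simp] theorem upU_00 (t : K) : (upU t).1 0 0 = 1 := rfl
@[simp] theorem upU_01 (t : K) : (upU t).1 0 1 = t := rfl
@[simp] theorem upU_10 (t : K) : (upU t).1 1 0 = 0 := rfl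
@[simp] theorem upU_11 (t : K) : (upU t).1 1 1 = 1 := rfl
@[simp] theorem loU_00 (t : K) : (loU t).1 0 0 = 1 := rfl
@[simp] theorem loU_01 (t : K) : (loU t).1 0 1 = 0 := rfl
@[simp] theorem loU_10 (t : K) : (loU t).1 1 0 = t := rfl
@[simp] theorem loU_11 (t : K) : (loU t).1 1 1 = 1 := rfl

theorem sl2_ext {x y : SL2 K} (h00 : x.1 0 0 = y.1 0 0) (h01 : x.1 0 1 = y.1 0 1)
    (h10 : x.1 1 0 = y.1 1 0) (h11 : x.1 1 1 = y.1 1 1) : x = y := by
  apply Matrix.SpecialLinearGroup.ext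
  intro i j
  fin_cases i <;> fin_cases j <;> assumption

theorem sl2_mul (x y : SL2 K) (i j : Fin 2) :
    (x * y).1 i j = x.1 i 0 * y.1 0 j + x.1 i 1 * y.1 1 j := by
  rw [Matrix.SpecialLinearGroup.coe_mul, Matrix.mul_apply, Fin.sum_univ_two]

theorem sl2_det (x : SL2 K) : x.1 0 0 * x.1 1 1 - x.1 0 1 * x.1 1 0 = 1 := by
  rw [← Matrix.det_fin_two]; exact x.2

@[simp] theorem sl2_inv_00 (x : SL2 K) : (x⁻¹).1 0 0 = x.1 1 1 := by
  rw [Matrix.SpecialLinearGroup.SL2_inv_expl]; rfl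
@[simp] theorem sl2_inv_01 (x : SL2 K) : (x⁻¹).1 0 1 = -x.1 0 1 := by
  rw [Matrix.SpecialLinearGroup.SL2_inv_expl]; rfl
@[simp] theorem sl2_inv_10 (x : SL2 K) : (x⁻¹).1 1 0 = -x.1 1 0 := by
  rw [Matrix.SpecialLinearGroup.SL2_inv_expl]; rfl
@[simp] theorem sl2_inv_11 (x : SL2 K) : (x⁻¹).1 1 1 = x.1 0 0 := by
  rw [Matrix.SpecialLinearGroup.SL2_inv_expl]; rfl
@[simp] theorem sl2_one_00 : (1 : SL2 K).1 0 0 = 1 := rfl
@[simp] theorem sl2_one_01 : (1 : SL2 K).1 0 1 = 0 := rfl
@[simp] theorem sl2_one_10 : (1 : SL2 K).1 1 0 = 0 := rfl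
@[simp] theorem sl2_one_11 : (1 : SL2 K).1 1 1 = 1 := rfl

theorem upU_mul (s t : K) : upU s * upU t = upU (s + t) := by
  apply sl2_ext <;> simp [sl2_mul, add_comm]

theorem loU_mul (s t : K) : loU s * loU t = loU (s + t) := by
  apply sl2_ext <;> simp [sl2_mul]

@[simp] theorem upU_zero : upU (0 : K) = 1 := by apply sl2_ext <;> simp
@[simp] theorem loU_zero : loU (0 : K) = 1 := by apply sl2_ext <;> simp

theorem upU_inv (t : K) : (upU t)⁻¹ = upU (-t) := by apply sl2_ext <;> simp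
theorem loU_inv (t : K) : (loU t)⁻¹ = loU (-t) := by apply sl2_ext <;> simp

theorem upU_pow (t : K) (n : ℕ) : upU t ^ n = upU (n * t) := by
  induction n with
  | zero => simp
  | succ n ih => rw [pow_succ, ih, upU_mul]; congr 1; push_cast; ring

theorem loU_pow (t : K) (n : ℕ) : loU t ^ n = loU (n * t) := by
  induction n with
  | zero => simp
  | succ n ih => rw [pow_succ, ih, loU_mul]; congr 1; push_cast; ring

theorem upU_eq_one {t : K} : upU t = 1 ↔ t = 0 :=
  ⟨fun h => by simpa using congrArg (fun x : SL2 K => x.1 0 1) h, fun h => by simp [h]⟩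

theorem sl2_mem_center {x : SL2 K} :
    x ∈ center (SL2 K) ↔ x.1 0 1 = 0 ∧ x.1 1 0 = 0 ∧ x.1 0 0 = x.1 1 1 := by
  rw [mem_center_iff]
  constructor
  · intro h
    have h1 := h (upU 1)
    have h2 := h (loU 1)
    have a := congrArg (fun x : SL2 K => x.1 0 0) h1
    have b := congrArg (fun x : SL2 K => x.1 0 1) h1
    have c := congrArg (fun x : SL2 K => x.1 0 0) h2
    simp only [sl2_mul, upU_00, upU_01, upU_10, upU_11, loU_00, loU_01, loU_10] at a b c
    exact ⟨by linear_combination -c, by linear_combination a, by linear_combination -b⟩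
  · rintro ⟨h1, h2, h3⟩ g
    apply sl2_ext <;> simp only [sl2_mul, h1, h2, h3] <;> ring

theorem sl2_center_mul_self {x : SL2 K} (h : x ∈ center (SL2 K)) : x * x = 1 := by
  obtain ⟨h1, h2, h3⟩ := sl2_mem_center.1 h
  have := sl2_det x
  apply sl2_ext <;> simp only [sl2_mul, h1, h2, h3, sl2_one_00, sl2_one_01, sl2_one_10, sl2_one_11] at * <;>
    first | linear_combination this | ring

theorem sl2_map_apply {L : Type*} [CommRing L] (f : K →+* L) (x : SL2 K) (i j : Fin 2) :
    (Matrix.SpecialLinearGroup.map f x).1 i j = f (x.1 i j) := rfl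

theorem sl2_map_upU {L : Type*} [CommRing L] (f : K →+* L) (t : K) :
    Matrix.SpecialLinearGroup.map f (upU t) = upU (f t) := by
  apply sl2_ext <;> simp [sl2_map_apply]

theorem sl2_map_loU {L : Type*} [CommRing L] (f : K →+* L) (t : K) :
    Matrix.SpecialLinearGroup.map f (loU t) = loU (f t) := by
  apply sl2_ext <;> simp [sl2_map_apply]

theorem sl2_map_injective {L : Type*} [CommRing L] {f : K →+* L} (hf : Function.Injective f) :
    Function.Injective (Matrix.SpecialLinearGroup.map (n := Fin 2) f) := by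
  intro x y h
  apply Matrix.SpecialLinearGroup.ext
  intro i j
  exact hf (congrArg (fun z : SL2 L => z.1 i j) h)

end Ring

/-- In an algebra over a field of characteristic `p`, `(1 + n) ^ p ^ k = 1 + n ^ p ^ k`. -/
theorem add_one_pow_char_pow {K A : Type*} [Field K] [Ring A] [Algebra K A] (p : ℕ) [Fact p.Prime]
    [CharP K p] (n : A) (k : ℕ) : (n + 1) ^ p ^ k = n ^ p ^ k + 1 := by
  have := congrArg (Polynomial.aeval n) (add_pow_char_pow (Polynomial.X : Polynomial K) 1 p k)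
  simpa using this

theorem sub_one_pow_char_pow {K A : Type*} [Field K] [Ring A] [Algebra K A] (p : ℕ) [Fact p.Prime]
    [CharP K p] (c : A) (k : ℕ) : (c - 1) ^ p ^ k = c ^ p ^ k - 1 := by
  have := add_one_pow_char_pow (K := K) p (c - 1) k
  rw [sub_add_cancel] at this
  rw [this, add_sub_cancel_right]

theorem exists_pow_eq_one_of_isNilpotent {K A : Type*} [Field K] [Ring A] [Algebra K A] (p : ℕ)
    [hp : Fact p.Prime] [CharP K p] {c : A} (h : IsNilpotent (c - 1)) : ∃ k, c ^ p ^ k = 1 := by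
  obtain ⟨k, hk⟩ := h
  refine ⟨k, ?_⟩
  rw [← sub_eq_zero, ← sub_one_pow_char_pow (K := K)]
  exact pow_eq_zero_of_le (Nat.lt_pow_self hp.out.one_lt).le hk

section Field
variable {K : Type*} [Field K]

theorem sl2_eq_top_of_upU_loU {H : Subgroup (SL2 K)} (h1 : ∀ t, upU t ∈ H) (h2 : ∀ t, loU t ∈ H) :
    H = ⊤ := by
  have key : ∀ x : SL2 K, x.1 1 0 ≠ 0 → x ∈ H := fun x hc => by
    have : x = upU ((x.1 0 0 - 1) / x.1 1 0) * loU (x.1 1 0) * upU ((x.1 1 1 - 1) / x.1 1 0) := by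
      have hd := sl2_det x
      apply sl2_ext <;> simp only [sl2_mul, upU_00, upU_01, upU_10, upU_11, loU_00, loU_01, loU_10,
        loU_11] <;> field_simp
      · ring
      · linear_combination -hd
      · ring
      · ring
    rw [this]
    exact mul_mem (mul_mem (h1 _) (h2 _)) (h1 _)
  rw [eq_top_iff]
  intro x _
  by_cases hc : x.1 1 0 = 0
  · have hd := sl2_det x
    have : (loU 1 * x).1 1 0 ≠ 0 := by
      simp only [sl2_mul, loU_10, loU_11, hc] at *
      intro h
      have h0 : x.1 0 0 = 0 := by linear_combination h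
      rw [h0] at hd
      simp at hd
    exact (mul_mem_cancel_left (h2 1)).1 (key _ this)
  · exact key x hc

theorem sl2_zmod_eq_top {p : ℕ} [Fact p.Prime] {H : Subgroup (SL2 (ZMod p))} {s t : ZMod p}
    (hs : s ≠ 0) (ht : t ≠ 0) (h1 : upU s ∈ H) (h2 : loU t ∈ H) : H = ⊤ := by
  refine sl2_eq_top_of_upU_loU (fun u => ?_) fun u => ?_
  · have := pow_mem h1 (u / s).val
    rwa [upU_pow, ZMod.natCast_zmod_val, div_mul_cancel₀ _ hs] at this
  · have := pow_mem h2 (u / t).val
    rwa [loU_pow, ZMod.natCast_zmod_val, div_mul_cancel₀ _ ht] at this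

theorem sl2_trace_of_pow (p : ℕ) [Fact p.Prime] [CharP K p] {x : SL2 K} {k : ℕ}
    (h : x ^ p ^ k = 1) : x.1 0 0 + x.1 1 1 = 2 := by
  have h1 : IsNilpotent (x.1 - 1) := ⟨p ^ k, by
    rw [sub_one_pow_char_pow (K := K), ← Matrix.SpecialLinearGroup.coe_pow, h]; simp⟩
  have h2 := (Matrix.isNilpotent_trace_of_isNilpotent h1).eq_zero
  rw [Matrix.trace_fin_two] at h2
  simp only [Matrix.sub_apply, Matrix.one_apply_eq] at h2
  linear_combination h2

theorem sl2_mem_center_of_mul_self (h2 : (2 : K) ≠ 0) {x : SL2 K} (h : x * x = 1) :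
    x ∈ center (SL2 K) := by
  have h' : x⁻¹ = x := inv_eq_of_mul_eq_one_right h
  have a := congrArg (fun x : SL2 K => x.1 0 0) h'
  have b := congrArg (fun x : SL2 K => x.1 0 1) h'
  have c := congrArg (fun x : SL2 K => x.1 1 0) h'
  simp only [sl2_inv_00, sl2_inv_01, sl2_inv_10] at a b c
  refine sl2_mem_center.2 ⟨mul_left_cancel₀ h2 ?_, mul_left_cancel₀ h2 ?_, a.symm⟩
  · linear_combination -b
  · linear_combination -c

theorem sl2_center_cases {x : SL2 K} (h : x ∈ center (SL2 K)) :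
    x = 1 ∨ (x.1 0 0 = -1 ∧ x.1 0 1 = 0 ∧ x.1 1 0 = 0 ∧ x.1 1 1 = -1) := by
  obtain ⟨h1, h2, h3⟩ := sl2_mem_center.1 h
  have hd := sl2_det x
  rw [h1, ← h3, zero_mul, sub_zero, mul_self_eq_one_iff] at hd
  rcases hd with hd | hd
  · exact Or.inl (sl2_ext hd h1 h2 (h3 ▸ hd))
  · exact Or.inr ⟨hd, h1, h2, h3 ▸ hd⟩

theorem sl2_invol_unique (h2 : (2 : K) ≠ 0) {x y : SL2 K} (hx : x * x = 1) (hy : y * y = 1)
    (hx1 : x ≠ 1) (hy1 : y ≠ 1) : x = y := by
  obtain ⟨a1, a2, a3, a4⟩ := (sl2_center_cases (sl2_mem_center_of_mul_self h2 hx)).resolve_left hx1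
  obtain ⟨b1, b2, b3, b4⟩ := (sl2_center_cases (sl2_mem_center_of_mul_self h2 hy)).resolve_left hy1
  apply sl2_ext <;> simp [*]

theorem sl2_lower_eq_zero (h2 : (2 : K) ≠ 0) {x : SL2 K} {t : K} (ht : t ≠ 0)
    (h : x * (upU t * x * (upU t)⁻¹) = upU t * x * (upU t)⁻¹ * x) : x.1 1 0 = 0 := by
  have a := congrArg (fun x : SL2 K => x.1 1 0) h
  simp only [sl2_mul, upU_inv, upU_00, upU_01, upU_10, upU_11] at a
  have : 2 * t * (x.1 1 0 * x.1 1 0) = 0 := by linear_combination a
  simpa [h2, ht] using this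

/-- an upper triangular element with equal diagonal entries -/
theorem sl2_eq_upU {x : SL2 K} (h1 : x.1 1 0 = 0) (h2 : x.1 0 0 = 1) : x = upU (x.1 0 1) := by
  have hd := sl2_det x
  rw [h1, h2] at hd
  apply sl2_ext <;> simp [*]
  linear_combination hd

variable {p : ℕ} [hp : Fact p.Prime] [CharP K p]

theorem upU_pow_char (t : K) : upU t ^ p = 1 := by
  rw [upU_pow, CharP.cast_eq_zero, zero_mul, upU_zero]

theorem eq_zero_of_upU_coprime {t : K} (h : (orderOf (upU t)).Coprime p) : t = 0 := by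
  rw [← upU_eq_one, ← orderOf_eq_one_iff]
  exact Nat.Coprime.eq_one_of_dvd h (orderOf_dvd_of_pow_eq_one (upU_pow_char t))

theorem two_ne_zero_of_char (hp2 : p ≠ 2) : (2 : K) ≠ 0 := by
  intro h
  have : ((2 : ℕ) : K) = 0 := by exact_mod_cast h
  rw [CharP.cast_eq_zero_iff K p] at this
  exact hp2 ((Nat.prime_dvd_prime_iff_eq hp.out Nat.prime_two).1 this)

theorem orderOf_upU {t : K} (ht : t ≠ 0) : orderOf (upU t) = p :=
  orderOf_eq_prime (upU_pow_char t) (mt upU_eq_one.1 ht)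

variable [Finite K]

theorem sl2_mem_center_of_upper (hp2 : p ≠ 2) {R : Subgroup (SL2 K)} (hR : (Nat.card R).Coprime p)
    (hA : upU 1 ∈ normalizer (R : Set (SL2 K))) {x : SL2 K} (hx : x ∈ R) (h : x.1 1 0 = 0) :
    x ∈ center (SL2 K) := by
  have key : ∀ t : K, upU t ∈ R → t = 0 := fun t ht =>
    eq_zero_of_upU_coprime (p := p) (Nat.Coprime.coprime_dvd_left (orderOf_dvd_card_of_mem ht) hR)
  have hd := sl2_det x
  rw [h, mul_zero, sub_zero] at hd
  have h1 : upU 1 * x * (upU 1)⁻¹ * x⁻¹ = upU (1 - x.1 0 0 ^ 2) := by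
    apply sl2_ext <;> simp only [sl2_mul, upU_inv, upU_00, upU_01, upU_10, upU_11, sl2_inv_00,
      sl2_inv_01, sl2_inv_10, sl2_inv_11, h] <;> first | linear_combination hd | ring
  have h2 := key _ (h1 ▸ mul_mem (conj_mem_of_mem_normalizer hA hx) (inv_mem hx))
  have h3 : x.1 0 0 = x.1 1 1 := by linear_combination x.1 1 1 * (-h2) - x.1 0 0 * hd
  have h4 : x * x = upU (2 * x.1 0 0 * x.1 0 1) := by
    apply sl2_ext <;> simp only [sl2_mul, upU_00, upU_01, upU_10, upU_11, h, ← h3] <;>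
      first | linear_combination -h2 | ring
  have h5 := key _ (h4 ▸ mul_mem hx hx)
  have h6 : x.1 0 0 ≠ 0 := left_ne_zero_of_mul_eq_one hd
  exact sl2_mem_center.2 ⟨by simpa [two_ne_zero_of_char (K := K) hp2, h6] using h5, h, h3⟩

theorem sl2_normal_pgroup {N : Subgroup (SL2 K)} (hN : IsPGroup p N) {μ : K} (hμ : μ ≠ 0)
    (hA : upU 1 ∈ normalizer (N : Set (SL2 K))) (hB : loU μ ∈ normalizer (N : Set (SL2 K))) :
    N = ⊥ := by
  by_contra hne
  have h1 : IsPGroup p (zpowers (upU (1 : K)) ⊔ N : Subgroup (SL2 K)) :=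
    Solv.isPGroup_sup (isPGroup_zpowers (k := 1) (by rw [pow_one, upU_pow_char])) hN
      (zpowers_le.2 hA)
  obtain ⟨u, hu, hu1⟩ := Solv.exists_ne_one_of_ne_bot
    (Solv.inf_centralizer_ne_bot_of_nilpotent h1.isNilpotent le_sup_right
      (sup_le (zpowers_le.2 hA) le_normalizer) hne)
  have hc := hu.2 _ (mem_sup_left (mem_zpowers _))
  have a := congrArg (fun x : SL2 K => x.1 0 0) hc
  simp only [sl2_mul, upU_00, upU_01, upU_10, upU_11] at a
  have h10 : u.1 1 0 = 0 := by linear_combination a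
  obtain ⟨k, hk⟩ := IsPGroup.pow_eq_one_of_mem hN hu.1
  have ht := sl2_trace_of_pow p hk
  have hd := sl2_det u
  have h00 : u.1 0 0 = 1 := by
    have : (u.1 0 0 - 1) ^ 2 = 0 := by rw [h10] at hd; linear_combination u.1 0 0 * ht - hd
    exact sub_eq_zero.1 (pow_eq_zero_iff (by decide) |>.1 this)
  have hu' := sl2_eq_upU h10 h00
  generalize u.1 0 1 = t at hu'
  subst hu'
  obtain ⟨j, hj⟩ := IsPGroup.pow_eq_one_of_mem hN (mul_mem hu.1 (conj_mem_of_mem_normalizer hB hu.1))
  have ht2 := sl2_trace_of_pow p hj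
  simp only [sl2_mul, loU_inv, upU_00, upU_01, upU_10, upU_11, loU_00, loU_01, loU_10, loU_11] at ht2
  have : (t * μ) ^ 2 = 0 := by linear_combination -ht2
  have h0 : t = 0 := by simpa [hμ] using this
  exact hu1 (upU_eq_one.2 h0)

theorem sl2_three_core (hp2 : p ≠ 2) {R : Subgroup (SL2 K)} (hR : (Nat.card R).Coprime p)
    (hA : upU 1 ∈ normalizer (R : Set (SL2 K))) (hn : ¬ R ≤ centralizer {upU (1 : K)}) :
    p = 3 ∧ ∃ x ∈ R, x.1 0 0 + x.1 1 1 = 0 ∧ x.1 1 0 ^ 2 = 1 := by
  have h2 := two_ne_zero_of_char (K := K) hp2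
  obtain ⟨L, hLR, hL, hAL, hLZ⟩ : ∃ L ≤ R, Group.IsNilpotent L ∧
      upU 1 ∈ normalizer (L : Set (SL2 K)) ∧ ¬ L ≤ center (SL2 K) := by
    by_contra hc
    push Not at hc
    refine hn (le_trans (le_of_forall_isSyl_le fun q hq _ => ?_) (center_le_centralizer _))
    haveI := Fact.mk hq
    obtain ⟨L, h1, h3⟩ := Solv.coprime_exists_sylowIn (A := zpowers (upU (1 : K))) (K := R)
      (zpowers_le.2 hA) (by rw [Nat.card_zpowers, orderOf_upU (p := p) one_ne_zero]; exact hR.symm)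
      (Or.inl (Solv.isSolvable_zpowers _)) q
    exact ⟨L, ⟨h1.1, h1.2, h1.3⟩, hc L h1.1 h1.2.isNilpotent (h3 (mem_zpowers _))⟩
  obtain ⟨M, hML, ⟨hM1, hM2, hM3⟩, hmin⟩ := Solv.exists_minimal_le
    (P := fun M : Subgroup (SL2 K) => L ≤ normalizer (M : Set (SL2 K)) ∧
      upU 1 ∈ normalizer (M : Set (SL2 K)) ∧ ¬ M ≤ center (SL2 K)) ⟨le_normalizer, hAL, hLZ⟩
  have hlt : ⁅M, L⁆ < M := Solv.commutator_lt_of_nilpotent hL hML le_rfl hM1
    (by rintro rfl; exact hM3 bot_le)
  have hZ : ⁅M, L⁆ ≤ center (SL2 K) := by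
    by_contra hc
    exact hlt.ne (hmin _ ⟨fun g hg => mem_normalizer_commutator (hM1 hg) (le_normalizer hg),
      mem_normalizer_commutator hM2 hAL, hc⟩ hlt.le)
  obtain ⟨x, hxM, hxZ⟩ := SetLike.not_le_iff_exists.1 hM3
  have hxR : x ∈ R := hLR (hML hxM)
  have hc : x.1 1 0 ≠ 0 := fun h => hxZ (sl2_mem_center_of_upper hp2 hR hA hxR h)
  have hd := sl2_det x
  have key : ∀ n : ℕ, (n : K) ≠ 0 → x.1 0 0 + x.1 1 1 = 0 ∧ (n : K) ^ 2 * x.1 1 0 ^ 2 = -2 := by
    intro n hn
    have hy : upU (n : K) * x * (upU (n : K))⁻¹ ∈ M := by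
      have := conj_mem_of_mem_normalizer (pow_mem hM2 n) hxM
      rwa [upU_pow, mul_one] at this
    generalize hy' : upU (n : K) * x * (upU (n : K))⁻¹ = y at hy
    have hxy : x * y = ⁅x, y⁆ * (y * x) := by rw [commutatorElement_def]; group
    rcases sl2_center_cases (hZ (commutator_mem_commutator hxM (hML hy))) with h | ⟨h1, h3, h4, h5⟩
    · rw [h, one_mul, ← hy'] at hxy
      exact absurd (sl2_lower_eq_zero h2 hn hxy) hc
    have a := congrArg (fun x : SL2 K => x.1 0 0) hxy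
    have b := congrArg (fun x : SL2 K => x.1 1 0) hxy
    simp only [sl2_mul _ (y * x), h1, h3, h4, h5] at a b
    subst hy'
    simp only [sl2_mul, upU_inv, upU_00, upU_01, upU_10, upU_11] at a b
    have ht : x.1 0 0 + x.1 1 1 = 0 := by
      have : 2 * x.1 1 0 * (x.1 0 0 + x.1 1 1) = 0 := by linear_combination b
      simpa [h2, hc] using this
    refine ⟨ht, ?_⟩
    linear_combination -a - 2 * hd + (2 * x.1 0 0 + n * x.1 1 0) * ht
  obtain ⟨ht, h3⟩ := key 1 (by simp)
  obtain ⟨-, h4⟩ := key 2 (by simpa using h2)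
  have h5 : ((3 : ℕ) : K) = 0 := by
    apply mul_left_cancel₀ h2
    push_cast at *
    linear_combination 4 * h3 - h4
  refine ⟨(Nat.prime_dvd_prime_iff_eq hp.out Nat.prime_three).1 ((CharP.cast_eq_zero_iff K p 3).1 h5),
    x, hxR, ht, ?_⟩
  push_cast at *
  linear_combination h3 - h5

/-- a subgroup containing `upU 1` and an element of trace zero with lower left entry `± 1`
contains a copy of `SL(2, p)` -/
theorem sl2_exists_zmod {Γ : Subgroup (SL2 K)} (hA : upU 1 ∈ Γ) {x : SL2 K} (hx : x ∈ Γ)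
    (ht : x.1 0 0 + x.1 1 1 = 0) (hc : x.1 1 0 ^ 2 = 1) :
    ∃ ψ : SL2 (ZMod p) →* SL2 K, Function.Injective ψ ∧ ψ.range ≤ Γ := by
  let f : ZMod p →+* K := ZMod.castHom dvd_rfl K
  let T : SL2 K := upU (x.1 0 0 * x.1 1 0)
  refine ⟨(MulAut.conj T).toMonoidHom.comp (Matrix.SpecialLinearGroup.map f),
    (MulAut.conj T).injective.comp (sl2_map_injective f.injective), ?_⟩
  rw [MonoidHom.range_eq_map, map_le_iff_le_comap, top_le_iff]
  refine sl2_zmod_eq_top one_ne_zero one_ne_zero ?_ ?_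
  · change T * Matrix.SpecialLinearGroup.map f (upU 1) * T⁻¹ ∈ Γ
    rw [sl2_map_upU, map_one, upU_inv, upU_mul, upU_mul, add_comm _ (1 : K), add_assoc, add_neg_cancel,
      add_zero]
    exact hA
  · change T * Matrix.SpecialLinearGroup.map f (loU 1) * T⁻¹ ∈ Γ
    have : T * Matrix.SpecialLinearGroup.map f (loU 1) * T⁻¹ = x * (upU 1)⁻¹ * x⁻¹ := by
      have hd := sl2_det x
      rw [sl2_map_loU, map_one]
      apply sl2_ext <;> simp only [T, sl2_mul, upU_inv, upU_00, upU_01, upU_10, upU_11, loU_00, loU_01,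
        loU_10, loU_11, sl2_inv_00, sl2_inv_01, sl2_inv_10, sl2_inv_11]
      · linear_combination -hd
      · linear_combination (-x.1 0 0 ^ 2) * hc
      · linear_combination -hc
      · linear_combination -hd
    rw [this]
    exact mul_mem (mul_mem hx (inv_mem hA)) (inv_mem hx)

theorem sl2_three (hp2 : p ≠ 2) {R : Subgroup (SL2 K)} (hR : (Nat.card R).Coprime p)
    (hA : upU 1 ∈ normalizer (R : Set (SL2 K))) (hn : ¬ R ≤ centralizer {upU (1 : K)}) :
    p = 3 ∧ ∃ ψ : SL2 (ZMod 3) →* SL2 K, Function.Injective ψ ∧ ψ.range ≤ R ⊔ zpowers (upU 1) := by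
  obtain ⟨rfl, x, hx, h1, h2⟩ := sl2_three_core hp2 hR hA hn
  exact ⟨rfl, sl2_exists_zmod (mem_sup_right (mem_zpowers _)) (mem_sup_left hx) h1 h2⟩

theorem eq_one_of_conj_inv_of_odd {H : Type*} [Group H] [Finite H] (ho : Odd (Nat.card H)) {c x : H}
    (h : c * x * c⁻¹ = x⁻¹) : x = 1 := by
  have h1 : Commute (c * c) x := by
    rw [commute_iff_conj]
    calc c * c * x * (c * c)⁻¹ = c * (c * x * c⁻¹) * c⁻¹ := by group
      _ = c * x⁻¹ * c⁻¹ := by rw [h]
      _ = (c * x * c⁻¹)⁻¹ := by group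
      _ = x := by rw [h, inv_inv]
  have h2 := commute_iff_conj.1
    (commute_of_commute_sq_of_odd (ho.of_dvd_nat (orderOf_dvd_natCard c)) h1)
  refine eq_one_of_odd_of_mul_self (ho.of_dvd_nat (orderOf_dvd_natCard x)) ?_
  rw [h2] at h
  nth_rewrite 1 [h]
  exact inv_mul_cancel x

theorem sl2_even (hp2 : p ≠ 2) {H : Type*} [Group H] [Finite H] (φ : H →* SL2 K)
    (hφ : Function.Injective φ) {a b : H} {μ : K} (hμ : μ ≠ 0) (ha : φ a = upU 1)
    (hb : φ b = loU μ) : Even (Nat.card H) := by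
  have h2 := two_ne_zero_of_char (K := K) hp2
  by_contra ho
  rw [Nat.not_even_iff_odd] at ho
  let M : Subgroup H :=
    { carrier := {g | (φ g).1 1 0 = 0}
      mul_mem' := fun {x y} (hx : _ = _) (hy : _ = _) => by
        change _ = _; rw [map_mul, sl2_mul, hx, hy]; ring
      one_mem' := by change _ = _; rw [map_one]; rfl
      inv_mem' := fun {x} (hx : _ = _) => by change _ = _; rw [map_inv, sl2_inv_10, hx, neg_zero] }
  let Q : Subgroup H :=
    { carrier := {g | (φ g).1 1 0 = 0 ∧ (φ g).1 0 0 = 1}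
      mul_mem' := fun {x y} hx hy => ⟨M.mul_mem hx.1 hy.1, by
        rw [map_mul, sl2_mul, hx.2, hy.1, hy.2]; ring⟩
      one_mem' := ⟨M.one_mem, by rw [map_one]; rfl⟩
      inv_mem' := fun {x} hx => ⟨M.inv_mem hx.1, by
        have := sl2_det (φ x)
        rw [hx.1, hx.2] at this
        rw [map_inv, sl2_inv_00]; linear_combination this⟩ }
  have hTI : ∀ g : H, g ∉ M → ∀ x ∈ M, g * x * g⁻¹ ∈ M → x = 1 := by
    intro g hg x hx hy
    generalize hy' : g * x * g⁻¹ = y at hy
    have he : φ y * φ g = φ g * φ x := by rw [← hy', ← map_mul, ← map_mul]; congr 1; group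
    have e1 := congrArg (fun x : SL2 K => x.1 1 0) he
    have e2 := congrArg (fun x : SL2 K => x.1 1 1) he
    change (φ x).1 1 0 = 0 at hx
    change (φ y).1 1 0 = 0 at hy
    change ¬ (φ g).1 1 0 = 0 at hg
    simp only [sl2_mul, hx, hy] at e1 e2
    have e3 : (φ y).1 1 1 = (φ x).1 0 0 := by
      apply mul_right_cancel₀ hg; linear_combination e1
    have hd := sl2_det (φ x)
    rw [hx] at hd
    by_cases hl : (φ x).1 0 0 = (φ x).1 1 1
    · have e4 : (φ x).1 0 1 = 0 := by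
        apply mul_left_cancel₀ hg; rw [e3, hl] at e2; linear_combination -e2
      refine eq_one_of_odd_of_mul_self (ho.of_dvd_nat (orderOf_dvd_natCard x)) (hφ ?_)
      rw [map_mul, map_one]
      exact sl2_center_mul_self (sl2_mem_center.2 ⟨e4, hx, hl⟩)
    have hn : x ∈ normalizer (Q : Set H) := mem_normalizer_of_conj_mem fun u hu =>
      ⟨M.mul_mem (M.mul_mem hx hu.1) (M.inv_mem hx), by
        simp only [map_mul, map_inv, sl2_mul, sl2_inv_00, sl2_inv_10, hx, hu.1, hu.2]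
        linear_combination hd⟩
    have hf : Q ⊓ centralizer {x} = ⊥ := Solv.fpf_iff.2 fun u hu hc => by
      have e := congrArg (fun x : SL2 K => x.1 0 1) (congrArg φ hc)
      have hu' := sl2_eq_upU hu.1 hu.2
      generalize (φ u).1 0 1 = t at hu'
      simp only [map_mul, sl2_mul, hu', upU_00, upU_01, upU_11] at e
      have : t = 0 := by
        apply mul_left_cancel₀ (sub_ne_zero.2 hl); linear_combination e
      apply hφ
      rw [hu', this, map_one, upU_zero]
    have hk : y⁻¹ * x⁻¹ ∈ Q := ⟨M.mul_mem (M.inv_mem hy) (M.inv_mem hx), by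
      simp only [map_mul, map_inv, sl2_mul, sl2_inv_00, sl2_inv_10, hx, e3]
      linear_combination hd⟩
    obtain ⟨t, -, ht⟩ := Solv.exists_conj_eq_mul_of_fpf hn hf hk
    refine eq_one_of_conj_inv_of_odd ho (c := g⁻¹ * t) ?_
    calc g⁻¹ * t * x * (g⁻¹ * t)⁻¹ = g⁻¹ * (t * x * t⁻¹) * g := by group
      _ = x⁻¹ := by rw [ht, ← hy']; group
  obtain ⟨N, hN, -, hc⟩ := Char.frobenius_normal_complement hTI
  have haM : a ∈ M := by change _ = _; rw [ha]; rfl
  have hfpf : ∀ h ∈ zpowers a, h ≠ 1 → N ⊓ centralizer {h} = ⊥ := fun h hh h1 =>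
    Solv.fpf_iff.2 fun n hn hc' => by
      have hM : h ∈ M := zpowers_le.2 haM hh
      have : n ∈ M := by
        by_contra hnM
        exact h1 (hTI n hnM h hM (by rw [← hc', mul_inv_cancel_right]; exact hM))
      exact (mem_bot).1 (Solv.IsComplement'.inf_eq_bot hc ▸ mem_inf.2 ⟨hn, this⟩)
  have ha1 : a ≠ 1 := by
    rintro rfl
    rw [map_one, eq_comm, upU_eq_one] at ha
    exact one_ne_zero ha
  have hcop := Solv.coprime_of_fpf (le_normalizer_of_normal) hfpf
  rw [Nat.card_zpowers, ← orderOf_injective φ hφ, ha, orderOf_upU (p := p) one_ne_zero] at hcop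
  obtain ⟨-, x, ⟨n, hn, rfl⟩, h3, h4⟩ := sl2_three_core hp2 (R := N.map φ)
    (by rw [card_map_of_injective hφ]; exact hcop.symm)
    (ha ▸ le_normalizer_map φ ⟨a, le_normalizer_of_normal (mem_top a), rfl⟩) (fun hle => by
      have hb' : N = ⊥ := by
        rw [← hfpf a (mem_zpowers a) ha1, left_eq_inf]
        intro n hn
        rw [Solv.mem_centralizer_singleton]
        apply hφ
        rw [map_mul, map_mul, ha]
        exact Solv.mem_centralizer_singleton.1 (hle ⟨n, hn, rfl⟩)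
      have : b ∈ M := by
        have := hc.sup_eq_top
        rw [hb', bot_sup_eq] at this
        rw [this]; trivial
      change _ = _ at this
      rw [hb] at this
      exact hμ this)
  have hd := sl2_det (φ n)
  have h5 : n * n * (n * n) = 1 := by
    apply hφ
    rw [map_mul, map_one, map_mul]
    refine sl2_center_mul_self (sl2_mem_center.2 ⟨?_, ?_, ?_⟩) <;> simp only [sl2_mul]
    · linear_combination (φ n).1 0 1 * h3
    · linear_combination (φ n).1 1 0 * h3
    · linear_combination ((φ n).1 0 0 - (φ n).1 1 1) * h3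
  have h6 := eq_one_of_odd_of_mul_self (ho.of_dvd_nat (orderOf_dvd_natCard _))
    (eq_one_of_odd_of_mul_self (ho.of_dvd_nat (orderOf_dvd_natCard _)) h5)
  rw [h6, map_one] at h4
  simp at h4

theorem sl2_not_abelian_sylow (hp2 : p ≠ 2) {H : Type*} [Group H] [Finite H] (φ : H →* SL2 K)
    {a b : H} (hab : closure {a, b} = ⊤) {μ : K} (hμ : μ ≠ 0) (ha : φ a = upU 1)
    (hb : φ b = loU μ) (T : Sylow 2 H) : ¬ IsMulCommutative T := by
  intro hT
  have h2 := two_ne_zero_of_char (K := K) hp2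
  let S : Sylow 2 φ.range := T.mapSurjective φ.rangeRestrict_surjective
  have hS : IsMulCommutative S := by
    change IsMulCommutative ((T : Subgroup H).map φ.rangeRestrict)
    infer_instance
  have hcyc : IsCyclic S := by
    by_contra hc
    obtain ⟨q, hq, E, hE, hE'⟩ := Solv.exists_elementary_sq_of_not_isCyclic hS hc
    have hq2 : q = 2 := by
      obtain ⟨k, hk⟩ := (S.isPGroup'.to_subgroup E).exists_card_eq
      rw [hE] at hk
      exact (Nat.prime_dvd_prime_iff_eq hq Nat.prime_two).1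
        (hq.dvd_of_dvd_pow (hk ▸ dvd_pow_self q (by decide)))
    subst hq2
    obtain ⟨u, v, hu, hv, -, huv, -, h⟩ := exists_klein_elems
      (klein_of_elem (elem_two_of_mul_self fun a ha => by rw [← sq]; exact hE' a ha) hE)
    obtain ⟨hu1, hu2⟩ := invol_iff.1 hu
    obtain ⟨hv1, hv2⟩ := invol_iff.1 hv
    refine huv (Subtype.ext (Subtype.ext (sl2_invol_unique h2 ?_ ?_ ?_ ?_)))
    · exact congrArg (fun x : S => (x.1.1 : SL2 K)) hu1
    · exact congrArg (fun x : S => (x.1.1 : SL2 K)) hv1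
    · exact fun h => hu2 (Subtype.ext (Subtype.ext h))
    · exact fun h => hv2 (Subtype.ext (Subtype.ext h))
  have hodd : p.Coprime 2 := (Nat.coprime_primes hp.out Nat.prime_two).2 hp2
  have htop : pResidual 2 φ.range = ⊤ := by
    rw [eq_top_iff, ← map_top_of_surjective _ φ.rangeRestrict_surjective, ← hab, MonoidHom.map_closure,
      closure_le]
    rintro _ ⟨x, rfl | rfl, rfl⟩ <;> refine mem_pResidual_of_coprime ?_ <;>
      rw [← orderOf_injective _ φ.range.subtype_injective]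
    · change (orderOf (φ x)).Coprime 2
      rwa [ha, orderOf_upU (p := p) one_ne_zero]
    · change (orderOf (φ x)).Coprime 2
      refine Nat.Coprime.coprime_dvd_left (orderOf_dvd_of_pow_eq_one ?_) hodd
      rw [hb, loU_pow, CharP.cast_eq_zero, zero_mul, loU_zero]
  have h3 := hasNPC_iff_not_dvd.1 (hasNPC_two_of_isCyclic S hcyc)
  rw [htop, card_top] at h3
  exact h3 (even_iff_two_dvd.1 (sl2_even hp2 φ.range.subtype φ.range.subtype_injective
    (a := φ.rangeRestrict a) (b := φ.rangeRestrict b) hμ ha hb))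

end Field

/-- a section isomorphic to `Y` from a homomorphism whose image contains a copy of `Y` -/
theorem exists_section {G X Y : Type*} [Group G] [Group X] [Group Y] {H : Subgroup G} (φ : H →* X)
    (ψ : Y →* X) (hψ : Function.Injective ψ) (h : ψ.range ≤ φ.range) :
    ∃ (K L : Subgroup G) (_ : (L.subgroupOf K).Normal), K ≤ H ∧
      Nonempty ((K ⧸ L.subgroupOf K) ≃* Y) := by
  let K : Subgroup G := (ψ.range.comap φ).map H.subtype
  have hK : K ≤ H := map_subtype_le _
  have h1 : ∀ x : K, φ (inclusion hK x) ∈ ψ.range := by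
    rintro ⟨_, x, hx, rfl⟩; exact hx
  let θ : K →* Y := (MonoidHom.ofInjective hψ).symm.toMonoidHom.comp
    ((φ.comp (inclusion hK)).codRestrict _ h1)
  have hθ : Function.Surjective θ := by
    refine (MonoidHom.ofInjective hψ).symm.surjective.comp ?_
    rintro ⟨y, hy⟩
    obtain ⟨x, rfl⟩ := h hy
    exact ⟨⟨x, x, hy, rfl⟩, rfl⟩
  have he : (θ.ker.map K.subtype).subgroupOf K = θ.ker := Solv.map_subtype_subgroupOf _ _
  haveI hn : ((θ.ker.map K.subtype).subgroupOf K).Normal := he.symm ▸ inferInstance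
  refine ⟨K, θ.ker.map K.subtype, hn, hK,
    ⟨(QuotientGroup.quotientMulEquivOfEq he).trans (QuotientGroup.quotientKerEquivOfSurjective θ hθ)⟩⟩

end Cfsg.Agent.Transfer
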