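import Cfsg.Agent.Lib.MS.Base
import Cfsg.Agent.Lib.Comp.Loc
import Cfsg.Agent.Lib.Solv.Fact
import Cfsg.Prelude.Def_BaumannBlocks

set_option autoImplicit false
set_option linter.unusedSectionVars false

namespace Cfsg.Agent.Transfer
open Subgroup Cfsg.Agent.MS
open scoped commutatorElement Pointwise

universe u
variable {G : Type u} [Group G] [Finite G]

namespace CD
variable {Q R A B : Subgroup G}

theorem card_center (R : Subgroup G) : #(center R) = #(R ⊓ CC R : Subgroup G) := by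
  rw [← Comp.map_center_subtype, card_subtype]

theorem le_max (X : Subgroup G) : #X * #(CC X) ≤ maxCentralizerProduct G := by
  refine le_csSup ⟨#G * #G, ?_⟩ ⟨X, rfl⟩
  rintro _ ⟨Y, rfl⟩
  exact Nat.mul_le_mul (card_le_card_group _) (card_le_card_group _)

theorem le_max' (X : Subgroup G) : #X * #(X ⊓ CC X : Subgroup G) ≤ maxCentralProduct G := by
  rw [← card_center]
  refine le_csSup ⟨#G * #G, ?_⟩ ⟨X, rfl⟩
  rintro _ ⟨Y, rfl⟩
  refine Nat.mul_le_mul (card_le_card_group _) ?_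
  rw [card_center]; exact card_le_card_group _

theorem exists_large : ∃ R : Subgroup G, IsCentralizerLarge R := by
  refine Nat.sSup_mem (s := {k : ℕ | ∃ R : Subgroup G, #R * #(CC R) = k}) ⟨_, ⊥, rfl⟩ ⟨#G * #G, ?_⟩
  rintro _ ⟨Y, rfl⟩
  exact Nat.mul_le_mul (card_le_card_group _) (card_le_card_group _)

theorem max_pos : 0 < maxCentralizerProduct G :=
  lt_of_lt_of_le (Nat.mul_pos (card_pos' _) (card_pos' _)) (le_max ⊥)

theorem large_of_le (h : maxCentralizerProduct G ≤ #Q * #(CC Q)) : IsCentralizerLarge Q :=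
  le_antisymm (le_max Q) h

theorem le_cc_cc (Q : Subgroup G) : Q ≤ CC (CC Q) := cc_symm le_rfl

theorem large_cc (hQ : IsCentralizerLarge Q) : IsCentralizerLarge (CC Q) ∧ CC (CC Q) = Q := by
  have h1 : #Q ≤ #(CC (CC Q)) := card_le_of_le (le_cc_cc Q)
  have h2 := le_max (CC Q)
  have h3 : #Q * #(CC Q) = _ := hQ
  have h4 := card_pos' (CC Q)
  refine ⟨large_of_le ?_, (eq_of_card_le (le_cc_cc Q) ?_).symm⟩
  · rw [← h3, mul_comm]; exact Nat.mul_le_mul_left _ h1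
  · rw [← h3, mul_comm #Q] at h2; exact Nat.le_of_mul_le_mul_left h2 h4

theorem arith {a b c d e m : ℕ} (hm : 0 < m) (h1 : a ≤ b) (h2 : c ≤ d) (h3 : d ≤ e) (h4 : a * c = m)
    (h5 : b * e ≤ m) : a = b ∧ c = d ∧ d = e ∧ b * e = m := by
  have ha : 0 < a := Nat.pos_of_mul_pos_right (h4 ▸ hm)
  have hc : 0 < c := Nat.pos_of_mul_pos_left (h4 ▸ hm)
  have h6 : a * c ≤ b * e := Nat.mul_le_mul h1 (h2.trans h3)
  have h7 : b * e = a * c := by omega
  have h8 : b ≤ a := by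
    by_contra h
    have : a * c < b * e := Nat.mul_lt_mul_of_lt_of_le (by omega) (h2.trans h3) (by omega)
    omega
  have h9 : e ≤ c := by
    by_contra h
    have : a * c < b * e := Nat.mul_lt_mul_of_le_of_lt h1 (by omega) (by omega)
    omega
  omega

theorem arith2 {x y m : ℕ} (hm : 0 < m) (h1 : x ≤ m) (h2 : y ≤ m) (h : x * y = m * m) : x = m ∧ y = m := by
  constructor
  · by_contra h3
    have : x * y < m * m := Nat.mul_lt_mul_of_lt_of_le (by omega) h2 hm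
    omega
  · by_contra h3
    have : x * y < m * m := Nat.mul_lt_mul_of_le_of_lt h1 (by omega) hm
    omega

theorem large_two (hQ : IsCentralizerLarge Q) (hR : IsCentralizerLarge R) :
    #(Q ⊔ R : Subgroup G) * #(Q ⊓ R : Subgroup G) = #Q * #R ∧ IsCentralizerLarge (Q ⊔ R) ∧
      IsCentralizerLarge (Q ⊓ R) ∧ CC (Q ⊓ R) = CC Q ⊔ CC R := by
  have h1 := Comp.card_mul_card_le (le_sup_left : Q ≤ Q ⊔ R) le_sup_right
  have h2 := Comp.card_mul_card_le (le_sup_left : CC Q ≤ CC Q ⊔ CC R) le_sup_right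
  have h0 : CC Q ⊔ CC R ≤ CC (Q ⊓ R) := sup_le (cc_anti inf_le_left) (cc_anti inf_le_right)
  have h3 : #(CC Q ⊔ CC R : Subgroup G) * #(CC Q ⊓ CC R : Subgroup G) ≤
      #(CC (Q ⊓ R)) * #(CC (Q ⊔ R)) := by
    rw [cc_sup]; exact Nat.mul_le_mul_right _ (card_le_of_le h0)
  have hm := max_pos (G := G)
  have h4 : #Q * #R * (#(CC Q) * #(CC R)) = maxCentralizerProduct G * maxCentralizerProduct G := by
    have a : #Q * #(CC Q) = _ := hQ
    have b : #R * #(CC R) = _ := hR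
    conv_rhs => rw [← a]; arg 2; rw [a, ← b]
    ring
  have h6 : #(Q ⊔ R : Subgroup G) * #(Q ⊓ R : Subgroup G) * (#(CC (Q ⊓ R)) * #(CC (Q ⊔ R))) =
    (#(Q ⊔ R : Subgroup G) * #(CC (Q ⊔ R))) * (#(Q ⊓ R : Subgroup G) * #(CC (Q ⊓ R))) := by ring
  obtain ⟨e1, -, e3, e4⟩ := arith (Nat.mul_pos hm hm) h1 h2 h3 h4
    (by rw [h6]; exact Nat.mul_le_mul (le_max _) (le_max _))
  rw [h6] at e4
  obtain ⟨e5, e6⟩ := arith2 hm (le_max _) (le_max _) e4
  refine ⟨e1.symm, e5, e6, (eq_of_card_le h0 ?_).symm⟩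
  rw [← cc_sup] at e3
  exact (Nat.eq_of_mul_eq_mul_right (card_pos' _) e3).ge

theorem coe_sup_of_card (h : #(Q ⊔ R : Subgroup G) * #(Q ⊓ R : Subgroup G) = #Q * #R) :
    ((Q ⊔ R : Subgroup G) : Set G) = (Q : Set G) * (R : Set G) :=
  (Comp.coe_eq_mul_iff_card le_sup_left le_sup_right).2 h

theorem mem_of_coe (h : ((Q ⊔ R : Subgroup G) : Set G) = (Q : Set G) * (R : Set G)) {x : G}
    (hx : x ∈ Q ⊔ R) : ∃ a ∈ Q, ∃ b ∈ R, x = a * b := by
  have : x ∈ ((Q ⊔ R : Subgroup G) : Set G) := hx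
  rw [h] at this
  obtain ⟨a, ha, b, hb, e⟩ := this
  exact ⟨a, ha, b, hb, e.symm⟩

theorem large_mem (hQ : IsCentralizerLarge Q) (hR : IsCentralizerLarge R) {x : G}
    (hx : x ∈ Q ⊔ R) : ∃ a ∈ Q, ∃ b ∈ R, x = a * b :=
  mem_of_coe (coe_sup_of_card (large_two hQ hR).1) hx

theorem large_cj (hQ : IsCentralizerLarge Q) (g : G) : IsCentralizerLarge (cj g Q) := by
  unfold IsCentralizerLarge at *
  rw [← hQ, ← cj_centralizer, card_cj, card_cj]

theorem max_eq : maxCentralProduct G = maxCentralizerProduct G := by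
  apply le_antisymm
  · refine csSup_le ⟨_, ⊥, rfl⟩ ?_
    rintro _ ⟨Y, rfl⟩
    refine le_trans ?_ (le_max Y)
    rw [card_center]
    exact Nat.mul_le_mul_left _ (card_le_of_le inf_le_right)
  · obtain ⟨R, hR⟩ := exists_large (G := G)
    have h := (large_two hR (large_cc hR).1).2.1
    have h2 : CC (R ⊔ CC R) ≤ R ⊔ CC R := by rw [cc_sup]; exact inf_le_left.trans le_sup_right
    have h3 := le_max' (R ⊔ CC R)
    rw [inf_eq_right.2 h2] at h3
    exact h.symm.le.trans h3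

theorem cl_iff : IsCentrallyLarge Q ↔ IsCentralizerLarge Q ∧ CC Q ≤ Q := by
  unfold IsCentrallyLarge
  rw [card_center, max_eq]
  constructor
  · intro h
    have h1 : #(Q ⊓ CC Q : Subgroup G) ≤ #(CC Q) := card_le_of_le inf_le_right
    have h2 := le_max Q
    refine ⟨large_of_le (h.symm.le.trans (Nat.mul_le_mul_left _ h1)), ?_⟩
    rw [← h] at h2
    exact (eq_of_card_le inf_le_right (Nat.le_of_mul_le_mul_left h2 (card_pos' _))).ge.trans inf_le_left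
  · rintro ⟨h1, h2⟩
    rw [inf_eq_right.2 h2]; exact h1

theorem cl_sup (hQ : IsCentrallyLarge Q) (hR : IsCentralizerLarge R) : IsCentrallyLarge (Q ⊔ R) := by
  rw [cl_iff] at *
  refine ⟨(large_two hQ.1 hR).2.1, ?_⟩
  rw [cc_sup]; exact inf_le_left.trans (hQ.2.trans le_sup_left)

theorem cl_cj (hQ : IsCentrallyLarge Q) (g : G) : IsCentrallyLarge (cj g Q) := by
  rw [cl_iff] at *
  refine ⟨large_cj hQ.1 g, ?_⟩
  rw [← cj_centralizer]; exact cj_mono g hQ.2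

theorem mcl_cj (hQ : IsMinimalCentrallyLarge Q) (g : G) : IsMinimalCentrallyLarge (cj g Q) := by
  refine ⟨cl_cj hQ.1 g, fun R h1 h2 => ?_⟩
  have := hQ.2 (cj g⁻¹ R) (le_cj_iff_cj_inv_le.1 h1) (cl_cj h2 _)
  rw [← this, cj_cj_inv]

theorem exists_cl : ∃ R : Subgroup G, IsCentrallyLarge R := by
  obtain ⟨R, hR⟩ := exists_large (G := G)
  refine ⟨R ⊔ CC R, cl_iff.2 ⟨(large_two hR (large_cc hR).1).2.1, ?_⟩⟩
  rw [cc_sup]; exact inf_le_left.trans le_sup_right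

theorem exists_mcl_le (hQ : IsCentrallyLarge Q) : ∃ R ≤ Q, IsMinimalCentrallyLarge R := by
  obtain ⟨R, h1, h2⟩ := (Set.toFinite {R : Subgroup G | IsCentrallyLarge R}).exists_le_minimal hQ
  exact ⟨R, h1, h2.1, fun R' h3 h4 => le_antisymm h3 (h2.2 h4 h3)⟩

theorem sup_sSup {Pr : Subgroup G → Prop} (s : Set (Subgroup G)) (hQ : Pr Q)
    (h : ∀ X, Pr X → ∀ Y ∈ s, Pr (X ⊔ Y)) : Pr (Q ⊔ sSup s) := by
  obtain ⟨M, h1, h2⟩ := (Set.toFinite {R : Subgroup G | Pr R ∧ R ≤ Q ⊔ sSup s}).exists_le_maximal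
    (a := Q) ⟨hQ, le_sup_left⟩
  have : Q ⊔ sSup s = M := by
    refine le_antisymm (sup_le h1 (sSup_le fun Y hY => ?_)) h2.1.2
    exact le_sup_right.trans (h2.2 (y := M ⊔ Y) ⟨h _ h2.1.1 Y hY,
      sup_le h2.1.2 ((le_sSup hY).trans le_sup_right)⟩ le_sup_left)
  rw [this]; exact h2.1.1

theorem cl_sSup (s : Set (Subgroup G)) (hQ : Q ∈ s) (h : ∀ Y ∈ s, IsCentrallyLarge Y) :
    IsCentrallyLarge (sSup s) := by
  have := sup_sSup s (h Q hQ) fun X hX Y hY => cl_sup hX (cl_iff.1 (h Y hY)).1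
  rwa [sup_eq_right.2 (le_sSup hQ)] at this

theorem cl_join : IsCentrallyLarge (centrallyLargeJoin G) := by
  obtain ⟨R, hR⟩ := exists_cl (G := G)
  exact cl_sSup _ hR fun _ h => h

theorem cl_mjoin : IsCentrallyLarge (minimalCentrallyLargeJoin G) := by
  obtain ⟨R, hR⟩ := exists_cl (G := G)
  obtain ⟨Q, -, hQ⟩ := exists_mcl_le hR
  exact cl_sSup _ hQ fun _ h => h.1

theorem ab_sup (hA : IsMulCommutative A) (hB : IsMulCommutative B) (h : A ≤ CC B) :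
    IsMulCommutative (A ⊔ B : Subgroup G) :=
  ab_iff.2 (sup_le (le_cc_sup (ab_cc hA) h) (le_cc_sup (cc_symm h) (ab_cc hB)))

theorem cc_maxAb (hA : A ∈ maxAbelianSubgroups G) : CC A = A := by
  refine le_antisymm (fun x hx => ?_) (ab_cc hA.1)
  have h := ab_sup hA.1 (ab_of_cyc (cyc_zpowers x)) (cc_symm (zpowers_le.2 hx))
  exact (eq_of_card_le le_sup_left (hA.2 _ h)).ge (mem_sup_right (mem_zpowers x))

theorem exists_maxAb : ∃ A : Subgroup G, A ∈ maxAbelianSubgroups G := by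
  obtain ⟨A, h1, h2⟩ := (Set.toFinite {R : Subgroup G | IsMulCommutative R}).exists_maximalFor
    (fun R : Subgroup G => #R) _ ⟨⊥, ab_of_cyc cyc_bot⟩
  exact ⟨A, h1, fun B hB => le_of_not_gt fun h => absurd (h2 hB h.le) (not_le.2 h)⟩

theorem ab_cc_cl (hQ : IsCentrallyLarge Q) : IsMulCommutative (CC Q) :=
  ab_iff.2 ((cl_iff.1 hQ).2.trans (le_cc_cc Q))

theorem cl_maxAb (hQ : IsCentrallyLarge Q) (hA : A ∈ maxAbelianSubgroups G) :
    #(Q ⊔ A : Subgroup G) * #(Q ⊓ A : Subgroup G) = #Q * #A ∧ IsCentrallyLarge (Q ⊔ A) ∧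
      (Q ⊓ A) ⊔ CC Q ∈ maxAbelianSubgroups G := by
  obtain ⟨h1, h2⟩ := cl_iff.1 hQ
  have hD : IsMulCommutative ((Q ⊓ A) ⊔ CC Q : Subgroup G) :=
    ab_sup (ab_mono hA.1 inf_le_right) (ab_cc_cl hQ) (inf_le_left.trans (le_cc_cc Q))
  have e1 := card_sup_mul_card_inf (nn_of_cc (inf_le_left.trans (le_cc_cc Q)) : Q ⊓ A ≤ NN (CC Q))
  have e2 : Q ⊓ A ⊓ CC Q = CC (Q ⊔ A) := by
    rw [cc_sup, cc_maxAb hA]
    exact le_antisymm (le_inf inf_le_right (inf_le_left.trans inf_le_right))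
      (le_inf (inf_le_inf_right _ h2) inf_le_left)
  rw [e2] at e1
  have e3 := Comp.card_mul_card_le (le_sup_left : Q ≤ Q ⊔ A) le_sup_right
  have e4 := hA.2 _ hD
  have e5 := le_max (Q ⊔ A)
  have e6 : #Q * #(CC Q) = _ := h1
  rw [← e6] at e5
  set a := #Q
  set b := #(CC Q)
  set c := #A
  set d := #(Q ⊓ A ⊔ CC Q : Subgroup G)
  set e := #(CC (Q ⊔ A))
  set f := #(Q ⊓ A : Subgroup G)
  set s := #(Q ⊔ A : Subgroup G)
  have pa : 0 < a := card_pos' _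
  have pe : 0 < e := card_pos' _
  have pf : 0 < f := card_pos' _
  -- s*e*f ≤ a*b*f = a*d*e ≤ a*c*e ≤ s*f*e
  have k1 : s * f * e ≤ a * d * e := by
    calc s * f * e = s * e * f := by ring
      _ ≤ a * b * f := Nat.mul_le_mul_right _ e5
      _ = a * (d * e) := by rw [e1]; ring
      _ = _ := by ring
  have k2 : s * f ≤ a * d := Nat.le_of_mul_le_mul_right k1 pe
  have k3 : a * d ≤ a * c := Nat.mul_le_mul_left _ e4
  have k4 : s * f = a * c := by omega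
  have k5 : c ≤ d := Nat.le_of_mul_le_mul_left (by omega) pa
  refine ⟨k4, cl_iff.2 ⟨large_of_le ?_, ?_⟩, hD, fun B hB => (hA.2 B hB).trans k5⟩
  · rw [← e6]
    refine Nat.le_of_mul_le_mul_right (le_of_eq ?_) pf
    calc a * b * f = a * (d * e) := by rw [e1]; ring
      _ = s * f * e := by rw [k4, le_antisymm k5 e4]; ring
      _ = _ := by ring
  · rw [cc_sup]; exact inf_le_left.trans (h2.trans le_sup_left)

theorem mem_of_cc (hQ : IsCentrallyLarge Q) (hA : A ∈ maxAbelianSubgroups G) {x : G}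
    (h1 : x ∈ Q ⊔ A) (h2 : x ∈ CC (Q ⊓ A)) : ∃ a ∈ CC Q, ∃ b ∈ A, x = a * b := by
  obtain ⟨k1, -, k3⟩ := cl_maxAb hQ hA
  obtain ⟨q, hq, a, ha, rfl⟩ := mem_of_coe (coe_sup_of_card k1) h1
  have h3 : a ∈ CC (Q ⊓ A) := ab_le_cc hA.1 le_rfl inf_le_right ha
  have h4 : q ∈ CC ((Q ⊓ A) ⊔ CC Q) := by
    rw [cc_sup]; exact ⟨(Subgroup.mul_mem_cancel_right _ h3).1 h2, le_cc_cc Q hq⟩
  rw [cc_maxAb k3, sup_comm] at h4
  obtain ⟨z, hz, b, hb, rfl⟩ := (mem_sup_l (nn_of_cc (inf_le_left.trans (le_cc_cc Q)))).1 h4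
  exact ⟨z, hz, b * a, A.mul_mem hb.2 ha, mul_assoc _ _ _⟩

theorem cc_le_cc (hQ : IsCentrallyLarge Q) (hA : A ∈ maxAbelianSubgroups G) :
    CC Q ⊔ A ≤ (Q ⊔ A) ⊓ CC (Q ⊓ A) :=
  sup_le (le_inf ((cl_iff.1 hQ).2.trans le_sup_left) (cc_anti inf_le_left))
    (le_inf le_sup_right (ab_le_cc hA.1 le_rfl inf_le_right))

theorem cl_J (hQ : IsCentrallyLarge Q) : IsCentrallyLarge (Q ⊔ thompsonSubgroupA G) :=
  sup_sSup _ hQ fun _ hX _ hY => (cl_maxAb hX hY).2.1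

theorem cc_J_le : CC (thompsonSubgroupA G) ≤ thompsonSubgroupA G := by
  obtain ⟨A, hA⟩ := exists_maxAb (G := G)
  have h : A ≤ thompsonSubgroupA G := le_sSup hA
  exact (cc_anti h).trans ((cc_maxAb hA).le.trans h)

theorem tilde_le (hQ : IsCentrallyLarge Q) :
    CC (thompsonSubgroupA G ⊓ CC (thompsonSubgroupA G)) ≤ Q ⊔ thompsonSubgroupA G := by
  rw [inf_eq_right.2 cc_J_le]
  exact (cc_anti (cc_anti le_sup_right)).trans (large_cc (cl_iff.1 (cl_J hQ)).1).2.le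

theorem mcl_eq (hQ : IsMinimalCentrallyLarge Q) (hR : IsCentrallyLarge R) : (Q ⊓ R) ⊔ CC Q = Q := by
  obtain ⟨h1, h2⟩ := cl_iff.1 hQ.1
  obtain ⟨h3, h4⟩ := cl_iff.1 hR
  obtain ⟨-, -, k1, k2⟩ := large_two h1 h3
  refine hQ.2 _ (sup_le inf_le_left h2) (cl_iff.2 ⟨(large_two k1 (large_cc h1).1).2.1, ?_⟩)
  rw [cc_sup, k2, (large_cc h1).2]
  rintro x ⟨hx1, hx2⟩
  obtain ⟨a, ha, b, hb, rfl⟩ := large_mem (large_cc h1).1 (large_cc h3).1 hx1
  exact mul_mem (mem_sup_right ha) (mem_sup_left ⟨(Subgroup.mul_mem_cancel_left _ (h2 ha)).1 hx2, h4 hb⟩)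

theorem mcl_inf (hQ : IsCentrallyLarge Q) (hR : IsMinimalCentrallyLarge R) : CC Q ⊓ R = CC Q ⊓ CC R := by
  refine le_antisymm (le_inf inf_le_left ?_) (inf_le_inf_left _ (cl_iff.1 hR.1).2)
  conv_rhs => rw [← mcl_eq hR hQ]
  exact le_cc_sup (inf_le_left.trans (cc_anti inf_le_right)) (inf_le_right.trans (le_cc_cc R))

theorem der_sup_cc (h : A ⊔ B ≤ CC B) : ⁅A ⊔ B, A ⊔ B⁆ = ⁅A, A⁆ := by
  refine le_antisymm ?_ (der_mono le_sup_left)
  have h1 : A ≤ NN ⁅A, A⁆ := left_nn_comm _ _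
  have h2 : B ≤ NN ⁅A, A⁆ := nn_of_cc (cc_symm ((der_le A).trans (le_sup_left.trans h)))
  refine comm_sup_l h1 h2 (comm_sup_r h1 h2 le_rfl ?_) ?_
  · rw [comm_eq_bot.2 (le_sup_left.trans h)]; exact bot_le
  · rw [comm_eq_bot'.2 h]; exact bot_le

theorem mcl_der' (hQ : IsMinimalCentrallyLarge Q) (hR : IsCentrallyLarge R) : ⁅Q, Q⁆ = ⁅Q ⊓ R, Q ⊓ R⁆ := by
  conv_lhs => rw [← mcl_eq hQ hR]
  exact der_sup_cc ((mcl_eq hQ hR).le.trans (le_cc_cc Q))

theorem mcl_der (hQ : IsMinimalCentrallyLarge Q) (hR : IsMinimalCentrallyLarge R) : ⁅Q, Q⁆ = ⁅R, R⁆ := by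
  rw [mcl_der' hQ hR.1, mcl_der' hR hQ.1, inf_comm]

theorem mcl_card' (hQ : IsMinimalCentrallyLarge Q) (hR : IsMinimalCentrallyLarge R) :
    #Q * #(CC Q ⊓ CC R : Subgroup G) = #(Q ⊓ R : Subgroup G) * #(CC Q) := by
  have e1 := card_sup_mul_card_inf (nn_of_cc (inf_le_left.trans (le_cc_cc Q)) : Q ⊓ R ≤ NN (CC Q))
  rw [mcl_eq hQ hR.1] at e1
  rw [← e1, ← mcl_inf hQ.1 hR]
  congr 3
  exact le_antisymm (le_inf (inf_le_inf_right _ (cl_iff.1 hQ.1).2) inf_le_left)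
    (le_inf inf_le_right (inf_le_left.trans inf_le_right))

theorem mcl_card (hQ : IsMinimalCentrallyLarge Q) (hR : IsMinimalCentrallyLarge R) :
    #Q = #R ∧ #(CC Q) = #(CC R) := by
  have e1 := mcl_card' hQ hR
  have e2 := mcl_card' hR hQ
  rw [inf_comm (CC R), inf_comm R] at e2
  have e3 : #Q * #(CC Q) = #R * #(CC R) := (cl_iff.1 hQ.1).1.trans (cl_iff.1 hR.1).1.symm
  set a := #Q
  set b := #(CC Q)
  set c := #R
  set d := #(CC R)
  set e := #(CC Q ⊓ CC R : Subgroup G)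
  set f := #(Q ⊓ R : Subgroup G)
  have pa : 0 < a := card_pos' _
  have pe : 0 < e := card_pos' _
  have k : e * (a * a) = e * (c * c) := by
    calc e * (a * a) = a * e * a := by ring
      _ = f * (a * b) := by rw [e1]; ring
      _ = f * d * c := by rw [e3]; ring
      _ = _ := by rw [← e2]; ring
  have k2 : a = c := Nat.mul_self_inj.1 (Nat.eq_of_mul_eq_mul_left pe k)
  refine ⟨k2, Nat.eq_of_mul_eq_mul_left pa ?_⟩
  rw [e3, k2]

theorem sq_le (hB : IsMulCommutative B) : #B * #B ≤ maxCentralizerProduct G :=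
  (Nat.mul_le_mul_left _ (card_le_of_le (ab_cc hB))).trans (le_max B)

theorem cl_ab (hQ : IsCentrallyLarge Q) (h : IsMulCommutative Q) : #Q * #Q = maxCentralizerProduct G := by
  obtain ⟨h1, h2⟩ := cl_iff.1 hQ
  have h3 : #Q * #(CC Q) = _ := h1
  rwa [le_antisymm h2 (ab_cc h)] at h3

theorem cl_ab_max (hQ : IsCentrallyLarge Q) (h : IsMulCommutative Q) : Q ∈ maxAbelianSubgroups G :=
  ⟨h, fun _ hB => Nat.mul_self_le_mul_self_iff.1 ((sq_le hB).trans (cl_ab hQ h).ge)⟩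

theorem mcl_of_sq (hA : A ∈ maxAbelianSubgroups G) (h : maxCentralizerProduct G ≤ #A * #A) :
    IsMinimalCentrallyLarge A := by
  refine ⟨cl_iff.2 ⟨large_of_le (by rwa [cc_maxAb hA]), (cc_maxAb hA).le⟩, fun R h1 h2 => ?_⟩
  exact eq_of_card_le h1 ((cl_ab_max h2 (ab_mono hA.1 h1)).2 A hA.1)

theorem mcl_iff (hQ : IsMinimalCentrallyLarge Q) (h : IsMulCommutative Q) :
    IsMinimalCentrallyLarge A ↔ A ∈ maxAbelianSubgroups G := by
  refine ⟨fun hA => cl_ab_max hA.1 (ab_iff_der.2 ((mcl_der hA hQ).trans (ab_iff_der.1 h))), fun hA => ?_⟩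
  refine mcl_of_sq hA ?_
  rw [← cl_ab hQ.1 h]
  exact Nat.mul_self_le_mul_self (hA.2 Q h)

theorem large_trivial [IsSimpleGroup G] (hQ : IsCentralizerLarge Q) : Q = ⊥ ∨ Q = ⊤ := by
  by_contra hc
  push Not at hc
  obtain ⟨M, h1, h2⟩ := (Set.toFinite {R : Subgroup G | IsCentralizerLarge R ∧ R ≠ ⊤}).exists_le_maximal
    (a := Q) ⟨hQ, hc.2⟩
  have hn : M.Normal := by
    refine normalizer_eq_top_iff.1 (eq_top_iff.2 fun g _ => mem_normalizer_of_cj_le ?_)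
    by_cases h : M ⊔ cj g M = ⊤
    · obtain ⟨a, ha, b, hb, e⟩ := large_mem h2.1.1 (large_cj h2.1.1 g) (h.ge (mem_top g⁻¹))
      rw [mem_cj] at hb
      have : g = a⁻¹ * (g⁻¹ * b * g)⁻¹ := by
        have : b = a⁻¹ * g⁻¹ := by rw [e]; group
        rw [this]; group
      exact cj_le' le_rfl (this ▸ M.mul_mem (M.inv_mem ha) (M.inv_mem hb))
    · exact le_sup_right.trans (h2.2 (y := M ⊔ cj g M) ⟨(large_two h2.1.1 (large_cj h2.1.1 g)).2.1, h⟩
        le_sup_left)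
  rcases hn.eq_bot_or_eq_top with h | h
  · exact hc.1 (le_bot_iff.1 (h1.trans h.le))
  · exact h2.1.2 h

theorem fib_le {X Y : Type*} [Finite X] [Finite Y] [Nonempty X] (f : X → Y) (Z : Subgroup G) (g : X → X → G)
    (hm : ∀ x x', f x = f x' → g x x' ∈ Z) (hi : ∀ x x' x'', f x' = f x'' → g x x' = g x x'' → x' = x'') :
    #X ≤ #Y * #Z := by
  rw [← Nat.card_prod]
  refine Nat.card_le_card_of_injective
    (fun x => (f x, ⟨g (Function.invFun f (f x)) x, hm _ _ (Function.invFun_eq ⟨x, rfl⟩)⟩)) fun x y h => ?_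
  have h1 : f x = f y := congrArg Prod.fst h
  have h2 := congrArg (fun t => (t.2 : G)) h
  simp only at h2
  rw [h1] at h2
  exact hi _ _ _ h1 h2

theorem mcl_repl (hQ : IsMinimalCentrallyLarge Q) {N : Subgroup G} (hN : IsMulCommutative N)
    (hAN : CC Q ≤ NN N) {b : G} (hb : ∀ a ∈ CC Q, ⁅a, b⁆ ∈ N) :
    ∃ R, IsMinimalCentrallyLarge R ∧ CC Q ⊓ cj b (CC Q) ≤ CC R ∧ ∀ a ∈ CC Q, ⁅a, b⁆ ∈ CC R := by
  have hQ1 := mcl_cj hQ b
  rw [cj_centralizer]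
  have key : ∀ a ∈ CC Q, b * a * b⁻¹ ∈ CC (cj b Q) := fun a ha => by
    rw [← cj_centralizer]; exact conj_mem_cj ha
  have key' : ∀ x ∈ CC (cj b Q), b⁻¹ * x * b ∈ CC Q := fun a ha => by
    rw [← cj_centralizer] at ha; exact mem_cj.1 ha
  generalize cj b Q = Q₁ at *
  obtain ⟨l1, l2⟩ := cl_iff.1 hQ.1
  obtain ⟨l3, l4⟩ := cl_iff.1 hQ1.1
  have ab1 := ab_cc_cl hQ.1
  have ab2 := ab_cc_cl hQ1.1
  have i1 := mcl_inf hQ.1 hQ1
  have i2 := mcl_inf hQ1.1 hQ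
  have c1 := mcl_card' hQ hQ1
  have c2 := (mcl_card hQ hQ1).2
  have c3 := (large_two (large_cc l1).1 (large_cc l3).1).1
  have c4 : #Q * #(CC Q) = _ := l1
  have cc1 := (large_cc l1).2
  have cc2 := (large_cc l3).2
  have lm := @large_mem _ _ _ _ _ (large_cc l1).1 (large_cc l3).1
  generalize CC Q = A at *
  generalize CC Q₁ = A₁ at *
  set M := N ⊓ (A ⊔ A₁) with hM
  have hm : ∀ a ∈ A, ⁅a, b⁆ ∈ M := fun a ha => ⟨hb a ha, by
    have : ⁅a, b⁆ = a * (b * a⁻¹ * b⁻¹) := by rw [commutatorElement_def]; group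
    rw [this]; exact mul_mem (mem_sup_left ha) (mem_sup_right (key _ (A.inv_mem ha)))⟩
  have s1 : A ⊔ M = A ⊔ A₁ := by
    refine le_antisymm (sup_le le_sup_left inf_le_right) (sup_le le_sup_left fun x hx => ?_)
    have : x = (b⁻¹ * x * b) * ⁅(b⁻¹ * x * b)⁻¹, b⁆ := by rw [commutatorElement_def]; group
    rw [this]; exact mul_mem (mem_sup_left (key' x hx)) (mem_sup_right (hm _ (A.inv_mem (key' x hx))))
  have abM : IsMulCommutative M := ab_mono hN inf_le_left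
  have nM : A ≤ NN M := nn_inf hAN (nn_of_le le_sup_left)
  have dc : A ⊓ A₁ ≤ CC (A ⊔ A₁) := le_cc_sup (inf_le_left.trans (ab_cc ab1)) (inf_le_right.trans (ab_cc ab2))
  have dM : A ⊓ A₁ ≤ CC M := dc.trans (cc_anti inf_le_right)
  have abY : IsMulCommutative (A ⊓ A₁ ⊔ M : Subgroup G) := ab_sup (ab_mono ab1 inf_le_left) abM dM
  have s2 : A ⊓ A₁ ⊓ M = A ⊓ M := by
    refine le_antisymm (inf_le_inf_right _ inf_le_left) (le_inf ?_ inf_le_right)
    rw [← i1]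
    refine le_inf inf_le_left ?_
    rw [← cc2]
    refine le_trans ?_ (cc_anti (le_sup_right.trans s1.ge))
    exact le_cc_sup (inf_le_left.trans (ab_cc ab1)) (inf_le_right.trans (ab_cc abM))
  have d1 := card_sup_mul_card_inf nM
  have d2 := card_sup_mul_card_inf (nn_of_cc dM)
  rw [s1] at d1
  rw [s2] at d2
  have yle : A ⊓ A₁ ⊔ M ≤ A ⊔ A₁ := sup_le (inf_le_left.trans le_sup_left) inf_le_right
  have qc : Q ⊓ Q₁ ≤ CC (A ⊓ A₁ ⊔ M) := by
    refine le_trans ?_ (cc_anti yle)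
    rw [cc_sup, cc1, cc2]
  have d3 := Comp.card_mul_card_le qc (ab_cc abY)
  have s3 : Q ⊓ Q₁ ⊓ (A ⊓ A₁ ⊔ M) ≤ A ⊓ A₁ := by
    rintro x ⟨⟨x1, x2⟩, x3⟩
    obtain ⟨a, ha, a', ha', rfl⟩ := lm (yle x3)
    have : a' ∈ A₁ ⊓ A := i2.le ⟨ha', (Subgroup.mul_mem_cancel_left _ (l2 ha)).1 x1⟩
    exact i1.le ⟨A.mul_mem ha this.2, x2⟩
  have d4 := card_le_of_le s3
  have hm0 : ∀ a ∈ A, ⁅a, b⁆ ∈ A ⊓ A₁ ⊔ M := fun a ha => mem_sup_right (hm a ha)
  have hm1 : A ⊓ A₁ ≤ A ⊓ A₁ ⊔ M := le_sup_left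
  generalize A ⊓ A₁ ⊔ M = Y at *
  have e1 : #Y = #A := by
    have p1 : 0 < #(A ⊓ M : Subgroup G) := card_pos' _
    have p2 : 0 < #A := card_pos' _
    refine Nat.eq_of_mul_eq_mul_right (Nat.mul_pos p1 p2) ?_
    calc #Y * (#(A ⊓ M : Subgroup G) * #A) = #Y * #(A ⊓ M : Subgroup G) * #A := by ring
      _ = #(A ⊓ A₁ : Subgroup G) * (#A * #M) := by rw [d2]; ring
      _ = #(A ⊔ A₁ : Subgroup G) * #(A ⊓ A₁ : Subgroup G) * #(A ⊓ M : Subgroup G) := by rw [← d1]; ring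
      _ = _ := by rw [c3, ← c2]; ring
  have e2 : #Q ≤ #(CC Y) := by
    refine Nat.le_of_mul_le_mul_right ?_ (card_pos' (A ⊓ A₁))
    rw [c1, ← e1]
    exact d3.trans (Nat.mul_le_mul_left _ d4)
  have lY : IsCentralizerLarge Y := large_of_le (by rw [← c4, e1, mul_comm]; exact Nat.mul_le_mul_left _ e2)
  have cY : IsCentrallyLarge (CC Y) := cl_iff.2 ⟨(large_cc lY).1, (large_cc lY).2.le.trans (ab_cc abY)⟩
  obtain ⟨R, r1, r2⟩ := exists_mcl_le cY
  have e3 : #(CC Y) ≤ #R := by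
    have : #Y * #(CC Y) = _ := lY
    rw [← c4, e1, mul_comm, (mcl_card hQ r2).1] at this
    exact (Nat.eq_of_mul_eq_mul_right (card_pos' _) this).le
  have e4 : CC R = Y := by rw [eq_of_card_le r1 e3, (large_cc lY).2]
  exact ⟨R, r2, e4 ▸ hm1, e4 ▸ hm0⟩

theorem repl_count {Y U V : Subgroup G} {b : G} (hD : A ⊓ cj b A ≤ Y) (hb : ∀ a ∈ A, ⁅a, b⁆ ∈ Y)
    (hUV : ∀ a ∈ U, ⁅a, b⁆ ∈ V) :
    #(A ⊓ U : Subgroup G) * #(A ⊓ cj b A ⊓ V : Subgroup G) ≤
      #(Y ⊓ V : Subgroup G) * #(A ⊓ cj b A ⊓ U : Subgroup G) := by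
  rw [← Nat.card_prod]
  refine fib_le (fun x : (A ⊓ U : Subgroup G) × (A ⊓ cj b A ⊓ V : Subgroup G) =>
    (⟨⁅(x.1 : G), b⁆ * x.2, mul_mem ⟨hb _ x.1.2.1, hUV _ x.1.2.2⟩ ⟨hD x.2.2.1, x.2.2.2⟩⟩ : (Y ⊓ V : Subgroup G)))
    _ (fun x x' => (x'.1 : G)⁻¹ * x.1) ?_ ?_
  · rintro ⟨⟨a, ha⟩, d, hd⟩ ⟨⟨a', ha'⟩, d', hd'⟩ h
    have h1 : ⁅a, b⁆ * d = ⁅a', b⁆ * d' := congrArg Subtype.val h
    refine ⟨⟨A.mul_mem (A.inv_mem ha'.1) ha.1, ?_⟩, U.mul_mem (U.inv_mem ha'.2) ha.2⟩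
    have : a'⁻¹ * a = (b * a'⁻¹ * b⁻¹) * d' * d⁻¹ * (b * a * b⁻¹) := by
      have : d' = ⁅a', b⁆⁻¹ * (⁅a, b⁆ * d) := by rw [h1]; group
      rw [this, commutatorElement_def, commutatorElement_def]; group
    show a'⁻¹ * a ∈ cj b A
    rw [this]
    exact mul_mem (mul_mem (mul_mem (conj_mem_cj (A.inv_mem ha'.1)) hd'.1.2) (inv_mem hd.1.2)) (conj_mem_cj ha.1)
  · rintro ⟨⟨a, ha⟩, d, hd⟩ ⟨⟨a', ha'⟩, d', hd'⟩ ⟨⟨a'', ha''⟩, d'', hd''⟩ h h'
    have h1 : ⁅a', b⁆ * d' = ⁅a'', b⁆ * d'' := congrArg Subtype.val h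
    have h2 : a' = a'' := inv_injective (mul_right_cancel h')
    subst h2
    obtain rfl : d' = d'' := mul_left_cancel h1
    rfl

theorem exists_mcl_nn [hG : Group.IsNilpotent G] : ∃ Q : Subgroup G, IsMinimalCentrallyLarge Q ∧
    ∀ B : Subgroup G, IsMulCommutative B → Solv.IsProd (CC Q ⊔ B) (CC Q) B → B ≤ NN Q := by
  obtain ⟨c, hc⟩ := hG.nilpotent'
  obtain ⟨R, hR⟩ := exists_cl (G := G)
  obtain ⟨Q₀, -, hQ₀⟩ := exists_mcl_le hR
  obtain ⟨Q, hQ, hmax⟩ := (Set.toFinite {R : Subgroup G | IsMinimalCentrallyLarge R}).exists_maximalFor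
    (fun R : Subgroup G => ∑ i ∈ Finset.range (c + 1), #(CC R ⊓ Subgroup.upperCentralSeries G i : Subgroup G)) _
    ⟨Q₀, hQ₀⟩
  refine ⟨Q, hQ, fun B hB hP b hb => ?_⟩
  obtain ⟨R, r1, r2, r3⟩ := mcl_repl hQ (Solv.ito_commutator (ab_cc_cl hQ.1) hB hP) (left_nn_comm _ _)
    (b := b) fun a ha => commutator_mem_commutator ha hb
  have cnt := fun i => repl_count (U := Subgroup.upperCentralSeries G (i + 1)) (V := Subgroup.upperCentralSeries G i) r2 r3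
    fun a ha => Subgroup.mem_upperCentralSeries_succ_iff.1 ha b
  have mono : ∀ i, Subgroup.upperCentralSeries G i ≤ Subgroup.upperCentralSeries G (i + 1) := fun i =>
    Subgroup.upperCentralSeries_mono G (Nat.le_succ i)
  have le1 : ∀ i, #(CC Q ⊓ Subgroup.upperCentralSeries G i : Subgroup G) ≤ #(CC R ⊓ Subgroup.upperCentralSeries G i : Subgroup G) := by
    rintro (_ | i)
    · simp
    · have h := Comp.card_mul_card_le (K := CC R ⊓ Subgroup.upperCentralSeries G (i + 1))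
        (inf_le_inf_left _ (mono i)) (inf_le_inf_right _ r2)
      have e : CC R ⊓ Subgroup.upperCentralSeries G i ⊓ (CC Q ⊓ cj b (CC Q) ⊓ Subgroup.upperCentralSeries G (i + 1)) =
          CC Q ⊓ cj b (CC Q) ⊓ Subgroup.upperCentralSeries G i :=
        le_antisymm (le_inf (inf_le_right.trans inf_le_left) (inf_le_left.trans inf_le_right))
          (le_inf (inf_le_inf_right _ r2) (inf_le_inf_left _ (mono i)))
      rw [e] at h
      exact Nat.le_of_mul_le_mul_right ((cnt i).trans h) (card_pos' _)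
  have le2 : ∀ i ≤ c, #(CC R ⊓ Subgroup.upperCentralSeries G i : Subgroup G) ≤
      #(CC Q ⊓ Subgroup.upperCentralSeries G i : Subgroup G) := by
    intro i hi
    by_contra h
    have := Finset.sum_lt_sum (s := Finset.range (c + 1)) (fun i _ => le1 i)
      ⟨i, Finset.mem_range.2 (by omega), not_le.1 h⟩
    exact absurd (hmax r1 this.le) (not_le.2 this)
  have ind : ∀ i ≤ c, CC Q ⊓ Subgroup.upperCentralSeries G i ≤ cj b (CC Q) := by
    intro i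
    induction i with
    | zero => simp
    | succ i ih =>
      intro hi
      have e : CC Q ⊓ cj b (CC Q) ⊓ Subgroup.upperCentralSeries G i = CC Q ⊓ Subgroup.upperCentralSeries G i :=
        le_antisymm (inf_le_inf_right _ inf_le_left) (le_inf (le_inf inf_le_left (ih (by omega))) inf_le_right)
      have h := (cnt i).trans (Nat.mul_le_mul_right _ (le2 i (by omega)))
      rw [e, mul_comm] at h
      exact (eq_of_card_le (inf_le_inf_right _ inf_le_left)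
        (Nat.le_of_mul_le_mul_left h (card_pos' _))).ge.trans (inf_le_left.trans inf_le_right)
  have h := ind c le_rfl
  rw [hc, inf_top_eq] at h
  have h2 : b ∈ NN (CC Q) := mem_normalizer_iff_cj.2 (eq_of_card_le h (card_cj _ _).le).symm
  have h3 := mem_normalizer_centralizer h2
  rwa [(large_cc (cl_iff.1 hQ.1).1).2] at h3

end CD
end Cfsg.Agent.Transfer
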