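import Cfsg.Agent.Lib.Transfer.FF

set_option autoImplicit false
set_option linter.unusedSectionVars false

namespace Cfsg.Agent.Transfer
open Subgroup Cfsg.Agent.MS
open Comp (SubnIn)

universe u
variable {G : Type u} [Group G] [Finite G] {p : ℕ} [hp : Fact p.Prime]

theorem comm_le_O_of_subn {V H E₁ E₂ : Subgroup G} (hV : IsPGroup p V) (hHV : H ≤ NN V) (hf : H ⊓ CC V = ⊥)
    (h₁ : SubnIn E₁ H) (h₂ : SubnIn E₂ H) (hc : ⁅V, E₁⁆ ≤ CC E₂) : ⁅E₁, E₂⁆ ≤ O {p} H := by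
  have hD : ⁅E₁, E₂⁆ ≤ H := comm_le h₁.le h₂.le
  have a1 : ⁅E₁, E₂⁆ ≤ CC ⁅V, E₁⁆ := (commutator_mono le_rfl (cc_symm hc)).trans (comm_le_right (nn_cc (right_nn_comm _ _)))
  have a2 : ⁅V, ⁅E₁, E₂⁆⁆ ≤ ⁅V, E₁⁆ := by
    rw [Subgroup.commutator_comm]
    refine three_sub (nn_of_cc (cc_symm hc)) (left_nn_comm _ _) (right_nn_comm _ _)
      (commutator_mono (comm_le_right (h₂.le.trans hHV)) le_rfl) ((comm_eq_bot.2 hc).le.trans bot_le)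
  refine le_O_of_subn (SubnIn.trans (SubnIn.of_normalizer (comm_le le_sup_left le_sup_right) (sup_nn_comm _ _))
    (h₁.sup h₂)) (pi1_of_pg (pg_of_quad hV (hD.trans hHV) (inf_bot_mono hf hD le_rfl) (a1.trans (cc_anti a2))))

structure FS (p : ℕ) (V E : Subgroup G) : Prop where
  elem : IsElementaryAbelian p V
  norm : E ≤ NN V
  faith : E ⊓ CC V = ⊥
  op : O {p} E = ⊥

structure IrS (V E K : Subgroup G) : Prop where
  subn : SubnIn K E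
  irr : ∀ U ≤ ⁅V, K⁆, K ≤ NN U → U = ⊥ ∨ U = ⁅V, K⁆
  two : 2 < #K

namespace FS
variable {V E K L : Subgroup G} (h : FS p V E)
include h

theorem pg : IsPGroup p V := elem_isPGroup h.elem

theorem eq_bot (h1 : SubnIn K E) (h2 : K ≤ CC ⁅V, K⁆) : K = ⊥ :=
  eq_bot_iff.2 ((le_O_of_subn h1 (pi1_of_pg (pg_of_quad h.pg (h1.le.trans h.norm)
    (inf_bot_mono h.faith h1.le le_rfl) h2))).trans h.op.le)

theorem faith' (h1 : SubnIn K E) : K ⊓ CC ⁅V, K⁆ = ⊥ :=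
  h.eq_bot ((SubnIn.of_normalizer inf_le_left (nn_inf (le_nn _) (nn_cc (right_nn_comm _ _)))).trans h1)
    (inf_le_right.trans (cc_anti (commutator_mono le_rfl inf_le_left)))

theorem W_le (h1 : SubnIn K E) : ⁅V, K⁆ ≤ V := comm_le_left (h1.le.trans h.norm)

theorem W_inf (hK : IrS V E K) : ⁅V, K⁆ ⊓ CC K = ⊥ :=
  (hK.irr _ inf_le_left (nn_inf (right_nn_comm _ _) (nn_cc (le_nn _)))).resolve_right fun e => by
    have := hK.two
    rw [h.eq_bot hK.subn (cc_symm (inf_eq_left.1 e)), card_bot] at this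
    omega

theorem cj_irs (hK : IrS V E K) {x : G} (hx : x ∈ E) : IrS V E (cj x K) ∧ ⁅V, cj x K⁆ = cj x ⁅V, K⁆ := by
  have e : ⁅V, cj x K⁆ = cj x ⁅V, K⁆ := by rw [cj_commutator, cj_nn (h.norm hx)]
  refine ⟨⟨hK.subn.cj (le_nn _ hx), fun U h1 h2 => ?_, (card_cj x K).symm ▸ hK.two⟩, e⟩
  rw [e] at h1 ⊢
  have := hK.irr (cj x⁻¹ U) (le_cj_iff_cj_inv_le.1 h1) (by simpa [cj_inv_cj] using nn_cj h2 x⁻¹)
  rcases this with e | e
  · exact .inl (cj_eq_bot_iff.1 e)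
  · exact .inr (by rw [← e, cj_cj_inv])

theorem cc_of_nn (hL : IrS V E L) (hK : SubnIn K E) (h21 : ¬ ⁅V, L⁆ ≤ ⁅V, K⁆) (hn : L ≤ NN ⁅V, K⁆) :
    ⁅V, K⁆ ≤ CC L := by
  have := (hL.irr (⁅V, K⁆ ⊓ ⁅V, L⁆) inf_le_right (nn_inf hn (right_nn_comm _ _))).resolve_right
    fun e => h21 (inf_eq_right.1 e)
  exact comm_eq_bot.1 (eq_bot_of_le this (comm_le_left hn) (commutator_mono (h.W_le hK) le_rfl))

theorem card_aux (hK : IrS V E K) (hL : SubnIn L E) {x : G} (hx : x ∈ L) (h1 : cj x ⁅V, K⁆ ≤ CC K) :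
    ⁅V, K⁆ ⊔ cj x ⁅V, K⁆ ≤ ⁅V, K⁆ ⊔ ⁅V, L⁆ ∧
      #(⁅V, K⁆ ⊔ cj x ⁅V, K⁆ : Subgroup G) = #(⁅V, K⁆ : Subgroup G) * #(⁅V, K⁆ : Subgroup G) := by
  refine ⟨sup_le le_sup_left (cj_le le_sup_left
    (nn_of_comm_le le_sup_right (sup_le (h.W_le hK.subn) (h.W_le hL)) hx)), ?_⟩
  rw [card_sup_l (ab_nn h.elem.1 (cj_le (h.W_le hK.subn) (h.norm (hL.le hx))) (h.W_le hK.subn))
    (inf_bot_mono (h.W_inf hK) le_rfl h1), card_cj]

theorem irs_main : ∀ (n : ℕ) {K L : Subgroup G}, #(K ⊔ L : Subgroup G) ≤ n → IrS V E K → IrS V E L →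
    ¬ ⁅V, K⁆ ≤ ⁅V, L⁆ → ¬ ⁅V, L⁆ ≤ ⁅V, K⁆ → ⁅V, K⁆ ≤ CC L := by
  intro n
  induction n with
  | zero => intro K L hn; exact absurd hn (by have := card_pos' (K ⊔ L); omega)
  | succ n ih =>
  have IH : ∀ {K L : Subgroup G}, #(K ⊔ L : Subgroup G) ≤ n + 1 → IrS V E K → IrS V E L →
      ¬ ⁅V, L⁆ ≤ ⁅V, K⁆ → ∀ x ∈ L, x ∉ NN ⁅V, K⁆ → cj x ⁅V, K⁆ ≤ CC K := by
    intro K L hn hK hL h21 x hx hx'
    obtain e | ⟨N, hN, hN1, hN2⟩ := (hK.subn.of_le le_sup_left (hK.subn.sup hL.subn).le).eq_or_exists_lt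
    · exact absurd (commutator_mono le_rfl (le_sup_right.trans e.ge)) h21
    obtain ⟨h1, h2⟩ := h.cj_irs hK (hL.subn.le hx)
    rw [← h2]
    refine ih ?_ h1 hK (h2 ▸ fun e => hx' (mem_normalizer_of_cj_le e))
      (h2 ▸ fun e => hx' (mem_normalizer_iff_cj.2 (eq_of_card_le e (card_cj _ _).le).symm))
    have := card_lt_of_lt (lt_of_le_of_lt (sup_le (cj_le hN2.le (hN1 (mem_sup_right hx))) hN2.le) hN)
    omega
  intro K L hn hK hL h12 h21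
  by_cases a : L ≤ NN ⁅V, K⁆
  · exact h.cc_of_nn hL hK.subn h21 a
  by_cases b : K ≤ NN ⁅V, L⁆
  · refine h.cc_of_nn hL hK.subn h21 (nn_comm (hL.subn.le.trans h.norm) (nn_of_cc (comm_eq_bot.1 (eq_bot_iff.2 ?_))))
    exact (comm_le_O_of_subn h.pg h.norm h.faith hL.subn hK.subn (h.cc_of_nn hK hL.subn h12 b)).trans h.op.le
  exfalso
  obtain ⟨x, hx, hx'⟩ := SetLike.not_le_iff_exists.1 a
  obtain ⟨y, hy, hy'⟩ := SetLike.not_le_iff_exists.1 b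
  have IH1 := IH hn hK hL h21
  have c1 := fun {x : G} => h.card_aux (x := x) hK hL.subn
  obtain ⟨c2, c3⟩ := h.card_aux hL hK.subn hy (IH (sup_comm K L ▸ hn) hL hK h12 y hy hy')
  have c4 := card_sup_mul_card_inf (ab_nn h.elem.1 (h.W_le hK.subn) (h.W_le hL.subn))
  have c5 := card_le_of_le (c2.trans (sup_comm _ _).le)
  have c6 := card_le_of_le (c1 hx (IH1 x hx hx')).1
  rw [c3] at c5
  rw [(c1 hx (IH1 x hx hx')).2] at c6
  have p1 := card_pos' ⁅V, K⁆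
  have p2 := card_pos' ⁅V, L⁆
  have p3 := card_pos' (⁅V, K⁆ ⊓ ⁅V, L⁆)
  have c7 : #(⁅V, K⁆ ⊓ ⁅V, L⁆ : Subgroup G) = 1 ∧
      #(⁅V, K⁆ ⊔ ⁅V, L⁆ : Subgroup G) ≤ #(⁅V, K⁆ : Subgroup G) * #(⁅V, K⁆ : Subgroup G) := by
    generalize #(⁅V, K⁆ ⊓ ⁅V, L⁆ : Subgroup G) = i at *
    generalize #(⁅V, K⁆ ⊔ ⁅V, L⁆ : Subgroup G) = s at *
    generalize #(⁅V, K⁆ : Subgroup G) = k at *
    generalize #(⁅V, L⁆ : Subgroup G) = l at *
    have d1 : k * i ≤ l := Nat.le_of_mul_le_mul_left (by nlinarith) p1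
    have d2 : l * i ≤ k := Nat.le_of_mul_le_mul_left (by nlinarith) p2
    have d3 : i = 1 := by nlinarith
    subst d3
    exact ⟨rfl, by nlinarith⟩
  have c8 : ⁅V, K⁆ ⊓ ⁅V, L⁆ = ⊥ := card_eq_one.1 c7.1
  have c9 : ∀ x ∈ L, x ∉ NN ⁅V, K⁆ → ⁅V, K⁆ ⊔ cj x ⁅V, K⁆ = ⁅V, K⁆ ⊔ ⁅V, L⁆ := fun x hx hx' =>
    eq_of_card_le (c1 hx (IH1 x hx hx')).1 ((c1 hx (IH1 x hx hx')).2 ▸ c7.2)
  have c10 : ∀ x ∈ L, x ∉ NN ⁅V, K⁆ → cj x ⁅V, K⁆ = (⁅V, K⁆ ⊔ ⁅V, L⁆) ⊓ CC K := fun x hx hx' => by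
    rw [← c9 x hx hx', sup_comm, dedekind (IH1 x hx hx')
      (ab_nn h.elem.1 (h.W_le hK.subn) (cj_le (h.W_le hK.subn) (h.norm (hL.subn.le hx)))), h.W_inf hK, sup_bot_eq]
  have c11 : L ⊓ NN ⁅V, K⁆ = ⊥ := by
    refine eq_bot_of_le (h.faith' hL.subn) inf_le_left (le_trans (le_cc_sup ?_ ?_)
      (cc_anti (le_sup_right.trans (c9 x hx hx').ge)))
    · exact comm_eq_bot'.1 (eq_bot_of_le c8 (comm_le_left inf_le_right)
        (commutator_mono (h.W_le hK.subn) inf_le_left))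
    · have e : cj x ⁅V, K⁆ ⊓ ⁅V, L⁆ = ⊥ := by
        rw [← cj_nn (right_nn_comm V L hx), ← cj_inf, c8, cj_bot]
      refine comm_eq_bot'.1 (eq_bot_of_le e (comm_le_left fun z hz => mem_normalizer_iff_cj.2 ?_)
        (commutator_mono (cj_le (h.W_le hK.subn) (h.norm (hL.subn.le hx))) inf_le_left))
      rw [cj_cj, c10 x hx hx', c10 _ (L.mul_mem hz.1 hx) fun e => hx' (((NN ⁅V, K⁆).mul_mem_cancel_left hz.2).1 e)]
  have c12 : (L : Set G) ⊆ {1, x} := fun z hz => by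
    by_cases e : z ∈ NN ⁅V, K⁆
    · exact .inl (eq_one_of_inf c11 hz e)
    · refine .inr (inv_mul_eq_one.1 (eq_one_of_inf c11 (L.mul_mem (L.inv_mem hx) hz)
        (mem_normalizer_iff_cj.2 ?_))).symm
      rw [← cj_cj, c10 z hz e, ← c10 x hx hx', cj_inv_cj]
  have c13 := Set.ncard_le_ncard c12
  have c14 := (Set.ncard_insert_le (1 : G) {x}).trans_eq (by rw [Set.ncard_singleton])
  have c15 := hL.two
  rw [← SetLike.coe_sort_coe, Nat.card_coe_set_eq] at c15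
  omega

end FS

omit hp [Finite G] in
theorem le_cc_iSup {ι : Sort*} {S : ι → Subgroup G} {A : Subgroup G} (h : ∀ i, A ≤ CC (S i)) : A ≤ CC (⨆ i, S i) :=
  cc_symm (iSup_le fun i => cc_symm (h i))

namespace FFP
variable {V H : Subgroup G} (h : FFP p V H) {ι : Type*} {A : ι → Subgroup G} (hA : ∀ i, Tv p V H (A i))
include h hA

theorem fam_indep (hi : ∀ i j, EA p H (A i) = EA p H (A j) → i = j) : iSupIndep fun i => EA p H (A i) := fun i =>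
  disjoint_iff.2 (inf_bot_mono (h.EA_faith (hA i)) le_rfl (iSup₂_le fun j hj =>
    cc_symm (h.dichot (hA i) (hA j) fun e => hj (hi _ _ e)).1))

theorem fam_indepW (hi : ∀ i j, EA p H (A i) = EA p H (A j) → i = j) :
    iSupIndep fun o : Option ι => o.elim (V ⊓ CC H) fun i => ⁅V, EA p H (A i)⁆ := by
  rintro (_ | i)
  · refine disjoint_iff.2 (inf_bot_mono (cop_ab_inf h.elem.1 ((O_le _ _).trans h.norm) (h.cop_Q le_rfl))
      (inf_le_inf_left _ (cc_anti (O_le _ _))) (iSup₂_le ?_))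
    rintro (_ | j) hj
    · exact absurd rfl hj
    · exact (h.W_eq (hA j)).ge.trans (commutator_mono le_rfl (h.R_le (hA j)))
  · refine disjoint_iff.2 (inf_bot_mono (h.W_inf (hA i)) le_rfl (iSup₂_le ?_))
    rintro (_ | j) hj
    · exact inf_le_inf_left _ (cc_anti (h.EA_le (hA i)))
    · exact le_inf (h.W_le (hA j)) (h.dichot (hA j) (hA i) fun e => hj (congrArg some (hi _ _ e).symm)).1

theorem fam_supW (hs : H ≤ ⨆ i, EA p H (A i)) : V ⊓ CC H ⊔ ⨆ i, ⁅V, EA p H (A i)⁆ = V := by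
  have h1 : ⨆ i, ⁅O {p}ᶜ H, A i⁆ ≤ O {p}ᶜ H := iSup_le fun i => h.R_le (hA i)
  have h2 : ⨆ i, ⁅V, EA p H (A i)⁆ ≤ V := iSup_le fun i => h.W_le (hA i)
  refine le_antisymm (sup_le inf_le_left h2) ((cop_comm_sup (h1.trans ((O_le _ _).trans h.norm)) (h.cop_Q h1)
    (sol_of_pg h.pg)).ge.trans (sup_le (le_sup_of_le_right ?_) (le_sup_of_le_left (le_inf inf_le_left ?_))))
  · rw [Subgroup.commutator_comm]
    have h3 : ∀ i, ⁅V, ⁅O {p}ᶜ H, A i⁆⁆ ≤ ⨆ i, ⁅V, EA p H (A i)⁆ := fun i =>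
      (h.W_eq (hA i)).le.trans (le_iSup (fun i => ⁅V, EA p H (A i)⁆) i)
    exact Comp.commutator_iSup_left_le (fun i => nn_of_comm_le (h3 i) h2) fun i => Subgroup.commutator_comm V _ ▸ h3 i
  · exact (le_cc_iSup fun i => ((inf_le_inf_left _ (cc_anti (le_iSup (fun i => ⁅O {p}ᶜ H, A i⁆) i))).trans
      (h.U_eq (hA i)).le).trans inf_le_right).trans (cc_anti hs)

end FFP
end Cfsg.Agent.Transfer
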