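import Cfsg.Agent.Lib.Transfer.FF2
import Cfsg.Agent.Lib.Transfer.Hol

set_option autoImplicit false
set_option linter.unusedSectionVars false

namespace Cfsg.Agent.Transfer
open Subgroup Cfsg.Agent.MS

universe u
variable {G : Type u} [Group G] [Finite G] {p : ℕ} [hp : Fact p.Prime]

omit hp in
theorem exists_diagonal {L X : Subgroup G} (h : ∀ x ∈ X, x ∈ CC L ∨ cj x L ≤ CC L) :
    ∃ δ : L →* G, (∀ l, δ l ∈ CC X) ∧ (∀ l : L, (l : G)⁻¹ * δ l ∈ CC L) ∧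
      ∀ K : Subgroup G, X ≤ NN K → ∀ l : L, (l : G) ∈ K → δ l ∈ K := by
  classical
  let ι := X ⧸ (CC L).subgroupOf X
  letI : Fintype ι := Fintype.ofFinite _
  let ϕ : ι → (L →* G) := fun c => (MulAut.conj ((c.out : X) : G)).toMonoidHom.comp L.subtype
  have h0 : ∀ c l, ϕ c l = (c.out : X) * (l : G) * ((c.out : X) : G)⁻¹ := fun c l => rfl
  have h1 : ∀ (g : X) l, ϕ (QuotientGroup.mk g) l = g * (l : G) * (g : G)⁻¹ := fun g l => by
    obtain ⟨k, hk⟩ := QuotientGroup.mk_out_eq_mul ((CC L).subgroupOf X) g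
    rw [h0, hk]
    conv_rhs => rw [← conj_eq_of_cc k.2 l.2]
    simp only [coe_mul, mul_inv_rev, mul_assoc, coe_subtype]
  have h2 : ∀ (g : X) (l : L), (g : G) ∉ CC L → g * (l : G) * (g : G)⁻¹ ∈ CC L := fun g l hg =>
    (h g g.2).resolve_left hg (conj_mem_cj l.2)
  have hc : Pairwise fun i j => ∀ x y, Commute (ϕ i x) (ϕ j y) := fun i j hij x y => by
    have := h2 (i.out⁻¹ * j.out) y (fun e => hij (by
      rw [← i.out_eq', ← j.out_eq']; exact QuotientGroup.eq.2 e)) x x.2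
    have := Commute.map this (MulAut.conj ((i.out : X) : G))
    rw [h0, h0]
    simpa [mul_assoc] using this
  let δ := (MonoidHom.noncommPiCoprod (N := fun _ => L) ϕ hc).comp (Pi.constMonoidHom ι L)
  have hc' : ∀ l, ((Finset.univ : Finset ι) : Set ι).Pairwise (Function.onFun Commute fun i => ϕ i l) :=
    fun l _ _ _ _ h => hc h _ _
  have h3 : ∀ l, δ l = Finset.univ.noncommProd (fun i => ϕ i l) (hc' l) := fun l => rfl
  refine ⟨δ, fun l => mem_CC.2 fun x hx => ?_, fun l => ?_, fun K hK l hl => ?_⟩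
  · rw [← mul_inv_eq_iff_eq_mul, ← MulAut.conj_apply, h3, Finset.map_noncommProd]
    have h4 : ∀ i, MulAut.conj x (ϕ i l) = ϕ (MulAction.toPerm (⟨x, hx⟩ : X) i) l := fun i => by
      induction i using QuotientGroup.induction_on with | H g =>
      rw [MulAction.toPerm_apply, MulAction.Quotient.smul_mk, h1, h1, MulAut.conj_apply]
      simp [mul_assoc]
    unfold Finset.noncommProd
    congr 1
    simp only [h4]
    conv_rhs => rw [← Multiset.map_univ_val_equiv (MulAction.toPerm (⟨x, hx⟩ : X) : Equiv.Perm ι), Multiset.map_map]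
    rfl
  · rw [h3, ← Finset.mul_noncommProd_erase _ (Finset.mem_univ (QuotientGroup.mk 1 : ι)), h1]
    simp only [coe_one, one_mul, inv_one, mul_one, inv_mul_cancel_left]
    refine Subgroup.noncommProd_mem _ _ fun i hi => h2 _ _ fun e => (Finset.mem_erase.1 hi).1 ?_
    rw [← i.out_eq']; exact (QuotientGroup.eq.2 (by simpa [mem_subgroupOf] using e)).symm
  · rw [h3]; exact Subgroup.noncommProd_mem _ _ fun i _ => conj_mem_of_mem_normalizer (hK i.out.2) hl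

omit hp [Finite G] in
theorem map_nn {G' : Type*} [Group G'] (f : G →* G') {A B : Subgroup G} (h : A ≤ NN B) : A.map f ≤ NN (B.map f) :=
  (map_mono h).trans (le_normalizer_map f)

namespace FFP
variable {V H A X : Subgroup G} (h : FFP p V H)
include h

theorem L_faith (hA : Tv p V H A) : (⁅V, EA p H A⁆ ⊔ EA p H A) ⊓ CC (⁅V, EA p H A⁆ ⊔ EA p H A) = ⊥ := by
  have h1 : (⁅V, EA p H A⁆ ⊔ EA p H A) ⊓ CC ⁅V, EA p H A⁆ = ⁅V, EA p H A⁆ := by
    rw [dedekind (ab_le_cc h.elem.1 (h.W_le hA) (h.W_le hA)) (right_nn_comm _ _), h.EA_faith hA, sup_bot_eq]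
  have h2 := (inf_le_inf_left _ (cc_anti (le_sup_left (b := EA p H A)))).trans h1.le
  exact eq_bot_of_le (h.W_inf hA) h2 (le_inf (h2.trans (h.W_le hA)) (inf_le_right.trans (cc_anti le_sup_right)))

theorem diag_hyp (hA : Tv p V H A) (hXV : X ≤ NN V) (hXH : X ≤ NN H) (hc : (#X).Coprime #H) :
    ∀ x ∈ X, x ∈ CC (⁅V, EA p H A⁆ ⊔ EA p H A) ∨
      cj x (⁅V, EA p H A⁆ ⊔ EA p H A) ≤ CC (⁅V, EA p H A⁆ ⊔ EA p H A) := fun x hx => by
  have hC : Tv p V H (cj x A) := ⟨cj_le hA.le (hXH hx), by rw [card_cj, hA.card],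
    by rw [← cj_nn (hXV hx), ← cj_commutator, card_cj, hA.comm]⟩
  have e : cj x (EA p H A) = EA p H (cj x A) := by rw [cj_sup, cj_commutator, cj_O, cj_nn (hXH hx)]
  by_cases h1 : EA p H (cj x A) = EA p H A
  · have h2 : zpowers x ≤ NN (EA p H A) := zpowers_le.2 (mem_normalizer_iff_cj.2 (e.trans h1))
    have h3 : zpowers x ≤ NN ⁅V, EA p H A⁆ := nn_comm (zpowers_le.2 (hXV hx)) h2
    have h4 : zpowers x ≤ CC ⁅V, EA p H A⁆ := by
      have h5 := BG.relIndex_Ct_dvd_of_el_two ⟨elem_mono h.elem (h.W_le hA), h.card_W hA⟩ h3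
      have h6 : p * (p + 1) * (p - 1) ∣ #H := h.card_EA' hA ▸ card_dvd (h.EA_le hA)
      refine relIndex_eq_one.1 (Nat.eq_one_of_dvd_coprimes (Nat.Coprime.pow_right 2 hc)
        ((relIndex_dvd _ _).trans (card_dvd (zpowers_le.2 hx))) (h5.trans ?_))
      rw [sq, sq, ← mul_assoc]
      exact Nat.mul_dvd_mul h6 ((Dvd.intro_left _ rfl).trans h6)
    refine .inl (le_cc_sup h4 (comm_eq_bot.1 (eq_bot_of_le (h.EA_faith hA) (comm_le_right h2) ?_)) (mem_zpowers x))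
    exact (commutator_mono h4 le_rfl).trans (comm_le_left (nn_cc (right_nn_comm _ _)))
  · obtain ⟨h2, h3⟩ := h.dichot hA hC h1
    obtain ⟨h4, -⟩ := h.dichot hC hA (Ne.symm h1)
    rw [cj_sup, cj_commutator, e, cj_nn (hXV hx)]
    exact .inr (sup_le (le_cc_sup (ab_le_cc h.elem.1 (h.W_le hC) (h.W_le hA)) h4) (le_cc_sup (cc_symm h2) (cc_symm h3)))

theorem exists_WD (hA : Tv p V H A) (hXV : X ≤ NN V) (hXH : X ≤ NN H) (hc : (#X).Coprime #H) :
    ∃ W D : Subgroup G, W ≤ V ⊓ CC X ∧ D ≤ H ⊓ CC X ∧ #W = p ^ 2 ∧ D ≤ NN W ∧ D ⊓ CC W = ⊥ ∧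
      Nonempty (D ≃* SL2 (ZMod p)) := by
  obtain ⟨δ, h1, h2, h3⟩ := exists_diagonal (h.diag_hyp hA hXV hXH hc)
  have hδ : Function.Injective δ := (injective_iff_map_eq_one _).2 fun l hl =>
    Subtype.ext (eq_one_of_inf (h.L_faith hA) l.2 (by simpa [hl] using h2 l))
  refine ⟨(⁅V, EA p H A⁆.subgroupOf _).map δ, ((EA p H A).subgroupOf _).map δ, ?_, ?_, ?_, ?_, ?_, ?_⟩
  · rintro _ ⟨l, hl, rfl⟩; exact ⟨h3 V hXV l (h.W_le hA hl), h1 l⟩
  · rintro _ ⟨l, hl, rfl⟩; exact ⟨h3 H hXH l (h.EA_le hA hl), h1 l⟩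
  · rw [card_map_of_injective hδ, Nat.card_congr (subgroupOfEquivOfLe le_sup_left).toEquiv, h.card_W hA]
  · exact map_nn δ fun x hx => mem_normalizer_of_conj_mem fun y hy =>
      mem_subgroupOf.2 (conj_mem_of_mem_normalizer (right_nn_comm V _ (mem_subgroupOf.1 hx)) (mem_subgroupOf.1 hy))
  · rw [← map_inf_centralizer (inf_ker_eq_bot_of_injective hδ ⊤) le_top le_top, Subgroup.map_eq_bot_iff_of_injective _ hδ]
    refine eq_bot_iff.2 fun x hx => Subtype.ext (eq_one_of_inf (h.EA_faith hA) hx.1 fun y hy => ?_)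
    exact congrArg Subtype.val (hx.2 ⟨y, mem_sup_left hy⟩ hy)
  · exact ⟨(((equivMapOfInjective _ δ hδ).symm.trans (subgroupOfEquivOfLe le_sup_right)).trans (h.EA_iso hA).some)⟩

theorem le_of_gen (hH : ∀ K, (∀ A, Tv p V H A → A ≤ K) → H ≤ K) (hXV : X ≤ NN V) (hXH : X ≤ NN H)
    (hc : (#X).Coprime #H) {U T : Subgroup G} (hT : IsSyl p T H) (hTU : T ≤ U) (hX : H ⊓ CC X ≤ U) : H ≤ U := by
  refine hH U fun A hA => ?_
  obtain ⟨δ, h1, h2, h3⟩ := exists_diagonal (h.diag_hyp hA hXV hXH hc)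
  obtain ⟨e, he, h4⟩ := (hT.inf_of_le_normalizer (h.EA_le hA) (h.nn_EA hH hA)).exists_cj_le
    (pg_of_card hA.card) (le_sup_right : A ≤ EA p H A)
  have h5 := h3 H hXH ⟨e, mem_sup_right he⟩ (h.EA_le hA he)
  have h6 : e ∈ NN (U ⊓ EA p H A) := by
    have h7 := mul_mem (mem_normalizer_inf (le_nn U (hX ⟨h5, h1 _⟩)) (h.nn_EA hH hA h5))
      (inv_mem (cc_le_nn _ (cc_anti (inf_le_right.trans le_sup_right) (h2 ⟨e, mem_sup_right he⟩))))
    simpa using h7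
  have h7 := cj_le_iff_le_cj_inv.1 (h4.trans (inf_le_inf_right _ hTU))
  rw [cj_nn (inv_mem h6)] at h7
  exact h7.trans inf_le_left

end FFP

section Rho
omit hp

noncomputable def rho (V : Subgroup G) : NN V →* Hol V := hr.comp V.normalizerMonoidHom
noncomputable def im (V A : Subgroup G) : Subgroup (Hol V) := (A.subgroupOf (NN V)).map (rho V)
def vm (V U : Subgroup G) : Subgroup (Hol V) := (U.subgroupOf V).map hl

variable {V U A B : Subgroup G}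

theorem mem_im {y : Hol V} : y ∈ im V A ↔ ∃ a : NN V, (a : G) ∈ A ∧ rho V a = y := Iff.rfl
theorem mem_vm {y : Hol V} : y ∈ vm V U ↔ ∃ u : V, (u : G) ∈ U ∧ hl u = y := Iff.rfl
theorem rho_mem_im {a : NN V} (h : (a : G) ∈ A) : rho V a ∈ im V A := ⟨a, h, rfl⟩
theorem im_mono (h : A ≤ B) : im V A ≤ im V B := map_mono (subgroupOf_mono _ h)

theorem rho_comm {a : NN V} {v : V} : Commute (rho V a) (hl v) ↔ (v : G) * a = a * v :=
  hol_commute_iff.trans (Subtype.ext_iff.trans (mul_inv_eq_iff_eq_mul.trans eq_comm))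

theorem rho_mem_cc (hU : U ≤ V) {a : NN V} : rho V a ∈ CC (vm V U) ↔ (a : G) ∈ CC U :=
  ⟨fun h u hu => rho_comm.1 (Commute.symm (h (hl ⟨u, hU hu⟩) ⟨_, hu, rfl⟩)),
    fun h _ ⟨u, hu, e⟩ => e ▸ (rho_comm.2 (h u hu)).symm⟩

theorem rho_ker : (rho V).ker = (CC V).subgroupOf (NN V) := by
  rw [← normalizerMonoidHom_ker]; exact MonoidHom.ker_comp_of_injective _ _ hr_injective

theorem rho_eq_one {a : NN V} : rho V a = 1 ↔ (a : G) ∈ CC V := by
  rw [← MonoidHom.mem_ker, rho_ker, mem_subgroupOf]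

theorem rho_mem_nn (hU : U ≤ V) {a : NN V} : rho V a ∈ NN (vm V U) ↔ (a : G) ∈ NN U := by
  refine ⟨fun h => mem_normalizer_of_conj_mem fun u hu => ?_, fun h => mem_normalizer_of_conj_mem ?_⟩
  · obtain ⟨w, hw, e⟩ := conj_mem_of_mem_normalizer h (⟨⟨u, hU hu⟩, hu, rfl⟩ : hl ⟨u, hU hu⟩ ∈ vm V U)
    rwa [hl_injective (e.trans (hol_conj _ _))] at hw
  · rintro _ ⟨u, hu, rfl⟩
    exact ⟨V.normalizerMonoidHom a u, mem_subgroupOf.2 (conj_mem_of_mem_normalizer h (mem_subgroupOf.1 hu)),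
      (hol_conj _ _).symm⟩

theorem im_nn_vm (hU : U ≤ V) (h : A ≤ NN U) : im V A ≤ NN (vm V U) := fun _ ⟨_, ha, e⟩ =>
  e ▸ (rho_mem_nn hU).2 (h ha)

theorem im_nn (h : A ≤ NN B) : im V A ≤ NN (im V B) := map_nn _ fun _ hx => mem_normalizer_of_conj_mem fun _ hy =>
  mem_subgroupOf.2 (conj_mem_of_mem_normalizer (h hx) (mem_subgroupOf.1 hy))

theorem im_faith : im V A ⊓ CC (vm V V) = ⊥ := eq_bot_iff.2 fun _ ⟨⟨_, _, e⟩, h⟩ =>
  e ▸ rho_eq_one.2 ((rho_mem_cc le_rfl).1 (e ▸ h))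

theorem vm_inf_cc (hA : A ≤ NN V) : vm V V ⊓ CC (im V A) = vm V (V ⊓ CC A) := by
  refine le_antisymm ?_ ?_
  · rintro _ ⟨⟨v, -, rfl⟩, h⟩
    exact ⟨v, ⟨v.2, fun a ha => (rho_comm.1 (h (rho V ⟨a, hA ha⟩) (rho_mem_im ha))).symm⟩, rfl⟩
  · rintro _ ⟨v, hv, rfl⟩
    exact ⟨⟨v, v.2, rfl⟩, fun _ ⟨a, ha, e⟩ => e ▸ rho_comm.2 (hv.2 a ha).symm⟩

theorem card_vm (hU : U ≤ V) : #(vm V U) = #U :=
  (card_map_of_injective hl_injective).trans (Nat.card_congr (subgroupOfEquivOfLe hU).toEquiv)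

theorem card_im (hA : A ≤ NN V) : #(im V A) * #(A ⊓ CC V : Subgroup G) = #A := by
  have := Solv.card_map_mul_card_inf_ker (rho V) (A.subgroupOf (NN V))
  rwa [rho_ker, show A.subgroupOf (NN V) ⊓ (CC V).subgroupOf (NN V) = (A ⊓ CC V).subgroupOf (NN V) from rfl, Nat.card_congr (subgroupOfEquivOfLe hA).toEquiv,
    Nat.card_congr (subgroupOfEquivOfLe (inf_le_left.trans hA)).toEquiv] at this

theorem exists_vm {W : Subgroup (Hol V)} (h : W ≤ vm V V) : ∃ U ≤ V, vm V U = W :=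
  ⟨(W.comap hl).map V.subtype, map_subtype_le _, by
    rw [vm, subgroupOf, comap_map_eq_self_of_injective V.subtype_injective]
    exact map_comap_eq_self (h.trans (map_le_range _ _))⟩

theorem exists_im {Y : Subgroup (Hol V)} (h : Y ≤ im V A) :
    ∃ B ≤ A, im V B = Y ∧ ∀ a : NN V, (a : G) ∈ A → rho V a ∈ Y → (a : G) ∈ B := by
  refine ⟨A ⊓ (Y.comap (rho V)).map (NN V).subtype, inf_le_left, le_antisymm ?_ fun y hy => ?_,
    fun a h1 h2 => ⟨h1, a, h2, rfl⟩⟩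
  · rintro _ ⟨a, ⟨-, b, hb, e⟩, rfl⟩
    exact Subtype.ext e ▸ hb
  · obtain ⟨a, ha, rfl⟩ := h hy
    exact ⟨a, ⟨ha, a, hy, rfl⟩, rfl⟩

theorem ms_im (hA : A ≤ NN V) : ms (vm V V) (im V A) * #(A ⊓ CC V : Subgroup G) = ms V A := by
  rw [ms, vm_inf_cc hA, card_vm inf_le_left, mul_right_comm, card_im hA]

theorem best_im {n : ℕ} (hA : A ≤ NN V) (h : IsBestOffenderOn n V A) : IsBestOffenderOn n (vm V V) (im V A) := by
  refine ⟨fun Y hY => ?_, ?_, ?_⟩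
  · obtain ⟨B, hB, rfl, h1⟩ := exists_im hY
    have e : B ⊓ CC V = A ⊓ CC V := le_antisymm (inf_le_inf_right _ hB) fun a ha =>
      ⟨h1 ⟨a, hA ha.1⟩ ha.1 ((rho_eq_one (a := ⟨a, hA ha.1⟩)).2 ha.2 ▸ one_mem _), ha.2⟩
    have h2 := h.1 B hB
    have h3 := ms_im (hB.trans hA)
    rw [e] at h3
    exact Nat.le_of_mul_le_mul_right (h3.le.trans (h2.trans (ms_im hA).ge)) Nat.card_pos
  · rw [commutator_le]
    rintro _ ⟨a, ha, rfl⟩ _ ⟨b, hb, rfl⟩
    rw [← map_commutatorElement, rho_mem_cc le_rfl]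
    exact h.2.1 (commutator_mem_commutator ha hb)
  · rintro _ ⟨a, ha, rfl⟩
    rw [← map_pow, rho_mem_cc le_rfl]
    exact h.2.2 a ha

theorem le_of_im_le (hA : A ≤ NN V) {K : Subgroup G} (hAK : A ≤ K) (hBK : B ≤ K) (hC : K ⊓ CC V ≤ B)
    (h : im V A ≤ im V B) : A ≤ B := fun a ha => by
  obtain ⟨b, hb, e⟩ := h (rho_mem_im (a := ⟨a, hA ha⟩) ha)
  have : (b : G)⁻¹ * a ∈ CC V := (rho_eq_one (a := b⁻¹ * ⟨a, hA ha⟩)).1 (by rw [map_mul, map_inv, e, inv_mul_cancel])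
  simpa using B.mul_mem hb (hC ⟨K.mul_mem (K.inv_mem (hBK hb)) (hAK ha), this⟩)

theorem lift_cc {K X : Subgroup G} (hX : X ≤ NN V) (hXK : X ≤ NN K) (hc : (#X).Coprime #K)
    (hs : Group.IsSolvable X) : im V K ⊓ CC (im V X) ≤ im V (K ⊓ CC X) := by
  rintro _ ⟨⟨k, hk, rfl⟩, h⟩
  obtain ⟨n, hn, h1⟩ := Solv.coprime_fixed_coset (N := K ⊓ CC V) (nn_inf hXK (nn_cc hX))
    (coprime_mono hc le_rfl inf_le_left) (.inl hs) (mem_normalizer_inf (le_nn K hk) (mem_normalizer_centralizer k.2))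
    fun x hx => ⟨K.mul_mem (conj_mem_of_mem_normalizer (hXK hx) hk) (K.inv_mem hk),
      (rho_eq_one (a := ⟨x, hX hx⟩ * k * ⟨x, hX hx⟩⁻¹ * k⁻¹)).1 (by
        simp only [map_mul, map_inv, h _ (rho_mem_im (a := ⟨x, hX hx⟩) hx), mul_inv_cancel_right, mul_inv_cancel])⟩
  refine ⟨⟨n, cc_le_nn _ hn.2⟩ * k, ⟨K.mul_mem hn.1 hk, h1⟩, ?_⟩
  rw [map_mul, (rho_eq_one (a := ⟨n, cc_le_nn _ hn.2⟩)).2 hn.2, one_mul]

end Rho

structure TF (p : ℕ) (V K : Subgroup G) : Prop where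
  elem : IsElementaryAbelian p V
  le : V ≤ K
  norm : K ≤ NN V
  psol : Comp.PSol p K
  red : ∀ D ≤ K, K ≤ NN D → (∀ x ∈ D, ∃ k, x ^ p ^ k ∈ CC V) → D ≤ CC V

namespace TF
variable {V K J X : Subgroup G} (h : TF p V K)
include h

theorem O_eq_bot : O {p} (im V K) = ⊥ := by
  obtain ⟨B, hB, e, h1⟩ := exists_im (O_le {p} (im V K))
  have h2 := h.red B hB (fun k hk => mem_normalizer_of_conj_mem fun b hb =>
    h1 (⟨k, h.norm hk⟩ * ⟨b, h.norm (hB hb)⟩ * ⟨k, h.norm hk⟩⁻¹) (K.mul_mem (K.mul_mem hk (hB hb)) (K.inv_mem hk)) (by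
      rw [map_mul, map_mul, map_inv]
      exact conj_mem_of_mem_normalizer (nn_O (le_nn _) (rho_mem_im hk)) (e ▸ rho_mem_im hb))) fun x hx => by
    obtain ⟨k, hk⟩ := O_pg (p := p) (im V K) ⟨rho V ⟨x, h.norm (hB hx)⟩, e ▸ rho_mem_im hx⟩
    exact ⟨k, (rho_eq_one (a := ⟨x, h.norm (hB hx)⟩ ^ p ^ k)).1 ((map_pow _ _ _).trans (congrArg Subtype.val hk))⟩
  rw [← e, eq_bot_iff]
  rintro _ ⟨b, hb, rfl⟩
  exact rho_eq_one.2 (h2 hb)

theorem ffp (h1 : J ≤ K) (h2 : K ≤ NN J) : FFP p (vm V V) (im V J) :=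
  ⟨elem_map (elem_subgroupOf h.elem _) _, im_nn_vm le_rfl (h1.trans h.norm), im_faith, psol_cc_le
    ((psol_sub (NN V).subtype_injective (by
      rw [map_subgroupOf_eq_of_le (h1.trans h.norm)]; exact h.psol.of_le h1)).map _)
    (eq_bot_iff.2 ((O_le_O (im_mono h1) (im_nn h2)).trans h.O_eq_bot.le))⟩

theorem ffpJ : FFP p (vm V V) (im V (thompsonSubgroupOf p K)) :=
  h.ffp (J_le K) ((le_nn K).trans (normalizer_le_normalizer_J K))

theorem gen (M : Subgroup (Hol V)) (hM : ∀ A, Tv p (vm V V) (im V (thompsonSubgroupOf p K)) A → A ≤ M) :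
    im V (thompsonSubgroupOf p K) ≤ M := by
  have : thompsonSubgroupOf p K ≤ (M.comap (rho V)).map (NN V).subtype := J_le_iff.2 fun A hA a ha => by
    obtain ⟨k, B, h1, -, h2⟩ := h.ffpJ.exists_prod (im_mono hA.le_J)
      (best_im (hA.le.trans h.norm) (hA.bestOffender h.elem h.le))
    exact ⟨⟨a, h.norm (hA.le ha)⟩, (h2.ge.trans (iSup_le fun i => hM _ (h1 i).2)) (rho_mem_im ha), rfl⟩
  rintro _ ⟨a, ha, rfl⟩
  obtain ⟨b, hb, e⟩ := this ha
  exact Subtype.ext e ▸ hb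

theorem exists_tv (hJ : ¬ thompsonSubgroupOf p K ≤ CC V) : ∃ A, Tv p (vm V V) (im V (thompsonSubgroupOf p K)) A := by
  by_contra hn
  exact hJ fun a ha => (rho_eq_one (a := ⟨a, h.norm (J_le K ha)⟩)).1
    (h.gen ⊥ (fun A hA => absurd ⟨A, hA⟩ hn) (rho_mem_im ha))

theorem maxE_sup {A : Subgroup G} (hA : MaxE p K A) : MaxE p K (A ⊓ CC V ⊔ V) := by
  have h1 := (h.ffp le_rfl (le_nn K)).ms_eq (im_mono hA.le) (best_im (hA.le.trans h.norm) (hA.bestOffender h.elem h.le))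
  have h2 := ms_im (hA.le.trans h.norm)
  have h3 := card_sup_mul_card_inf (nn_of_cc (inf_le_right : A ⊓ CC V ≤ _))
  have h4 : A ⊓ CC V ⊓ V = V ⊓ CC A := by
    rw [hA.inf_centralizer_eq h.elem h.le, inf_assoc, inf_eq_right.2 (ab_cc h.elem.1), inf_comm]
  rw [h1, card_vm le_rfl, ms] at h2
  rw [h4, mul_comm _ #V, h2] at h3
  exact hA.of_card_le (sup_le (inf_le_left.trans hA.le) h.le)
    (elem_sup (elem_mono hA.elem inf_le_left) h.elem inf_le_right) (Nat.eq_of_mul_eq_mul_right Nat.card_pos h3).ge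

theorem cop_im (hX : X ≤ NN V) (hc : (#X).Coprime #K) : (#(im V X)).Coprime #(im V (thompsonSubgroupOf p K)) :=
  (hc.coprime_dvd_left (Dvd.intro _ (card_im hX))).coprime_dvd_right
    ((Dvd.intro _ (card_im ((J_le K).trans h.norm))).trans (card_dvd (J_le K)))

theorem le_of_gen (hX : X ≤ NN V) (hXK : X ≤ NN K) (hc : (#X).Coprime #K) (hs : Group.IsSolvable X)
    {S U : Subgroup G} (hS : IsSyl p S K) (hU : U ≤ K) (h1 : K ⊓ NN (thompsonSubgroupOf p S) ≤ U)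
    (h2 : K ⊓ CC V ≤ U) (h3 : K ⊓ CC X ≤ U) : K ≤ U := by
  have hn := (le_nn K).trans (normalizer_le_normalizer_J (n := p) K)
  have h4 : IsSyl p (im V S) (im V K) := IsSyl.map ⟨subgroupOf_mono _ hS.le, hS.pgroup.comap_subtype,
    relIndex_subgroupOf (H := S) h.norm ▸ hS.not_dvd⟩ _
  have h5 := le_of_im_le ((J_le K).trans h.norm) (J_le K) hU h2 (h.ffpJ.le_of_gen h.gen (im_nn_vm le_rfl hX)
    (im_nn (hXK.trans (normalizer_le_normalizer_J K))) (h.cop_im hX hc)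
    (h4.inf_of_le_normalizer (im_mono (J_le K)) (im_nn hn))
    (inf_le_left.trans (im_mono ((le_inf hS.le ((le_nn S).trans (normalizer_le_normalizer_J S))).trans h1)))
    ((inf_le_inf_right _ (im_mono (J_le K))).trans ((lift_cc hX hXK hc hs).trans (im_mono h3))))
  intro g hg
  obtain ⟨k, hk, m, hm, rfl⟩ := hS.frattini_J (J_le K) hn hS.J_le hg
  exact U.mul_mem (h5 hk) (h1 ⟨(K.mul_mem_cancel_left (J_le K hk)).1 hg, hm⟩)

theorem exists_WD (hX : X ≤ NN V) (hXK : X ≤ NN K) (hc : (#X).Coprime #K) (hs : Group.IsSolvable X)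
    (hJ : ¬ thompsonSubgroupOf p K ≤ CC V) : (p = 2 ∨ p = 3) ∧ ∃ W D : Subgroup G, W ≤ V ⊓ CC X ∧ D ≤ K ⊓ CC X ∧
      #W = p ^ 2 ∧ D ≤ NN W ∧ ∃ f : D →* SL2 (ZMod p), Function.Surjective f ∧ f.ker = (CC W).subgroupOf D := by
  obtain ⟨A, hA⟩ := h.exists_tv hJ
  obtain ⟨W', D', h1, h2, h3, h4, h5, ⟨e⟩⟩ := h.ffpJ.exists_WD hA (im_nn_vm le_rfl hX)
    (im_nn (hXK.trans (normalizer_le_normalizer_J K))) (h.cop_im hX hc)
  obtain ⟨W, hW, rfl⟩ := exists_vm (h1.trans inf_le_left)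
  obtain ⟨D, hD, rfl, -⟩ := exists_im (h2.trans
    ((inf_le_inf_right _ (im_mono (J_le K))).trans (lift_cc hX hXK hc hs)))
  have hDV : D ≤ NN V := hD.trans (inf_le_left.trans h.norm)
  refine ⟨(h.ffpJ.card_ge hA).1, W, D, le_inf hW (cc_symm fun x hx => (rho_mem_cc hW (a := ⟨x, hX hx⟩)).1
    (cc_symm (h1.trans inf_le_right) (rho_mem_im hx))), hD, (card_vm hW).symm.trans h3,
    fun d hd => (rho_mem_nn hW (a := ⟨d, hDV hd⟩)).1 (h4 (rho_mem_im hd)),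
    e.toMonoidHom.comp (((rho V).comp (inclusion hDV)).codRestrict _ fun d => rho_mem_im d.2), ?_, ?_⟩
  · refine e.surjective.comp ?_
    rintro ⟨_, d, hd, rfl⟩
    exact ⟨⟨d, hd⟩, rfl⟩
  · ext d
    rw [MonoidHom.mem_ker, mem_subgroupOf]
    refine e.map_eq_one_iff.trans (Subtype.ext_iff.trans ⟨fun e => (rho_mem_cc hW (a := ⟨d, hDV d.2⟩)).1 ?_,
      fun e => eq_one_of_inf h5 (rho_mem_im d.2) ((rho_mem_cc hW (a := ⟨d, hDV d.2⟩)).2 e)⟩)
    exact (show rho V ⟨d, hDV d.2⟩ = 1 from e) ▸ one_mem _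

end TF

instance instCharZV : (ZV p G).Characteristic := characteristic_iff_map_le.2 fun φ => by
  rw [Subgroup.map_iSup]
  refine iSup_le fun S => ?_
  have := (isSyl_top S).map φ.toMonoidHom
  rw [map_top_of_surjective _ φ.surjective] at this
  obtain ⟨T, hT⟩ := this.exists_sylow
  rw [map_OZ (inf_ker_eq_bot_of_injective φ.injective _), ← hT]
  exact OZ_le_ZV T

omit hp [Finite G] in
theorem mem_cc_map_subtype {K : Subgroup G} {A : Subgroup K} {x : K} : (x : G) ∈ CC (A.map K.subtype) ↔ x ∈ CC A :=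
  ⟨fun h a ha => Subtype.ext (h a ⟨a, ha, rfl⟩), fun h _ ⟨a, ha, e⟩ => e ▸ congrArg Subtype.val (h a ha)⟩

theorem tf_ZV {K : Subgroup G} (hs : IsPSolvable p K) (hO : pPrimeCore p K = ⊥) : TF p ((ZV p K).map K.subtype) K := by
  refine ⟨elem_map (elem_ZV (psol_charP (Comp.pSol_top_of_isPSolvable hs) hO)) _, map_subtype_le _,
    (le_nn K).trans (normalizer_le_normalizer_map_of_characteristic _), psol_of_sub hs, fun D h1 h2 h3 x hx => ?_⟩
  haveI := normal_subgroupOf_of_le_normalizer h2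
  exact (mem_cc_map_subtype (x := ⟨x, h1 hx⟩)).2 (le_centralizer_ZV (D := D.subgroupOf K)
    (res_le_of_pow fun y hy => (h3 y hy).imp fun k hk => mem_cc_map_subtype.1 hk) hx)

end Cfsg.Agent.Transfer
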