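import Cfsg.Agent.Lib.Transfer.Residual

/-!
Alperin's fusion theorem as induction principles, and Frobenius' normal `p`-complement theorem.
-/

set_option autoImplicit false
set_option linter.unusedSectionVars false
set_option linter.style.haveILetI false

namespace Cfsg.Agent.Transfer

open Subgroup

variable {G : Type*} [Group G] {p : ℕ} [hp : Fact p.Prime] [Finite G]

/-- Any `p`-subgroup `A` with a `p`-subgroup `T` of `N(A)` can be conjugated, with `T`, into `P`,
onto a fully normalized subgroup. -/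
theorem exists_cj_fullyNormalized (P : Sylow p G) {A T : Subgroup G} (hA : IsPGroup p A)
    (hT : IsPGroup p T) (hTA : T ≤ normalizer (A : Set G)) :
    ∃ h : G, cj h A ≤ P ∧ cj h T ≤ P ∧
      IsSyl p ((P : Subgroup G) ⊓ normalizer (cj h A : Set G)) (normalizer (cj h A : Set G)) := by
  obtain ⟨S, hS, hTS⟩ := exists_isSyl_ge hT hTA
  have hAS : A ≤ S := hS.le_of_normal hA le_normalizer le_rfl
  obtain ⟨h, hh⟩ := exists_cj_le_sylow P hS.pgroup
  refine ⟨h, (cj_mono h hAS).trans hh, (cj_mono h hTS).trans hh, ?_⟩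
  have h1 := hS.cj h
  rw [cj_normalizer] at h1
  exact h1.of_card_le (P.2.to_le inf_le_left) inf_le_right (card_le_of_le (le_inf hh h1.le))

theorem IsSyl.inf_of_le_sylow (P : Sylow p G) {S H : Subgroup G} (hS : IsSyl p S H)
    (h : S ≤ P) : (P : Subgroup G) ⊓ H = S :=
  hS.eq_of_le (P.2.to_le inf_le_left) inf_le_right (le_inf h hS.le)

/-- The core of Alperin's fusion theorem. `R A g` is a property of the conjugation by `g`, from `A`
into `P`. -/
theorem alperin_core (P : Sylow p G) (R : Subgroup G → G → Prop)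
    (hmono : ∀ (A B : Subgroup G) (g : G), A ≤ B → B ≤ P → cj g B ≤ P → R B g → R A g)
    (hmul : ∀ (A : Subgroup G) (g h : G), A ≤ P → cj g A ≤ P → cj (h * g) A ≤ P → R A g → R (cj g A) h → R A (h * g))
    (hinv : ∀ (A : Subgroup G) (g : G), A ≤ P → cj g A ≤ P → R A g → R (cj g A) g⁻¹)
    (hbase : ∀ B : Subgroup G, B ≤ P →
      IsSyl p ((P : Subgroup G) ⊓ normalizer (B : Set G)) (normalizer (B : Set G)) →
      (∀ (D : Subgroup G) (k : G), B < D → D ≤ P → cj k D ≤ P → R D k) → ∀ k ∈ normalizer (B : Set G), R B k)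
    (A : Subgroup G) (g : G) (hA : A ≤ P) (hg : cj g A ≤ P) : R A g := by
  induction hn : Nat.card G - Nat.card A using Nat.strong_induction_on generalizing A g with
  | _ n ih =>
  have ih' : ∀ (D : Subgroup G) (k : G), Nat.card A < Nat.card D → D ≤ P → cj k D ≤ P → R D k := by
    intro D k hlt hD hk
    refine ih _ ?_ D k hD hk rfl
    have := card_le_card_group D
    omega
  by_cases hAP : A = P
  · subst hAP
    refine hbase _ le_rfl ?_ (fun D k h1 h2 _ => absurd h2 h1.not_ge) g (mem_normalizer_of_cj_le hg)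
    rw [inf_eq_left.2 le_normalizer]
    exact (isSyl_top P).mono le_normalizer le_top
  have hAlt : A < P := lt_of_le_of_ne hA hAP
  have hAg : cj g A < P := lt_of_le_of_ne hg fun h => hAP
    (eq_of_le_of_card_ge hA (by rw [← h, card_cj]))
  obtain ⟨T, hT, hT'⟩ := exists_isSyl_ge (p := p) (Q := (P : Subgroup G) ⊓ normalizer (A : Set G))
    (P.2.to_le inf_le_left) inf_le_right
  obtain ⟨T₂, hT₂, hT₂'⟩ := exists_isSyl_ge (p := p)
    (Q := (P : Subgroup G) ⊓ normalizer (cj g A : Set G)) (P.2.to_le inf_le_left) inf_le_right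
  have hTg := hT.cj g
  rw [cj_normalizer] at hTg
  obtain ⟨m, hm, hme⟩ := hT₂.exists_cj_eq hTg
  obtain ⟨h, hh⟩ := exists_cj_le_sylow P hT₂.pgroup
  have hB : cj (h * (m * g)) A = cj h (cj g A) := by
    rw [← cj_cj, ← cj_cj, cj_eq_of_mem_normalizer hm]
  have hBP : cj h (cj g A) ≤ P := by
    refine le_trans (cj_mono h ?_) hh
    exact hT₂.le_of_normal (P.2.to_le hg) le_normalizer le_rfl
  have h1 : R A (h * (m * g)) := by
    have hle : cj (h * (m * g)) ((P : Subgroup G) ⊓ normalizer (A : Set G)) ≤ P := by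
      refine le_trans (cj_mono _ hT') ?_
      rw [← cj_cj, ← cj_cj, hme]; exact hh
    exact hmono _ _ _ (lt_inf_normalizer P.2 hAlt).le inf_le_left hle
      (ih' _ _ (card_lt_of_lt (lt_inf_normalizer P.2 hAlt)) inf_le_left hle)
  have h2 : R (cj g A) h := by
    have hle : cj h ((P : Subgroup G) ⊓ normalizer (cj g A : Set G)) ≤ P :=
      le_trans (cj_mono _ hT₂') hh
    refine hmono _ _ _ (lt_inf_normalizer P.2 hAg).le inf_le_left hle
      (ih' _ _ ?_ inf_le_left hle)
    rw [← card_cj g A]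
    exact card_lt_of_lt (lt_inf_normalizer P.2 hAg)
  have h3 : R (cj h (cj g A)) (h * m⁻¹ * h⁻¹) := by
    refine hbase _ hBP ?_ ?_ _ ?_
    · have h4 := hT₂.cj h
      rw [cj_normalizer] at h4
      rw [h4.inf_of_le_sylow P hh]
      exact h4
    · intro D k hD
      refine ih' D k ?_
      rw [← card_cj g A, ← card_cj h]
      exact card_lt_of_lt hD
    · rw [← cj_normalizer]
      exact conj_mem_cj (inv_mem hm)
  have h5 := hinv _ _ hg hBP h2
  have e1 : cj (h * m⁻¹ * h⁻¹ * (h * (m * g))) A = cj h (cj g A) := by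
    rw [cj_cj]; congr 1; group
  have h6 : R A (h * m⁻¹ * h⁻¹ * (h * (m * g))) :=
    hmul _ _ _ hA (hB ▸ hBP) (e1 ▸ hBP) h1 (hB ▸ h3)
  have e2 : h⁻¹ * (h * m⁻¹ * h⁻¹ * (h * (m * g))) = g := by group
  have h7 := hmul _ _ h⁻¹ hA (e1 ▸ hBP) (by rw [e2]; exact hg) h6 (e1 ▸ h5)
  rwa [e2] at h7

/-- Alperin's fusion theorem with tame intersections. -/
theorem alperin_tame (P : Sylow p G) (R : Subgroup G → G → Prop)
    (hmono : ∀ (A B : Subgroup G) (g : G), A ≤ B → B ≤ P → cj g B ≤ P → R B g → R A g)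
    (hmul : ∀ (A : Subgroup G) (g h : G), A ≤ P → cj g A ≤ P → cj (h * g) A ≤ P → R A g → R (cj g A) h → R A (h * g))
    (hinv : ∀ (A : Subgroup G) (g : G), A ≤ P → cj g A ≤ P → R A g → R (cj g A) g⁻¹)
    (hbase : ∀ (Q : Sylow p G) (B : Subgroup G), B = (P : Subgroup G) ⊓ Q →
      IsSyl p ((P : Subgroup G) ⊓ normalizer (B : Set G)) (normalizer (B : Set G)) →
      IsSyl p ((Q : Subgroup G) ⊓ normalizer (B : Set G)) (normalizer (B : Set G)) →
      ∀ k ∈ normalizer (B : Set G), R B k)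
    (A : Subgroup G) (g : G) (hA : A ≤ P) (hg : cj g A ≤ P) : R A g := by
  refine alperin_core P R hmono hmul hinv ?_ A g hA hg
  intro B hB hS ih k hk
  have hle : B ≤ (P : Subgroup G) ⊓ (k⁻¹ • P : Sylow p G) := by
    refine le_inf hB ?_
    rw [← cj_sylow, ← cj_le_iff_le_cj_inv, cj_eq_of_mem_normalizer hk]
    exact hB
  rcases hle.eq_or_lt with he | hlt
  · refine hbase (k⁻¹ • P) B he hS ?_ k hk
    have := hS.cj_of_mem_normalizer (le_normalizer (inv_mem hk))
    rwa [cj_inf, cj_eq_of_mem (inv_mem hk), cj_sylow] at this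
  · have h1 : cj k ((P : Subgroup G) ⊓ (k⁻¹ • P : Sylow p G)) ≤ P := by
      rw [cj_le_iff_le_cj_inv, cj_sylow]; exact inf_le_right
    exact hmono _ _ _ hle inf_le_left h1 (ih _ _ hlt inf_le_left h1)

/-- Alperin's fusion theorem with centric radical subgroups. -/
theorem alperin_centric (P : Sylow p G) (R : Subgroup G → G → Prop)
    (hmono : ∀ (A B : Subgroup G) (g : G), A ≤ B → B ≤ P → cj g B ≤ P → R B g → R A g)
    (hmul : ∀ (A : Subgroup G) (g h : G), A ≤ P → cj g A ≤ P → cj (h * g) A ≤ P → R A g → R (cj g A) h → R A (h * g))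
    (hinv : ∀ (A : Subgroup G) (g : G), A ≤ P → cj g A ≤ P → R A g → R (cj g A) g⁻¹)
    (hcent : ∀ A : Subgroup G, A ≤ P → ∀ c ∈ centralizer (A : Set G), R A c)
    (hP : ∀ k ∈ normalizer ((P : Subgroup G) : Set G), R P k)
    (hbase : ∀ B : Subgroup G, B < P →
      IsSyl p ((P : Subgroup G) ⊓ normalizer (B : Set G)) (normalizer (B : Set G)) →
      (P : Subgroup G) ⊓ centralizer (B : Set G) ≤ B →
      ¬ res p (normalizer (B : Set G)) ≤ centralizer (B : Set G) →
      (∀ D : Subgroup G, B < D → D ≤ (P : Subgroup G) ⊓ normalizer (B : Set G) →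
        ¬ normalizer (B : Set G) ≤ normalizer ((D ⊔ centralizer (B : Set G) : Subgroup G) : Set G)) →
      (∀ (D : Subgroup G) (k : G), B < D → D ≤ P → cj k D ≤ P → R D k) →
      ∀ k ∈ normalizer (B : Set G), R B k)
    (A : Subgroup G) (g : G) (hA : A ≤ P) (hg : cj g A ≤ P) : R A g := by
  refine alperin_core P R hmono hmul hinv ?_ A g hA hg
  intro B hB hS ih k hk
  rcases hB.eq_or_lt with rfl | hlt
  · exact hP k hk
  by_cases hrad : ∀ D : Subgroup G, B < D → D ≤ (P : Subgroup G) ⊓ normalizer (B : Set G) →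
        ¬ normalizer (B : Set G) ≤ normalizer ((D ⊔ centralizer (B : Set G) : Subgroup G) : Set G)
  · refine hbase B hlt hS ?_ ?_ hrad ih k hk
    · by_contra hc
      refine hrad (B ⊔ (P : Subgroup G) ⊓ centralizer (B : Set G)) ?_ ?_ ?_
      · exact lt_of_le_of_ne le_sup_left fun h => hc (le_sup_right.trans h.ge)
      · exact sup_le (le_inf hB le_normalizer)
          (inf_le_inf_left _ (centralizer_le_normalizer _))
      · rw [sup_assoc, sup_eq_right.2 (inf_le_right : _ ≤ centralizer (B : Set G))]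
        exact fun x hx => mem_normalizer_sup hx (mem_normalizer_centralizer hx)
    · intro hc
      refine hrad _ (lt_inf_normalizer P.2 hlt) le_rfl ?_
      have : (P : Subgroup G) ⊓ normalizer (B : Set G) ⊔ centralizer (B : Set G)
          = normalizer (B : Set G) := by
        refine le_antisymm (sup_le inf_le_right (centralizer_le_normalizer _)) ?_
        conv_lhs => rw [← hS.res_sup]
        exact sup_le (hc.trans le_sup_right) le_sup_left
      rw [this]
      exact le_normalizer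
  push Not at hrad
  obtain ⟨D, hD1, hD2, hD3⟩ := hrad
  have hM : D ⊔ centralizer (B : Set G) ≤ normalizer (B : Set G) :=
    sup_le (hD2.trans inf_le_right) (centralizer_le_normalizer _)
  have hS₀ := hS.inf_of_le_normalizer hM hD3
  obtain ⟨n, hn, m, hm, rfl⟩ := hS₀.frattini' (hD3 hk)
  obtain ⟨d, hd, c, hc, rfl⟩ := (mem_sup_iff_of_le_normalizer
    ((hD2.trans inf_le_right).trans (normalizer_le_normalizer_centralizer B))).1 hm
  have hDS : D ≤ (P : Subgroup G) ⊓ normalizer (B : Set G) ⊓ (D ⊔ centralizer (B : Set G)) :=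
    le_inf hD2 le_sup_left
  have hnd : n * d ∈ normalizer (((P : Subgroup G) ⊓ normalizer (B : Set G) ⊓
      (D ⊔ centralizer (B : Set G)) : Subgroup G) : Set G) := mul_mem hn (le_normalizer (hDS hd))
  have hle : (P : Subgroup G) ⊓ normalizer (B : Set G) ⊓ (D ⊔ centralizer (B : Set G)) ≤ P :=
    inf_le_left.trans inf_le_left
  have h1 : R B (n * d) := hmono _ _ (n * d) (hD1.le.trans hDS) hle
    (by rw [cj_eq_of_mem_normalizer hnd]; exact hle)
    (ih _ (n * d) (hD1.trans_le hDS) hle (by rw [cj_eq_of_mem_normalizer hnd]; exact hle))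
  have hcB : cj c B = B := cj_eq_of_mem_normalizer (centralizer_le_normalizer _ hc)
  have := hmul B c (n * d) hB (hcB.symm ▸ hB)
    (by rw [mul_assoc, cj_eq_of_mem_normalizer hk]; exact hB) (hcent B hB c hc) (hcB.symm ▸ h1)
  rwa [mul_assoc] at this

/-- `V` controls strong fusion in `P` as soon as it controls it at the centric radical subgroups. -/
theorem controls_of_centric (P : Sylow p G) (V : Subgroup G)
    (hP : ∀ k ∈ normalizer ((P : Subgroup G) : Set G), ∃ v ∈ V, ∀ a ∈ P, v * a * v⁻¹ = k * a * k⁻¹)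
    (hbase : ∀ B : Subgroup G, B < P →
      IsSyl p ((P : Subgroup G) ⊓ normalizer (B : Set G)) (normalizer (B : Set G)) →
      (P : Subgroup G) ⊓ centralizer (B : Set G) ≤ B →
      ¬ res p (normalizer (B : Set G)) ≤ centralizer (B : Set G) →
      (∀ D : Subgroup G, B < D → D ≤ (P : Subgroup G) ⊓ normalizer (B : Set G) →
        ¬ normalizer (B : Set G) ≤ normalizer ((D ⊔ centralizer (B : Set G) : Subgroup G) : Set G)) →
      ∀ k ∈ normalizer (B : Set G), ∃ v ∈ V, ∀ a ∈ B, v * a * v⁻¹ = k * a * k⁻¹)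
    (A : Subgroup G) (g : G) (hA : A ≤ P) (hg : cj g A ≤ P) :
    ∃ v ∈ V, ∀ a ∈ A, v * a * v⁻¹ = g * a * g⁻¹ := by
  refine alperin_centric P (fun A g => ∃ v ∈ V, ∀ a ∈ A, v * a * v⁻¹ = g * a * g⁻¹)
    ?_ ?_ ?_ ?_ hP (fun B h1 h2 h3 h4 h5 _ => hbase B h1 h2 h3 h4 h5) A g hA hg
  · rintro A B g hAB - - ⟨v, hv, h⟩
    exact ⟨v, hv, fun a ha => h a (hAB ha)⟩
  · rintro A g h - - - ⟨v, hv, h1⟩ ⟨w, hw, h2⟩
    refine ⟨w * v, mul_mem hw hv, fun a ha => ?_⟩
    have := h2 _ (conj_mem_cj ha)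
    calc w * v * a * (w * v)⁻¹ = w * (v * a * v⁻¹) * w⁻¹ := by group
      _ = h * (g * a * g⁻¹) * h⁻¹ := by rw [h1 a ha, this]
      _ = _ := by group
  · rintro A g - - ⟨v, hv, h1⟩
    refine ⟨v⁻¹, inv_mem hv, ?_⟩
    rintro _ ⟨a, ha, rfl⟩
    simp only [MulEquiv.toMonoidHom_eq_coe, MonoidHom.coe_coe, MulAut.conj_apply]
    conv_lhs => rw [← h1 a ha]
    group
  · intro A _ c hc
    refine ⟨1, one_mem _, fun a ha => ?_⟩
    rw [← mem_centralizer_iff.1 hc a ha]
    group

/-- A property of elements of `P` preserved by the normalizers of `P` and of the centric radical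
subgroups is preserved by fusion. -/
theorem fusion_invariant_of_centric (P : Sylow p G) (r : G → G → Prop)
    (hrefl : ∀ x ∈ P, r x x) (hsymm : ∀ x ∈ P, ∀ y ∈ P, r x y → r y x)
    (htrans : ∀ x ∈ P, ∀ y ∈ P, ∀ z ∈ P, r x y → r y z → r x z)
    (hP : ∀ k ∈ normalizer ((P : Subgroup G) : Set G), ∀ a ∈ P, r a (k * a * k⁻¹))
    (hbase : ∀ B : Subgroup G, B < P →
      IsSyl p ((P : Subgroup G) ⊓ normalizer (B : Set G)) (normalizer (B : Set G)) →
      (P : Subgroup G) ⊓ centralizer (B : Set G) ≤ B →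
      ¬ res p (normalizer (B : Set G)) ≤ centralizer (B : Set G) →
      (∀ D : Subgroup G, B < D → D ≤ (P : Subgroup G) ⊓ normalizer (B : Set G) →
        ¬ normalizer (B : Set G) ≤ normalizer ((D ⊔ centralizer (B : Set G) : Subgroup G) : Set G)) →
      ∀ k ∈ normalizer (B : Set G), ∀ a ∈ B, r a (k * a * k⁻¹))
    (x g : G) (hx : x ∈ P) (hg : g * x * g⁻¹ ∈ P) : r x (g * x * g⁻¹) := by
  refine alperin_centric P (fun A g => ∀ a ∈ A, r a (g * a * g⁻¹))
    ?_ ?_ ?_ ?_ hP (fun B h1 h2 h3 h4 h5 _ => hbase B h1 h2 h3 h4 h5) (zpowers x) g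
    (zpowers_le.2 hx) (by rw [cj_zpowers]; exact zpowers_le.2 hg) x (mem_zpowers x)
  · rintro A B g hAB - - h a ha
    exact h a (hAB ha)
  · rintro A g h hA hg hhg h1 h2 a ha
    have e : h * g * a * (h * g)⁻¹ = h * (g * a * g⁻¹) * h⁻¹ := by group
    refine htrans _ (hA ha) _ (hg (conj_mem_cj ha)) _ (hhg (conj_mem_cj ha)) (h1 a ha) ?_
    rw [e]
    exact h2 _ (conj_mem_cj ha)
  · rintro A g hA hg h1 _ ⟨a, ha, rfl⟩
    simp only [MulEquiv.toMonoidHom_eq_coe, MonoidHom.coe_coe, MulAut.conj_apply]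
    have e : g⁻¹ * (g * a * g⁻¹) * g⁻¹⁻¹ = a := by group
    rw [e]
    exact hsymm _ (hA ha) _ (hg (conj_mem_cj ha)) (h1 a ha)
  · intro A hA c hc a ha
    rw [← mem_centralizer_iff.1 hc a ha, mul_inv_cancel_right]
    exact hrefl a (hA ha)

/-- **Frobenius' normal `p`-complement theorem**, checked on centric fully normalized subgroups. -/
theorem hasNPC_of_res_normalizer_le' (P : Sylow p G)
    (h : ∀ B : Subgroup G, B ≤ P →
      IsSyl p ((P : Subgroup G) ⊓ normalizer (B : Set G)) (normalizer (B : Set G)) →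
      (P : Subgroup G) ⊓ centralizer (B : Set G) ≤ B →
      res p (normalizer (B : Set G)) ≤ centralizer (B : Set G)) : HasNormalPComplement p G := by
  refine hasNPC_of_controls_self P fun x hx g hg => ?_
  refine (controls_of_centric P P ?_ ?_ (zpowers x) g (zpowers_le.2 hx)
    (by rw [cj_zpowers]; exact zpowers_le.2 hg)).imp fun v hv => ⟨hv.1, hv.2 x (mem_zpowers x)⟩
  · intro k hk
    have hS : IsSyl p (P : Subgroup G) (normalizer ((P : Subgroup G) : Set G)) :=
      (isSyl_top P).mono le_normalizer le_top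
    obtain ⟨s, hs, a, ha, rfl⟩ := hS.exists_mul_res hk
    have := h P le_rfl (by rwa [inf_eq_left.2 le_normalizer]) inf_le_left ha
    refine ⟨s, hs, fun b hb => ?_⟩
    rw [mul_assoc s a b, ← mem_centralizer_iff.1 this b hb]
    group
  · intro B h1 h2 h3 h4
    exact absurd (h B h1.le h2 h3) h4

theorem hasNPC_of_res_normalizer_le (P : Sylow p G)
    (h : ∀ B : Subgroup G, B ≤ P → B ≠ ⊥ → res p (normalizer (B : Set G)) ≤ centralizer (B : Set G)) :
    HasNormalPComplement p G := by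
  refine hasNPC_of_res_normalizer_le' P fun B h1 _ _ => ?_
  by_cases hB : B = ⊥
  · subst hB
    intro x _
    rw [mem_centralizer_iff]
    intro y hy
    rw [SetLike.mem_coe, mem_bot] at hy
    simp [hy]
  · exact h B h1 hB

theorem res_normalizer_le_of_hasNPC {B : Subgroup G} (hB : IsPGroup p B)
    (h : HasNormalPComplement p (normalizer (B : Set G))) :
    res p (normalizer (B : Set G)) ≤ centralizer (B : Set G) :=
  res_le_iff.2 fun _ hg hc => mem_centralizer_of_hasNPC h hB le_normalizer hg hg hc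

/-- Frobenius, local form: only subgroups of one Sylow subgroup are needed. -/
theorem hasNPC_of_local (P : Sylow p G)
    (h : ∀ B : Subgroup G, B ≤ P → B ≠ ⊥ → HasNormalPComplement p (normalizer (B : Set G))) :
    HasNormalPComplement p G :=
  hasNPC_of_res_normalizer_le P fun B h1 h2 => res_normalizer_le_of_hasNPC (P.2.to_le h1) (h B h1 h2)

/-- Frobenius' theorem for a subgroup `H`. -/
theorem hasNPC_sub_of_forall {H : Subgroup G}
    (h : ∀ B : Subgroup G, B ≤ H → IsPGroup p B → B ≠ ⊥ → ∀ g ∈ H, g ∈ normalizer (B : Set G) →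
      (orderOf g).Coprime p → g ∈ centralizer (B : Set G)) : HasNormalPComplement p H := by
  obtain ⟨P⟩ := (inferInstance : Nonempty (Sylow p H))
  refine hasNPC_of_res_normalizer_le P fun B h1 h2 => res_le_iff.2 fun g hg hc => ?_
  have := h (B.map H.subtype) (map_subtype_le _) ((P.2.to_le h1).map _)
    (by rwa [Ne, map_eq_bot_iff_of_injective _ H.subtype_injective]) g g.2
    (le_normalizer_map H.subtype ⟨g, hg, rfl⟩) (by simpa using hc)
  rw [mem_centralizer_iff] at this ⊢
  intro x hx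
  exact Subtype.ext (this x ⟨x, hx, rfl⟩)

end Cfsg.Agent.Transfer
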