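import Cfsg.Agent.Lib.Transfer.Stab
import Cfsg.Agent.Lib.Perm.GL2b
import Cfsg.Agent.Lib.BG.GL2

set_option autoImplicit false
set_option linter.unusedSectionVars false

namespace Cfsg.Agent.Transfer
open Subgroup Cfsg.Agent.MS
open scoped commutatorElement

universe u
variable {G : Type u} [Group G] [Finite G] {p : ℕ} [hp : Fact p.Prime]

theorem pcc_of_card {X A : Subgroup G} (hX : #X = p) (hA : IsPGroup p A) (h : A ≤ NN X) : A ≤ CC X := by
  have h1 : (#X).Prime := hX ▸ hp.out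
  exact cc_symm ((prime_le h1 (nil_meet (nil_of_pg (pg_sup_l (pg_of_card hX) hA h)) le_sup_left
    (sup_le (le_nn X) h) (prime_ne_bot h1))).trans (cc_anti le_sup_right))

theorem card_sl2_zmod : #(SL2 (ZMod p)) = p * (p + 1) * (p - 1) := by
  rw [Perm.GL2.card_SL2, ZMod.card]

theorem embed_sl2 {W E : Subgroup G} (hW : IsElementaryAbelian p W) (hc : #W = p ^ 2) (h1 : E ≤ NN W)
    (h2 : E ⊓ CC W = ⊥) (h3 : E ≤ omegaOne p E) : ∃ φ : E →* SL2 (ZMod p), Function.Injective φ := by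
  obtain ⟨φ, hφ⟩ := BG.exists_gl_rep (n := 2) ⟨hW, hc⟩
  let ψ := φ.comp (inclusion h1)
  have h4 : ∀ x : E, Matrix.GeneralLinearGroup.det (ψ x) = 1 := fun x => by
    have : omegaOne p E ≤ (Matrix.GeneralLinearGroup.det.comp ψ).ker.map E.subtype := omega_le_iff.2 fun y hy h =>
      ⟨⟨y, hy⟩, by
        have e : (⟨y, hy⟩ : E) ^ p = 1 := Subtype.ext h
        have e2 := congrArg (Matrix.GeneralLinearGroup.det.comp ψ) e
        rw [map_pow, map_one] at e2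
        refine Units.ext ?_
        have e3 := congrArg Units.val e2
        rwa [Units.val_pow_eq_pow_val, ZMod.pow_card] at e3, rfl⟩
    exact (mem_map_iff_mem E.subtype_injective).1 (this (h3 x.2))
  refine ⟨⟨⟨fun x => ⟨(ψ x).1, congrArg Units.val (h4 x)⟩, Subtype.ext (by simp)⟩,
    fun x y => Subtype.ext (congrArg Units.val (map_mul ψ x y))⟩, (injective_iff_map_eq_one _).2 fun x hx => ?_⟩
  have : inclusion h1 x ∈ φ.ker := Units.ext (congrArg Subtype.val hx)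
  rw [hφ] at this
  exact Subtype.ext (eq_one_of_inf h2 x.2 this)

omit hp [Finite G] in
theorem comm_sup_eq {V A B : Subgroup G} (hA : A ≤ NN V) (hB : B ≤ NN V) : ⁅V, A ⊔ B⁆ = ⁅V, A⁆ ⊔ ⁅V, B⁆ :=
  have h := sup_le (comm_le_left hA) (comm_le_left hB)
  le_antisymm (comm_sup_r (nn_of_comm_le le_sup_left h) (nn_of_comm_le le_sup_right h) le_sup_left le_sup_right)
    (sup_le (commutator_mono le_rfl le_sup_left) (commutator_mono le_rfl le_sup_right))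

theorem pg_of_quad {V D : Subgroup G} (hV : IsPGroup p V) (h1 : D ≤ NN V) (h2 : D ⊓ CC V = ⊥) (h3 : D ≤ CC ⁅V, D⁆) :
    IsPGroup p D :=
  isPGroup_iff_res_eq_bot.2 (eq_bot_of_le h2 (res_le _) (res_le_centralizer_of_quad hV h1 (comm_eq_bot'.2 h3)))

omit hp [Finite G] in
theorem iSupIndep_cons {k : ℕ} {B : Fin k → Subgroup G} {X : Subgroup G} (hB : iSupIndep B) (hX : X ⊓ ⨆ i, B i = ⊥)
    (hc : ∀ i, B i ≤ NN X) : iSupIndep (Fin.cons X B : Fin (k + 1) → Subgroup G) := by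
  refine iSupIndep_def.2 fun i => disjoint_iff.2 ?_
  induction i using Fin.cases with
  | zero =>
    refine inf_bot_mono hX le_rfl (iSup₂_le fun j hj => ?_)
    induction j using Fin.cases with
    | zero => exact absurd rfl hj
    | succ j => exact le_iSup B j
  | succ i =>
    have h1 : (⨆ j, ⨆ (_ : j ≠ i.succ), (Fin.cons X B : Fin (k + 1) → Subgroup G) j) ≤ X ⊔ ⨆ j, ⨆ (_ : j ≠ i), B j :=
      iSup₂_le fun j hj => by
        induction j using Fin.cases with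
        | zero => exact le_sup_left
        | succ j => exact le_sup_of_le_right (le_iSup₂_of_le j (fun e => hj (e ▸ rfl)) le_rfl)
    refine eq_bot_iff.2 fun x hx => ?_
    obtain ⟨a, ha, y, hy, rfl⟩ := (mem_sup_l (iSup₂_le fun j _ => hc j)).1 (h1 hx.2)
    have h2 : a = 1 := eq_one_of_inf hX ha (by
      have := mul_mem (le_iSup B i hx.1) (inv_mem ((iSup₂_le fun j _ => le_iSup B j : _ ≤ ⨆ i, B i) hy))
      simpa using this)
    rw [h2, one_mul] at hx ⊢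
    exact (disjoint_iff.1 (iSupIndep_def.1 hB i)).le ⟨hx.1, hy⟩

omit hp [Finite G] in
theorem iSup_cons {k : ℕ} (B : Fin k → Subgroup G) (X : Subgroup G) :
    ⨆ i, (Fin.cons X B : Fin (k + 1) → Subgroup G) i = X ⊔ ⨆ i, B i :=
  le_antisymm (iSup_le fun i => Fin.cases le_sup_left (fun i => le_sup_of_le_right (le_iSup B i)) i)
    (sup_le (le_iSup_of_le 0 le_rfl) (iSup_le fun i => le_iSup_of_le i.succ le_rfl))

/-- the setting of failure of factorization -/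
structure FFP (p : ℕ) (V H : Subgroup G) : Prop where
  elem : IsElementaryAbelian p V
  norm : H ≤ NN V
  faith : H ⊓ CC V = ⊥
  cent : H ⊓ CC (O {p}ᶜ H) ≤ O {p}ᶜ H

/-- a subgroup of order `p` acting as a group of transvections -/
structure Tv (p : ℕ) (V H A : Subgroup G) : Prop where
  le : A ≤ H
  card : #A = p
  comm : #(⁅V, A⁆ : Subgroup G) = p

theorem ffp_of {V H : Subgroup G} (hV : IsElementaryAbelian p V) (hHV : H ≤ NN V) (hf : H ⊓ CC V = ⊥)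
    (h : CC (pPrimeCore p H) ≤ pPrimeCore p H) : FFP p V H :=
  ⟨hV, hHV, hf, fun x hx => by
    rw [← map_pPrimeCore] at hx ⊢
    exact ⟨⟨x, hx.1⟩, h (mem_CC.2 fun y hy => Subtype.ext (mem_CC.1 hx.2 _ (mem_map_of_mem _ hy))), rfl⟩⟩

/-- the `SL₂(p)` attached to a transvection group -/
abbrev EA (p : ℕ) (H A : Subgroup G) : Subgroup G := ⁅O {p}ᶜ H, A⁆ ⊔ A

namespace FFP
variable {V H A B C : Subgroup G} (h : FFP p V H)
include h

theorem pg : IsPGroup p V := elem_isPGroup h.elem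

theorem eq_bot (h1 : A ≤ H) (h2 : A ≤ CC V) : A = ⊥ := eq_bot_of_le h.faith h1 h2

theorem eq_bot_of_cc (h1 : A ≤ H) (h2 : IsPGroup p A) (h3 : A ≤ CC (O {p}ᶜ H)) : A = ⊥ :=
  eq_bot_of_le (pg_inf h2 (O_pi {p}ᶜ H) (by simp)) le_rfl ((le_inf h1 h3).trans h.cent)

theorem elem_of_best (h1 : A ≤ H) (hA : IsBestOffenderOn p V A) : IsElementaryAbelian p A :=
  ⟨ab_iff_der.2 (h.eq_bot ((der_le A).trans h1) hA.2.1),
    fun a ha => eq_one_of_inf h.faith (pow_mem (h1 ha) p) (hA.2.2 a ha)⟩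

theorem exists_hyper {n : ℕ} (hA : El p (n + 1) A H) (hb : IsBestOffenderOn p V A) {x : G} (hx : x ∈ A) (h1 : x ≠ 1) :
    ∃ B, El p n B A ∧ x ∉ B ∧ IsBestOffenderOn p V B ∧ ms V B = ms V A := by
  set Q := O {p}ᶜ H
  have hAQ : A ≤ NN Q := hA.le.trans (nn_O (le_nn H))
  obtain ⟨B, hB, h2⟩ : ∃ B, El p n B A ∧ ¬ Q ⊓ CC B ≤ C1 x := by
    by_contra h2
    push Not at h2
    refine h1 (mem_bot.1 ((h.eq_bot_of_cc (zpowers_le.2 (hA.le hx)) (hA.pg.to_le (zpowers_le.2 hx))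
      (zpowers_le.2 (le_C1_iff.1 (cop_hyper hA hAQ (O_pi _ _) h2)))).le (mem_zpowers x)))
  have hAB : A ≤ CC B := ab_le_cc hA.ab le_rfl hB.le
  have hn : A ≤ NN (Q ⊓ CC B : Subgroup G) := nn_inf hAQ (nn_of_le hAB)
  have h3 : V ⊓ CC A < V ⊓ CC B := lt_of_le_of_ne (inf_le_inf_left _ (cc_anti hB.le)) fun e => by
    have h4 : ⁅Q ⊓ CC B, A⁆ ≤ Q ⊓ CC B := comm_le_left hn
    have hQH : Q ⊓ CC B ≤ H := inf_le_left.trans (O_le _ _)
    have h5 := Solv.thompson_pxq hB.pg (pi_compl_iff_coprime.1 ((O_pi _ _).mono (h4.trans inf_le_left))) h.pg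
      (cc_symm (h4.trans inf_le_right)) ((hB.le.trans hA.le).trans h.norm) ((h4.trans hQH).trans h.norm)
      (cc_symm (commutator_le_centralizer_of_normalizer (cc_symm (e.ge.trans inf_le_right))
        (nn_inf (hQH.trans h.norm) (nn_of_le inf_le_right))))
    exact h2 ((comm_eq_bot.1 (h.eq_bot (h4.trans hQH) h5)).trans (cc_le_C1 hx))
  have h4 : ms V A ≤ ms V B := by
    obtain ⟨k, hk⟩ := BG.relIndex_eq_pow (h.pg.to_le (inf_le_left : V ⊓ CC B ≤ V)) (V ⊓ CC A)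
    have h5 : k ≠ 0 := by
      rintro rfl
      exact h3.not_ge (relIndex_eq_one.1 hk)
    have := Nat.le_self_pow h5 p
    rw [ms, ms, ← card_mul_relIndex h3.le, hk, hA.card, hB.card, pow_succ]
    calc _ = p ^ n * (#(V ⊓ CC A : Subgroup G) * p) := by ring
      _ ≤ _ := by gcongr
  exact ⟨B, hB, fun e => h2 (inf_le_right.trans (cc_le_C1 e)), ⟨fun C hC => (hb.1 C (hC.trans hB.le)).trans h4,
    (der_mono hB.le).trans hb.2.1, fun a ha => hb.2.2 a (hB.le ha)⟩, le_antisymm (hb.1 B hB.le) h4⟩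

theorem ms_eq (h1 : A ≤ H) (hA : IsBestOffenderOn p V A) : ms V A = #V := by
  obtain ⟨n, hn⟩ := elem_exists_el (h.elem_of_best h1 hA)
  induction n generalizing A with
  | zero => rw [card_eq_one.1 (hn.card.trans (pow_zero p)), ms, cc_bot, inf_top_eq, card_bot, one_mul]
  | succ n ih =>
    obtain ⟨x, hx, h2⟩ := exists_ne_one hn.ne_bot
    obtain ⟨B, hB, -, h3, h4⟩ := h.exists_hyper (hn.of_le h1) hA hx h2
    rw [← h4, ih (hB.le.trans h1) h3 hB.self]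

theorem card_comm_mul (h1 : A ≤ H) (hA : #A = p) : #(⁅V, A⁆ : Subgroup G) * #(V ⊓ CC A : Subgroup G) = #V := by
  obtain ⟨a, ha, rfl⟩ := exists_zpowers (prime_cyc (hA ▸ hp.out))
  exact card_commutator_zpowers h.elem.1 (h.norm (h1 ha))

theorem tv_of_card (h1 : A ≤ H) (hA : IsBestOffenderOn p V A) (hc : #A = p) : Tv p V H A :=
  ⟨h1, hc, Nat.eq_of_mul_eq_mul_right (card_pos' _) ((h.card_comm_mul h1 hc).trans (by rw [← h.ms_eq h1 hA, ms, hc]))⟩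

theorem idx (hA : Tv p V H A) : p * #(V ⊓ CC A : Subgroup G) = #V := hA.comm ▸ h.card_comm_mul hA.le hA.card

theorem tv_of_min (h1 : A ≤ H) (hA : IsBestOffenderOn p V A) (hAV : ⁅V, A⁆ ≠ ⊥)
    (hmin : ∀ B ≤ A, IsBestOffenderOn p V B → ⁅V, B⁆ ≠ ⊥ → B = A) : Tv p V H A := by
  obtain ⟨n, hn⟩ := elem_exists_el (h.elem_of_best h1 hA)
  obtain ⟨x, hx, h2⟩ := exists_ne_one (H := A) (fun e => hAV (by simp [e]))
  cases n with
  | zero => exact absurd (mem_bot.1 ((card_eq_one.1 (hn.card.trans (pow_zero p))).le hx)) h2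
  | succ n =>
    obtain ⟨B, hB, h3, h4, -⟩ := h.exists_hyper (hn.of_le h1) hA hx h2
    have h5 : B = ⊥ := h.eq_bot (hB.le.trans h1) (comm_eq_bot'.1 (by
      by_contra e
      exact h3 (hmin B hB.le h4 e ▸ hx)))
    refine h.tv_of_card h1 hA ?_
    rw [hn.card, pow_succ, ← hB.card, h5, card_bot, one_mul]

theorem min_of_tv (hA : Tv p V H A) : IsBestOffenderOn p V A ∧ ⁅V, A⁆ ≠ ⊥ ∧
    ∀ B ≤ A, IsBestOffenderOn p V B → ⁅V, B⁆ ≠ ⊥ → B = A := by
  have h1 : (#A).Prime := hA.card ▸ hp.out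
  refine ⟨⟨fun B hB => ?_, (ab_iff_der.1 (ab_of_cyc (prime_cyc h1))).le.trans bot_le,
    fun a ha => ?_⟩, prime_ne_bot (hA.comm ▸ hp.out), fun B hB _ h2 => prime_eq_of_le h1 hB fun e => h2 (by simp [e])⟩
  · by_cases e : B = ⊥
    · rw [e, hA.card, h.idx hA, cc_bot, inf_top_eq, card_bot, one_mul]
    · rw [prime_eq_of_le h1 hB e]
  · rw [← hA.card, Solv.pow_card_eq_one_of_mem ha]; exact one_mem _

theorem exists_prod (h1 : A ≤ H) (hA : IsBestOffenderOn p V A) : ∃ (k : ℕ) (B : Fin k → Subgroup G),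
    (∀ i, B i ≤ A ∧ Tv p V H (B i)) ∧ iSupIndep B ∧ ⨆ i, B i = A := by
  obtain ⟨n, hn⟩ := elem_exists_el (h.elem_of_best h1 hA)
  induction n generalizing A with
  | zero => exact ⟨0, Fin.elim0, fun i => i.elim0, fun i => i.elim0, by
      rw [card_eq_one.1 (hn.card.trans (pow_zero p))]; simp⟩
  | succ n ih =>
    obtain ⟨x, hx, h2⟩ := exists_ne_one hn.ne_bot
    obtain ⟨B, hB, h3, h4, -⟩ := h.exists_hyper (hn.of_le h1) hA hx h2
    obtain ⟨k, D, d1, d2, d3⟩ := ih (hB.le.trans h1) h4 hB.self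
    obtain ⟨X, hX, h5, h6⟩ : ∃ X ≤ A, Tv p V H X ∧ ¬ X ≤ B := by
      by_cases e : B = ⊥
      · exact ⟨A, le_rfl, h.tv_of_card h1 hA (by rw [hn.card, pow_succ, ← hB.card, e, card_bot, one_mul]),
          fun h => h3 (h hx)⟩
      · obtain ⟨y, hy, h5⟩ := exists_ne_one e
        obtain ⟨B', hB', h6, h7, -⟩ := h.exists_hyper (hn.of_le h1) hA (hB.le hy) h5
        obtain ⟨k', D', d1', -, d3'⟩ := ih (hB'.le.trans h1) h7 hB'.self
        by_contra h8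
        push Not at h8
        exact h6 (hB'.eq_of_le hB (d3' ▸ iSup_le fun i => h8 _ ((d1' i).1.trans hB'.le) (d1' i).2) ▸ hy)
    have h7 : X ⊓ B = ⊥ := prime_inf (h5.card ▸ hp.out) h6
    refine ⟨k + 1, Fin.cons X D, fun i => ?_, iSupIndep_cons d2 (d3 ▸ h7)
      fun i => ab_nn hn.ab ((d1 i).1.trans hB.le) hX, ?_⟩
    · induction i using Fin.cases with
      | zero => exact ⟨hX, h5⟩
      | succ i => exact ⟨(d1 i).1.trans hB.le, (d1 i).2⟩
    · rw [iSup_cons, d3]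
      exact eq_of_card_le (sup_le hX hB.le) (by
        rw [card_sup_l (ab_nn hn.ab hB.le hX) h7, hn.card, h5.card, hB.card, pow_succ'])

theorem le_of_tv (hH : H = ⨆ A : {A : Subgroup G // A ≤ H ∧ IsBestOffenderOn p V A}, (A : Subgroup G))
    {K : Subgroup G} (hK : ∀ A, Tv p V H A → A ≤ K) : H ≤ K := by
  refine hH.le.trans (iSup_le fun A => ?_)
  obtain ⟨k, B, h1, -, h2⟩ := h.exists_prod A.2.1 A.2.2
  exact h2 ▸ iSup_le fun i => hK _ (h1 i).2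

theorem tv_cj (hA : Tv p V H A) {g : G} (hg : g ∈ H) : Tv p V H (cj g A) :=
  ⟨cj_le' hA.le hg, by rw [card_cj, hA.card], by rw [← cj_nn (h.norm hg), ← cj_commutator, card_cj, hA.comm]⟩

theorem tv_quad (hA : Tv p V H A) : A ≤ CC ⁅V, A⁆ := pcc_of_card hA.comm (pg_of_card hA.card) (right_nn_comm _ _)

theorem tv_inf (hA : Tv p V H A) : O {p}ᶜ H ⊓ A = ⊥ :=
  inf_comm A _ ▸ pg_inf (pg_of_card hA.card) (O_pi {p}ᶜ H) (by simp)

theorem cj_ne (hA : Tv p V H A) {x : G} (hx : x ∈ O {p}ᶜ H) (h1 : x ∉ CC A) : cj x A ≠ A := fun e =>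
  h1 (zpowers_le.1 (comm_eq_bot.1 (eq_bot_of_le (h.tv_inf hA) ((commutator_mono (zpowers_le.2 hx) le_rfl).trans
    (comm_le_left (hA.le.trans (nn_O (le_nn H))))) (comm_le_right (zpowers_le.2 (mem_normalizer_iff_cj.2 e))))))

theorem pair_le (hA : Tv p V H A) {x : G} (hx : x ∈ O {p}ᶜ H) : A ⊔ cj x A ≤ EA p H A :=
  sup_le le_sup_right (cj_le_iff.2 fun a ha => by
    have : x * a * x⁻¹ = ⁅x, a⁆ * a := by simp only [commutatorElement_def]; group
    rw [this]; exact mul_mem (mem_sup_left (commutator_mem_commutator hx ha)) (mem_sup_right ha))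

theorem R_le (hA : Tv p V H A) : ⁅O {p}ᶜ H, A⁆ ≤ O {p}ᶜ H := comm_le_left (hA.le.trans (nn_O (le_nn H)))

theorem EA_le (hA : Tv p V H A) : EA p H A ≤ H := sup_le ((h.R_le hA).trans (O_le _ _)) hA.le

theorem card_EA (hA : Tv p V H A) : #(EA p H A) = #(⁅O {p}ᶜ H, A⁆ : Subgroup G) * p := by
  rw [card_sup_l (right_nn_comm _ _) (inf_bot_mono (h.tv_inf hA) (h.R_le hA) le_rfl), hA.card]

theorem tv_syl (hA : Tv p V H A) : IsSyl p A (EA p H A) := by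
  rw [EA, sup_comm]
  exact (Hall.of_sup' (pi1_of_pg (pg_of_card hA.card)) ((O_pi {p}ᶜ H).mono (h.R_le hA)) (right_nn_comm _ _)).syl

theorem pair_faith (hA : Tv p V H A) {x : G} (hx : x ∈ O {p}ᶜ H) (h1 : x ∉ CC A) :
    (A ⊔ cj x A) ⊓ CC ⁅V, A ⊔ cj x A⁆ = ⊥ := by
  have h2 : IsSyl p A (A ⊔ cj x A) := (h.tv_syl hA).mono le_sup_left (h.pair_le hA hx)
  have h3 : IsSyl p (cj x A) (A ⊔ cj x A) := h2.of_card_le (IsPGroup.cj h2.pgroup x) le_sup_right (card_cj x A).ge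
  have h4 := (h.pair_le hA hx).trans (h.EA_le hA)
  have h5 := le_O inf_le_left (nn_inf (le_nn _) (nn_cc (right_nn_comm V _))) (pi1_of_pg (pg_of_quad h.pg
    (inf_le_left.trans (h4.trans h.norm)) (inf_bot_mono h.faith (inf_le_left.trans h4) le_rfl)
    (inf_le_right.trans (cc_anti (commutator_mono le_rfl inf_le_left)))))
  refine eq_bot_of_le (prime_inf (hA.card ▸ hp.out) fun e => h.cj_ne hA hx h1 ?_) (h5.trans (O_le_syl h2))
    (h5.trans (O_le_syl h3))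
  exact (eq_of_card_le e (card_cj x A).le).symm

theorem pair_not_cc (hA : Tv p V H A) {x : G} (hx : x ∈ O {p}ᶜ H) (h1 : x ∉ CC A) : ¬ A ≤ CC ⁅V, cj x A⁆ := fun e =>
  prime_ne_bot (hA.card ▸ hp.out) (eq_bot_of_le (h.pair_faith hA hx h1) le_sup_left (by
    rw [comm_sup_eq (hA.le.trans h.norm) ((h.tv_cj hA (O_le _ _ hx)).le.trans h.norm)]
    exact le_cc_sup (h.tv_quad hA) e))

theorem pair_card (hA : Tv p V H A) {x : G} (hx : x ∈ O {p}ᶜ H) (h1 : x ∉ CC A) :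
    #(⁅V, A ⊔ cj x A⁆ : Subgroup G) = p ^ 2 := by
  have hB := h.tv_cj hA (O_le _ _ hx)
  rw [comm_sup_eq (hA.le.trans h.norm) (hB.le.trans h.norm), card_sup_r (ab_nn h.elem.1
    (comm_le_left (hA.le.trans h.norm)) (comm_le_left (hB.le.trans h.norm))), hA.comm, hB.comm, sq]
  rw [inf_comm]
  exact prime_inf (hB.comm ▸ hp.out) fun e => h.pair_not_cc hA hx h1 ((h.tv_quad hA).trans (cc_anti e))

theorem pair_points (hA : Tv p V H A) {x : G} (hx : x ∈ O {p}ᶜ H) (h1 : x ∉ CC A) {X : Subgroup G}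
    (hX : X ≤ ⁅V, A ⊔ cj x A⁆) (hc : #X = p) : ∃ y ∈ O {p}ᶜ H, cj y A ≤ A ⊔ cj x A ∧ X = ⁅V, cj y A⁆ := by
  have hB := h.tv_cj hA (O_le _ _ hx)
  have hW := comm_le_left (((h.pair_le hA hx).trans (h.EA_le hA)).trans h.norm)
  by_cases e : X = ⁅V, A⁆
  · exact ⟨1, one_mem _, by simp, by simpa using e⟩
  have h2 : X ⊔ ⁅V, A⁆ = ⁅V, A ⊔ cj x A⁆ := El.sup_lines ⟨le_rfl, elem_mono h.elem hW, h.pair_card hA hx h1⟩ hX
    (commutator_mono le_rfl le_sup_left) hc hA.comm e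
  obtain ⟨w, hw, h3⟩ := SetLike.not_le_iff_exists.1 fun e => h.pair_not_cc hA hx h1 (cc_symm e)
  obtain ⟨a, ha, rfl⟩ := exists_zpowers (prime_cyc (hA.card ▸ hp.out))
  have hwV := comm_le_left (hB.le.trans h.norm) hw
  have h4 : ⁅a, w⁆ ∈ ⁅V, zpowers a⁆ := Subgroup.commutator_comm _ V ▸ commutator_mem_commutator ha hwV
  have h5 := prime_eq_zpowers (hA.comm ▸ hp.out) h4 fun e =>
    h3 (by rw [cc_zpowers]; exact mem_C1_comm.1 (comm_eq_one_iff_C1.1 e))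
  obtain ⟨y, hy, u, hu, e1⟩ := (mem_sup_l (ab_nn h.elem.1 (comm_le_left (hA.le.trans h.norm)) (hX.trans hW))).1
    (h2.ge (commutator_mono le_rfl le_sup_right hw))
  obtain ⟨k, hk⟩ := exists_pow_eq (h5.ge (inv_mem hu))
  have e2 : y = a ^ k * w * (a ^ k)⁻¹ := by
    rw [conj_pow_of_commute (mem_CC.1 (h.tv_quad hA ha) _ h4).symm, hk,
      comm_iff.1 h.elem.1 _ (inv_mem (comm_le_left (hA.le.trans h.norm) hu)) _ hwV, e1]
    group
  have hak : a ^ k ∈ zpowers a := npow_mem_zpowers a k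
  have e3 : cj (a ^ k * x * (a ^ k)⁻¹) (zpowers a) = cj (a ^ k * x) (zpowers a) := by
    rw [← cj_cj, cj_eq_of_mem (inv_mem hak)]
  refine ⟨_, conj_mem_of_mem_normalizer (nn_O (le_nn H) (hA.le hak)) hx,
    by rw [e3, ← cj_cj]; exact cj_le' le_sup_right (mem_sup_left hak), ?_⟩
  have h6 : y ≠ 1 := fun e => h3 (by
    rw [e2] at e
    rw [show w = 1 by simpa [mul_inv_eq_one] using e]; exact one_mem _)
  rw [← prime_eq_zpowers (hc ▸ hp.out) hy h6, e3]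
  refine prime_eq_zpowers ((h.tv_cj hA (mul_mem (hA.le hak) (O_le _ _ hx))).comm ▸ hp.out) ?_ h6
  rw [← cj_cj, ← cj_nn (h.norm (hA.le hak)), ← cj_commutator, e2]
  exact conj_mem_cj hw

theorem exists_point (hC : Tv p V H C) {W : Subgroup G} (hW : W ≤ V) (hc : #W = p ^ 2) :
    ∃ X ≤ W ⊓ CC C, #X = p := by
  refine pg_exists_card (h.pg.to_le (inf_le_left.trans hW)) fun e => ?_
  have h1 := card_sup_l (A := W) (B := V ⊓ CC C) (ab_nn h.elem.1 inf_le_left hW) (by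
    rwa [← inf_assoc, inf_eq_left.2 hW])
  have h2 := card_le_of_le (sup_le hW inf_le_left : W ⊔ V ⊓ CC C ≤ V)
  rw [h1, ← h.idx hC, hc, sq] at h2
  have := hp.out.one_lt
  have := Nat.le_of_mul_le_mul_right h2 (card_pos' _)
  nlinarith

theorem EA_eq (hA : Tv p V H A) {x : G} (hx : x ∈ O {p}ᶜ H) (h1 : x ∉ CC A) : EA p H A = A ⊔ cj x A := by
  refine le_antisymm (sup_le (commutator_le.2 fun y hy a ha => ?_) le_sup_left) (h.pair_le hA hx)
  have hC := h.tv_cj hA (O_le _ _ hy)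
  obtain ⟨X, hX, h2⟩ := h.exists_point hC (comm_le_left (((h.pair_le hA hx).trans (h.EA_le hA)).trans h.norm))
    (h.pair_card hA hx h1)
  obtain ⟨z, hz, h3, rfl⟩ := h.pair_points hA hx h1 (hX.trans inf_le_left) h2
  have e : cj z A = cj (z * y⁻¹) (cj y A) := by rw [cj_cj, inv_mul_cancel_right]
  have h4 : z * y⁻¹ ∈ CC (cj y A) := by
    by_contra h4
    exact h.pair_not_cc hC (mul_mem hz (inv_mem hy)) h4 (e ▸ cc_symm (hX.trans inf_le_right))
  rw [e, cj_cc h4] at h3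
  exact mul_mem (h3 (conj_mem_cj ha)) (mem_sup_left (inv_mem ha))

theorem exists_not_cc (hA : Tv p V H A) : ∃ x ∈ O {p}ᶜ H, x ∉ CC A :=
  SetLike.not_le_iff_exists.1 fun e => prime_ne_bot (hA.card ▸ hp.out)
    (h.eq_bot_of_cc hA.le (pg_of_card hA.card) (cc_symm e))

theorem EA_faith (hA : Tv p V H A) : EA p H A ⊓ CC ⁅V, EA p H A⁆ = ⊥ := by
  obtain ⟨x, hx, h1⟩ := h.exists_not_cc hA
  rw [h.EA_eq hA hx h1]; exact h.pair_faith hA hx h1

theorem card_W (hA : Tv p V H A) : #(⁅V, EA p H A⁆ : Subgroup G) = p ^ 2 := by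
  obtain ⟨x, hx, h1⟩ := h.exists_not_cc hA
  rw [h.EA_eq hA hx h1]; exact h.pair_card hA hx h1

theorem W_le (hA : Tv p V H A) : ⁅V, EA p H A⁆ ≤ V := comm_le_left ((h.EA_le hA).trans h.norm)

theorem EA_omega (hA : Tv p V H A) : EA p H A ≤ omegaOne p (EA p H A) := by
  obtain ⟨x, hx, h1⟩ := h.exists_not_cc hA
  have h2 : ∀ B : Subgroup G, #B = p → IsElementaryAbelian p B := fun B hB => (el_one le_rfl hB).elem
  rw [h.EA_eq hA hx h1]
  exact sup_le (le_omega le_sup_left (h2 _ hA.card)) (le_omega le_sup_right (h2 _ ((card_cj x A).trans hA.card)))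

theorem R_ne_bot (hA : Tv p V H A) : ⁅O {p}ᶜ H, A⁆ ≠ ⊥ := fun e => by
  obtain ⟨x, hx, h1⟩ := h.exists_not_cc hA
  exact h1 (comm_eq_bot.1 e hx)

theorem card_ge (hA : Tv p V H A) : (p = 2 ∨ p = 3) ∧ p * (p + 1) * (p - 1) ≤ #(EA p H A) := by
  by_cases hp2 : p = 2
  · subst hp2
    have h1 := pi_compl_iff.1 ((O_pi {2}ᶜ H).mono (h.R_le hA))
    have h2 : #(⁅O {2}ᶜ H, A⁆ : Subgroup G) ≠ 1 := fun e => h.R_ne_bot hA (card_eq_one.1 e)
    have := card_pos' ⁅O {2}ᶜ H, A⁆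
    rw [h.card_EA hA]
    omega
  obtain ⟨x, hx, h1⟩ := h.exists_not_cc hA
  obtain ⟨a, ha, rfl⟩ := exists_zpowers (prime_cyc (hA.card ▸ hp.out))
  obtain ⟨rfl, K, M, _, h2, ⟨e⟩⟩ := sl2_three_of_quadratic hp2 h.pg h.norm (N := ⊥) nn_bot (nn_O (le_nn H)) h.faith.le
    (fun n hn => ⟨0, by rw [mem_bot.1 hn]; simp⟩) (pi_compl_iff_coprime.1 (O_pi {p}ᶜ H))
    (fun r hr => Solv.pow_card_eq_one_of_mem hr) (hA.le ha) (O_le _ _ hx) hx (comm_eq_bot'.2 (h.tv_quad hA))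
    (fun e => h1 (by rw [cc_zpowers]; exact comm_eq_one_iff_C1.1 e))
  refine ⟨Or.inr rfl, ?_⟩
  rw [← card_sl2_zmod, ← Nat.card_congr e.toEquiv, h.EA_eq hA hx h1, cj_zpowers, ← closure_pair_eq]
  exact (Nat.le_of_dvd Nat.card_pos (card_quotient_dvd_card _)).trans (card_le_of_le h2)

theorem card_le_sl2 {W L : Subgroup G} (hW : W ≤ V) (hc : #W = p ^ 2) (h1 : L ≤ NN W) (h2 : L ⊓ CC W = ⊥)
    (h3 : L ≤ omegaOne p L) : #L ≤ p * (p + 1) * (p - 1) := by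
  obtain ⟨φ, hφ⟩ := embed_sl2 (elem_mono h.elem hW) hc h1 h2 h3
  exact card_sl2_zmod (p := p) ▸ Nat.card_le_card_of_injective φ hφ

theorem EA_iso (hA : Tv p V H A) : Nonempty (EA p H A ≃* SL2 (ZMod p)) := by
  obtain ⟨φ, hφ⟩ := embed_sl2 (elem_mono h.elem (h.W_le hA)) (h.card_W hA) (right_nn_comm _ _) (h.EA_faith hA)
    (h.EA_omega hA)
  exact ⟨MulEquiv.ofBijective φ (hφ.bijective_of_nat_card_le (card_sl2_zmod (p := p) ▸ (h.card_ge hA).2))⟩

theorem card_EA' (hA : Tv p V H A) : #(EA p H A) = p * (p + 1) * (p - 1) :=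
  (Nat.card_congr (h.EA_iso hA).some.toEquiv).trans card_sl2_zmod

theorem points (hA : Tv p V H A) {X : Subgroup G} (hX : X ≤ ⁅V, EA p H A⁆) (hc : #X = p) :
    ∃ r ∈ ⁅O {p}ᶜ H, A⁆, X = cj r ⁅V, A⁆ := by
  obtain ⟨x, hx, h1⟩ := h.exists_not_cc hA
  obtain ⟨y, hy, h2, rfl⟩ := h.pair_points hA hx h1 (h.EA_eq hA hx h1 ▸ hX) hc
  obtain ⟨e, he, h3⟩ := (h.tv_syl hA).exists_cj_le (IsPGroup.cj (pg_of_card hA.card) y) (h.EA_eq hA hx h1 ▸ h2)
  obtain ⟨r, hr, a, ha, e1⟩ := (mem_sup_l (right_nn_comm _ _)).1 (inv_mem he)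
  have h4 : cj y A = cj r A := by
    rw [← cj_eq_of_mem ha, cj_cj, cj_cj, ← e1, ← cj_eq_iff_eq_cj_inv, ← cj_cj, cj_eq_of_mem ha]
    exact eq_of_card_le h3 (by rw [card_cj, card_cj])
  exact ⟨r, hr, by rw [h4, cj_commutator, cj_nn (h.norm (O_le _ _ (h.R_le hA hr)))]⟩

theorem irred (hA : Tv p V H A) {Y : Subgroup G} (hY : Y ≤ ⁅V, EA p H A⁆) (hn : ⁅O {p}ᶜ H, A⁆ ≤ NN Y) :
    Y = ⊥ ∨ Y = ⁅V, EA p H A⁆ := by
  refine or_iff_not_imp_left.2 fun h0 => le_antisymm hY fun w hw => ?_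
  obtain ⟨X, hX, h1⟩ := pg_exists_card (h.pg.to_le (hY.trans (h.W_le hA))) h0
  obtain ⟨r, hr, rfl⟩ := h.points hA (hX.trans hY) h1
  have h2 : ⁅V, A⁆ ≤ Y := by rwa [← cj_nn (hn hr), cj_le_cj_iff] at hX
  by_cases e : w = 1
  · rw [e]; exact one_mem _
  obtain ⟨s, hs, h3⟩ := h.points hA (zpowers_le.2 hw)
    (El.card_zpowers ⟨le_rfl, elem_mono h.elem (h.W_le hA), h.card_W hA⟩ hw e)
  exact cj_le h2 (hn hs) (h3.le (mem_zpowers w))

theorem W_ne_bot (hA : Tv p V H A) : ⁅V, EA p H A⁆ ≠ ⊥ := fun e => by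
  have := h.card_W hA
  rw [e, card_bot] at this
  exact (Nat.one_lt_pow two_ne_zero hp.out.one_lt).ne this

theorem W_eq (hA : Tv p V H A) : ⁅V, ⁅O {p}ᶜ H, A⁆⁆ = ⁅V, EA p H A⁆ :=
  (h.irred hA (commutator_mono le_rfl le_sup_left) (right_nn_comm _ _)).resolve_left fun e =>
    h.R_ne_bot hA (h.eq_bot ((h.R_le hA).trans (O_le _ _)) (comm_eq_bot'.1 e))

theorem cop_Q {R : Subgroup G} (hR : R ≤ O {p}ᶜ H) : (#R).Coprime #V :=
  (pg_coprime h.pg ((O_pi {p}ᶜ H).mono hR) (by simp)).symm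

theorem U_eq (hA : Tv p V H A) : V ⊓ CC ⁅O {p}ᶜ H, A⁆ = V ⊓ CC (EA p H A) := by
  have h1 := cop_ab_inf h.elem.1 (((h.R_le hA).trans (O_le _ _)).trans h.norm) (h.cop_Q (h.R_le hA))
  refine le_antisymm (le_inf inf_le_left (le_cc_sup inf_le_right (comm_eq_bot.1 (eq_bot_of_le h1
    (comm_le_left (nn_inf (hA.le.trans h.norm) (nn_cc (right_nn_comm _ _)))) ?_)))) (inf_le_inf_left _ (cc_anti le_sup_left))
  rw [h.W_eq hA]; exact commutator_mono inf_le_left le_sup_right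

theorem W_inf (hA : Tv p V H A) : ⁅V, EA p H A⁆ ⊓ (V ⊓ CC (EA p H A)) = ⊥ := by
  rw [← h.W_eq hA, ← h.U_eq hA, inf_comm]
  exact cop_ab_inf h.elem.1 (((h.R_le hA).trans (O_le _ _)).trans h.norm) (h.cop_Q (h.R_le hA))

theorem W_sup (hA : Tv p V H A) : ⁅V, EA p H A⁆ ⊔ (V ⊓ CC (EA p H A)) = V := by
  rw [← h.W_eq hA, ← h.U_eq hA]
  exact cop_comm_sup (((h.R_le hA).trans (O_le _ _)).trans h.norm) (h.cop_Q (h.R_le hA)) (sol_of_ab h.elem.1)

theorem Q_nn_W (hA : Tv p V H A) : O {p}ᶜ H ≤ NN ⁅V, EA p H A⁆ :=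
  h.W_eq hA ▸ nn_comm ((O_le _ _).trans h.norm) (left_nn_comm _ _)

theorem cc_of_inf (hA : Tv p V H A) (hC : Tv p V H C) (e : ⁅V, EA p H A⁆ ⊓ ⁅V, EA p H C⁆ = ⊥) :
    ⁅V, EA p H A⁆ ≤ CC (EA p H C) :=
  le_trans (le_inf (h.W_le hA) (comm_eq_bot.1 (eq_bot_of_le e (comm_le_left ((h.R_le hC).trans (h.Q_nn_W hA)))
    (commutator_mono (h.W_le hA) le_sup_left)))) ((h.U_eq hC).le.trans inf_le_right)

theorem dichot (hA : Tv p V H A) (hC : Tv p V H C) (hne : EA p H C ≠ EA p H A) :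
    ⁅V, EA p H A⁆ ≤ CC (EA p H C) ∧ EA p H A ≤ CC (EA p H C) := by
  rcases h.irred hA inf_le_left (nn_inf (le_sup_left.trans (right_nn_comm _ _)) ((h.R_le hA).trans (h.Q_nn_W hC)))
    with e | e
  · have h1 := h.cc_of_inf hA hC e
    have h2 := h.cc_of_inf hC hA (inf_comm _ ⁅V, EA p H A⁆ ▸ e)
    refine ⟨h1, cc_symm (comm_eq_bot.1 (h.eq_bot (comm_le (h.EA_le hC) (h.EA_le hA)) (comm_eq_bot.1 (eq_bot_iff.2
      (three_sub (A := EA p H A) nn_bot nn_bot nn_bot ?_ (comm_eq_bot.2 h2).le)))))⟩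
    rw [Subgroup.commutator_comm _ V]; exact (comm_eq_bot.2 h1).le
  · have e1 : ⁅V, EA p H A⁆ = ⁅V, EA p H C⁆ := eq_of_card_le (inf_eq_left.1 e) (by rw [h.card_W hA, h.card_W hC])
    have h1 : V ⊓ CC (EA p H A) ≤ CC (EA p H C) := by
      refine le_trans (le_inf inf_le_left (comm_eq_bot.1 (eq_bot_of_le (h.W_inf hA) ?_ ?_)))
        ((h.U_eq hC).le.trans inf_le_right)
      · rw [e1]; exact commutator_mono inf_le_left le_sup_left
      · rw [← h.U_eq hA]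
        exact comm_le_left ((h.R_le hC).trans (nn_inf ((O_le _ _).trans h.norm) (nn_cc (left_nn_comm _ _))))
    have h2 := h.card_le_sl2 (L := EA p H A ⊔ EA p H C) (h.W_le hA) (h.card_W hA)
      (sup_le (right_nn_comm _ _) (e1 ▸ right_nn_comm _ _))
      (h.eq_bot (inf_le_left.trans (sup_le (h.EA_le hA) (h.EA_le hC))) ((le_cc_sup inf_le_right
        (inf_le_left.trans (cc_symm (le_cc_sup inf_le_right h1)))).trans (cc_anti (h.W_sup hA).ge)))
      (sup_le ((h.EA_omega hA).trans (omega_mono le_sup_left)) ((h.EA_omega hC).trans (omega_mono le_sup_right)))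
    exact absurd ((eq_of_card_le le_sup_right (h.card_EA' hC ▸ h2)).trans
      (eq_of_card_le le_sup_left (h.card_EA' hA ▸ h2)).symm) hne

theorem factor (hH : ∀ K, (∀ A, Tv p V H A → A ≤ K) → H ≤ K) (hA : Tv p V H A) :
    H ⊓ CC ⁅V, EA p H A⁆ ≤ CC (EA p H A) ∧ EA p H A ⊔ H ⊓ CC ⁅V, EA p H A⁆ = H := by
  set F₀ := H ⊓ CC ⁅V, EA p H A⁆ ⊓ CC (EA p H A)
  have h1 : H ≤ F₀ ⊔ EA p H A := hH _ fun C hC => by
    by_cases e : EA p H C = EA p H A
    · exact le_sup_of_le_right (e ▸ le_sup_right)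
    · obtain ⟨h1, h2⟩ := h.dichot hA hC e
      exact le_sup_of_le_left (le_inf (le_inf hC.le (le_sup_right.trans (cc_symm h1))) (le_sup_right.trans (cc_symm h2)))
  refine ⟨?_, le_antisymm (sup_le (h.EA_le hA) inf_le_left) (h1.trans (sup_le (le_sup_of_le_right inf_le_left) le_sup_left))⟩
  have h2 := dedekind' (H := H ⊓ CC ⁅V, EA p H A⁆) (B := EA p H A) (inf_le_left : F₀ ≤ _) (nn_of_cc inf_le_right)
  rw [inf_bot_mono (h.EA_faith hA) le_rfl inf_le_right, sup_bot_eq, inf_eq_right.2 (inf_le_left.trans h1)] at h2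
  exact h2.le.trans inf_le_right

theorem comm_F (hH : ∀ K, (∀ A, Tv p V H A → A ≤ K) → H ≤ K) (hA : Tv p V H A) :
    ⁅V, H ⊓ CC ⁅V, EA p H A⁆⁆ ≤ V ⊓ CC (EA p H A) := by
  refine le_inf (comm_le_left (inf_le_left.trans h.norm)) (comm_eq_bot.1 (eq_bot_iff.2 (three_sub nn_bot nn_bot nn_bot
    (by rw [comm_eq_bot.2 (h.factor hH hA).1]; simp) ?_)))
  rw [Subgroup.commutator_comm _ V]; exact (comm_eq_bot'.2 inf_le_right).le

theorem nn_EA (hH : ∀ K, (∀ A, Tv p V H A → A ≤ K) → H ≤ K) (hA : Tv p V H A) : H ≤ NN (EA p H A) :=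
  (h.factor hH hA).2.ge.trans (sup_le (le_nn _) (nn_of_cc (h.factor hH hA).1))

end FFP

end Cfsg.Agent.Transfer
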