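import Cfsg.Agent.Lib.Transfer.FC4

set_option autoImplicit false
set_option linter.unusedSectionVars false
set_option linter.unusedVariables false
set_option linter.style.haveILetI false
set_option linter.unusedSimpArgs false

/-! Frobenius complements: the non-solvable case -/
namespace Cfsg.Agent.Transfer.FC
open Subgroup MS
open scoped commutatorElement
universe u
variable {H : Type u} [Group H] [Finite H] {g x y z c s : H} {S Q R N P : Subgroup H} {p : ℕ}

theorem FR.mem_zpowers (hH : FR H) (hc : Commute x y) (h : orderOf x ∣ orderOf y) : x ∈ zpowers y :=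
  cyc_le (hH.cyc (comm_sup inferInstance inferInstance (zpowers_le.2 (by
    rw [cc_zpowers]; exact mem_C1.2 hc.symm)))) le_sup_right le_sup_left
    (by rwa [Nat.card_zpowers, Nat.card_zpowers]) (Subgroup.mem_zpowers x)

theorem zg_of (h : ∀ p : ℕ, p.Prime → ∀ P ≤ N, IsPGroup p P → IsCyclic P) : IsZGroup N :=
  ⟨fun p hp P => by
    haveI := Fact.mk hp
    have := h p hp _ (isSyl_map_subtype P).le (isSyl_map_subtype P).pgroup
    exact isCyclic_of_surjective _ ((P : Subgroup N).equivMapOfInjective _ N.subtype_injective).symm.surjective⟩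

theorem FR.zg (hH : FR H) (h : ∀ P ≤ N, IsPGroup 2 P → IsCyclic P) : IsZGroup N := zg_of fun p hp P h1 h2 => by
  haveI := Fact.mk hp
  by_cases e : p = 2
  · subst e; exact h P h1 h2
  · exact hH.pg e h2

theorem zg_syl (h : IsZGroup N) (p : ℕ) [hp : Fact p.Prime] (P : Sylow p N) : IsCyclic P := h.1 p hp.out P

theorem four_dvd (hP : IsPGroup 2 P) (hx : x ∈ P) (h : x * x ≠ 1) : 4 ∣ orderOf x := by
  obtain ⟨k, hk⟩ := (IsPGroup.iff_orderOf.1 hP) ⟨x, hx⟩
  rw [orderOf_mk] at hk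
  rw [hk]
  refine pow_dvd_pow 2 (show 2 ≤ k from not_lt.1 fun e => h ?_)
  rw [← pow_two, ← orderOf_dvd_iff_pow_eq_one, hk]
  exact (pow_dvd_pow 2 (Nat.lt_succ_iff.1 e)).trans (by simp)

/-- the data of Zassenhaus' theorem -/
structure NS (S : Subgroup H) (φ : H →* Equiv.Perm (Fin 5)) : Prop where
  fr : FR H
  normal : S.Normal
  iso : Nonempty (S ≃* SL2 (ZMod 5))
  card : #S = 120
  ker : φ.ker = CC S
  map : S.map φ = alternatingGroup (Fin 5)
  one : ∀ s ∈ S, φ s = 1 ↔ s * s = 1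

theorem FR.ns (hH : FR H) (hn : ¬ Group.IsSolvable H) : ∃ S φ, NS (H := H) S φ := by
  obtain ⟨S, φ, h1, h2, h3, h4, h5, h6⟩ := hH.nonsol hn
  exact ⟨S, φ, hH, h1, h2, h3, h4, h5, h6⟩

namespace NS
variable {φ : H →* Equiv.Perm (Fin 5)} (h : NS S φ)
include h

theorem not_dvd (hc : c ∈ CC S) (hs : s ∈ S) (h2 : s * s ≠ 1) : ¬ orderOf s ∣ orderOf c := fun e =>
  h2 ((h.one s hs).1 (h.ker.ge (zpowers_le.2 hc (h.fr.mem_zpowers (mem_CC.1 hc s hs) e))))

theorem exists_ord {n : ℕ} (hn : n = 3 ∨ n = 4 ∨ n = 5) : ∃ s ∈ S, orderOf s = n := by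
  rcases hn with rfl | rfl | rfl
  · exact Solv.exists_subgroup_card_prime Nat.prime_three (by rw [h.card]; decide)
  · obtain ⟨e⟩ := h.iso
    obtain ⟨a, a1, a2⟩ : ∃ a : SL2 (ZMod 5), ¬ a ^ 2 ^ 1 = 1 ∧ a ^ 2 ^ (1 + 1) = 1 :=
      ⟨⟨!![0, -1; 1, 0], by decide⟩, by decide⟩
    exact ⟨e.symm a, (e.symm a).2, by rw [orderOf_coe, e.symm.orderOf_eq, orderOf_eq_prime_pow a1 a2]; rfl⟩
  · exact Solv.exists_subgroup_card_prime Nat.prime_five (by rw [h.card]; decide)

theorem not_ord {n : ℕ} (hn : n = 3 ∨ n = 4 ∨ n = 5) (hc : c ∈ CC S) : ¬ n ∣ orderOf c := by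
  obtain ⟨s, hs, e⟩ := h.exists_ord hn
  refine e ▸ h.not_dvd hc hs fun e2 => ?_
  have := orderOf_le_of_pow_eq_one two_pos (show s ^ 2 = 1 by rwa [pow_two])
  omega

theorem sq (h1 : P ≤ CC S) (hP : IsPGroup 2 P) (hx : x ∈ P) : x * x = 1 :=
  by_contra fun e => h.not_ord (n := 4) (by simp) (h1 hx) (four_dvd hP hx e)

theorem mem (hx : x * x = 1) : x ∈ S := by
  obtain ⟨s, hs, e⟩ := Solv.exists_subgroup_card_prime (A := S) Nat.prime_two (by rw [h.card]; decide)
  by_cases e1 : x = 1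
  · rw [e1]; exact one_mem _
  · rwa [h.fr.ui _ s e1 hx (fun e2 => by simp [e2] at e) (by rw [← pow_two, ← e, pow_orderOf_eq_one])]

theorem cyc2 (h1 : P ≤ CC S) (hP : IsPGroup 2 P) : IsCyclic P := by
  have := h.fr.ui.card_le fun x hx => h.sq h1 hP hx
  rcases (show #P = 1 ∨ #P = 2 by have := Nat.card_pos (α := P); omega) with e | e
  · exact isCyclic_of_card_dvd_prime (p := 2) (by simp [e])
  · exact isCyclic_of_prime_card e

theorem zg : IsZGroup (CC S) := h.fr.zg fun _ => h.cyc2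

theorem sol : Group.IsSolvable (CC S) := by haveI := h.zg; infer_instance

theorem npc : NPC 2 (CC S) := by
  obtain ⟨P, hP⟩ := exists_isSyl 2 (CC S)
  exact npc_iff.2 (hP.hasNPC_two_of_isCyclic (h.cyc2 hP.le hP.pgroup))

theorem comap : (alternatingGroup (Fin 5)).comap φ = S ⊔ O {2}ᶜ (CC S) := by
  obtain ⟨P, hP⟩ := exists_isSyl 2 (CC S)
  rw [← h.map, comap_map_eq, h.ker]
  refine le_antisymm (sup_le le_sup_left ?_) (sup_le_sup_left (O_le _ _) _)
  refine (h.npc.sup hP).ge.trans (sup_le le_sup_right (le_trans (fun x hx => ?_) le_sup_left))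
  exact h.mem (h.sq hP.le hP.pgroup hx)

theorem not_dvd_card {q : ℕ} (hq : q = 3 ∨ q = 5) : ¬ q ∣ #(CC S) := fun e => by
  obtain ⟨c, hc, e⟩ := Solv.exists_subgroup_card_prime (by rcases hq with rfl | rfl <;> decide) e
  exact h.not_ord (n := q) (by tauto) hc e.symm.dvd

theorem coprime : (#(O {2}ᶜ (CC S))).Coprime 30 := by
  have d := card_dvd_of_le (O_le {2}ᶜ (CC S))
  refine Nat.Coprime.mul_right (Nat.Coprime.mul_right (m := 2) (n := 3) (pi_compl_iff_coprime.1 (O_pi _ _)) ?_) (n := 5) ?_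
  · exact ((Nat.Prime.coprime_iff_not_dvd Nat.prime_three).2 fun e => h.not_dvd_card (Or.inl rfl) (e.trans d)).symm
  · exact ((Nat.Prime.coprime_iff_not_dvd Nat.prime_five).2 fun e => h.not_dvd_card (Or.inr rfl) (e.trans d)).symm

theorem inf : S ⊓ O {2}ᶜ (CC S) = ⊥ := inf_eq_bot_of_coprime (by
  rw [h.card]; exact (Nat.Coprime.coprime_dvd_right (show 120 ∣ 30 ^ 3 by decide) (h.coprime.pow_right 3)).symm)

theorem index : ((alternatingGroup (Fin 5)).comap φ).index = 1 ∨ ((alternatingGroup (Fin 5)).comap φ).index = 2 := by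
  rw [index_comap, ← Nat.dvd_prime Nat.prime_two, ← alternatingGroup.index_eq_two (α := Fin 5)]
  exact relIndex_dvd_index_of_normal _ _

theorem eq_top (hp : ⁅(⊤ : Subgroup H), (⊤ : Subgroup H)⁆ = ⊤) : S = ⊤ := by
  haveI := h.normal
  have e : S ⊔ CC S = ⊤ := by
    rw [← h.ker, ← comap_map_eq, h.map, eq_top_iff, ← hp, ← map_le_iff_le_comap, map_commutator]
    exact (commutator_mono le_top le_top).trans alternatingGroup.commutator_perm_le
  let π := QuotientGroup.mk' S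
  have e1 : (CC S).map π = ⊤ := by
    rw [← map_top_of_surjective π (QuotientGroup.mk'_surjective _), ← e, Subgroup.map_sup,
      (Subgroup.map_eq_bot_iff S).2 (QuotientGroup.ker_mk' S).ge, bot_sup_eq]
  have e2 : (⊤ : Subgroup (H ⧸ S)) = ⊥ := Comp.solvable_perfect_eq_bot
    (by rw [← map_top_of_surjective π (QuotientGroup.mk'_surjective _), ← map_commutator, hp])
    (e1 ▸ by haveI := h.sol; exact Group.isSolvable_of_surjective (π.subgroupMap_surjective _))
  rw [← QuotientGroup.ker_mk' S, eq_top_iff]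
  exact fun x _ => mem_bot.1 (e2.le trivial)

end NS
end Cfsg.Agent.Transfer.FC
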