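import Cfsg.Agent.Lib.Transfer.AutS
import Cfsg.Prelude.Def_KGroupFacts

set_option autoImplicit false
set_option linter.unusedSectionVars false

namespace Cfsg.Agent.Transfer
open Subgroup Cfsg.Agent.MS

universe u
variable {G : Type u} [Group G] [Finite G]

/-- the automorphisms leaving a subgroup invariant -/
def stabAut (S : Subgroup G) : Subgroup (MulAut G) where
  carrier := {φ | ∀ s, s ∈ S ↔ φ s ∈ S}
  one_mem' := fun _ => Iff.rfl
  mul_mem' := fun {a b} ha hb s => (hb s).trans (ha _)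
  inv_mem' := fun {a} ha s => by simpa using (ha (a⁻¹ s)).symm

theorem mem_stabAut {S : Subgroup G} {φ : MulAut G} : φ ∈ stabAut S ↔ S.map φ.toMonoidHom = S := by
  constructor
  · intro h
    ext x
    constructor
    · rintro ⟨y, hy, rfl⟩; exact (h y).1 hy
    · intro hx; exact ⟨φ⁻¹ x, (h _).2 (by simpa using hx), by simp⟩
  · intro h s
    conv_rhs => rw [← h]
    exact ⟨fun hs => ⟨s, hs, rfl⟩, fun ⟨y, hy, e⟩ => φ.injective e ▸ hy⟩

/-- restriction of automorphisms -/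
def resAut (S : Subgroup G) : stabAut S →* MulAut S where
  toFun φ := { toFun := fun s => ⟨φ.1 s, (φ.2 s).1 s.2⟩
               invFun := fun s => ⟨φ.1⁻¹ s, ((inv_mem φ.2 :) s).1 s.2⟩
               left_inv := fun s => Subtype.ext (by simp)
               right_inv := fun s => Subtype.ext (by simp)
               map_mul' := fun s t => Subtype.ext (by simp) }
  map_one' := rfl
  map_mul' _ _ := rfl

theorem resAut_apply {S : Subgroup G} (φ : stabAut S) (s : S) : (resAut S φ s : G) = φ.1 s := rfl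

theorem conj_mem_stabAut {S : Subgroup G} {g : G} (h : g ∈ NN S) : MulAut.conj g ∈ stabAut S :=
  mem_stabAut.2 (cj_nn h)

theorem exists_conj_mul_stabAut {p : ℕ} [Fact p.Prime] (S : Sylow p G) (φ : MulAut G) :
    ∃ g : G, MulAut.conj g * φ ∈ stabAut (S : Subgroup G) := by
  have h1 : IsSyl p ((S : Subgroup G).map φ.toMonoidHom) ⊤ := by
    have := (isSyl_top S).map φ.toMonoidHom
    rwa [map_top_of_surjective _ φ.surjective] at this
  obtain ⟨g, -, hg⟩ := (isSyl_top S).exists_cj_eq h1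
  refine ⟨g, mem_stabAut.2 ?_⟩
  rw [cj, map_map] at hg
  exact hg

theorem out_sol (hO : oddCore G = ⊥) (S : Sylow 2 G) (h : Group.IsSolvable (resAut (S : Subgroup G)).range) :
    Group.IsSolvable (Out G) := by
  have h1 := sol_of_hasNPC_two (hasNPC_cent_syl hO S
    (C := (resAut (S : Subgroup G)).ker.map (stabAut (S : Subgroup G)).subtype) (by
      rintro _ ⟨φ, hφ, rfl⟩ s hs
      exact congrArg (fun a : MulAut (S : Subgroup G) => (a ⟨s, hs⟩ : G)) (MonoidHom.mem_ker.1 hφ)))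
  have h2 : Group.IsSolvable (resAut (S : Subgroup G)).ker :=
    Group.isSolvable_of_isSolvable_injective (f := (equivMapOfInjective _ _ (subtype_injective _)).toMonoidHom)
      (MulEquiv.injective _)
  have h3 : Group.IsSolvable (stabAut (S : Subgroup G)) :=
    Group.isSolvable_of_ker_le_range (resAut (S : Subgroup G)).ker.subtype (resAut (S : Subgroup G)).rangeRestrict
      (by simp)
  refine Group.isSolvable_of_surjective
    (f := (QuotientGroup.mk' (Inn G)).comp (stabAut (S : Subgroup G)).subtype) fun y => ?_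
  obtain ⟨φ, rfl⟩ := QuotientGroup.mk_surjective y
  obtain ⟨g, hg⟩ := exists_conj_mul_stabAut S φ
  refine ⟨⟨_, hg⟩, ?_⟩
  show ((MulAut.conj g * φ : MulAut G) : Out G) = φ
  rw [QuotientGroup.mk_mul, (QuotientGroup.eq_one_iff (N := Inn G) _).2 ⟨g, rfl⟩, one_mul]

theorem O_hl_eq_bot (hO : oddCore G = ⊥) : O {2}ᶜ ((⊤ : Subgroup G).map (hl : G →* Hol G)) = ⊥ := by
  rw [O_odd_eq_bot_iff, oddCore_eq_bot_iff]
  intro N hN hN'
  let e : G ≃* ((⊤ : Subgroup G).map (hl : G →* Hol G)) :=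
    topEquiv.symm.trans (equivMapOfInjective _ _ hl_injective)
  have h4 := oddCore_eq_bot_iff.1 hO (N.comap e.toMonoidHom) (hN.comap _) (by
    rwa [Nat.card_congr (N.equivMapOfInjective e.symm.toMonoidHom e.symm.injective).toEquiv,
      map_equiv_eq_comap_symm'] at hN')
  rw [← map_comap_eq_self_of_surjective (f := e.toMonoidHom) e.surjective N, h4, Subgroup.map_bot]

section
variable {p : ℕ} [hp : Fact p.Prime] {H P : Subgroup G}

/-- Burnside's fusion lemma -/
theorem burnside_fus (hP : IsSyl p P H) {x g : G} (hx : x ∈ CC P) (hg : g ∈ H) (hy : g * x * g⁻¹ ∈ CC P) :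
    ∃ n ∈ H ⊓ NN P, n * x * n⁻¹ = g * x * g⁻¹ := by
  have h1 : IsSyl p P (H ⊓ C1 (g * x * g⁻¹)) := hP.mono (le_inf hP.le (le_C1_iff.2 hy)) inf_le_left
  have h2 := hP.cj_of_mem_normalizer (le_nn H hg)
  have h3 : IsSyl p (cj g P) (H ⊓ C1 (g * x * g⁻¹)) := h2.mono (le_inf h2.le (by
    rw [← cj_centralizer_singleton]; exact cj_mono g (le_C1_iff.2 hx))) inf_le_left
  obtain ⟨c, hc, hc'⟩ := h1.exists_cj_eq h3
  rw [cj_cj] at hc'
  refine ⟨c * g, ⟨H.mul_mem hc.1 hg, mem_normalizer_iff_cj.2 hc'⟩, ?_⟩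
  rw [← conj_eq_of_C1 hc.2]; group

theorem ab_syl_decomp (hP : IsSyl p P H) (hab : IsMulCommutative P) :
    ⁅P, H ⊓ NN P⁆ ⊔ P ⊓ CC (H ⊓ NN P) = P ∧ ⁅P, H ⊓ NN P⁆ ⊓ CC (H ⊓ NN P) = ⊥ := by
  have h1 : Hall {p} P (H ⊓ NN P) := hall_of_syl (hP.mono (le_inf hP.le (le_nn P)) inf_le_left)
  obtain ⟨E, h2, h3⟩ := exists_compl h1 inf_le_right
  have hE : E ≤ NN P := (le_sup_right.trans h2.le).trans inf_le_right
  have h4 := (h1.pi.coprime (h1.compl hE h2 h3).pi).symm
  have h5 : P ⊓ CC (H ⊓ NN P) = P ⊓ CC E := by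
    rw [← h2, cc_sup, ← inf_assoc, inf_eq_left.2 (ab_cc hab)]
  have h6 : ⁅P, H ⊓ NN P⁆ = ⁅P, E⁆ := by
    rw [← h2]
    refine le_antisymm (comm_sup_r (left_nn_comm _ _) (right_nn_comm _ _) ?_ le_rfl) (commutator_mono le_rfl le_sup_right)
    rw [ab_iff_der.1 hab]; exact bot_le
  refine ⟨by rw [h5, h6]; exact cop_comm_sup hE h4 (sol_of_ab hab), ?_⟩
  rw [eq_bot_iff, ← cop_ab_inf hab hE h4, ← h5, ← h6]
  exact le_inf (inf_le_inf_right _ (comm_le_left inf_le_right)) inf_le_left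

end

end Cfsg.Agent.Transfer
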