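import Cfsg.Agent.Lib.Transfer.Fact
import Cfsg.Agent.Lib.Solv.Zip
import Cfsg.Prelude.Def_Local

/-!
Glauberman's replacement theorem and the `ZJ`-theorem.
-/

set_option autoImplicit false
set_option linter.unusedSectionVars false
set_option linter.style.haveILetI false

namespace Cfsg.Agent.Transfer

open Subgroup
open scoped commutatorElement

variable {G : Type*} [Group G]

theorem commutator_le_centralizer_of_normalizer {A B K : Subgroup G} (hA : A ≤ centralizer (K : Set G))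
    (hB : B ≤ normalizer (K : Set G)) : ⁅B, A⁆ ≤ centralizer (K : Set G) :=
  commutator_le.2 fun b hb a ha => by
    rw [commutatorElement_def]
    exact mul_mem (conj_mem_of_mem_normalizer (mem_normalizer_centralizer (hB hb)) (hA ha))
      (inv_mem (hA ha))

theorem normalizer_le_normalizer_commutator_self (B : Subgroup G) :
    normalizer (B : Set G) ≤ normalizer ((⁅B, B⁆ : Subgroup G) : Set G) :=
  fun _ h => mem_normalizer_commutator h h

theorem commutator_commutator_le_center {A B : Subgroup G} (hAB : A ≤ normalizer (B : Set G))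
    (hc : ⁅⁅B, B⁆, A⁆ = ⊥) : ⁅⁅B, A⁆, ⁅B, A⁆⁆ ≤ B ⊓ centralizer (B : Set G) := by
  have h1 := Solv.commutator_le_left_of_le_normalizer hAB
  have h2 : ⁅B, A⁆ ≤ centralizer ((⁅B, B⁆ : Subgroup G) : Set G) :=
    commutator_le_centralizer_of_normalizer
      (le_centralizer_iff.1 (commutator_eq_bot_iff_le_centralizer.1 hc))
      (le_normalizer.trans (normalizer_le_normalizer_commutator_self B))
  refine le_inf ((commutator_le_self _).trans h1) (commutator_eq_bot_iff_le_centralizer.1 ?_)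
  have h3 : ⁅⁅B, B⁆, ⁅B, A⁆⁆ = ⊥ := commutator_eq_bot_iff_le_centralizer.2 (le_centralizer_iff.1 h2)
  exact commutator_commutator_eq_bot_of_rotate
    (le_bot_iff.1 (h3 ▸ commutator_mono (commutator_mono h1 le_rfl) le_rfl))
    (le_bot_iff.1 (h3 ▸ commutator_mono (commutator_mono le_rfl h1) le_rfl))

theorem sq_eq_one_of_mem_commutator {A B : Subgroup G} (hAB : A ≤ normalizer (B : Set G))
    (hc : ⁅⁅B, B⁆, A⁆ = ⊥) (hA : IsMulCommutative A) {b : G} (hb : b ∈ B) {M : Subgroup G}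
    (hM : M = closure {g : G | ∃ a ∈ A, g = b⁻¹ * a * b * a⁻¹}) (h : ⁅⁅M, A⁆, A⁆ = ⊥) :
    ∀ w ∈ ⁅M, M⁆, w ^ 2 = 1 := by
  have hZ := commutator_commutator_le_center hAB hc
  have h1 := Solv.commutator_le_left_of_le_normalizer hAB
  have h2 : ⁅B, A⁆ ≤ centralizer ((⁅B, B⁆ : Subgroup G) : Set G) :=
    commutator_le_centralizer_of_normalizer
      (le_centralizer_iff.1 (commutator_eq_bot_iff_le_centralizer.1 hc))
      (le_normalizer.trans (normalizer_le_normalizer_commutator_self B))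
  obtain ⟨f, hf⟩ : ∃ f : G → G, ∀ a, f a = b⁻¹ * a * b * a⁻¹ := ⟨_, fun _ => rfl⟩
  have hfM : ∀ a ∈ A, f a ∈ M := fun a ha => hM ▸ subset_closure ⟨a, ha, hf a⟩
  have hMB : M ≤ ⁅B, A⁆ := by
    rw [hM, closure_le]
    rintro _ ⟨a, ha, rfl⟩
    have := commutator_mem_commutator (inv_mem hb) ha
    rwa [commutatorElement_def, inv_inv] at this
  have hn : ∀ a ∈ A, ∀ m ∈ ⁅B, A⁆, a * m * a⁻¹ ∈ ⁅B, A⁆ := fun a ha m hm =>
    conj_mem_of_mem_normalizer (mem_normalizer_commutator (hAB ha) (le_normalizer ha)) hm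
  -- `γ m = ⁅b, m⁆` is multiplicative on `⁅B, A⁆`
  have g1 : ∀ x ∈ ⁅B, A⁆, ∀ y ∈ ⁅B, A⁆, ⁅b, x * y⁆ = ⁅b, x⁆ * ⁅b, y⁆ := fun x hx y hy => by
    have := h2 hx _ (commutator_mem_commutator hb (h1 hy))
    calc ⁅b, x * y⁆ = ⁅b, x⁆ * (x * ⁅b, y⁆) * x⁻¹ := by simp only [commutatorElement_def]; group
      _ = _ := by rw [← this]; group
  have g2 : ∀ x ∈ ⁅B, A⁆, ⁅b, x⁻¹⁆ = ⁅b, x⁆⁻¹ := fun x hx => by
    rw [eq_inv_iff_mul_eq_one, ← g1 _ (inv_mem hx) _ hx, inv_mul_cancel, commutatorElement_one_right]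
  have g3 : ∀ x ∈ ⁅B, A⁆, ∀ y ∈ ⁅B, A⁆, ⁅b, ⁅x, y⁆⁆ = 1 := fun x hx y hy =>
    commutatorElement_eq_one_iff_commute.2 ((hZ (commutator_mem_commutator hx hy)).2 b hb)
  have g4 : ∀ a ∈ A, ∀ c ∈ A, ⁅f a, f c⁆ = ⁅b, ⁅a, f c⁆⁆⁻¹ := fun a ha c hc' => by
    have hx := hMB (hfM a ha)
    have hy := hMB (hfM c hc')
    have hy' := hn _ (inv_mem ha) _ hy
    have e1 : a * ⁅b, a⁻¹ * f c * a⁻¹⁻¹⁆ * a⁻¹ = ⁅b, a⁻¹ * f c * a⁻¹⁻¹⁆ := by
      rw [(commute_of_commutator_eq_bot hc (commutator_mem_commutator hb (h1 hy')) ha).symm.eq,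
        mul_inv_cancel_right]
    have e2 : a * ⁅b, a⁻¹ * f c * a⁻¹⁻¹⁆ * a⁻¹ = b * ⁅f a, f c⁆ * b⁻¹ * ⁅b, f c⁆ := by
      rw [hf a]; simp only [commutatorElement_def]; group
    rw [(hZ (commutator_mem_commutator hx hy)).2 b hb, mul_inv_cancel_right, e1] at e2
    have e3 : ⁅a⁻¹, f c⁆ = ⁅a, f c⁆⁻¹ := by
      have e4 : ⁅a, f c⁆ ∈ ⁅M, A⁆ := by
        rw [commutator_comm]; exact commutator_mem_commutator ha (hfM c hc')
      have := (commute_of_commutator_eq_bot h e4 (inv_mem ha)).eq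
      calc ⁅a⁻¹, f c⁆ = (a⁻¹ * ⁅a, f c⁆ * a)⁻¹ := by simp only [commutatorElement_def]; group
        _ = _ := by rw [← this]; group
    have e5 : ⁅a, f c⁆ ∈ ⁅B, A⁆ := mul_mem (hn a ha _ hy) (inv_mem hy)
    rw [← g2 _ e5, ← e3, commutatorElement_def a⁻¹, g1 _ hy' _ (inv_mem hy), g2 _ hy, e2,
      mul_inv_cancel_right]
  have g5 : ∀ a ∈ A, ∀ c ∈ A, ⁅f a, f c⁆ = ⁅f c, f a⁆ := fun a ha c hc' => by
    have hx := hMB (hfM a ha)
    have hy := hMB (hfM c hc')
    have hz := hMB (hfM _ (mul_mem ha hc'))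
    have hac := comm_iff.1 hA a ha c hc'
    have e1 : ⁅a, f c⁆ = (f a)⁻¹ * f (a * c) * (f c)⁻¹ := by
      simp only [hf, commutatorElement_def]; group
    have e2 : ⁅c, f a⁆ = (f c)⁻¹ * f (a * c) * (f a)⁻¹ := by
      rw [hac]; simp only [hf, commutatorElement_def]; group
    have hc3 : ∀ x ∈ ⁅B, A⁆, ∀ y ∈ ⁅B, A⁆, ⁅b, x * y⁆ = ⁅b, y * x⁆ := fun x hx y hy => by
      rw [show x * y = ⁅x, y⁆ * (y * x) by rw [commutatorElement_def]; group,
        g1 _ (commutator_le_self _ (commutator_mem_commutator hx hy)) _ (mul_mem hy hx), g3 x hx y hy,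
        one_mul]
    rw [g4 a ha c hc', g4 c hc' a ha, e1, e2, hc3 _ (mul_mem (inv_mem hx) hz) _ (inv_mem hy),
      mul_assoc (f c)⁻¹, g1 _ (inv_mem hy) _ (mul_mem (inv_mem hx) hz),
      g1 _ (inv_mem hy) _ (mul_mem hz (inv_mem hx)), hc3 _ (inv_mem hx) _ hz]
  let T := omegaOne 2 (B ⊓ centralizer (B : Set G))
  have hT : ∀ {w}, w ∈ T ↔ _ := mem_omegaOne_iff (comm_inf_centralizer B)
  have hTn : B ≤ normalizer (T : Set G) :=
    (le_centralizer_iff.1 ((omegaOne_le _).trans inf_le_right)).trans (centralizer_le_normalizer _)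
  have hS : ∀ a ∈ {g : G | ∃ a ∈ A, g = b⁻¹ * a * b * a⁻¹}, a ∈ normalizer (T : Set G) :=
    fun x hx => hTn (h1 (hMB (hM ▸ subset_closure hx)))
  have : ⁅M, M⁆ ≤ T := by
    nth_rewrite 1 [hM]
    refine Comp.commutator_closure_left_le hS ?_
    rintro _ ⟨a, ha, rfl⟩ y hy
    rw [← hf, ← commutatorElement_inv]
    refine inv_mem ?_
    have : ⁅M, zpowers (f a)⁆ ≤ T := by
      rw [commutator_comm]
      refine Comp.commutator_zpowers_left_le (hTn (h1 (hMB (hfM a ha)))) fun y hy => ?_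
      rw [← commutatorElement_inv]
      refine inv_mem ?_
      rw [hM] at hy
      induction hy using closure_induction with
      | mem x hx =>
        obtain ⟨c, hc', rfl⟩ := hx
        rw [← hf]
        refine hT.2 ⟨hZ (commutator_mem_commutator (hMB (hfM c hc')) (hMB (hfM a ha))), ?_⟩
        rw [sq]
        nth_rewrite 1 [g5 c hc' a ha]
        rw [← commutatorElement_inv (f c), inv_mul_cancel]
      | one => simp
      | mul x y hx hy h3 h4 =>
        rw [show ⁅x * y, f a⁆ = x * ⁅y, f a⁆ * x⁻¹ * ⁅x, f a⁆ by simp only [commutatorElement_def]; group]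
        exact mul_mem (conj_mem_of_mem_normalizer (hTn (h1 (hMB (hM ▸ hx)))) h4) h3
      | inv x hx h3 =>
        rw [show ⁅x⁻¹, f a⁆ = x⁻¹ * ⁅x, f a⁆⁻¹ * x by simp only [commutatorElement_def]; group]
        exact inv_conj_mem_of_mem_normalizer (hTn (h1 (hMB (hM ▸ hx)))) (inv_mem h3)
    exact this (commutator_mem_commutator hy (mem_zpowers _))
  exact fun w hw => (hT.1 (this hw)).2

variable [Finite G] {p : ℕ} [hp : Fact p.Prime]

theorem exists_replacement_elt {S B A : Subgroup G} (hS : IsPGroup p S) (hBS : B ≤ S)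
    (hSB : S ≤ normalizer (B : Set G)) (hnot : ¬ B ≤ normalizer (A : Set G)) :
    ∃ b ∈ B, b ∈ normalizer ((S ⊓ normalizer (A : Set G) : Subgroup G) : Set G) ∧
      b ∉ normalizer (A : Set G) := by
  obtain ⟨x, hx, h1, h2⟩ := exists_mem_normalizer_notMem
    (hS.to_le (sup_le inf_le_left hBS : S ⊓ normalizer (A : Set G) ⊔ B ≤ S))
    (left_lt_sup.2 fun h => hnot (h.trans inf_le_right))
  obtain ⟨n, hn, b, hb, rfl⟩ := (mem_sup_iff_of_le_normalizer (inf_le_left.trans hSB)).1 hx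
  exact ⟨b, hb, (mul_mem_cancel_left (le_normalizer hn)).1 h1,
    fun h => h2 (mul_mem hn ⟨hBS hb, h⟩)⟩

theorem eq_one_of_sq_of_isPGroup (hp2 : p ≠ 2) {S : Subgroup G} (hS : IsPGroup p S) {w : G}
    (hw : w ∈ S) (h : w ^ 2 = 1) : w = 1 := by
  obtain ⟨k, hk⟩ := IsPGroup.pow_eq_one_of_mem hS hw
  exact mem_bot.1 (mem_of_pow_mem_of_pow_mem
    (((Nat.coprime_primes hp.out Nat.prime_two).2 hp2).pow_left k) (mem_bot.2 hk) (mem_bot.2 h))

theorem glauberman_replacement {S B A : Subgroup G} (hS : IsPGroup p S) (hBS : B ≤ S)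
    (hSB : S ≤ normalizer (B : Set G)) (hB2 : p = 2 → IsMulCommutative B) (hAS : A ≤ S)
    (hA : IsMulCommutative A) (hBA : ⁅B, B⁆ ≤ A) {b : G} (hb : b ∈ B)
    (hbN : b ∈ normalizer ((S ⊓ normalizer (A : Set G) : Subgroup G) : Set G))
    (hbA : b ∉ normalizer (A : Set G)) {A' : Subgroup G}
    (hA' : A' = (A ⊓ cj b⁻¹ A) ⊔ closure {g | ∃ a ∈ A, g = a * b⁻¹ * a⁻¹ * b}) :
    Nat.card A' = Nat.card A ∧ IsMulCommutative A' ∧ ⁅B, B⁆ ≤ A' ∧ A ⊓ B < A' ⊓ B ∧
      A' ≤ A ⊔ cj b⁻¹ A ∧ A' ≤ normalizer (A : Set G) ∧ b ∈ normalizer (A' : Set G) ∧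
      S ⊓ normalizer (A : Set G) ≤ normalizer (A' : Set G) ∧
      ∀ n, Odd n → (∀ a ∈ A, a ^ n = 1) → ∀ a ∈ A', a ^ n = 1 := by
  obtain ⟨M, hM⟩ : ∃ M, M = closure {g | ∃ a ∈ A, g = a * b⁻¹ * a⁻¹ * b} := ⟨_, rfl⟩
  rw [← hM] at hA'
  have hc := comm_iff.1 hA
  have hAN : A ≤ S ⊓ normalizer (A : Set G) := le_inf hAS le_normalizer
  have hN1 : S ⊓ normalizer (A : Set G) ≤ normalizer (cj b⁻¹ A : Set G) := by
    rw [← cj_normalizer, ← cj_eq_of_mem_normalizer (inv_mem hbN)]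
    exact cj_mono _ inf_le_right
  have hA1 : cj b⁻¹ A ≤ S ⊓ normalizer (A : Set G) := by
    rw [← cj_eq_of_mem_normalizer (inv_mem hbN)]; exact cj_mono _ hAN
  have hc1 : IsMulCommutative (cj b⁻¹ A) := inferInstance
  have hBn : ∀ x ∈ B, ∀ y ∈ A ⊓ B, x * y * x⁻¹ ∈ A ⊓ B := fun x hx y hy =>
    mem_inf.2 ⟨by
      have := mul_mem (hBA (commutator_mem_commutator hx hy.2)) hy.1
      rwa [commutatorElement_def, inv_mul_cancel_right] at this,
    mul_mem (mul_mem hx hy.2) (inv_mem hx)⟩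
  have hAB1 : A ⊓ B ≤ A ⊓ cj b⁻¹ A := fun y hy => ⟨hy.1, mem_cj.2 (by
    rw [inv_inv]; exact (hBn b hb y hy).1)⟩
  have hAB2 : cj b⁻¹ A ⊓ B ≤ A := fun y hy => by
    have h1 := mem_cj.1 hy.1
    rw [inv_inv] at h1
    have := (hBn b⁻¹ (inv_mem hb) _ (mem_inf.2 ⟨h1, mul_mem (mul_mem hb hy.2) (inv_mem hb)⟩)).1
    rwa [show b⁻¹ * (b * y * b⁻¹) * b⁻¹⁻¹ = y by group] at this
  have hgen : ∀ a ∈ A, a * b⁻¹ * a⁻¹ * b ∈ M := fun a ha => hM ▸ subset_closure ⟨a, ha, rfl⟩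
  have hconj : ∀ a ∈ A, b⁻¹ * a * b ∈ cj b⁻¹ A := fun a ha => by
    have := conj_mem_cj (g := b⁻¹) ha; rwa [inv_inv] at this
  have hMB : M ≤ B := by
    rw [hM, closure_le]
    rintro _ ⟨a, ha, rfl⟩
    exact mul_mem (conj_mem_of_mem_normalizer (hSB (hAS ha)) (inv_mem hb)) hb
  have hMA : M ≤ A ⊔ cj b⁻¹ A := by
    rw [hM, closure_le]
    rintro _ ⟨a, ha, rfl⟩
    rw [mul_assoc, mul_assoc, ← mul_assoc b⁻¹]
    exact mul_mem (mem_sup_left ha) (mem_sup_right (hconj _ (inv_mem ha)))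
  have hA'le : A' ≤ A ⊔ cj b⁻¹ A := hA' ▸ sup_le (inf_le_left.trans le_sup_left) hMA
  have hIC : A ⊓ cj b⁻¹ A ≤ centralizer ((A ⊔ cj b⁻¹ A : Subgroup G) : Set G) := by
    rw [centralizer_sup]
    exact inf_le_inf (comm_iff_le_centralizer.1 hA) (comm_iff_le_centralizer.1 hc1)
  have hcomm : ⁅cj b⁻¹ A, A⁆ ≤ A ⊓ cj b⁻¹ A :=
    le_inf (Comp.commutator_le_right_of_le_normalizer (hA1.trans inf_le_right))
      (Comp.commutator_le_left_of_le_normalizer (hAN.trans hN1))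
  have hIn : A ⊔ cj b⁻¹ A ≤ normalizer ((A ⊓ cj b⁻¹ A : Subgroup G) : Set G) :=
    (le_centralizer_iff.1 hIC).trans (centralizer_le_normalizer _)
  have hcomm2 : ⁅A ⊔ cj b⁻¹ A, A⁆ ≤ A ⊓ cj b⁻¹ A :=
    Comp.commutator_sup_left_le (le_sup_left.trans hIn) (le_sup_right.trans hIn)
      (by rw [commutator_eq_bot_iff_le_centralizer.2 (comm_iff_le_centralizer.1 hA)]; exact bot_le) hcomm
  have hMc : IsMulCommutative M := by
    by_cases hp2 : p = 2
    · exact Solv.isMulCommutative_of_le hMB (hB2 hp2)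
    have hM' : M = closure {g : G | ∃ a ∈ A, g = b⁻¹ * a * b * a⁻¹} := by
      rw [hM, ← closure_inv]
      congr 1
      ext g
      refine exists_congr fun a => and_congr_right fun _ => ?_
      rw [inv_eq_iff_eq_inv]
      exact Eq.congr_right (by group)
    have := sq_eq_one_of_mem_commutator (hAS.trans hSB) (commutator_eq_bot_iff_le_centralizer.2
      (hBA.trans (comm_iff_le_centralizer.1 hA))) hA hb hM' (commutator_eq_bot_iff_le_centralizer.2
        (((commutator_mono hMA le_rfl).trans hcomm2).trans (inf_le_left.trans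
          (comm_iff_le_centralizer.1 hA))))
    rw [comm_iff_le_centralizer, ← commutator_eq_bot_iff_le_centralizer, eq_bot_iff]
    exact fun w hw => eq_one_of_sq_of_isPGroup hp2 hS (hBS (hMB (commutator_le_self _ hw))) (this w hw)
  have hA'c : IsMulCommutative A' := hA' ▸ comm_sup (Solv.isMulCommutative_of_le inf_le_left hA) hMc
    (hIC.trans (centralizer_le hMA))
  have hI : A ⊓ cj b⁻¹ A ≤ A' := hA' ▸ le_sup_left
  have hM' : M ≤ A' := hA' ▸ le_sup_right
  have hdec : ∀ x ∈ A', ∃ a ∈ A, ∃ i ∈ A ⊓ cj b⁻¹ A, x = a * b⁻¹ * a⁻¹ * b * i := by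
    have hmul : ∀ x y : G, (∃ a ∈ A, ∃ i ∈ A ⊓ cj b⁻¹ A, x = a * b⁻¹ * a⁻¹ * b * i) →
        (∃ a ∈ A, ∃ i ∈ A ⊓ cj b⁻¹ A, y = a * b⁻¹ * a⁻¹ * b * i) →
        ∃ a ∈ A, ∃ i ∈ A ⊓ cj b⁻¹ A, x * y = a * b⁻¹ * a⁻¹ * b * i := by
      rintro _ _ ⟨a, ha, i, hi, rfl⟩ ⟨c, hc', j, hj, rfl⟩
      have h1 := hcomm (commutator_mem_commutator (hconj _ (inv_mem ha)) (inv_mem hc'))
      refine ⟨a * c, mul_mem ha hc', ⁅b⁻¹ * a⁻¹ * b, c⁻¹⁆⁻¹ * i * j,
        mul_mem (mul_mem (inv_mem h1) hi) hj, ?_⟩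
      have e1 := hIC hi _ (hMA (hgen c hc'))
      have e2 := hIC (inv_mem h1) _ (mem_sup_right (hconj _ (inv_mem (mul_mem ha hc'))))
      have e3 := hc a ha c hc'
      calc a * b⁻¹ * a⁻¹ * b * i * (c * b⁻¹ * c⁻¹ * b * j)
          = a * b⁻¹ * a⁻¹ * b * (i * (c * b⁻¹ * c⁻¹ * b)) * j := by group
        _ = a * b⁻¹ * a⁻¹ * b * (c * b⁻¹ * c⁻¹ * b * i) * j := by rw [e1]
        _ = a * c * (⁅b⁻¹ * a⁻¹ * b, c⁻¹⁆⁻¹ * (b⁻¹ * (c * a)⁻¹ * b)) * i * j := by
          simp only [commutatorElement_def]; group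
        _ = _ := by rw [← e3, ← e2]; group
    intro x hx
    rw [hA'] at hx
    refine Solv.sup_induction' (P := fun x => ∃ a ∈ A, ∃ i ∈ A ⊓ cj b⁻¹ A, x = a * b⁻¹ * a⁻¹ * b * i)
      hx (fun i hi => ⟨1, one_mem _, i, hi, by group⟩) (fun m hm => ?_) hmul
    rw [hM] at hm
    induction hm using closure_induction'' with
    | mem x hx => obtain ⟨a, ha, rfl⟩ := hx; exact ⟨a, ha, 1, one_mem _, by group⟩
    | inv_mem x hx =>
      obtain ⟨a, ha, rfl⟩ := hx
      have h1 := hcomm (commutator_mem_commutator (hconj _ ha) (inv_mem ha))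
      refine ⟨a⁻¹, inv_mem ha, ⁅b⁻¹ * a * b, a⁻¹⁆, h1, ?_⟩
      have e2 := hIC h1 _ (hMA (hgen _ (inv_mem ha)))
      rw [e2]; simp only [commutatorElement_def]; group
    | one => exact ⟨1, one_mem _, 1, one_mem _, by group⟩
    | mul x y _ _ h1 h2 => exact hmul x y h1 h2
  have hAA' : A ⊓ A' = A ⊓ cj b⁻¹ A := by
    refine le_antisymm (fun x hx => ?_) (le_inf inf_le_left hI)
    obtain ⟨a, ha, i, hi, rfl⟩ := hdec x hx.2
    exact mul_mem (hAB1 ⟨(mul_mem_cancel_right (mem_inf.1 hi).1).1 hx.1, hMB (hgen a ha)⟩) hi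
  have hA1n : A ≤ normalizer (A' : Set G) :=
    Solv.le_normalizer_of_commutator_le_of_le ((commutator_mono hA'le le_rfl).trans hcomm2) hI
  have hsup : A ⊔ A' = A ⊔ cj b⁻¹ A := by
    refine le_antisymm (sup_le le_sup_left hA'le) (sup_le le_sup_left (cj_le_iff.2 fun a ha => ?_))
    rw [show b⁻¹ * a * b⁻¹⁻¹ = a * (a⁻¹ * b⁻¹ * a⁻¹⁻¹ * b) by group]
    exact mul_mem (mem_sup_left ha) (mem_sup_right (hM' (hgen _ (inv_mem ha))))
  have hbI : b ∈ normalizer ((A ⊓ cj b⁻¹ A : Subgroup G) : Set G) := by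
    rw [← inv_mem_iff]
    refine mem_normalizer_of_conj_mem fun x hx => ⟨?_, conj_mem_cj hx.1⟩
    have h1 := mem_cj.1 hx.2
    rw [inv_inv] at h1
    have h2 := (hBn b⁻¹ (inv_mem hb) (x * (b * x * b⁻¹)⁻¹) (mem_inf.2 ⟨mul_mem hx.1 (inv_mem h1), by
      rw [show x * (b * x * b⁻¹)⁻¹ = x * b * x⁻¹ * b⁻¹ by group]
      exact mul_mem (conj_mem_of_mem_normalizer (hSB (hAS hx.1)) hb) (inv_mem hb)⟩)).1
    have := mul_mem h2 hx.1
    rwa [show b⁻¹ * (x * (b * x * b⁻¹)⁻¹) * b⁻¹⁻¹ * x = b⁻¹ * x * b⁻¹⁻¹ by group] at this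
  have hB' : ⁅B, B⁆ ≤ A' := (le_inf hBA (commutator_le_self B)).trans (hAB1.trans hI)
  refine ⟨?_, hA'c, hB', lt_of_le_of_ne (le_inf (hAB1.trans hI) inf_le_right) fun h => hbA ?_, hA'le,
    hA'le.trans (sup_le le_normalizer (hA1.trans inf_le_right)), ?_, fun n hn => ?_, fun n hn h x hx => ?_⟩
  · have e1 := card_sup_mul_card_inf hA1n
    have e2 := card_sup_mul_card_inf (hAN.trans hN1)
    rw [hsup, hAA', e2, card_cj] at e1
    exact (Nat.eq_of_mul_eq_mul_left Nat.card_pos e1).symm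
  · rw [← inv_mem_iff]
    refine mem_normalizer_of_conj_mem fun a ha => ?_
    have := mul_mem ha (h.ge ⟨hM' (hgen _ (inv_mem ha)), hMB (hgen _ (inv_mem ha))⟩).1
    rwa [show a * (a⁻¹ * b⁻¹ * a⁻¹⁻¹ * b) = b⁻¹ * a * b⁻¹⁻¹ by group] at this
  · refine mem_normalizer_of_conj_mem fun x hx => ?_
    obtain ⟨a, ha, i, hi, rfl⟩ := hdec x hx
    have := mul_mem (mul_mem (hB' (commutator_mem_commutator hb (hMB (hgen a ha)))) (hM' (hgen a ha)))
      (hI (conj_mem_of_mem_normalizer hbI hi))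
    rw [commutatorElement_def] at this
    convert this using 1; group
  · refine mem_normalizer_of_conj_mem fun x hx => ?_
    obtain ⟨a, ha, i, hi, rfl⟩ := hdec x hx
    have h1 := conj_mem_of_mem_normalizer hn.2 ha
    have hd : b⁻¹ * n * b * n⁻¹ ∈ S ⊓ normalizer (A : Set G) :=
      mul_mem (inv_conj_mem_of_mem_normalizer hbN hn) (inv_mem hn)
    have hdB : b⁻¹ * n * b * n⁻¹ ∈ B := by
      rw [mul_assoc, mul_assoc, ← mul_assoc n]
      exact mul_mem (inv_mem hb) (conj_mem_of_mem_normalizer (hSB hn.1) hb)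
    have hy := hconj _ (inv_mem h1)
    generalize hd' : b⁻¹ * n * b * n⁻¹ = d at hd hdB
    generalize hy' : b⁻¹ * (n * a * n⁻¹)⁻¹ * b = y at hy
    have h2 : y⁻¹ * (d⁻¹ * y * d) ∈ cj b⁻¹ A ⊓ B :=
      mem_inf.2 ⟨mul_mem (inv_mem hy) (inv_conj_mem_of_mem_normalizer (hN1 hd) hy), by
        rw [← mul_assoc, ← mul_assoc]
        exact mul_mem (inv_conj_mem_of_mem_normalizer (hSB (hA1 hy).1) (inv_mem hdB)) hdB⟩
    have := mul_mem (mul_mem (hM' (hgen _ h1)) (hI ⟨hAB2 h2, h2.1⟩))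
      (hI (conj_mem_of_mem_normalizer (mem_normalizer_inf hn.2 (hN1 hn)) hi))
    convert this using 1
    rw [← hd', ← hy']; group
  · obtain ⟨a, ha, i, hi, rfl⟩ := hdec x hx
    have h1 := hcomm (commutator_mem_commutator (inv_mem (hconj _ (inv_mem ha))) (inv_mem ha))
    have e1 : Commute (a * b⁻¹ * a⁻¹ * b) i := hIC hi _ (hMA (hgen a ha))
    obtain ⟨k, rfl⟩ := hn
    rw [e1.mul_pow, h i hi.1, mul_one, show a * b⁻¹ * a⁻¹ * b = a * (b⁻¹ * a⁻¹ * b) by group,
      Solv.mul_pow_of_comm (c := ⁅(b⁻¹ * a⁻¹ * b)⁻¹, a⁻¹⁆) (hIC h1 _ (mem_sup_left ha))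
        (hIC h1 _ (mem_sup_right (hconj _ (inv_mem ha)))) (by simp only [commutatorElement_def]; group),
      h a ha, Nat.choose_two_right, Nat.add_sub_cancel, Nat.mul_div_assoc _ (dvd_mul_right 2 k),
      pow_mul, h _ h1.1, show b⁻¹ * a⁻¹ * b = b⁻¹ * a⁻¹ * b⁻¹⁻¹ by group, conj_pow, h _ (inv_mem ha)]
    simp

theorem MaxE.exists_normalized (hp2 : p ≠ 2) {n : ℕ} (hn : n = p ∨ n = 0) {S D B U : Subgroup G}
    (hS : IsPGroup p S) (hDS : D ≤ S) (hSD : S ≤ normalizer (D : Set G)) (hBS : B ≤ S)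
    (hSB : S ≤ normalizer (B : Set G)) {Q : Subgroup G → Prop}
    (hQ : ∀ A A', MaxE n D A → Q A → ¬ B ≤ normalizer (A : Set G) → MaxE n D A' →
      A' ≤ normalizer (A : Set G) → Q A') (hU : MaxE n D U) (h1 : ⁅B, B⁆ ≤ U) (h2 : Q U) :
    ∃ A, MaxE n D A ∧ ⁅B, B⁆ ≤ A ∧ Q A ∧ B ≤ normalizer (A : Set G) := by
  obtain ⟨A, ⟨hA, h3, h4⟩, hmax⟩ := Set.exists_max_image {A : Subgroup G | MaxE n D A ∧ ⁅B, B⁆ ≤ A ∧ Q A}
    (fun A => Nat.card (A ⊓ B : Subgroup G)) (Set.toFinite _) ⟨U, hU, h1, h2⟩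
  refine ⟨A, hA, h3, h4, by_contra fun hnot => ?_⟩
  obtain ⟨b, hb, hbN, hbA⟩ := exists_replacement_elt hS hBS hSB hnot
  obtain ⟨e1, e2, e3, e4, e5, e6, -, -, e7⟩ := glauberman_replacement hS hBS hSB
    (fun h => absurd h hp2) (hA.le.trans hDS) hA.elem.1 h3 hb hbN hbA rfl
  have hA' := hA.of_card_le (e5.trans (sup_le hA.le (by
    rw [← cj_eq_of_mem_normalizer (hSD (hBS (inv_mem hb)))]; exact cj_mono _ hA.le))) ⟨e2, by
      rcases hn with rfl | rfl
      · exact e7 n (hp.out.odd_of_ne_two hp2) hA.elem.2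
      · exact fun _ _ => pow_zero _⟩ e1.ge
  exact (card_lt_of_lt e4).not_ge (hmax _ ⟨hA', e3, hQ _ _ hA h4 hnot hA' e6⟩)

omit [Finite G] in
theorem mul_pow_of_class_two (hp2 : p ≠ 2) {x y : G} (h1 : Commute x ⁅y⁻¹, x⁻¹⁆)
    (h2 : Commute y ⁅y⁻¹, x⁻¹⁆) (h3 : Commute (x ^ p) y) : (x * y) ^ p = x ^ p * y ^ p := by
  refine Solv.mul_pow_prime_of_comm hp.out hp2 h1 h2 (by simp only [commutatorElement_def]; group) ?_
  have := conj_pow_of_commute (a := x⁻¹) (v := y⁻¹)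
    (by rw [← commutatorElement_inv]; exact h1.inv_left.inv_right) p
  rw [inv_pow, h3.inv_left.inv_right.eq, mul_inv_cancel_right, eq_comm, mul_eq_right,
    ← commutatorElement_inv, inv_pow, inv_eq_one] at this
  exact this

theorem pow_eq_one_of_mem_omegaOne (hp2 : p ≠ 2) {B : Subgroup G}
    (hB : ⁅B, B⁆ ≤ centralizer (B : Set G)) {x : G} (hx : x ∈ omegaOne p B) : x ^ p = 1 := by
  induction hx using closure_induction with
  | mem x hx => exact hx.2
  | one => simp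
  | inv x _ h => rw [inv_pow, h, inv_one]
  | mul x y hx hy h1 h2 =>
    have hx' := omegaOne_le B hx
    have hy' := omegaOne_le B hy
    have := hB (commutator_mem_commutator (inv_mem hy') (inv_mem hx'))
    rw [mul_pow_of_class_two hp2 (this x hx') (this y hy') (by rw [h1]; exact Commute.one_left _), h1, h2,
      one_mul]

/-- for odd `p`, a `p'`-element centralizing `Ω₁(B)` centralizes the `p`-group `B` -/
theorem mem_centralizer_of_omega (hp2 : p ≠ 2) {g : G} (hg : (orderOf g).Coprime p) (B : Subgroup G) :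
    IsPGroup p B → g ∈ normalizer (B : Set G) → (∀ x ∈ B, x ^ p = 1 → Commute x g) →
      g ∈ centralizer (B : Set G) := by
  induction B using Comp.subgroup_induction with
  | h B ih =>
  intro hB hn h
  have hcop : ∀ C ≤ B, (Nat.card (zpowers g)).Coprime (Nat.card C) := fun C hC => by
    obtain ⟨k, hk⟩ := (hB.to_le hC).exists_card_eq
    rw [Nat.card_zpowers, hk]; exact hg.pow_right k
  have ih' : ∀ C < B, g ∈ normalizer (C : Set G) → zpowers g ≤ centralizer (C : Set G) := fun C hC h1 =>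
    zpowers_le.2 (ih C hC (hB.to_le hC.le) h1 fun x hx => h x (hC.le hx))
  have h1 := Solv.commutator_le_left_of_le_normalizer (zpowers_le.2 hn)
  rcases h1.lt_or_eq with h2 | h2
  · exact Solv.coprime_le_centralizer_of_quadratic (zpowers_le.2 hn) (hcop B le_rfl)
      (Comp.commutator_eq_bot_iff'.2 (ih' _ h2
        (mem_normalizer_commutator hn (le_normalizer (mem_zpowers g))))) (mem_zpowers g)
  by_cases hb : B = ⊥
  · subst hb; intro x hx; rw [mem_bot.1 hx, one_mul, mul_one]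
  have h3 := ih' _ (Solv.map_frattini_lt hb) (normalizer_le_normalizer_map_of_characteristic _ hn)
  have h4 : (frattini B).map B.subtype ≤ centralizer (B : Set G) := by
    rw [le_centralizer_iff, ← h2]
    conv_lhs => rw [h2]
    nth_rewrite 1 [← h2]
    rw [h2]
    exact h2.ge.trans (commutator_le_centralizer_of_normalizer h3
      (le_normalizer.trans (normalizer_le_normalizer_map_of_characteristic _)))
  have h5 := (Solv.commutator_le_map_frattini hB.isNilpotent).trans h4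
  have h6 : B ≤ omegaOne p B := by
    refine h2.ge.trans (commutator_le.2 fun x hx y hy => mem_omegaOne
      (h1 (commutator_mem_commutator hx hy)) ?_)
    have h7 := conj_mem_of_mem_normalizer (zpowers_le.2 hn hy) (inv_mem hx)
    have h8 := h5 (commutator_mem_commutator (inv_mem h7) (inv_mem hx))
    have h9 := Solv.pow_mem_map_frattini hB hx
    rw [commutatorElement_def, mul_assoc, mul_assoc, ← mul_assoc y,
      mul_pow_of_class_two hp2 (h8 x hx) (h8 _ h7) (h4 h9 _ h7).symm, conj_pow, inv_pow,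
      ← h3 hy _ (inv_mem h9), mul_inv_cancel_right, mul_inv_cancel]
  exact fun x hx => h x hx (pow_eq_one_of_mem_omegaOne hp2 h5 (h6 hx))

/-- `p`-stability on a normal subgroup, in terms of normal closures -/
theorem IsPStableOn.res_le {B : Subgroup G} [B.Normal] (h : IsPStableOn p B) {a : G}
    (hq : ⁅⁅B, zpowers a⁆, zpowers a⁆ = ⊥) :
    res p (normalClosure ({a} : Set G)) ≤ centralizer (B : Set G) := mk_mem_pCore_iff.1 (h a hq)

theorem zj_inf (hp2 : p ≠ 2) {n : ℕ} (hn : n = p ∨ n = 0)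
    (hst : ∀ (P : Subgroup G) [P.Normal], IsPGroup p P → IsPStableOn p P) (S : Sylow p G)
    {Z : Subgroup G} (hZ : Z ≤ centerThompsonOf n (S : Subgroup G))
    (hZn : normalizer (thompsonSubgroupOf n (S : Subgroup G) : Set G) ≤ normalizer (Z : Set G))
    (B : Subgroup G) : B.Normal → IsPGroup p B → (Z ⊓ B).Normal := by
  induction B using Comp.subgroup_induction with
  | h B ih =>
  intro hBn hB
  have hZc : IsMulCommutative Z := Solv.isMulCommutative_of_le hZ (comm_ZJ _)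
  have hBS : B ≤ S := (Solv.le_pCore hB).trans (Solv.pCore_le_sylow S)
  have hSZ : (S : Subgroup G) ≤ normalizer (Z : Set G) :=
    (le_normalizer.trans (normalizer_le_normalizer_J _)).trans hZn
  have hJ : normalizer (thompsonSubgroupOf n (S : Subgroup G) : Set G) ≤
      normalizer ((Z ⊓ B : Subgroup G) : Set G) :=
    Solv.le_normalizer_inf hZn le_normalizer_of_normal
  have hSZB := (le_normalizer.trans (normalizer_le_normalizer_J _)).trans hJ
  rcases (normalClosure_le_normal (inf_le_right : Z ⊓ B ≤ B)).lt_or_eq with h1 | h1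
  · have := ih _ h1 inferInstance (hB.to_le h1.le)
    rwa [show Z ⊓ normalClosure ((Z ⊓ B : Subgroup G) : Set G) = Z ⊓ B from
      le_antisymm (inf_le_inf_left _ h1.le) (le_inf inf_le_left le_normalClosure)] at this
  have hle : ∀ K : Subgroup G, K.Normal → Z ⊓ B ≤ K → B ≤ K := fun K _ h =>
    h1.ge.trans (normalClosure_le_normal h)
  by_cases hb : B = ⊥
  · rw [hb, inf_bot_eq]; infer_instance
  haveI h2 := ih _ (Solv.commutator_lt_of_nilpotent hB.isNilpotent le_rfl le_rfl le_normalizer hb)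
    inferInstance (hB.to_le (commutator_le_self B))
  have h3 : ⁅B, B⁆ ≤ Z := by
    refine le_trans ?_ (inf_le_left : Z ⊓ ⁅B, B⁆ ≤ Z)
    haveI : (Comp.actKer (Z ⊓ ⁅B, B⁆) B).Normal := ⟨fun x hx g => ⟨le_normalizer_of_normal (mem_top _),
      fun c hc => by
        have := h2.conj_mem _ (hx.2 _ (hBn.conj_mem' c hc g)) g
        rwa [show g * ⁅x, g⁻¹ * c * g⁆ * g⁻¹ = ⁅g * x * g⁻¹, c⁆ by
          simp only [commutatorElement_def]; group] at this⟩⟩
    refine (Comp.le_actKer_iff.1 (hle _ this (Comp.le_actKer_iff.2 ⟨le_normalizer_of_normal, ?_⟩))).2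
    exact le_inf ((commutator_mono inf_le_left le_rfl).trans
      (Solv.commutator_le_left_of_le_normalizer (hBS.trans hSZ))) (commutator_mono inf_le_right le_rfl)
  have h4 : ⁅B, B⁆ ≤ centralizer (B : Set G) := le_centralizer_iff.1 (hle _ inferInstance
    (inf_le_left.trans ((comm_iff_le_centralizer.1 hZc).trans (centralizer_le h3))))
  obtain ⟨V, hV⟩ : ∃ V, V = omegaOne n B := ⟨_, rfl⟩
  have hVB : V ≤ B := hV ▸ omegaOne_le B
  haveI hVn : V.Normal := hV ▸ normal_of_top_le fun g =>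
    mem_normalizer_omegaOne (le_normalizer_of_normal (mem_top g))
  have hVe : ∀ x ∈ V, x ^ n = 1 := by
    rcases hn with rfl | rfl
    · exact fun x hx => pow_eq_one_of_mem_omegaOne hp2 h4 (hV ▸ hx)
    · exact fun _ _ => pow_zero _
  have hVC : ∀ D : Subgroup G, res p D ≤ centralizer (V : Set G) → res p D ≤ centralizer (B : Set G) := by
    intro D hD
    rcases hn with rfl | rfl
    · exact res_le_iff.2 fun g hg hc => mem_centralizer_of_omega hp2 hc B hB
        (le_normalizer_of_normal (mem_top g)) fun x h1 h2 =>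
          hD (mem_res hg hc) x (hV ▸ mem_omegaOne h1 h2)
    · rwa [hV, omegaOne_zero] at hD
  have hVV : ∀ A, MaxE n (S : Subgroup G) A → ⁅V, V⁆ ≤ A := fun A hA =>
    hA.le_of_centralizer ((commutator_le_self V).trans (hVB.trans hBS))
      (((commutator_mono hVB hVB).trans (h3.trans hZ)).trans (inf_le_right.trans (centralizer_le hA.le_J)))
      fun x hx => hVe x (commutator_le_self V hx)
  obtain ⟨L, hL⟩ : ∃ L, L = (normalizer ((Z ⊓ B : Subgroup G) : Set G)).normalCore := ⟨_, rfl⟩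
  haveI hLn : L.Normal := hL ▸ inferInstance
  have hL1 : L ≤ normalizer ((Z ⊓ B : Subgroup G) : Set G) := hL ▸ normalCore_le _
  have hAL : ∀ A, MaxE n (S : Subgroup G) A → V ≤ normalizer (A : Set G) → A ≤ L := by
    intro A hA h a ha
    have h5 : ⁅⁅V, A⁆, A⁆ = ⊥ := commutator_eq_bot_iff_le_centralizer.2
      ((Comp.commutator_le_right_of_le_normalizer h).trans (comm_iff_le_centralizer.1 hA.elem.1))
    have h6 := hVC _ (IsPStableOn.res_le (hst V (hB.to_le hVB)) (quad_mono le_rfl (zpowers_le.2 ha) h5))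
    rw [hL]
    exact normal_le_normalCore.2 ((isSyl_top S).le_of_res_le le_top le_normalizer_of_normal
      (h6.trans ((centralizer_le (inf_le_right : Z ⊓ B ≤ B)).trans (centralizer_le_normalizer _)))
      (inf_le_left.trans hSZB)) (subset_normalClosure rfl)
  obtain ⟨U, hU⟩ := exists_maxE n (S : Subgroup G)
  obtain ⟨A₀, hA₀, -, -, h5⟩ := MaxE.exists_normalized hp2 hn S.isPGroup' le_rfl le_normalizer
    (hVB.trans hBS) le_normalizer_of_normal (Q := fun _ => True) (fun _ _ _ _ _ _ _ => trivial) hU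
    (hVV U hU) trivial
  have h6 := J_mono_of_maxE hA₀ (le_inf hA₀.le (hAL _ hA₀ h5)) inf_le_left
  have h7 : B ≤ centralizer (thompsonSubgroupOf n ((S : Subgroup G) ⊓ L) : Set G) := by
    refine h1.ge.trans ((closure_le _).2 fun x hx => ?_)
    obtain ⟨a, ha, hc⟩ := Group.mem_conjugatesOfSet_iff.1 hx
    obtain ⟨g, rfl⟩ := isConj_iff.1 hc
    obtain ⟨m, hm, k, hk, rfl⟩ := (isSyl_inf_normal S L).frattini' (le_normalizer_of_normal (mem_top g))
    rw [show m * k * a * (m * k)⁻¹ = m * (k * a * k⁻¹) * m⁻¹ by group]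
    exact conj_mem_of_mem_normalizer (mem_normalizer_centralizer (normalizer_le_normalizer_J _ hm))
      (centralizer_le h6 (hZ (conj_mem_of_mem_normalizer (hL1 hk) ha).1).2)
  have h8 : thompsonSubgroupOf n (S : Subgroup G) ≤ L := by
    by_contra hc
    obtain ⟨A, hA, h9⟩ : ∃ A, MaxE n (S : Subgroup G) A ∧ ¬ A ≤ L := by
      by_contra hc'
      push Not at hc'
      exact hc (J_le_iff.2 hc')
    obtain ⟨A₁, hA₁, -, h10, h11⟩ := MaxE.exists_normalized hp2 hn S.isPGroup' le_rfl le_normalizer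
      (hVB.trans hBS) le_normalizer_of_normal (Q := fun A => ¬ A ≤ L) (fun A A' _ _ h hA' h' h'' =>
        h (le_trans (hA'.le_of_centralizer (hVB.trans hBS) ((hVB.trans h7).trans (centralizer_le
          (hA'.mono (le_inf hA'.le h'') inf_le_left).le_J)) hVe) h')) hA (hVV A hA) h9
    exact h10 (hAL _ hA₁ h11)
  refine normal_of_top_le fun g => ?_
  obtain ⟨k, hk, m, hm, rfl⟩ := (isSyl_top S).frattini_J le_top le_normalizer_of_normal h8 (mem_top g)
  exact mul_mem (hL1 hk) (hJ hm)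

theorem mem_pCore_of_stable (hc : centralizer (pCore p G : Set G) ≤ pCore p G)
    (hst : IsPStableOn p (pCore p G)) {Z : Subgroup G} (hZ : IsMulCommutative Z)
    (hn : pCore p G ≤ normalizer (Z : Set G)) : Z ≤ pCore p G := fun a ha => by
  have h1 : ⁅⁅pCore p G, Z⁆, Z⁆ = ⊥ := commutator_eq_bot_iff_le_centralizer.2
    ((Comp.commutator_le_right_of_le_normalizer hn).trans (comm_iff_le_centralizer.1 hZ))
  have h2 := (IsPStableOn.res_le hst (quad_mono le_rfl (zpowers_le.2 ha) h1)).trans hc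
  rw [mem_pCore_iff_normalClosure, isPGroup_iff_res_eq_bot, ← res_res]
  exact res_eq_bot_of_isPGroup ((Solv.isPGroup_pCore p G).to_le h2)

/-- the `ZJ`-theorem -/
theorem zj_normal (hp2 : p ≠ 2) {n : ℕ} (hn : n = p ∨ n = 0)
    (hc : centralizer (pCore p G : Set G) ≤ pCore p G)
    (hst : ∀ (P : Subgroup G) [P.Normal], IsPGroup p P → IsPStableOn p P) (S : Sylow p G)
    {Z : Subgroup G} (hZ : Z ≤ centerThompsonOf n (S : Subgroup G))
    (hZn : normalizer (thompsonSubgroupOf n (S : Subgroup G) : Set G) ≤ normalizer (Z : Set G)) :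
    Z.Normal := by
  have := zj_inf hp2 hn hst S hZ hZn _ inferInstance (Solv.isPGroup_pCore p G)
  rwa [inf_eq_left.2 (mem_pCore_of_stable hc (hst _ (Solv.isPGroup_pCore p G))
    (Solv.isMulCommutative_of_le hZ (comm_ZJ _)) ((Solv.pCore_le_sylow S).trans
      ((le_normalizer.trans (normalizer_le_normalizer_J _)).trans hZn)))] at this

theorem ZJ_normal (hp2 : p ≠ 2) {n : ℕ} (hn : n = p ∨ n = 0)
    (hc : centralizer (pCore p G : Set G) ≤ pCore p G)
    (hst : ∀ (P : Subgroup G) [P.Normal], IsPGroup p P → IsPStableOn p P) (S : Sylow p G) :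
    (centerThompsonOf n (S : Subgroup G)).Normal :=
  zj_normal hp2 hn hc hst S le_rfl (normalizer_J_le_normalizer_ZJ _)

theorem characteristic_of_normal_functor (S : Sylow p G) (W : Subgroup G → Subgroup G)
    (hW : ∀ e : G ≃* G, (W S).map e.toMonoidHom = W ((S : Subgroup G).map e.toMonoidHom))
    (hn : (W S).Normal) : (W S).Characteristic := by
  refine characteristic_iff_map_eq.2 fun e => ?_
  obtain ⟨g, hg⟩ := exists_cj_sylow_eq S (S.mapSurjective (f := e.toMonoidHom) e.surjective)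
  rw [hW, show (S : Subgroup G).map e.toMonoidHom = cj g S from hg.symm, ← hW (MulAut.conj g)]
  exact cj_eq_of_normal g _

end Cfsg.Agent.Transfer
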