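import Cfsg.Agent.Lib.Transfer.FC8
import Mathlib.RingTheory.LittleWedderburn
import Mathlib.Algebra.Field.Shrink

set_option autoImplicit false
set_option linter.unusedSectionVars false
set_option linter.unusedVariables false
set_option linter.style.haveILetI false
set_option linter.unusedSimpArgs false

/-! The exceptional near-fields -/
namespace Cfsg.Agent.Transfer.FC
open Subgroup MS
open scoped commutatorElement
universe u
variable {p : ℕ} [hp : Fact p.Prime] {V : Type*} [AddCommGroup V] [Module (ZMod p) V] [Finite V]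
  {G : Type u} [Group G] [Finite G] {ρ : G →* (V ≃ₗ[ZMod p] V)} {A B N Q S : Subgroup G} {W : Submodule (ZMod p) V}

theorem FR.minN (hG : FR G) [A.Normal] (h1 : IsMulCommutative A)
    (h2 : ∀ B : Subgroup G, B.Normal → IsMulCommutative B → A ≤ B → B = A) [N.Normal] (h3 : N ≤ CC A)
    (h4 : ¬ IsMulCommutative N) (h5 : ∀ M : Subgroup G, M.Normal → M ≤ N → ¬ IsMulCommutative M → M = N) :
    IsQ8 N ∨ ∃ φ, NS N φ := by
  have key : ∀ M : Subgroup G, ⊤ ≤ NN M → M ≤ N → M ≠ N → M ≤ CC N := fun M a1 a2 a3 => by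
    haveI := normalizer_eq_top_iff.1 (eq_top_iff.2 a1)
    have a4 : IsMulCommutative M := by_contra fun e => a3 (h5 M this a2 e)
    exact (le_sup_right.trans (h2 (A ⊔ M) inferInstance (comm_sup h1 a4 (cc_symm (a2.trans h3))) le_sup_left).le).trans
      (cc_symm h3)
  by_cases hs : Group.IsSolvable N
  · have e : F N = N := by_contra fun e =>
      e ((F_le N).antisymm ((le_inf le_rfl (cc_symm (key _ (nn_F nn_normal) (F_le N) e))).trans (cc_F_le hs)))
    obtain ⟨q, hq, e1⟩ : ∃ q : ℕ, q.Prime ∧ O {q} N = N := by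
      by_contra! e1
      exact h4 (ab_iff.2 (e.ge.trans (F_le_of_O fun q hq _ => key _ (nn_O nn_normal) (O_le _ _) (e1 q hq))))
    haveI := Fact.mk hq
    have hP : IsPGroup q N := e1 ▸ O_pg N
    obtain rfl : q = 2 := by_contra fun e => h4 (ab_of_cyc (hG.pg e hP))
    obtain ⟨a, b, n, hn, hm, e2, e3⟩ := (hG.ui.pg hP).resolve_left fun e => h4 (ab_of_cyc e)
    have e4 := key _ (nn_comm nn_normal nn_normal) (der_le N) (hm.der hn ▸ fun e => notMem_sq hm.ord (e.ge hm.mem_a))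
    have e5 := hm.fix (mul_mem (Subgroup.mem_zpowers a) (Subgroup.mem_zpowers a))
      (mem_CC.1 (e4 (hm.der hn ▸ Subgroup.mem_zpowers _)) b hm.mem_b)
    have e6 : 2 ^ (n + 1) ∣ 2 ^ 2 := hm.ord ▸ orderOf_dvd_of_pow_eq_one (by rw [← e5]; simp [pow_succ, mul_assoc])
    obtain rfl : n = 1 := by have := (Nat.pow_dvd_pow_iff_le_right one_lt_two).1 e6; omega
    exact Or.inl (hm.eq ▸ isQ8_of hm.ord (by rw [e2, pow_one, pow_two]) e3 hm.notMem)
  · obtain ⟨S, φ, hS⟩ := hG.ns fun h => hs inferInstance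
    haveI := hS.normal
    have e : S ⊓ N = N := h5 _ inferInstance inf_le_right fun e => by
      have t : TB 5 (CC S) := ⟨φ, hS.map.ge.trans (map_le_range _ _), hS.ker⟩
      haveI := hG.cyc e
      have e1 : ⁅⁅N, S⁆, S⁆ = ⊥ := comm_eq_bot.2 ((le_inf (comm_le_right nn_normal) (comm_le_left nn_normal)).trans
        (t.le (by simp) inferInstance))
      have pf : ⁅S, S⁆ = S := by
        obtain ⟨f⟩ := hS.iso
        haveI : Group.IsPerfect (SL2 (ZMod 5)) := ⟨sl25_perfect⟩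
        exact isPerfect_iff.1 (Group.IsPerfect.ofSurjective (f := f.symm.toMonoidHom) f.symm.surjective)
      refine hs (sol_mono hS.sol (comm_eq_bot'.1 (eq_bot_iff.2 ?_)))
      rw [← pf]
      exact three_sub nn_normal nn_normal nn_normal (by rw [Subgroup.commutator_comm S N, e1]) e1.le
    obtain ⟨T, ψ, hT⟩ := (hG.sub N).ns hs
    obtain rfl : N = S := eq_of_le_of_card_ge (inf_eq_right.1 e) (by
      rw [hS.card, ← hT.card]; exact card_le_card_group T)
    exact Or.inr ⟨φ, hS⟩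

theorem exists_field {R : Type*} [Field R] [Finite R] (e : V ≃+ R)
    (h : ∀ g : G, ∃ (a : R) (σ : R ≃+* R), ∀ v, e (ρ g v) = a * σ (e v)) :
    ∃ (K : Type) (_ : Field K) (_ : Fintype K) (e : V ≃+ K),
      ∀ g : G, ∃ (a : K) (σ : K ≃+* K), ∀ v : V, e (ρ g v) = a * σ (e v) := by
  let f := Shrink.ringEquiv.{0} R
  haveI : Finite (Shrink.{0} R) := Finite.of_equiv _ f.toEquiv.symm
  refine ⟨Shrink.{0} R, inferInstance, Fintype.ofFinite _, e.trans f.symm.toAddEquiv, fun g => ?_⟩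
  obtain ⟨a, σ, h⟩ := h g
  exact ⟨f.symm a, (f.trans σ).trans f.symm, fun v => by simp [h]⟩

theorem semilinear [Nontrivial V] [hA : A.Normal] (h1 : IsMulCommutative A)
    (h2 : ∀ W : Submodule (ZMod p) V, Inv ρ A W → W = ⊥ ∨ W = ⊤) :
    ∃ (K : Type) (_ : Field K) (_ : Fintype K) (e : V ≃+ K),
      ∀ g : G, ∃ (a : K) (σ : K ≃+* K), ∀ v : V, e (ρ g v) = a * σ (e v) := by
  let τ : G →* Module.End (ZMod p) V := LinearEquiv.automorphismGroup.toLinearMapMonoidHom.comp ρ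
  let R := Subalgebra.centralizer (ZMod p) (τ '' A)
  have hR : ∀ T, T ∈ R ↔ ∀ a ∈ A, τ a * T = T * τ a := fun T => by simp [R, Subalgebra.mem_centralizer_iff]
  have inj : ∀ T : R, ∀ v, v ≠ 0 → T.1 v = 0 → T = 0 := fun T v hv e => Subtype.ext (LinearMap.ker_eq_top.1
    ((h2 _ fun a ha w hw => by
      have := LinearMap.congr_fun ((hR _).1 T.2 a ha) w
      rw [Module.End.mul_apply, LinearMap.mem_ker.1 hw, map_zero] at this
      exact this.symm).resolve_left fun e1 => hv (e1.le e)))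
  obtain ⟨v, hv⟩ := exists_ne (0 : V)
  haveI : Finite (Module.End (ZMod p) V) := Finite.of_injective _ DFunLike.coe_injective
  haveI : NoZeroDivisors R := ⟨fun {S T} e => or_iff_not_imp_right.2 fun e1 =>
    inj S (T.1 v) (fun e2 => e1 (inj T v hv e2)) (LinearMap.congr_fun (congrArg Subtype.val e) v)⟩
  haveI : IsDomain R := NoZeroDivisors.to_isDomain R
  have hF := Finite.isDomain_to_isField R
  let ev : R →ₗ[ZMod p] V := (LinearMap.applyₗ v).comp R.val.toLinearMap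
  have m : ∀ a ∈ A, τ a ∈ R := fun a ha => (hR _).2 fun b hb => by
    rw [← map_mul, ← map_mul, mem_CC.1 (ab_cc h1 ha) b hb]
  let e := LinearEquiv.ofBijective ev ⟨(injective_iff_map_eq_zero ev).2 fun T => inj T v hv,
    LinearMap.range_eq_top.1 ((h2 _ (by rintro a ha _ ⟨T, rfl⟩; exact ⟨⟨_, m a ha⟩ * T, rfl⟩)).resolve_left
      fun e => hv (e.le ⟨1, rfl⟩))⟩
  letI := hF.toField
  refine exists_field e.symm.toAddEquiv fun g => ?_
  let σ : R →+* R :=
    { toFun := fun T => ⟨τ g * T * τ g⁻¹, (hR _).2 fun a ha => by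
        have := (hR _).1 T.2 _ (hA.conj_mem a ha g⁻¹)
        rw [show a = g * (g⁻¹ * a * g⁻¹⁻¹) * g⁻¹ by group]
        generalize g⁻¹ * a * g⁻¹⁻¹ = b at this
        simp only [map_mul, mul_assoc]
        rw [← mul_assoc (τ g⁻¹), ← mul_assoc (τ g⁻¹), ← map_mul, inv_mul_cancel, map_one, one_mul, one_mul,
          ← mul_assoc (τ b), this, mul_assoc]⟩
      map_one' := Subtype.ext (by simp [← map_mul])
      map_mul' := fun S T => Subtype.ext (by
        simp only [MulMemClass.coe_mul, mul_assoc]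
        rw [← mul_assoc (τ g⁻¹), ← map_mul, inv_mul_cancel, map_one, one_mul])
      map_zero' := Subtype.ext (by simp)
      map_add' := fun S T => Subtype.ext (by simp [mul_add, add_mul]) }
  refine ⟨e.symm (ρ g v), RingEquiv.ofBijective σ (Finite.injective_iff_bijective.1 σ.injective), fun w => ?_⟩
  obtain ⟨T, rfl⟩ := e.surjective w
  apply e.injective
  rw [mul_comm]
  change e (e.symm _) = (σ (e.symm (e T))).1 (e (e.symm (ρ g v)))
  rw [e.apply_symm_apply, e.apply_symm_apply, e.symm_apply_apply]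
  change _ = ρ g (T.1 (ρ g⁻¹ (ρ g v)))
  rw [← LinearEquiv.mul_apply, ← map_mul, inv_mul_cancel, map_one]; rfl

namespace RG
variable (h : RG ρ) (hI : ∀ A : Subgroup G, A.Normal → IsCyclic A → ∃ W : Submodule (ZMod p) V, W ≠ ⊥ ∧ W ≠ ⊤ ∧ Inv ρ A W)
include h

include hI in
theorem lt_cc [A.Normal] (h1 : IsMulCommutative A) : A < CC A := by
  obtain ⟨W, h2, h3, h4⟩ := hI A inferInstance (h.fr.cyc h1)
  exact lt_of_le_not_ge (ab_cc h1) (h.not_cc_le (h.fr.cyc h1) h4 h2 h3)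

include hI in
theorem exists_N : ∃ N : Subgroup G, N.Normal ∧ (IsQ8 N ∨ ∃ φ, NS N φ) := by
  obtain ⟨A, -, ⟨_, h1⟩, h2⟩ := Comp.exists_maximal_subgroup (P := fun A : Subgroup G => A.Normal ∧ IsMulCommutative A)
    (A := ⊥) ⟨inferInstance, inferInstance⟩
  obtain ⟨N, h3, ⟨_, h4⟩, h5⟩ := Comp.exists_minimal_subgroup (P := fun N : Subgroup G => N.Normal ∧ ¬ IsMulCommutative N)
    (A := CC A) ⟨inferInstance, fun e => (h.lt_cc hI h1).ne' (h2 _ ⟨inferInstance, e⟩ (ab_cc h1))⟩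
  exact ⟨N, inferInstance, h.fr.minN h1 (fun B a b => h2 B ⟨a, b⟩) h3 h4 fun M a b c => h5 M ⟨a, c⟩ b⟩

include hI in
theorem dim2 [N.Normal] (h1 : IsQ8 N ∨ ∃ φ, NS N φ) :
    ∃ W : Submodule (ZMod p) V, #V = #W * #W ∧ Inv ρ (CC N) W ∧ (#W).Prime := by
  rcases h1 with h1 | ⟨φ, h1⟩
  · obtain ⟨W, h2, h3, h4⟩ := h.q8' h1 hI
    exact ⟨W, h2, h3, by rcases h4 with e | e | e | e <;> rw [e] <;> decide⟩
  · obtain ⟨W, h2, h3, -, h4⟩ := h.ns h1
    exact ⟨W, h2, h3, by rcases h4 with e | e | e <;> rw [e.1] <;> decide⟩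

include hI in
theorem degrees (hs : Group.IsSolvable G) : #V = 25 ∨ #V = 49 ∨ #V = 121 ∨ #V = 529 := by
  obtain ⟨N, _, h1 | ⟨φ, h1⟩⟩ := h.exists_N hI
  · obtain ⟨W, h2, -, h4⟩ := h.q8' h1 hI
    rcases h4 with e | e | e | e <;> simp [h2, e]
  · exact absurd (Group.isSolvable_of_surjective (f := h1.iso.some.toMonoidHom) h1.iso.some.surjective) sl25_not_sol

theorem no_two (hs : Group.IsSolvable G) (h2 : p ≠ 2) (h3 : ∀ H : Subgroup G, H.index ≠ 2) :
    #V = 25 ∧ Nonempty (G ≃* SL2 (ZMod 3)) ∨ #V = 121 ∧ Nonempty (G ≃* SL2 (ZMod 3) × Multiplicative (ZMod 5)) := by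
  have hR : res 2 (⊤ : Subgroup G) = ⊤ := res_top.trans (pResidual_two_eq_top_iff.2 h3)
  have hG := h.fr
  have he : Ess (O {2} (⊤ : Subgroup G)) := by_contra fun he => by
    rw [ess_iff, not_not] at he
    have e : F ⊤ ≤ CC ⁅(⊤ : Subgroup G), (⊤ : Subgroup G)⁆ := F_le_of_O fun q hq _ => cc_symm (by
      haveI := Fact.mk hq
      by_cases e : q = 2
      · subst e; exact le_top.trans (hR.ge.trans ((res_mono (nn_O nn_top)).trans he))
      · exact der_cc_of_cyc (hG.pg e (O_pg _)) (nn_O nn_top))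
    obtain ⟨T, hT⟩ := exists_isSyl 2 (⊤ : Subgroup G)
    have e1 := hT.le_der hR
    have e2 := (le_inf le_top (e1.trans (cc_symm e))).trans (cc_F_le inferInstance)
    obtain ⟨z, hz, e3⟩ := Solv.exists_subgroup_card_prime Nat.prime_two (pg_dvd hT.pgroup (syl_ne_bot hT (by
      have e4 := h.card
      have e5 : Odd #V := by
        rw [Module.natCard_eq_pow_finrank (K := ZMod p), Nat.card_zmod]; exact (hp.out.odd_of_ne_two h2).pow
      rw [card_top]; obtain ⟨k, hk⟩ := e5; omega)))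
    have := hT.mem_der_of_central hz (mem_CC.2 fun g _ => mem_center_iff.1
      (hG.central (by rw [← pow_two, ← e3, pow_orderOf_eq_one])) g) (e1 hz)
    rw [ab_iff_der.1 (ab_iff.2 (e2.trans (e.trans (cc_anti e1)))), mem_bot] at this
    simp [this] at e3
  have h8 := hG.ui.ess (O_pg _) he
  haveI : (O {2} (⊤ : Subgroup G)).Normal := normalizer_eq_top_iff.1 (eq_top_iff.2 (nn_O nn_top))
  generalize O {2} (⊤ : Subgroup G) = Q at *
  have i : (CC Q).index = 12 := by
    rcases (tb_iff (n := 2)).1 (IsQ8.tb h8 he) with ⟨f, h4, h5⟩ | ⟨f, h4, -⟩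
    · rw [← h5, index_ker, MonoidHom.range_eq_top.2 h4, card_top, nat_card_alternatingGroup]; simp [Nat.factorial]
    · exact absurd ((index_comap_of_surjective _ h4).trans alternatingGroup.index_eq_two) (h3 _)
  obtain ⟨W, h4, ⟨k, hk⟩, h6⟩ := h.q8 h8
  obtain ⟨c, h7, h9⟩ := h.count h4 h6
  obtain ⟨m, hm⟩ := h8.card_center ▸ card_dvd (inf_le_right (a := Q) (b := CC Q))
  have a1 := (CC Q).card_mul_index
  have a2 := Nat.card_pos (α := CC Q)
  have a3 : #W = 5 ∧ #(CC Q) = 2 ∨ #W = 11 ∧ #(CC Q) = 10 := by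
    rw [i] at h9
    have : c ≤ 12 := Nat.le_of_dvd (by decide) (Dvd.intro_left _ h9)
    rw [hm] at h7 a2 ⊢
    interval_cases c <;> omega
  obtain ⟨g, hg⟩ := exists_prime_orderOf_dvd_card' (G := G) 3 (by rw [← a1, i]; exact Dvd.dvd.mul_left (by decide) _)
  obtain ⟨e⟩ := h8.iso_SL23 hg (nn_normal (mem_top g)) fun e => by have := hg ▸ orderOf_dvd e; omega
  have a4 : #(Q ⊔ zpowers g : Subgroup G) = 24 := by
    haveI : Fact (Nat.Prime 3) := ⟨Nat.prime_three⟩
    rw [Nat.card_congr e.toEquiv, Perm.GL2.card_SL2, ZMod.card]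
  rcases a3 with ⟨b1, b2⟩ | ⟨b1, b2⟩
  · exact Or.inl ⟨by rw [h4, b1], ⟨(topEquiv.symm.trans (MulEquiv.subgroupCongr
      (eq_top_of_card_eq _ (by rw [a4, ← a1, i, b2])).symm)).trans e⟩⟩
  haveI : Fact (Nat.Prime 5) := ⟨Nat.prime_five⟩
  obtain ⟨Y, hY⟩ := exists_isSyl 5 (CC Q)
  have b3 : #Y = 5 := by
    obtain ⟨n, hn⟩ := hY.pgroup.exists_card_eq
    have c1 := hn ▸ b2 ▸ card_dvd hY.le
    have c2 := hn ▸ pg_dvd hY.pgroup (syl_ne_bot hY (by omega))
    rcases n with _ | _ | n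
    · omega
    · simpa using hn
    · exact absurd ((pow_dvd_pow 5 (by omega : 2 ≤ n + 1 + 1)).trans c1) (by decide)
  have b4 : Q ⊔ zpowers g ≤ CC Y := sup_le (cc_symm hY.le) (Solv.le_centralizer_of_card_prime_of_coprime Nat.prime_five b3
    (syl_nn hY (ix2_of_card hY.le (by omega)).nn nn_normal) (by rw [Nat.card_zpowers, hg]; decide))
  have b5 : (Q ⊔ zpowers g) ⊓ Y = ⊥ := inf_eq_bot_of_coprime (by rw [a4, b3]; decide)
  have b6 := card_sup_mul_card_inf (b4.trans (cc_le_nn Y))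
  obtain ⟨f⟩ := iso_prod' b4 b5 (eq_top_of_card_eq _ (by rw [b5, card_bot, a4, b3] at b6; rw [i, b2] at a1; omega))
  exact Or.inr ⟨by rw [h4, b1], ⟨f.trans (e.prodCongr (mulEquivOfPrimeCardEq b3 (by simp)))⟩⟩

end RG
end Cfsg.Agent.Transfer.FC
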