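import Cfsg.Agent.Lib.Transfer.CD
import Cfsg.Agent.Lib.Transfer.ZJ
import Cfsg.Agent.Lib.BG.Rank
import Cfsg.Prelude.Def_DStar

set_option autoImplicit false
set_option linter.unusedSectionVars false

namespace Cfsg.Agent.Transfer
open Subgroup Cfsg.Agent.MS
open scoped commutatorElement Pointwise

universe u
variable {G : Type u} [Group G] [Finite G]

namespace CD
variable {Q R A B : Subgroup G}

theorem pot_nn [hG : Group.IsNilpotent G] (s : Set (Subgroup G)) (hs : s.Nonempty) :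
    ∃ A ∈ s, ∀ (b : G), ∀ Y ∈ s, A ⊓ cj b A ≤ Y → (∀ a ∈ A, ⁅a, b⁆ ∈ Y) → b ∈ NN A := by
  obtain ⟨c, hc⟩ := hG.nilpotent'
  obtain ⟨A, hQ, hmax⟩ := (Set.toFinite s).exists_maximalFor
    (fun R : Subgroup G => ∑ i ∈ Finset.range (c + 1), #(R ⊓ Subgroup.upperCentralSeries G i : Subgroup G)) _ hs
  refine ⟨A, hQ, fun b R r1 r2 r3 => ?_⟩
  have cnt := fun i => repl_count (U := Subgroup.upperCentralSeries G (i + 1))
    (V := Subgroup.upperCentralSeries G i) r2 r3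
    fun a ha => Subgroup.mem_upperCentralSeries_succ_iff.1 ha b
  have mono : ∀ i, Subgroup.upperCentralSeries G i ≤ Subgroup.upperCentralSeries G (i + 1) := fun i =>
    Subgroup.upperCentralSeries_mono G (Nat.le_succ i)
  generalize hZ : Subgroup.upperCentralSeries G = Z at *
  have Z0 : Z 0 = ⊥ := by rw [← hZ]; rfl
  have le1 : ∀ i, #(A ⊓ Z i : Subgroup G) ≤ #(R ⊓ Z i : Subgroup G) := by
    rintro (_ | i)
    · simp [Z0]
    · have h := Comp.card_mul_card_le (K := R ⊓ Z (i + 1)) (inf_le_inf_left _ (mono i)) (inf_le_inf_right _ r2)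
      have e : R ⊓ Z i ⊓ (A ⊓ cj b A ⊓ Z (i + 1)) = A ⊓ cj b A ⊓ Z i :=
        le_antisymm (le_inf (inf_le_right.trans inf_le_left) (inf_le_left.trans inf_le_right))
          (le_inf (inf_le_inf_right _ r2) (inf_le_inf_left _ (mono i)))
      rw [e] at h
      exact Nat.le_of_mul_le_mul_right ((cnt i).trans h) (card_pos' _)
  have le2 : ∀ i ≤ c, #(R ⊓ Z i : Subgroup G) ≤ #(A ⊓ Z i : Subgroup G) := by
    intro i hi
    by_contra h
    have := Finset.sum_lt_sum (s := Finset.range (c + 1)) (fun i _ => le1 i)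
      ⟨i, Finset.mem_range.2 (by omega), not_le.1 h⟩
    exact absurd (hmax r1 this.le) (not_le.2 this)
  have ind : ∀ i ≤ c, A ⊓ Z i ≤ cj b A := by
    intro i
    induction i with
    | zero => simp [Z0]
    | succ i ih =>
      intro hi
      have e : A ⊓ cj b A ⊓ Z i = A ⊓ Z i :=
        le_antisymm (inf_le_inf_right _ inf_le_left) (le_inf (le_inf inf_le_left (ih (by omega))) inf_le_right)
      have h := (cnt i).trans (Nat.mul_le_mul_right _ (le2 i (by omega)))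
      rw [e, mul_comm] at h
      exact (eq_of_card_le (inf_le_inf_right _ inf_le_left)
        (Nat.le_of_mul_le_mul_left h (card_pos' _))).ge.trans (inf_le_left.trans inf_le_right)
  have h := ind c le_rfl
  rw [hc, inf_top_eq] at h
  exact mem_normalizer_iff_cj.2 (eq_of_card_le h (card_cj _ _).le).symm

theorem maxAb_cj (hA : A ∈ maxAbelianSubgroups G) (g : G) : cj g A ∈ maxAbelianSubgroups G :=
  ⟨ab_cj hA.1 g, fun B hB => by rw [card_cj]; exact hA.2 B hB⟩

theorem ab_repl (hA : A ∈ maxAbelianSubgroups G) {N : Subgroup G} (hN : IsMulCommutative N)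
    (hAN : A ≤ NN N) {b : G} (hb : ∀ a ∈ A, ⁅a, b⁆ ∈ N) :
    ∃ Y ∈ maxAbelianSubgroups G, A ⊓ cj b A ≤ Y ∧ (∀ a ∈ A, ⁅a, b⁆ ∈ Y) ∧ Y ≤ A ⊔ cj b A := by
  have hA1 := maxAb_cj hA b
  have key : ∀ a ∈ A, b * a * b⁻¹ ∈ cj b A := fun a ha => conj_mem_cj ha
  have key' : ∀ x ∈ cj b A, b⁻¹ * x * b ∈ A := fun a ha => mem_cj.1 ha
  have c2 : #A = #(cj b A) := (card_cj _ _).symm
  generalize cj b A = A₁ at *
  have ab1 := hA.1
  have ab2 := hA1.1
  have c3 := Comp.card_mul_card_le (le_sup_left : A ≤ A ⊔ A₁) le_sup_right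
  set M := N ⊓ (A ⊔ A₁) with hM
  have hm : ∀ a ∈ A, ⁅a, b⁆ ∈ M := fun a ha => ⟨hb a ha, by
    have : ⁅a, b⁆ = a * (b * a⁻¹ * b⁻¹) := by rw [commutatorElement_def]; group
    rw [this]; exact mul_mem (mem_sup_left ha) (mem_sup_right (key _ (A.inv_mem ha)))⟩
  have s1 : A ⊔ M = A ⊔ A₁ := by
    refine le_antisymm (sup_le le_sup_left inf_le_right) (sup_le le_sup_left fun x hx => ?_)
    have : x = (b⁻¹ * x * b) * ⁅(b⁻¹ * x * b)⁻¹, b⁆ := by rw [commutatorElement_def]; group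
    rw [this]; exact mul_mem (mem_sup_left (key' x hx)) (mem_sup_right (hm _ (A.inv_mem (key' x hx))))
  have abM : IsMulCommutative M := ab_mono hN inf_le_left
  have nM : A ≤ NN M := nn_inf hAN (nn_of_le le_sup_left)
  have dc : A ⊓ A₁ ≤ CC (A ⊔ A₁) := le_cc_sup (inf_le_left.trans (ab_cc ab1)) (inf_le_right.trans (ab_cc ab2))
  have dM : A ⊓ A₁ ≤ CC M := dc.trans (cc_anti inf_le_right)
  have abY : IsMulCommutative (A ⊓ A₁ ⊔ M : Subgroup G) := ab_sup (ab_mono ab1 inf_le_left) abM dM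
  have s2 : A ⊓ A₁ ⊓ M = A ⊓ M := by
    refine le_antisymm (inf_le_inf_right _ inf_le_left) (le_inf (le_inf inf_le_left ?_) inf_le_right)
    rw [← cc_maxAb hA1]
    refine le_trans ?_ (cc_anti (le_sup_right.trans s1.ge))
    exact le_cc_sup (inf_le_left.trans (ab_cc ab1)) (inf_le_right.trans (ab_cc abM))
  have d1 := card_sup_mul_card_inf nM
  have d2 := card_sup_mul_card_inf (nn_of_cc dM)
  rw [s1] at d1
  rw [s2] at d2
  refine ⟨_, ⟨abY, fun B hB => (hA.2 B hB).trans ?_⟩, le_sup_left, fun a ha => mem_sup_right (hm a ha),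
    sup_le (inf_le_left.trans le_sup_left) inf_le_right⟩
  generalize A ⊓ A₁ ⊔ M = Y at *
  have p1 : 0 < #(A ⊓ M : Subgroup G) := card_pos' _
  have p2 : 0 < #A := card_pos' _
  refine Nat.le_of_mul_le_mul_right ?_ (Nat.mul_pos p1 p2)
  calc #A * (#(A ⊓ M : Subgroup G) * #A) = #A * #A₁ * #(A ⊓ M : Subgroup G) := by rw [← c2]; ring
    _ ≤ #(A ⊔ A₁ : Subgroup G) * #(A ⊓ A₁ : Subgroup G) * #(A ⊓ M : Subgroup G) := Nat.mul_le_mul_right _ c3
    _ = #(A ⊓ A₁ : Subgroup G) * (#A * #M) := by rw [← d1]; ring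
    _ = #Y * #(A ⊓ M : Subgroup G) * #A := by rw [d2]; ring
    _ = _ := by ring

theorem class2_of {C : Subgroup G} {x : G} (hA : IsMulCommutative A) (h1 : A ≤ CC C) (h2 : x ∈ CC C)
    (h3 : ∀ a ∈ A, ⁅x, a⁆ ∈ C) : ⁅⁅A ⊔ zpowers x, A ⊔ zpowers x⁆, A ⊔ zpowers x⁆ = ⊥ := by
  have h4 : zpowers x ≤ CC C := zpowers_le.2 h2
  have h5 := Comp.commutator_zpowers_left_le (cc_le_nn _ h2) h3
  refine comm_eq_bot'.2 ((sup_le h1 h4).trans (cc_anti ?_))
  refine comm_sup_l (nn_of_cc h1) (nn_of_cc h4) (comm_sup_r (nn_of_cc h1) (nn_of_cc h4) ?_ ?_)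
    (comm_sup_r (nn_of_cc h1) (nn_of_cc h4) h5 ?_)
  · rw [ab_iff_der.1 hA]; exact bot_le
  · rwa [Subgroup.commutator_comm]
  · rw [ab_iff_der.1 (ab_of_cyc (cyc_zpowers x))]; exact bot_le

theorem dfam_cc [hG : Group.IsNilpotent G] (hA : A ∈ dStarFamily G) (hB : IsMulCommutative B)
    (h : A ≤ NN B) : A ≤ CC B := by
  refine cc_symm ?_
  by_contra hc
  obtain ⟨x, x1, x2, x3⟩ := Solv.exists_central_mod (L := A ⊔ B) (M := B) (N := B ⊓ CC A) inferInstance
    le_sup_right (sup_le h (le_nn _)) fun h => hc (h.trans inf_le_right)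
  exact x2 ⟨x1, mem_CC.2 (hA.2 x (class2_of hA.1 (cc_symm inf_le_right) (ab_le_cc hB le_rfl inf_le_left x1)
    fun a ha => x3 a (mem_sup_left ha)))⟩

theorem dstar_le [hG : Group.IsNilpotent G] (hB : IsSCN ⊤ B) : dStar G ≤ B :=
  sSup_le fun _ hA => hB.le_of_le_Ct le_top (dfam_cc hA hB.comm (le_top.trans hB.norm))

theorem dstar_mem [hG : Group.IsNilpotent G] : dStar G ∈ dStarFamily G := by
  obtain ⟨B, -, hB⟩ := BG.exists_scn_ge (P := (⊤ : Subgroup G)) (B := ⊥) inferInstance le_top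
    (ab_of_cyc cyc_bot) nn_bot
  refine ⟨ab_mono hB.comm (dstar_le hB), fun x hx => mem_CC.1 (le_C1_iff.1 (sSup_le fun A hA => ?_))⟩
  refine le_C1_iff.2 (mem_CC.2 (hA.2 x (le_bot_iff.1 (le_trans ?_ hx.le))))
  have : A ⊔ zpowers x ≤ dStar G ⊔ zpowers x := sup_le_sup_right (le_sSup hA) _
  exact commutator_mono (commutator_mono this this) this

theorem dfam_cj (hA : A ∈ dStarFamily G) (g : G) : cj g A ∈ dStarFamily G := by
  refine ⟨ab_cj hA.1 g, fun x hx a ha => ?_⟩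
  have h := hA.2 (g⁻¹ * x * g) (by
    rw [← cj_eq_bot_iff (g := g), cj_commutator, cj_commutator, cj_sup, cj_zpowers]
    convert hx <;> group) _ (mem_cj.1 ha)
  calc a * x = g * (g⁻¹ * a * g * (g⁻¹ * x * g)) * g⁻¹ := by group
    _ = _ := by rw [h]; group

theorem dstar_normal [hG : Group.IsNilpotent G] : (dStar G).Normal :=
  normalizer_eq_top_iff.1 (eq_top_iff.2 fun g _ =>
    mem_normalizer_of_cj_le (le_sSup (dfam_cj dstar_mem g)))

theorem dfam_maxAb [hG : Group.IsNilpotent G] {V : Subgroup G} (hV : V ∈ dStarFamily G)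
    (hA : A ∈ maxAbelianSubgroups G) (hn : A ≤ NN V) : V ≤ A := by
  have hmax : ∀ B ≤ A, ms V B ≤ ms V A := fun B hB => by
    have ab : IsMulCommutative (B ⊔ (V ⊓ CC B) : Subgroup G) :=
      ab_sup (ab_mono hA.1 hB) (ab_mono hV.1 inf_le_left) (cc_symm inf_le_right)
    have e := card_sup_mul_card_inf (nn_of_cc (cc_symm inf_le_right) : B ≤ NN (V ⊓ CC B))
    unfold ms
    rw [← e]
    refine Nat.mul_le_mul (hA.2 _ ab) (card_le_of_le (le_inf (inf_le_right.trans inf_le_left) ?_))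
    exact inf_le_left.trans (hB.trans (ab_cc hA.1))
  have h := (replacement hV.1 hn (by rw [ab_iff_der.1 hA.1]; exact bot_le) hmax le_rfl).1
  have h2 : V ≤ CC (A ⊓ CC ⁅V, A⁆) := by
    refine cc_symm fun x hx => mem_CC.2 (hV.2 x (class2_of (C := ⁅V, A⁆) hV.1
      (ab_le_cc hV.1 le_rfl (comm_le_left hn)) hx.2 fun a ha => ?_))
    rw [Subgroup.commutator_comm]; exact commutator_mem_commutator hx.1 ha
  rw [inf_eq_left.2 h2] at h
  have h3 : V ≤ V ⊓ CC A := by
    refine le_of_le_sup_commutator_of_nilpotent (P := V ⊔ A) le_sup_left (inf_le_left.trans le_sup_left)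
      (sup_le (ab_nn hV.1 le_rfl inf_le_left) (nn_of_cc (cc_symm inf_le_right))) ?_
    refine h.le.trans ?_
    rw [sup_comm]
    exact sup_le_sup_left (commutator_mono le_rfl le_sup_right) _
  exact h3.trans (inf_le_right.trans (cc_maxAb hA).le)

end CD
end Cfsg.Agent.Transfer
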