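import Cfsg.Agent.Lib.Transfer.Ext
import Cfsg.Agent.Lib.Transfer.SL2
import Cfsg.Agent.Lib.Perm.Dick1
import Cfsg.Agent.Lib.Perm.Tri
import Cfsg.Agent.Lib.Solv.Fact

set_option autoImplicit false
set_option linter.unusedSectionVars false
set_option linter.unusedVariables false
set_option linter.style.haveILetI false
set_option linter.unusedSimpArgs false

namespace Cfsg.Agent.Transfer.FC
open Subgroup Module

/-- the coefficient field -/
abbrev kk (r : ℕ) [Fact r.Prime] := AlgebraicClosure (ZMod r)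

section Rep
variable {k W H : Type*} [Field k] [AddCommGroup W] [Module k W] [Group H]

/-- fixed point free representations -/
def Fpf (ρ : H →* Module.End k W) : Prop := ∀ g, g ≠ 1 → ∀ w, ρ g w = w → w = 0

/-- irreducible representations -/
def Irr (ρ : H →* Module.End k W) : Prop :=
  ∀ U : Submodule k W, (∀ g, ∀ w ∈ U, ρ g w ∈ U) → U = ⊥ ∨ U = ⊤

variable {ρ : H →* Module.End k W} {g y a b c : H}

/-- elements commuting with an operator -/
def cm (ρ : H →* Module.End k W) (T : Module.End k W) : Subgroup H where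
  carrier := {g | Commute T (ρ g)}
  one_mem' := by simp
  mul_mem' := fun h1 h2 => by simpa using Commute.mul_right h1 h2
  inv_mem' := fun {g} h => Commute.units_inv_right (u := ρ.toHomUnits g) h

theorem mem_cm {T : Module.End k W} : g ∈ cm ρ T ↔ Commute T (ρ g) := Iff.rfl

/-- operators preserving a subspace -/
def pres (U : Submodule k W) : Subalgebra k (Module.End k W) where
  carrier := {T | ∀ w ∈ U, T w ∈ U}
  mul_mem' := fun h1 h2 w hw => h1 _ (h2 w hw)
  add_mem' := fun h1 h2 w hw => U.add_mem (h1 w hw) (h2 w hw)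
  algebraMap_mem' := fun c w hw => U.smul_mem c hw

theorem Irr.scalar [IsAlgClosed k] [FiniteDimensional k W] [Nontrivial W] (h : Irr ρ) {T : Module.End k W}
    (hT : cm ρ T = ⊤) : ∃ c : k, T = c • 1 := by
  obtain ⟨c, hc⟩ := Module.End.exists_eigenvalue T
  refine ⟨c, ?_⟩
  rcases h (T.eigenspace c) (fun g w hw => by
    rw [Module.End.mem_eigenspace_iff] at hw ⊢
    have : Commute T (ρ g) := hT.ge (mem_top g)
    rw [← Module.End.mul_apply, this.eq, Module.End.mul_apply, hw, map_smul]) with h | h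
  · exact absurd h hc
  · ext w; simpa using Module.End.mem_eigenspace_iff.1 (h.ge (Submodule.mem_top (x := w)))

theorem Irr.dim2 [IsAlgClosed k] [FiniteDimensional k W] [Nontrivial W] [Finite H] (h : Irr ρ) {S : Set H}
    (hS : closure S = ⊤) {A B : Module.End k W} {α β γ δ ε : k} (h1 : B * B = α • 1 + β • B)
    (h2 : A * B = γ • 1 + δ • A + ε • B - B * A) (h3 : ∀ s ∈ S, ρ s ∈ Algebra.adjoin k {A, B}) :
    finrank k W ≤ 2 := by
  obtain ⟨c, hc⟩ := Module.End.exists_eigenvalue A
  obtain ⟨v, hv, hv0⟩ := hc.exists_hasEigenvector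
  rw [Module.End.mem_eigenspace_iff] at hv
  let U : Submodule k W := Submodule.span k {v, B v}
  have m1 : v ∈ U := Submodule.subset_span (by simp)
  have m2 : B v ∈ U := Submodule.subset_span (by simp)
  have key : ∀ T : Module.End k W, T v ∈ U → T (B v) ∈ U → T ∈ pres U := fun T e1 e2 w hw => by
    obtain ⟨x, y, rfl⟩ := Submodule.mem_span_pair.1 hw
    rw [map_add, map_smul, map_smul]; exact U.add_mem (U.smul_mem _ e1) (U.smul_mem _ e2)
  have hA : A ∈ pres U := key A (hv ▸ U.smul_mem _ m1) (by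
    rw [← Module.End.mul_apply, h2]
    simp only [LinearMap.sub_apply, LinearMap.add_apply, LinearMap.smul_apply, Module.End.mul_apply, hv, map_smul,
      Module.End.one_apply]
    exact U.sub_mem (U.add_mem (U.add_mem (U.smul_mem _ m1) (U.smul_mem _ (U.smul_mem _ m1))) (U.smul_mem _ m2))
      (U.smul_mem _ m2))
  have hB : B ∈ pres U := key B m2 (by
    rw [← Module.End.mul_apply, h1]
    simp only [LinearMap.add_apply, LinearMap.smul_apply, Module.End.one_apply]
    exact U.add_mem (U.smul_mem _ m1) (U.smul_mem _ m2))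
  have hle : Algebra.adjoin k {A, B} ≤ pres U := Algebra.adjoin_le (by rintro _ (rfl | rfl) <;> assumption)
  have hall : ∀ g, ρ g ∈ pres U := fun g => by
    have : g ∈ Submonoid.closure S := by rw [← closure_toSubmonoid_of_finite, hS]; trivial
    refine Submonoid.closure_induction (fun s hs => hle (h3 s hs)) (by rw [map_one]; exact one_mem _)
      (fun x y _ _ e1 e2 => by rw [map_mul]; exact mul_mem e1 e2) this
  rcases h U hall with h | h
  · exact absurd (h.le m1) hv0
  · classical
    rw [← finrank_top, ← h]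
    exact (finrank_span_finset_le_card ({v, B v} : Finset W) (R := k) |>.trans' (by rw [Set.finrank, Finset.coe_pair])).trans
      (Finset.card_le_two)

namespace Fpf
variable (h : Fpf ρ)
include h

theorem cancel (hg : g ≠ 1) {X : Module.End k W} (hX : (ρ g - 1) * X = 0) : X = 0 := by
  ext w
  have := LinearMap.congr_fun hX w
  simp only [Module.End.mul_apply, LinearMap.sub_apply, Module.End.one_apply, LinearMap.zero_apply, sub_eq_zero] at this
  exact h g hg _ this

theorem inj [Nontrivial W] : Function.Injective ρ := (injective_iff_map_eq_one _).2 fun g hg => by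
  by_contra h1
  obtain ⟨w, hw⟩ := exists_ne (0 : W)
  exact hw (h g h1 w (by rw [hg]; rfl))

theorem sq (hg : g ≠ 1) (h2 : g * g = 1) : ρ g = -1 := by
  have : ρ g * ρ g = 1 := by rw [← map_mul, h2, map_one]
  exact eq_neg_of_add_eq_zero_left (h.cancel hg (by linear_combination (norm := noncomm_ring) this))

theorem cube (hg : g ≠ 1) (h3 : g ^ 3 = 1) : ρ g * ρ g = -1 - ρ g := by
  have : ρ g ^ 3 = 1 := by rw [← map_pow, h3, map_one]
  exact sub_eq_zero.1 (h.cancel hg (by linear_combination (norm := noncomm_ring) this))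

theorem cube_inv (hg : g ≠ 1) (h3 : g ^ 3 = 1) : ρ g⁻¹ = -1 - ρ g := by
  rw [← h.cube hg h3, ← map_mul]; congr 1
  rw [inv_eq_iff_mul_eq_one, ← h3, pow_three]

theorem five (hg : g ≠ 1) (h5 : g ^ 5 = 1) :
    (ρ g + ρ g⁻¹) * (ρ g + ρ g⁻¹) + (ρ g + ρ g⁻¹) = 1 := by
  have e1 : ρ g ^ 5 = 1 := by rw [← map_pow, h5, map_one]
  have e2 : ρ g⁻¹ = ρ g ^ 4 := by
    rw [← map_pow]; congr 1; rw [inv_eq_iff_mul_eq_one, ← h5, ← pow_succ']
  have e3 : ρ g ^ 4 + ρ g ^ 3 + ρ g ^ 2 + ρ g + 1 = 0 :=
    h.cancel hg (by linear_combination (norm := noncomm_ring) e1)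
  rw [e2]; linear_combination (norm := noncomm_ring) e3 + 2 * e1 + ρ g ^ 3 * e1

theorem two_ne [Nontrivial W] (hg : g ≠ 1) (h2 : g * g = 1) : (2 : k) ≠ 0 := fun e => by
  refine hg (h.inj ?_)
  rw [h.sq hg h2, map_one, neg_eq_iff_add_eq_zero, ← two_smul k, e, zero_smul]

theorem comp {H' : Type*} [Group H'] {f : H' →* H} (hf : Function.Injective f) : Fpf (ρ.comp f) :=
  fun g hg w hw => h (f g) (fun e => hg (hf (e.trans f.map_one.symm))) w hw

theorem pow_char [Nontrivial W] (r : ℕ) [Fact r.Prime] [CharP k r] (h1 : g ^ r = 1) : g = 1 := by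
  by_contra hg
  have e : (ρ g - 1) ^ r ^ 1 = 0 := by rw [sub_one_pow_char_pow (K := k), pow_one, ← map_pow, h1, map_one, sub_self]
  have : ∀ n, (ρ g - 1) ^ n = 0 → False := fun n => by
    induction n with
    | zero => simp
    | succ n ih => rw [pow_succ']; exact fun e => ih (h.cancel hg e)
  exact this _ e

end Fpf
end Rep

/-- groups with a fixed point free representation -/
def FR (H : Type*) [Group H] : Prop :=
  ∃ (r : ℕ) (_ : Fact r.Prime) (n : ℕ) (ρ : H →* Module.End (kk r) (Fin (n + 1) → kk r)), Fpf ρ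

variable {H : Type*} [Group H] {g h : H}

theorem exists_std {r : ℕ} [Fact r.Prime] {W : Type*} [AddCommGroup W] [Module (kk r) W] [FiniteDimensional (kk r) W]
    [Nontrivial W] {ρ : H →* Module.End (kk r) W} (h : Fpf ρ) :
    ∃ (n : ℕ) (ρ' : H →* Module.End (kk r) (Fin (n + 1) → kk r)), Fpf ρ' ∧ n + 1 = finrank (kk r) W := by
  obtain ⟨n, hn⟩ := Nat.exists_eq_add_one.2 (finrank_pos (R := kk r) (M := W))
  let e := (finBasisOfFinrankEq (kk r) W hn).equivFun
  refine ⟨n, (e.conjAlgEquiv (kk r)).toMonoidHom.comp ρ, fun g hg w hw => ?_, hn.symm⟩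
  have : e (ρ g (e.symm w)) = w := hw
  rw [← e.symm.map_eq_zero_iff]
  exact h g hg _ (by rw [← e.injective.eq_iff, this]; simp)

theorem FR.exists_irr (h : FR H) : ∃ (r : ℕ) (_ : Fact r.Prime) (n : ℕ)
    (ρ : H →* Module.End (kk r) (Fin (n + 1) → kk r)), Fpf ρ ∧ Irr ρ := by
  obtain ⟨r, _, n, ρ, h⟩ := h
  refine ⟨r, inferInstance, ?_⟩
  induction n using Nat.strong_induction_on with
  | _ n ih =>
  by_cases hi : Irr ρ
  · exact ⟨n, ρ, h, hi⟩
  simp only [Irr, not_forall, not_or] at hi
  obtain ⟨U, h1, h2, h3⟩ := hi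
  haveI := Submodule.nontrivial_iff_ne_bot.2 h2
  obtain ⟨m, ρ', e1, e2⟩ := exists_std (ρ := Representation.subrepresentation ρ U h1)
    fun g hg w hw => Subtype.ext (h g hg w (congrArg Subtype.val hw))
  have := Submodule.finrank_lt h3
  exact ih m (by simp at this; omega) ρ' e1

theorem FR.of_inj {H' : Type*} [Group H'] (h : FR H) {f : H' →* H} (hf : Function.Injective f) : FR H' := by
  obtain ⟨r, _, n, ρ, h⟩ := h
  exact ⟨r, _, n, _, h.comp hf⟩

theorem FR.sub (h : FR H) (K : Subgroup H) : FR K := h.of_inj K.subtype_injective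

theorem FR.invol_eq (hH : FR H) (h1 : g ≠ 1) (h2 : g * g = 1) (h3 : h ≠ 1) (h4 : h * h = 1) : g = h := by
  obtain ⟨r, _, n, ρ, e⟩ := hH
  exact e.inj (by rw [e.sq h1 h2, e.sq h3 h4])

theorem FR.central (hH : FR H) (h2 : g * g = 1) : g ∈ center H := by
  by_cases h1 : g = 1
  · rw [h1]; exact one_mem _
  refine mem_center_iff.2 fun x => ?_
  have := hH.invol_eq (g := x * g * x⁻¹) (by simpa using h1) (by rw [conj_mul, h2]; simp) h1 h2
  exact mul_inv_eq_iff_eq_mul.1 this

theorem FR.cyc_top [Finite H] (hH : FR H) (hc : IsMulCommutative H) : IsCyclic H := by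
  obtain ⟨r, _, n, ρ, e, hi⟩ := hH.exists_irr
  have : ∀ g, ∃ c : kk r, ρ g = c • 1 := fun g => hi.scalar (eq_top_iff.2 fun x _ => by
    rw [mem_cm, Commute, SemiconjBy, ← map_mul, ← map_mul, hc.is_comm.comm])
  choose f hf using this
  have inj : Function.Injective fun c : kk r => c • (1 : Module.End (kk r) (Fin (n + 1) → kk r)) :=
    fun x y e => by simpa using congrFun (LinearMap.congr_fun e 1) 0
  refine isCyclic_of_injective_ringHom (R := kk r) ⟨⟨f, inj ?_⟩, fun x y => inj ?_⟩ fun x y hxy => e.inj ?_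
  · simp [← hf]
  · simp only [mul_smul, ← hf, map_mul]; rw [hf x]; simp
  · rw [hf, hf]; exact congrArg (· • _) hxy

theorem FR.cyc [Finite H] (hH : FR H) {A : Subgroup H} (hc : IsMulCommutative A) : IsCyclic A :=
  (hH.sub A).cyc_top hc

theorem FR.of_action {B : Type*} [Group B] [Finite B] [Nontrivial B] (hB : Group.IsSolvable B) (φ : H →* MulAut B)
    (hf : ∀ h, h ≠ 1 → ∀ b, φ h b = b → b = 1) : FR H := by
  obtain ⟨r, hr, χ, hχ⟩ : ∃ (r : ℕ) (_ : r.Prime) (χ : B →* Multiplicative (ZMod r)), χ ≠ 1 := by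
    obtain ⟨M, hM, h1⟩ := (eq_top_or_exists_le_coatom (commutator B)).resolve_left
      (Group.IsSolvable.commutator_lt_top_of_nontrivial B).ne
    haveI : M.Normal := Subgroup.Normal.of_commutator_le _ h1
    have hp := Solv.index_prime_of_coatom_normal hM
    haveI := Fact.mk hp
    let e : B ⧸ M ≃* Multiplicative (ZMod M.index) := mulEquivOfPrimeCardEq (p := M.index) rfl (by simp)
    refine ⟨_, hp, e.toMonoidHom.comp (QuotientGroup.mk' M), fun h => hM.1 (eq_top_iff.2 fun x _ => ?_)⟩
    simpa using DFunLike.congr_fun h x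
  haveI := Fact.mk hr
  let W := Additive B →+ kk r
  let ρ : H →* Module.End (kk r) W :=
    { toFun := fun h => { toFun := fun f => f.comp (MonoidHom.toAdditive (φ h⁻¹).toMonoidHom)
                          map_add' := fun _ _ => rfl, map_smul' := fun _ _ => rfl }
      map_one' := by ext f x; simp
      map_mul' := fun g h => by ext f x; simp }
  haveI : FiniteDimensional (kk r) W := by
    refine FiniteDimensional.of_injective (V₂ := Additive B → kk r)
      { toFun := fun f => f, map_add' := fun _ _ => rfl, map_smul' := fun _ _ => rfl } DFunLike.coe_injective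
  haveI : Nontrivial W := by
    refine ⟨(algebraMap (ZMod r) (kk r)).toAddMonoidHom.comp (MonoidHom.toAdditiveLeft χ), 0, fun e => hχ ?_⟩
    ext x
    have : algebraMap (ZMod r) (kk r) (χ x).toAdd = 0 := DFunLike.congr_fun e (Additive.ofMul x)
    simpa using this
  obtain ⟨n, ρ', h, -⟩ := exists_std (ρ := ρ) fun g hg f hw => by
    ext x
    obtain ⟨y, hy⟩ := MonoidHom.FixedPointFree.commutatorMap_surjective (φ := φ g⁻¹) (hf _ (inv_ne_one.2 hg)) x
    have : f (Additive.ofMul (φ g⁻¹ y)) = f (Additive.ofMul y) := DFunLike.congr_fun hw (Additive.ofMul y)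
    have e : f (Additive.ofMul y - Additive.ofMul (φ g⁻¹ y)) = 0 := by rw [map_sub, this, sub_self]
    rw [← hy]; exact e
  exact ⟨r, _, n, ρ', h⟩

end Cfsg.Agent.Transfer.FC
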