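import Cfsg.Agent.Lib.Transfer.FC1

set_option autoImplicit false
set_option linter.unusedSectionVars false
set_option linter.unusedVariables false
set_option linter.style.haveILetI false
set_option linter.unusedSimpArgs false

namespace Cfsg.Agent.Transfer.FC
open Subgroup Module

section Ring
variable {R : Type*} [Ring R] {Y A B C I J K : R}

/-- the relations of the binary tetrahedral group in a fixed point free representation -/
structure Rel (Y A : R) : Prop where
  yy : Y * Y = -1 - Y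
  aa : A * A = -1
  ya : Y * A = -1 - A - A * Y

/-- quaternion units -/
structure Quat (I J K : R) : Prop where
  ii : I * I = -1
  jj : J * J = -1
  ij : I * J = K
  ji : J * I = -K

theorem cX_A (h : A * A = -1) (B : R) : Commute (A * B + B * A) A := by
  rw [Commute, SemiconjBy]; linear_combination (norm := noncomm_ring) B * h - h * B

theorem cX3 (h1 : A * B + B * A = -1) (h2 : A * C + C * A = -1) : Commute (B * C + C * B) A := by
  rw [Commute, SemiconjBy]; linear_combination (norm := noncomm_ring) B * h2 - h2 * B + C * h1 - h1 * C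

namespace Rel
theorem yy' (h : Rel Y A) (X : R) : Y * (Y * X) = -X - Y * X := by rw [← mul_assoc, h.yy]; noncomm_ring
theorem aa' (h : Rel Y A) (X : R) : A * (A * X) = -X := by rw [← mul_assoc, h.aa]; noncomm_ring
theorem ya' (h : Rel Y A) (X : R) : Y * (A * X) = -X - A * X - A * (Y * X) := by rw [← mul_assoc, h.ya]; noncomm_ring

theorem cX (h : Rel Y A) (h' : Rel Y B) : Commute (A * B + B * A) Y := by
  rw [Commute, SemiconjBy]
  simp only [mul_add, add_mul, mul_sub, sub_mul, mul_neg, neg_mul, mul_one, one_mul, mul_assoc, h.ya', h'.ya', h.ya, h'.ya]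
  abel

theorem cW (h : Rel Y A) (hB : Rel Y B) (hC : Rel Y C) (h1 : A * B + B * A = -1) (h2 : A * C + C * A = -1) :
    Commute (A * B * C * A) Y := by
  have e1 : B * A = -1 - A * B := by rw [← h1]; abel
  have e2 : C * A = -1 - A * C := by rw [← h2]; abel
  have e3 : ∀ X, B * (A * X) = -X - A * (B * X) := fun X => by rw [← mul_assoc, e1]; noncomm_ring
  have e4 : ∀ X, C * (A * X) = -X - A * (C * X) := fun X => by rw [← mul_assoc, e2]; noncomm_ring
  rw [Commute, SemiconjBy]
  simp only [mul_add, add_mul, mul_sub, sub_mul, mul_neg, neg_mul, mul_one, one_mul, mul_assoc, h.ya', hB.ya', hC.ya',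
    h.ya, hB.ya, hC.ya, e1, e2, e3, e4, h.aa, h.aa']
  abel

theorem quat (h : Rel Y A) : Quat A ((-1 - Y) * A * Y) (Y * A * (-1 - Y)) := by
  constructor <;>
  simp only [mul_add, add_mul, mul_sub, sub_mul, mul_neg, neg_mul, mul_one, one_mul, mul_assoc, h.ya', h.ya, h.aa, h.aa',
    h.yy, h.yy'] <;> abel

theorem sum (h : Rel Y A) (h' : Rel Y B) : (A * B + B * A) + ((-1 - Y) * A * Y * B + B * ((-1 - Y) * A * Y)) +
    (Y * A * (-1 - Y) * B + B * (Y * A * (-1 - Y))) = -2 := by
  simp only [mul_add, add_mul, mul_sub, sub_mul, mul_neg, neg_mul, mul_one, one_mul, mul_assoc, h.ya', h.ya, h.aa, h.aa',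
    h.yy, h.yy', h'.ya, h'.ya', ← one_add_one_eq_two]
  abel
end Rel

theorem Quat.decomp {k : Type*} [Field k] [Algebra k R] [Nontrivial R] (h : Quat I J K) (hB : B * B = -1) (h2 : (2 : k) ≠ 0)
    {x y z : k} (e1 : I * B + B * I = x • 1) (e2 : J * B + B * J = y • 1) (e3 : K * B + B * K = z • 1) :
    B = (-2⁻¹ : k) • (x • I + y • J + z • K) ∧ x ^ 2 + y ^ 2 + z ^ 2 = 4 := by
  obtain ⟨ii, jj, rfl, ji⟩ := h
  have a1 : ∀ X, I * (I * X) = -X := fun X => by rw [← mul_assoc, ii]; noncomm_ring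
  have a2 : ∀ X, J * (J * X) = -X := fun X => by rw [← mul_assoc, jj]; noncomm_ring
  have a3 : ∀ X, J * (I * X) = -(I * (J * X)) := fun X => by rw [← mul_assoc, ji]; noncomm_ring
  have b1 : B * I = x • 1 - I * B := by rw [← e1]; abel
  have b2 : B * J = y • 1 - J * B := by rw [← e2]; abel
  have b3 : ∀ X, B * (I * X) = x • X - I * (B * X) := fun X => by rw [← mul_assoc, b1]; simp [sub_mul, mul_assoc]
  have e : B = (-2⁻¹ : k) • (x • I + y • J + z • (I * J)) := by
    have := congrArg (fun X => I * J * X) e3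
    simp only [mul_add, add_mul, mul_sub, sub_mul, mul_neg, neg_mul, mul_one, one_mul, mul_assoc, a1, a2, a3, b1, b2, b3,
      ii, jj, ji, mul_smul_comm, smul_mul_assoc, neg_neg] at this
    apply smul_right_injective R h2
    simp only [smul_smul, mul_neg, mul_inv_cancel₀ h2]
    linear_combination (norm := module) -this
  refine ⟨e, ?_⟩
  rw [e] at hB
  simp only [mul_add, add_mul, mul_sub, sub_mul, mul_neg, neg_mul, mul_one, one_mul, mul_assoc, a1, a2, a3,
      ii, jj, ji, mul_smul_comm, smul_mul_assoc, neg_neg] at hB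
  have : (x ^ 2 + y ^ 2 + z ^ 2 - 4) • (1 : R) = 0 := by
    have h4 : (4 : k) * (2⁻¹ * 2⁻¹) = 1 := by field_simp; norm_num
    linear_combination (norm := skip) (-4 : k) • hB
    match_scalars <;> first | ring1 | linear_combination -(x ^ 2 + y ^ 2 + z ^ 2) * h4
  exact sub_eq_zero.1 ((smul_eq_zero.1 this).resolve_right one_ne_zero)
end Ring

section Perm5
open Equiv
set_option synthInstance.maxSize 100000
set_option maxRecDepth 100000

/-- a three cycle -/
def y0 : Perm (Fin 5) := c[0, 2, 4]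
/-- a double transposition -/
def x0 : Perm (Fin 5) := c[0, 1] * c[2, 3]

theorem d1 : ∀ z : Perm (Fin 5), z ^ 3 = 1 → z ≠ 1 →
    z * y0⁻¹ = 1 ∨ z⁻¹ * y0⁻¹ = 1 ∨ z * y0⁻¹ * (z * y0⁻¹) = 1 ∨ z⁻¹ * y0⁻¹ * (z⁻¹ * y0⁻¹) = 1 ∨
    ((y0 * z⁻¹ * y0⁻¹ * z * y0) * (y0 * z⁻¹ * y0⁻¹ * z * y0) = 1 ∧ (y0 * z⁻¹ * y0⁻¹ * z * y0) ≠ 1 ∧
      (y0 * z⁻¹ * y0⁻¹ * z * y0 * y0) ^ 3 = 1 ∧
     (y0 * z * y0⁻¹ * z⁻¹ * y0) * (y0 * z * y0⁻¹ * z⁻¹ * y0) = 1 ∧ (y0 * z * y0⁻¹ * z⁻¹ * y0) ≠ 1 ∧
      (y0 * z * y0⁻¹ * z⁻¹ * y0 * y0) ^ 3 = 1 ∧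
     z⁻¹ * ((y0 * z⁻¹ * y0⁻¹ * z * y0) * (y0 * z * y0⁻¹ * z⁻¹ * y0)) = 1) := by decide +kernel

theorem d2 : ∀ a : Perm (Fin 5), a * a = 1 → a ≠ 1 → (a * y0) ^ 3 = 1 →
    ∀ b : Perm (Fin 5), b * b = 1 → b ≠ 1 → (b * y0) ^ 3 = 1 →
      a * b = 1 ∨ y0⁻¹ * a * y0 * b = 1 ∨ y0 * a * y0⁻¹ * b = 1 ∨
      ((a * b) ^ 3 = 1 ∧ (y0⁻¹ * a * y0 * b) ^ 5 = 1) ∨ ((y0⁻¹ * a * y0 * b) ^ 3 = 1 ∧ (y0 * a * y0⁻¹ * b) ^ 5 = 1) ∨
      ((y0 * a * y0⁻¹ * b) ^ 3 = 1 ∧ (a * b) ^ 5 = 1) := by decide +kernel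

theorem d3 : ∀ x : Perm (Fin 5), x * x = 1 → x ≠ 1 → (x * y0) ^ 5 = 1 →
   ∃ s : Perm (Fin 5), s * x0 * s⁻¹ = x ∧ s * y0 * s⁻¹ = y0 := by decide +kernel

theorem d4 : ∀ s : Perm (Fin 5), s * x0 = x0 * s → s * y0 = y0 * s → s = 1 := by decide +kernel

theorem c3 (y : Perm (Fin 5)) (h : y ^ 3 = 1) (h1 : y ≠ 1) : IsConj y y0 := by
  have key : ∀ y : Perm (Fin 5), y ^ 3 = 1 → y ≠ 1 → y.IsCycle ∧ y.support.card = 3 := fun y h h1 => by
    have e : orderOf y = 3 := orderOf_eq_prime h h1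
    have := Perm.isCycle_of_prime_order' (σ := y) (by rw [e]; norm_num) (by rw [e]; simp)
    exact ⟨this, this.orderOf.symm.trans e⟩
  obtain ⟨a, b⟩ := key y h h1
  obtain ⟨c, d⟩ := key y0 (by decide) (by decide)
  exact a.isConj c (b.trans d.symm)

theorem sol_S4 : Group.IsSolvable (Perm (Fin 4)) :=
  Solv.isSolvable_of_card_primeFactors_le_two (by rw [Perm.Tri.card_S4]; decide +kernel)
end Perm5

variable {H : Type*} [Group H] {g h y a b c : H}

/-- a map to `S₅` whose kernel consists of the elements of order at most two -/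
def K5 (f : H →* Equiv.Perm (Fin 5)) : Prop := ∀ g, f g = 1 ↔ g * g = 1

theorem eq_one_of_23 {G : Type*} [Group G] {g : G} (h2 : g * g = 1) (h3 : g ^ 3 = 1) : g = 1 := by
  rwa [pow_three, h2, mul_one] at h3

theorem K5.norm {f : H →* Equiv.Perm (Fin 5)} (h : K5 f) (h1 : y ≠ 1) (h3 : y ^ 3 = 1) :
    ∃ f' : H →* Equiv.Perm (Fin 5), K5 f' ∧ f' y = y0 := by
  obtain ⟨s, hs⟩ := isConj_iff.1 (c3 (f y) (by rw [← map_pow, h3, map_one]) fun e => h1 (eq_one_of_23 ((h y).1 e) h3))
  exact ⟨(MulAut.conj s).toMonoidHom.comp f, fun g => by rw [← h g]; simp, hs⟩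

open Perm Perm.GL2 in
theorem det_eq_one {k : Type*} [Field k] {m : M2 k} (h : m * m = -1 - m) (hn : ¬ IsScal m) : m.det = 1 := by
  have e := fun i j => congrFun (congrFun h i) j
  have e1 := e 0 0; have e2 := e 0 1; have e3 := e 1 0; have e4 := e 1 1
  simp [Matrix.mul_apply, Fin.sum_univ_two] at e1 e2 e3 e4
  have : m 0 0 + m 1 1 + 1 = 0 := by
    by_contra h0
    exact hn ⟨mul_left_cancel₀ h0 (by linear_combination e2), mul_left_cancel₀ h0 (by linear_combination e3),
      mul_left_cancel₀ h0 (by linear_combination e1 - e4)⟩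
  rw [Matrix.det_fin_two]; linear_combination m 0 0 * this - e1

open Perm Perm.GL2 in
theorem cls3 [Finite H] {r : ℕ} [Fact r.Prime] {n : ℕ} {ρ : H →* Module.End (kk r) (Fin (n + 1) → kk r)} (hf : Fpf ρ)
    (hn : finrank (kk r) (Fin (n + 1) → kk r) ≤ 2) (hT : closure {g : H | g ^ 3 = 1} = ⊤) : IsMulCommutative H ∨
      ∃ f : H →* Equiv.Perm (Fin 5), K5 f ∧ (Group.IsSolvable H ∨ f.range = alternatingGroup (Fin 5)) := by
  have hH : FR H := ⟨r, _, n, ρ, hf⟩
  by_cases hc : IsMulCommutative H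
  · exact Or.inl hc
  right
  obtain rfl : n = 1 := by
    rcases n with _ | n
    · refine absurd ⟨⟨fun x y => hf.inj ?_⟩⟩ hc
      rw [map_mul, map_mul]
      apply LinearMap.toMatrixAlgEquiv'.injective
      rw [map_mul, map_mul]; ext i j
      fin_cases i; fin_cases j
      simp [Matrix.mul_apply, mul_comm]
    · simp at hn; omega
  let μ : H →* M2 (kk r) := (LinearMap.toMatrixAlgEquiv' (R := kk r) (n := Fin 2)).toMonoidHom.comp ρ
  have μi : Function.Injective μ := LinearMap.toMatrixAlgEquiv'.injective.comp hf.inj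
  let ψ : H →* PGL2 (kk r) := mkP.comp μ.toHomUnits
  have k1 : ∀ g, ψ g = 1 ↔ IsScal (μ g) := fun g => mkP_eq_one
  have k2 : ∀ g, IsScal (μ g) → g ∈ center H := fun g hg =>
    mem_center_iff.2 fun x => μi (by rw [map_mul, map_mul, hg.comm])
  have dt : ∀ g, (μ g).det = 1 := by
    have : closure {g : H | g ^ 3 = 1} ≤ (Matrix.detMonoidHom.comp μ).toHomUnits.ker := (closure_le _).2 fun s hs => by
      by_cases h1 : s = 1
      · rw [h1]; exact one_mem _
      refine Units.ext (det_eq_one (m := μ s) ?_ fun h2 => hc ?_)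
      · have := congrArg LinearMap.toMatrixAlgEquiv' (hf.cube h1 hs)
        rwa [map_mul, map_sub, map_neg, map_one] at this
      · haveI : Fact (Nat.Prime 3) := ⟨Nat.prime_three⟩
        have : closure {g : H | g ^ 3 = 1} ≤ zpowers s := (closure_le _).2 fun t ht => by
          by_cases h3 : t = 1
          · rw [h3]; exact one_mem _
          have ab : IsMulCommutative (zpowers s ⊔ zpowers t : Subgroup H) :=
            comm_sup inferInstance inferInstance (zpowers_le.2 (center_le_centralizer _ (k2 s h2)))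
          exact (MS.cyc_le (hH.cyc ab) le_sup_right le_sup_left (by
            rw [Nat.card_zpowers, Nat.card_zpowers, orderOf_eq_prime ht h3, orderOf_eq_prime hs h1])) (mem_zpowers t)
        rw [hT] at this
        exact ⟨⟨fun x y => congrArg Subtype.val
          ((inferInstance : IsMulCommutative (zpowers s)).is_comm.comm ⟨x, this trivial⟩ ⟨y, this trivial⟩)⟩⟩
    exact fun g => congrArg Units.val (this (hT.ge (mem_top g)))
  have k3 : ∀ g, ψ g = 1 ↔ g * g = 1 := fun g => by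
    rw [k1]
    constructor
    · intro hg
      have := dt g
      apply μi
      rw [map_mul, map_one]
      rw [hg.eq] at this ⊢
      simp only [Matrix.det_smul, Fintype.card_fin, Matrix.det_one, mul_one] at this
      rw [smul_mul_smul_comm, ← pow_two, this, mul_one, one_smul]
    · intro hg
      by_cases h1 : g = 1
      · rw [h1, map_one]; exact isScal_iff.2 ⟨1, by simp⟩
      · refine isScal_iff.2 ⟨-1, ?_⟩
        have := congrArg LinearMap.toMatrixAlgEquiv' (hf.sq h1 hg)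
        rw [map_neg, map_one] at this
        exact this.trans (by simp)
  have k4 : ∀ g, ψ.rangeRestrict g = 1 ↔ g * g = 1 := fun g => by rw [← k3, Subtype.ext_iff]; rfl
  have k5 : ψ.rangeRestrict.ker ≤ center H := fun g hg => hH.central ((k4 g).1 hg)
  have sj := ψ.rangeRestrict_surjective
  haveI : Finite ψ.range := Finite.of_surjective _ sj
  letI := MulAction.compHom (OnePoint (kk r)) ψ.range.subtype
  have hK := (klein (F := kk r) (p := r)).comap ψ.range.subtype ψ.range.subtype_injective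
  have four : ∀ e : ψ.range →* Equiv.Perm (Fin 4), Function.Injective e →
      ∃ f : H →* Equiv.Perm (Fin 5), K5 f ∧ (Group.IsSolvable H ∨ f.range = alternatingGroup (Fin 5)) := fun e he => by
    refine ⟨(Equiv.Perm.viaEmbeddingHom Fin.castSuccEmb).comp (e.comp ψ.rangeRestrict), fun g => ?_, Or.inl ?_⟩
    · rw [← k4]; simp only [MonoidHom.comp_apply]
      rw [map_eq_one_iff _ (Equiv.Perm.viaEmbeddingHom_injective _), map_eq_one_iff _ he]
    · haveI := sol_S4
      haveI : Group.IsSolvable (center H) := MS.sol_of_ab inferInstance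
      refine Group.isSolvable_of_ker_le_range (center H).subtype (e.comp ψ.rangeRestrict) fun g hg => ?_
      rw [range_subtype]; exact k5 (he (hg.trans e.map_one.symm))
  rcases hK.classify_coprime (fun x => eq_bot_iff.2 fun g hg => by
    obtain ⟨g, rfl⟩ := sj g
    have e1 := (k4 _).1 ((map_pow _ _ _).trans (hK.mem_U.1 hg).2)
    rw [← (Commute.refl g).mul_pow] at e1
    exact (k4 g).2 (hf.pow_char r e1)) with ⟨h, -⟩ | ⟨a, s, -, h1, h2, h3, -, h4⟩ | ⟨-, ⟨⟨e⟩⟩ | ⟨⟨e⟩⟩ | ⟨⟨e⟩⟩⟩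
  · exact absurd (ψ.rangeRestrict.isMulCommutative_of_isCyclic_of_ker_le_center k5) hc
  · have : closure {g : H | g ^ 3 = 1} ≤ (zpowers a).comap ψ.rangeRestrict := (closure_le _).2 fun t ht => by
      rcases h4 (ψ.rangeRestrict t) with h | h
      · exact h
      · have e1 := mul_self_of_inverts (inverts_of_mem_zpowers h1 h)
        rw [mul_assoc _ s s, ← pow_two s, h2, mul_one] at e1
        have := eq_one_of_23 e1 (by rw [← map_pow, show t ^ 3 = 1 from ht, map_one])
        exact mem_comap.2 (this ▸ one_mem _)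
    obtain ⟨s, rfl⟩ := sj s
    exact absurd (this (hT.ge (mem_top s))) h3
  · exact four ((alternatingGroup _).subtype.comp e.toMonoidHom) (Subtype.val_injective.comp e.injective)
  · exact four e.toMonoidHom e.injective
  · refine ⟨((alternatingGroup _).subtype.comp e.toMonoidHom).comp ψ.rangeRestrict, fun g => ?_, Or.inr ?_⟩
    · rw [← k4, MonoidHom.comp_apply, map_eq_one_iff _ (Subtype.val_injective.comp e.injective)]
    · rw [MonoidHom.comp_assoc, MonoidHom.range_comp, MonoidHom.range_eq_top.2 (e.surjective.comp sj),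
        ← MonoidHom.range_eq_map, range_subtype]

end Cfsg.Agent.Transfer.FC
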