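import Cfsg.Agent.Lib.Transfer.FC2

set_option autoImplicit false
set_option linter.unusedSectionVars false
set_option linter.unusedVariables false
set_option linter.style.haveILetI false
set_option linter.unusedSimpArgs false

namespace Cfsg.Agent.Transfer.FC
open Subgroup Module

variable {H : Type*} [Group H] {g y z a b c : H}

/-- elements of order three -/
def T3 (y : H) : Prop := y ≠ 1 ∧ y ^ 3 = 1

/-- elements of order four generating a binary tetrahedral group with `y` -/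
def InU (y a : H) : Prop := a * a ≠ 1 ∧ a * a * (a * a) = 1 ∧ (a * y) ^ 3 = 1

theorem InU.cj (h : InU y a) (hg : Commute g y) : InU y (g * a * g⁻¹) := by
  refine ⟨by rw [conj_mul]; simpa using h.1, by simp only [conj_mul]; simpa using h.2.1, ?_⟩
  rw [show g * a * g⁻¹ * y = g * (a * y) * g⁻¹ by rw [mul_assoc, hg.inv_left.eq]; group, conj_pow, h.2.2]; simp
theorem InU.c1 (h : InU y a) : InU y (y⁻¹ * a * y) := by simpa using h.cj (Commute.refl y).inv_left
theorem InU.c2 (h : InU y a) : InU y (y * a * y⁻¹) := h.cj (Commute.refl y)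
theorem InU.t3 (h : InU y a) (hy : T3 y) : T3 (a * y) := ⟨fun e => hy.1 (by
  have := h.2.1
  rw [eq_inv_of_mul_eq_one_left e, ← mul_inv_rev, ← mul_inv_rev, inv_eq_one, mul_assoc, ← pow_three, hy.2, mul_one] at this
  exact this), h.2.2⟩
theorem InU.map {H' : Type*} [Group H'] {f : H →* H'} (hf : Function.Injective f) : InU (f y) (f a) ↔ InU y a := by
  simp only [InU, ← map_mul, ← map_pow, ne_eq, map_eq_one_iff f hf]
theorem T3.map {H' : Type*} [Group H'] {f : H →* H'} (hf : Function.Injective f) : T3 (f y) ↔ T3 y := by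
  simp only [T3, ← map_pow, ne_eq, map_eq_one_iff f hf]
theorem T3.inv2 (h : T3 y) : y⁻¹ * y⁻¹ = y := by rw [← mul_inv_rev, inv_eq_iff_mul_eq_one, ← pow_three', h.2]
theorem T3.sq (h : T3 y) : y * y = y⁻¹ := by rw [eq_inv_iff_mul_eq_one, ← pow_three', h.2]
theorem T3.ord (h : T3 y) : orderOf y = 3 := orderOf_eq_prime h.2 h.1
theorem InU.not_comm (h : InU y a) (hy : T3 y) : ¬ Commute a y := fun e => by
  have := h.2.2
  rw [e.mul_pow, hy.2, mul_one] at this
  have h4 := h.2.1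
  rw [mul_assoc, ← pow_three, this, mul_one] at h4
  exact h.1 (by rw [h4, mul_one])

theorem FR.mem_zpowers3 [Finite H] (hH : FR H) (hy : T3 y) (hz : T3 z) (hc : Commute y z) : z ∈ zpowers y :=
  MS.cyc_le (hH.cyc (comm_sup inferInstance inferInstance (zpowers_le.2 (by
    rw [MS.cc_zpowers]; exact MS.mem_C1.2 hc)))) le_sup_right le_sup_left
    (by rw [Nat.card_zpowers, Nat.card_zpowers, hy.ord, hz.ord]) (mem_zpowers z)

section Rep
variable {k W : Type*} [Field k] [AddCommGroup W] [Module k W] [Nontrivial W] {ρ : H →* Module.End k W}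

/-- anticommutators -/
def X (ρ : H →* Module.End k W) (a b : H) : Module.End k W := ρ a * ρ b + ρ b * ρ a

/-- common centraliser of the anticommutators -/
def TT (ρ : H →* Module.End k W) (y a b : H) : Subgroup H :=
  cm ρ (X ρ a b) ⊓ cm ρ (X ρ (y⁻¹ * a * y) b) ⊓ cm ρ (X ρ (y * a * y⁻¹) b)

theorem X_comm : X ρ a b = X ρ b a := add_comm _ _

variable (hf : Fpf ρ)
include hf

theorem InU.aa (h : InU y a) : ρ a * ρ a = -1 := by rw [← map_mul, hf.sq h.1 h.2.1]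
theorem InU.inv (h : InU y a) : ρ a⁻¹ = -ρ a := by
  rw [show a⁻¹ = a * a * a from (eq_inv_of_mul_eq_one_left (by rw [mul_assoc, h.2.1])).symm, map_mul, map_mul, h.aa hf,
    neg_one_mul]
theorem InU.X_eq (h : InU y a) (h' : InU y b) : X ρ a b = ρ (a * b) + ρ (a * b)⁻¹ := by
  rw [mul_inv_rev, map_mul, map_mul, h.inv hf, h'.inv hf, neg_mul_neg, X]
theorem InU.X_m (h : InU y a) (h' : InU y b) (m : T3 (a * b)) : X ρ a b = -1 := by
  rw [h.X_eq hf h', hf.cube_inv m.1 m.2]; abel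
theorem InU.rel (h : InU y a) (hy : T3 y) : Rel (ρ y) (ρ a) := by
  refine ⟨hf.cube hy.1 hy.2, h.aa hf, ?_⟩
  have := hf.cube_inv (h.t3 hy).1 h.2.2
  rw [mul_inv_rev, map_mul, map_mul, h.inv hf, hf.cube_inv hy.1 hy.2] at this
  linear_combination (norm := noncomm_ring) this

theorem InU.eq_of (h : InU y a) (h' : InU y b) (hy : T3 y) (e : a * b * (a * b) = 1) : a = b := by
  by_cases h1 : a * b = 1
  · have e1 := (h.rel hf hy).ya
    have e2 := (h'.rel hf hy).ya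
    rw [eq_inv_of_mul_eq_one_left h1, h'.inv hf] at e1
    have : (2 : k) • (1 : Module.End k W) = 0 := by rw [two_smul]; linear_combination (norm := noncomm_ring) e1 + e2
    exact absurd ((smul_eq_zero.1 this).resolve_right one_ne_zero) (hf.two_ne h.1 h.2.1)
  · have := hf.sq h1 e
    rw [map_mul] at this
    exact hf.inj (by linear_combination (norm := noncomm_ring) ρ a * this - (h.aa hf) * ρ b)

theorem odd_lift {n : ℕ} (hn : Odd n) (h : g ^ n * g ^ n = 1) (h1 : g * g ≠ 1) :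
    ∃ g', g' ≠ 1 ∧ g' ^ n = 1 ∧ (g' = g ∨ ρ g' + ρ g'⁻¹ = -(ρ g + ρ g⁻¹)) := by
  by_cases e : g ^ n = 1
  · exact ⟨g, fun e => h1 (by rw [e, mul_one]), e, Or.inl rfl⟩
  obtain ⟨m, rfl⟩ := hn
  refine ⟨g ^ (2 * m + 1) * g, fun e1 => h1 ?_, ?_, Or.inr ?_⟩
  · rwa [eq_inv_of_mul_eq_one_left e1, ← mul_inv_rev, inv_eq_one] at h
  · rw [← pow_succ, ← pow_mul, mul_comm, pow_mul, show 2 * m + 1 + 1 = 2 * (m + 1) by ring, pow_mul, pow_two, h, one_pow]
  · rw [mul_inv_rev, ← eq_inv_of_mul_eq_one_left h, map_mul, map_mul, hf.sq e h]; noncomm_ring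

theorem InU.m3 (h : InU y a) (h' : InU y b) (hc : InU y c) {x x' x'' : k} (e : X ρ a b = x • 1) (e' : X ρ c b = x' • 1)
    (s1 : x + x' + x'' = -2) (s2 : x ^ 2 + x' ^ 2 + x'' ^ 2 = 4) (h1 : a * b * (a * b) ≠ 1) (h2 : c * b * (c * b) ≠ 1)
    (h3 : (a * b) ^ 3 * (a * b) ^ 3 = 1) (h5 : (c * b) ^ 5 * (c * b) ^ 5 = 1) : T3 (a * b) := by
  have t := hf.two_ne h.1 h.2.1
  have inj : ∀ x y : k, x • (1 : Module.End k W) = y • 1 → x = y := fun x y e => smul_left_injective k one_ne_zero e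
  obtain ⟨g, g1, g2, rfl | g3⟩ := odd_lift hf (by decide) h3 h1
  · exact ⟨g1, g2⟩
  exfalso
  rw [← h.X_eq hf h', e, hf.cube_inv g1 g2] at g3
  obtain rfl : x = 1 := inj _ _ (by rw [one_smul]; linear_combination (norm := abel1) g3)
  have q : x' ^ 2 + 3 * x' + 3 = 0 := mul_left_cancel₀ t (by linear_combination s2 + (x' - x'' + 3) * s1)
  obtain ⟨g, g1, g2, g3⟩ := odd_lift hf (by decide) h5 h2
  have := hf.five g1 g2
  rcases g3 with rfl | g3
  · rw [← hc.X_eq hf h', e'] at this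
    have q' : x' * x' + x' = 1 := inj _ _ (by rw [one_smul]; refine Eq.trans ?_ this; simp [add_smul, mul_smul])
    have : x' = -2 := mul_left_cancel₀ t (by linear_combination q - q')
    rw [this] at q'; exact one_ne_zero (α := k) (by linear_combination q')
  · rw [g3, ← hc.X_eq hf h', e'] at this
    have q' : x' * x' - x' = 1 := inj _ _ (by
      rw [one_smul]; refine Eq.trans ?_ this; simp [sub_smul, mul_smul, sub_eq_add_neg, add_smul])
    have : x' = -1 := mul_left_cancel₀ (mul_ne_zero t t) (by linear_combination q - q')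
    rw [this] at q'; exact one_ne_zero (α := k) (by linear_combination q')

variable (hy : T3 y)
include hy

theorem InU.y_mem (h : InU y a) (h' : InU y b) : y ∈ cm ρ (X ρ a b) := (h.rel hf hy).cX (h'.rel hf hy)
theorem InU.X_cj (h : InU y a) (h' : InU y b) : X ρ (y * a * y⁻¹) (y * b * y⁻¹) = X ρ a b := by
  have e : X ρ (y * a * y⁻¹) (y * b * y⁻¹) = ρ y * X ρ a b * ρ y⁻¹ := by
    simp only [X, ← map_mul, conj_mul, mul_add, add_mul]
  rw [e, ← (h.y_mem hf hy h').eq, mul_assoc, ← map_mul, mul_inv_cancel, map_one, mul_one]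
theorem InU.quat (h : InU y a) : Quat (ρ a) (ρ (y⁻¹ * a * y)) (ρ (y * a * y⁻¹)) := by
  simpa only [map_mul, hf.cube_inv hy.1 hy.2] using (h.rel hf hy).quat
theorem InU.sum (h : InU y a) (h' : InU y b) : X ρ a b + X ρ (y⁻¹ * a * y) b + X ρ (y * a * y⁻¹) b = -2 := by
  simpa only [X, map_mul, hf.cube_inv hy.1 hy.2] using (h.rel hf hy).sum (h'.rel hf hy)

omit hf in
theorem TT_c1 : TT ρ y (y⁻¹ * a * y) b = TT ρ y a b := by
  rw [TT, TT, show y⁻¹ * (y⁻¹ * a * y) * y = y * a * y⁻¹ by rw [← mul_assoc, ← mul_assoc, hy.inv2, mul_assoc, hy.sq],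
    show y * (y⁻¹ * a * y) * y⁻¹ = a by group]
  ac_rfl
omit hf in
theorem TT_c2 : TT ρ y (y * a * y⁻¹) b = TT ρ y a b := by
  rw [← TT_c1 hy (a := y * a * y⁻¹)]; congr 1; group

theorem InU.le_TT (h : InU y a) (h' : InU y b) : y ∈ TT ρ y a b ∧ a ∈ TT ρ y a b ∧ b ∈ TT ρ y a b := by
  have k : ∀ {a}, InU y a → y ∈ cm ρ (X ρ a b) ∧ a ∈ cm ρ (X ρ a b) ∧ b ∈ cm ρ (X ρ a b) := fun h =>
    ⟨h.y_mem hf hy h', cX_A (h.aa hf) _, X_comm (ρ := ρ) ▸ cX_A (h'.aa hf) _⟩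
  obtain ⟨a1, a2, a3⟩ := k h
  obtain ⟨b1, b2, b3⟩ := k h.c1
  obtain ⟨c1, c2, c3⟩ := k h.c2
  refine ⟨⟨⟨a1, b1⟩, c1⟩, ⟨⟨a2, ?_⟩, ?_⟩, ⟨a3, b3⟩, c3⟩
  · simpa [mul_assoc] using mul_mem (mul_mem b1 b2) (inv_mem b1)
  · simpa [mul_assoc] using mul_mem (mul_mem (inv_mem c1) c2) c1

theorem InU.TT_self (h : InU y a) : TT ρ y a a = ⊤ := by
  have q := h.quat hf hy
  have e1 : X ρ a a = -2 := by rw [X, q.ii]; norm_num
  have e2 : X ρ (y⁻¹ * a * y) a = 0 := by rw [X, q.ij, q.ji, neg_add_cancel]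
  have e3 : X ρ (y * a * y⁻¹) a = 0 := by simpa [e1, e2] using h.sum hf hy h
  refine eq_top_iff.2 fun g _ => ⟨⟨?_, ?_⟩, ?_⟩ <;> simp [mem_cm, e1, e2, e3]
  rw [← one_add_one_eq_two]; exact (Commute.one_left _).add_left (Commute.one_left _)
end Rep

section Irr
variable [Finite H] {r : ℕ} [Fact r.Prime] {n : ℕ} {ρ : H →* Module.End (kk r) (Fin (n + 1) → kk r)} (hf : Fpf ρ) (hi : Irr ρ)
include hf hi

theorem InU.scal (hy : T3 y) (h : InU y a) (h' : InU y b) (hT : TT ρ y a b = ⊤) : ∃ x x' x'' : kk r, X ρ a b = x • 1 ∧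
    X ρ (y⁻¹ * a * y) b = x' • 1 ∧ X ρ (y * a * y⁻¹) b = x'' • 1 ∧ x + x' + x'' = -2 ∧ x ^ 2 + x' ^ 2 + x'' ^ 2 = 4 ∧
    ρ b ∈ Algebra.adjoin (kk r) {ρ a, ρ y} := by
  simp only [TT, inf_eq_top_iff] at hT
  obtain ⟨x, e⟩ := hi.scalar hT.1.1
  obtain ⟨x', e'⟩ := hi.scalar hT.1.2
  obtain ⟨x'', e''⟩ := hi.scalar hT.2
  obtain ⟨d1, d2⟩ := (h.quat hf hy).decomp (h'.aa hf) (hf.two_ne h.1 h.2.1) e e' e''
  refine ⟨x, x', x'', e, e', e'', ?_, d2, ?_⟩
  · have := h.sum hf hy h'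
    rw [e, e', e''] at this
    refine smul_left_injective (kk r) (one_ne_zero (α := Module.End (kk r) (Fin (n + 1) → kk r))) ?_
    simp only [add_smul, this, neg_smul, two_smul, one_add_one_eq_two]
  · have m1 : ρ a ∈ Algebra.adjoin (kk r) {ρ a, ρ y} := Algebra.subset_adjoin (by simp)
    have m2 : ρ y ∈ Algebra.adjoin (kk r) {ρ a, ρ y} := Algebra.subset_adjoin (by simp)
    have m3 : ρ y⁻¹ ∈ Algebra.adjoin (kk r) {ρ a, ρ y} := by rw [← hy.sq, map_mul]; exact mul_mem m2 m2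
    rw [d1]; simp only [map_mul]
    exact Subalgebra.smul_mem _ (add_mem (add_mem (Subalgebra.smul_mem _ m1 _)
      (Subalgebra.smul_mem _ (mul_mem (mul_mem m3 m1) m2) _)) (Subalgebra.smul_mem _ (mul_mem (mul_mem m2 m1) m3) _)) _

theorem five_U (hy : T3 y) (h : InU y a) {S : Set H} (hS : closure S = ⊤)
    (h1 : ∀ s ∈ S, s = y ∨ (InU y s ∧ TT ρ y a s = ⊤)) :
    ∃ f : H →* Equiv.Perm (Fin 5), K5 f ∧ (Group.IsSolvable H ∨ f.range = alternatingGroup (Fin 5)) := by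
  have R := h.rel hf hy
  refine (cls3 hf (hi.dim2 hS (A := ρ a) (B := ρ y) (α := -1) (β := -1) (γ := -1) (δ := -1) (ε := 0)
    (by rw [R.yy]; module) (by rw [R.ya]; module) fun s hs => ?_) ?_).resolve_left
    fun hc => h.not_comm hy (hc.is_comm.comm _ _)
  · rcases h1 s hs with rfl | ⟨h2, h3⟩
    · exact Algebra.subset_adjoin (by simp)
    · obtain ⟨-, -, -, -, -, -, -, -, e⟩ := h.scal hf hi hy h2 h3; exact e
  · rw [eq_top_iff, ← hS, closure_le]
    intro s hs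
    rcases h1 s hs with rfl | ⟨h2, -⟩
    · exact subset_closure hy.2
    · simpa using mul_mem (subset_closure (k := {g : H | g ^ 3 = 1}) h2.2.2) (inv_mem (subset_closure hy.2))
end Irr

variable [Finite H]

theorem match_top (hH : FR H) (hy : T3 y) (h : InU y a) (h' : InU y b) (hS : closure {y, a, b} = ⊤) :
    ∃ a', (a' = a ∨ a' = y⁻¹ * a * y ∨ a' = y * a * y⁻¹) ∧ (a' = b ∨ T3 (a' * b)) := by
  obtain ⟨r, _, n, ρ, hf, hi⟩ := hH.exists_irr
  have hT : TT ρ y a b = ⊤ := by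
    rw [eq_top_iff, ← hS, closure_le]
    obtain ⟨e1, e2, e3⟩ := h.le_TT hf hy h'
    rintro _ (rfl | rfl | rfl) <;> assumption
  obtain ⟨f, k, -⟩ := five_U hf hi hy h hS (by
    rintro _ (rfl | rfl | rfl)
    exacts [Or.inl rfl, Or.inr ⟨h, h.TT_self hf hy⟩, Or.inr ⟨h', hT⟩])
  obtain ⟨f, k, e⟩ := k.norm hy.1 hy.2
  obtain ⟨x, x', x'', e1, e2, e3, s1, s2, -⟩ := h.scal hf hi hy h' hT
  have u : ∀ {a}, InU y a → f a * f a = 1 ∧ f a ≠ 1 ∧ (f a * y0) ^ 3 = 1 := fun h =>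
    ⟨by rw [← map_mul, k, h.2.1], fun e => h.1 ((k _).1 e), by rw [← e, ← map_mul, ← map_pow, h.2.2, map_one]⟩
  have := d2 _ (u h).1 (u h).2.1 (u h).2.2 _ (u h').1 (u h').2.1 (u h').2.2
  simp only [← e, ← map_inv, ← map_mul, ← map_pow, k _] at this
  by_cases n1 : a * b * (a * b) = 1
  · exact ⟨_, Or.inl rfl, Or.inl (h.eq_of hf h' hy n1)⟩
  by_cases n2 : y⁻¹ * a * y * b * (y⁻¹ * a * y * b) = 1
  · exact ⟨_, Or.inr (Or.inl rfl), Or.inl (h.c1.eq_of hf h' hy n2)⟩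
  by_cases n3 : y * a * y⁻¹ * b * (y * a * y⁻¹ * b) = 1
  · exact ⟨_, Or.inr (Or.inr rfl), Or.inl (h.c2.eq_of hf h' hy n3)⟩
  rcases this with t | t | t | ⟨t, t'⟩ | ⟨t, t'⟩ | ⟨t, t'⟩
  · exact absurd t n1
  · exact absurd t n2
  · exact absurd t n3
  · exact ⟨_, Or.inl rfl, Or.inr (h.m3 hf h' h.c1 e1 e2 s1 s2 n1 n2 t t')⟩
  · exact ⟨_, Or.inr (Or.inl rfl), Or.inr (h.c1.m3 hf h' h.c2 e2 e3 (x'' := x) (by linear_combination s1)
      (by linear_combination s2) n2 n3 t t')⟩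
  · exact ⟨_, Or.inr (Or.inr rfl), Or.inr (h.c2.m3 hf h' h e3 e1 (x'' := x') (by linear_combination s1)
      (by linear_combination s2) n3 n1 t t')⟩

theorem closure_sub {S : Set H} {T : Set (closure S)} (h : ∀ x : closure S, (x : H) ∈ S → x ∈ T) : closure T = ⊤ :=
  eq_top_iff.2 (closure_closure_coe_preimage.ge.trans (closure_mono h))

theorem InU.match (hH : FR H) (hy : T3 y) (h : InU y a) (h' : InU y b) :
    ∃ a', (a' = a ∨ a' = y⁻¹ * a * y ∨ a' = y * a * y⁻¹) ∧ (a' = b ∨ T3 (a' * b)) := by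
  let K := closure ({y, a, b} : Set H)
  have i := K.subtype_injective
  obtain ⟨a', e1, e2⟩ := match_top (hH.sub K) (y := ⟨y, subset_closure (by simp)⟩) (a := ⟨a, subset_closure (by simp)⟩)
    (b := ⟨b, subset_closure (by simp)⟩) ((T3.map i).1 (by exact hy)) ((InU.map i).1 (by exact h)) ((InU.map i).1 (by exact h'))
    (closure_sub fun x hx => by simpa [Subtype.ext_iff] using hx)
  exact ⟨a', by simpa [Subtype.ext_iff] using e1, e2.imp (congrArg Subtype.val) (T3.map i).2⟩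

theorem InU.mem_TT {k W : Type*} [Field k] [AddCommGroup W] [Module k W] [Nontrivial W] {ρ : H →* Module.End k W}
    (hH : FR H) (hf : Fpf ρ) (hy : T3 y) (h : InU y a) (h' : InU y b) (hc : InU y c) : c ∈ TT ρ y a b := by
  have orb : ∀ {a a'}, InU y a → (a' = a ∨ a' = y⁻¹ * a * y ∨ a' = y * a * y⁻¹) →
      InU y a' ∧ (∀ b, TT ρ y a' b = TT ρ y a b) ∧ ∀ K : Subgroup H, y ∈ K → (a' ∈ K ↔ a ∈ K) := fun h e => by
    rcases e with rfl | rfl | rfl
    · exact ⟨h, fun _ => rfl, fun _ _ => Iff.rfl⟩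
    · exact ⟨h.c1, fun _ => TT_c1 hy, fun K m => by
        rw [K.mul_mem_cancel_right m, K.mul_mem_cancel_left (inv_mem m)]⟩
    · exact ⟨h.c2, fun _ => TT_c2 hy, fun K m => by
        rw [K.mul_mem_cancel_right (inv_mem m), K.mul_mem_cancel_left m]⟩
  obtain ⟨a', e1, e2⟩ := h.match hH hy h'
  obtain ⟨h, e3, -⟩ := orb h e1
  rw [← e3]; clear e1 e3
  rcases e2 with rfl | m1
  · rw [h.TT_self hf hy]; trivial
  obtain ⟨t1, t2, t3⟩ := h.le_TT hf hy h'
  obtain ⟨c', e1, e2⟩ := hc.match hH hy h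
  obtain ⟨hc, -, e3⟩ := orb hc e1
  rw [← e3 _ t1]; clear e1 e3
  rcases e2 with rfl | m2
  · exact t2
  obtain ⟨b', e1, e2⟩ := h'.match hH hy hc
  obtain ⟨hb, -, e3⟩ := orb h' e1
  rcases e2 with rfl | m3
  · exact (e3 _ t1).2 t3
  have x1 := h.X_m hf h' m1
  have x2 := hc.X_m hf h m2
  have x3 := hb.X_m hf hc m3
  have s := h.sum hf hy h'
  have x4 : c' ∈ cm ρ (X ρ a' b') := cX3 x2 (X_comm.trans x3)
  have x5 : c' ∈ cm ρ (X ρ a' b) := by rw [mem_cm, x1]; exact Commute.neg_one_left _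
  have x6 : ∀ P Q : Module.End k W, -1 + P + Q = -2 → Commute P (ρ c') → Commute Q (ρ c') :=
    fun P Q e m => by
      rw [show Q = -1 - P by rw [← one_add_one_eq_two] at e; linear_combination (norm := abel1) e]
      exact (Commute.neg_one_left _).sub_left m
  rw [x1] at s
  rcases e1 with rfl | rfl | rfl
  · have w : Commute y (a' * (b' * c') * a'⁻¹) := hf.inj (by
      have := ((h.rel hf hy).cW (h'.rel hf hy) (hc.rel hf hy) x1 (X_comm.trans x2)).neg_left.eq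
      simpa only [map_mul, h.inv hf, mul_neg, neg_mul, mul_assoc] using this.symm)
    have := zpowers_le.2 t1 (hH.mem_zpowers3 hy ⟨by simpa using m3.1, by rw [conj_pow, m3.2]; simp⟩ w)
    rwa [Subgroup.mul_mem_cancel_right _ (inv_mem t2), Subgroup.mul_mem_cancel_left _ t2,
      Subgroup.mul_mem_cancel_left _ t3] at this
  · rw [← h.X_cj hf hy hb, show y * (y⁻¹ * b * y) * y⁻¹ = b by group] at x4
    exact ⟨⟨x5, x6 _ _ (by rw [← s]; abel) x4⟩, x4⟩
  · rw [show a' = y * (y⁻¹ * a' * y) * y⁻¹ by group, h.c1.X_cj hf hy h'] at x4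
    exact ⟨⟨x5, x4⟩, x6 _ _ s x4⟩

theorem cYZ {R : Type*} [Ring R] {Y Z : R} (y2 : Y * Y = -1 - Y) (z2 : Z * Z = -1 - Z) :
    Commute (Y * Z + Y + Z + Z * Y) Y ∧ Commute (Y * Z + Y + Z + Z * Y) Z := by
  constructor <;> rw [Commute, SemiconjBy]
  · linear_combination (norm := noncomm_ring) Z * y2 - y2 * Z
  · linear_combination (norm := noncomm_ring) Y * z2 - z2 * Y

theorem mem_top3 (hH : FR H) (hy : T3 y) (hz : T3 z) (hS : closure {y, z} = ⊤) :
    z ∈ closure (insert y {a | InU y a}) := by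
  set N := closure (insert y {a | InU y a})
  have my : y ∈ N := subset_closure (Or.inl rfl)
  have mu : ∀ a, InU y a → a ∈ N := fun a h => subset_closure (Or.inr h)
  by_cases hc : Commute y z
  · exact zpowers_le.2 my (hH.mem_zpowers3 hy hz hc)
  obtain ⟨r, _, n, ρ, hf, hi⟩ := hH.exists_irr
  have y2 := hf.cube hy.1 hy.2
  have z2 := hf.cube hz.1 hz.2
  obtain ⟨t, ht⟩ := hi.scalar (T := ρ y * ρ z + ρ y + ρ z + ρ z * ρ y) (by
    rw [eq_top_iff, ← hS, closure_le]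
    rintro s (e | e) <;> rw [e]
    exacts [(cYZ y2 z2).1, (cYZ y2 z2).2])
  obtain ⟨f, k, -⟩ := (cls3 hf (hi.dim2 hS (A := ρ y) (B := ρ z) (α := -1) (β := -1) (γ := t) (δ := -1) (ε := -1)
    (by rw [z2]; module) (by rw [← ht]; module) (by rintro _ (rfl | rfl) <;> exact Algebra.subset_adjoin (by simp)))
    (by rw [eq_top_iff, ← hS]; exact closure_mono (by rintro _ (rfl | rfl); exacts [hy.2, hz.2]))).resolve_left
    fun h => hc (h.is_comm.comm _ _)
  obtain ⟨f, k, e⟩ := k.norm hy.1 hy.2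
  have := d1 (f z) (by rw [← map_pow, hz.2, map_one]) fun e => hz.1 (eq_one_of_23 ((k _).1 e) hz.2)
  simp only [← e, ← map_inv, ← map_mul, ← map_pow, k _, ne_eq] at this
  have n1 : ¬ z * y⁻¹ * (z * y⁻¹) = 1 := fun h => hc (by
    have := mem_center_iff.1 (hH.central h) y
    rw [mul_assoc, inv_mul_cancel, mul_one, ← mul_assoc, mul_inv_eq_iff_eq_mul] at this; exact this)
  have n2 : ¬ z⁻¹ * y⁻¹ * (z⁻¹ * y⁻¹) = 1 := fun h => hc (by
    have := mem_center_iff.1 (hH.central h) y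
    rw [mul_assoc, inv_mul_cancel, mul_one, ← mul_assoc, mul_inv_eq_iff_eq_mul] at this
    exact Commute.inv_right_iff.1 this)
  have lift : ∀ a, a * a * (a * a) = 1 → a * a ≠ 1 → (a * y) ^ 3 * (a * y) ^ 3 = 1 → a ∈ N := fun a h1 h2 h3 => by
    by_cases h4 : (a * y) ^ 3 = 1
    · exact mu a ⟨h2, h1, h4⟩
    have c : Commute (a * a) (a * y) := (mem_center_iff.1 (hH.central h1) _).symm
    have e : a⁻¹ = a * a * a := (eq_inv_of_mul_eq_one_left (by rw [mul_assoc, h1])).symm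
    refine inv_mem_iff.1 (mu _ ⟨by rwa [← mul_inv_rev, inv_ne_one], by simp only [← mul_inv_rev, inv_eq_one, h1], ?_⟩)
    rw [e, mul_assoc, c.mul_pow, hH.invol_eq h4 h3 h2 h1, pow_three, h1, mul_one, h1]
  rcases this with t | t | t | t | ⟨t1, t2, t3, t4, t5, t6, t7⟩
  · exact absurd t n1
  · exact absurd t n2
  · simpa using mul_mem (mu _ ⟨n1, t, by simpa using hz.2⟩) my
  · simpa using mul_mem (mu _ ⟨n2, t, by simpa using hz.2⟩) my
  · have m1 := lift _ t1 t2 t3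
    have m2 := mul_mem m1 (lift _ t4 t5 t6)
    refine inv_mem_iff.1 ((N.mul_mem_cancel_right m2).1 ?_)
    by_cases h : z⁻¹ * (y * z⁻¹ * y⁻¹ * z * y * (y * z * y⁻¹ * z⁻¹ * y)) = 1
    · rw [h]; exact one_mem _
    · rw [hH.invol_eq h t7 t2 t1]; exact mul_mem m1 m1

theorem FR.mem3 (hH : FR H) (hy : T3 y) (hz : T3 z) : z ∈ closure (insert y {a | InU y a}) := by
  let K := closure ({y, z} : Set H)
  have i := K.subtype_injective
  have := mem_map_of_mem K.subtype (mem_top3 (hH.sub K) (y := ⟨y, subset_closure (by simp)⟩)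
    (z := ⟨z, subset_closure (by simp)⟩) ((T3.map i).1 (by exact hy)) ((T3.map i).1 (by exact hz))
    (closure_sub fun x hx => by simpa [Subtype.ext_iff] using hx))
  rw [MonoidHom.map_closure] at this
  refine closure_mono ?_ this
  rintro _ ⟨x, rfl | hx, rfl⟩
  exacts [Or.inl rfl, Or.inr ((InU.map i).2 hx)]

theorem FR.five (hH : FR H) (hT : closure {g : H | g ^ 3 = 1} = ⊤) : IsMulCommutative H ∨
    ∃ f : H →* Equiv.Perm (Fin 5), K5 f ∧ (Group.IsSolvable H ∨ f.range = alternatingGroup (Fin 5)) := by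
  have c : ∀ y : H, zpowers y = ⊤ → IsMulCommutative H := fun y e => ⟨⟨fun a b => congrArg Subtype.val
    ((inferInstance : IsMulCommutative (zpowers y)).is_comm.comm ⟨a, e.ge trivial⟩ ⟨b, e.ge trivial⟩)⟩⟩
  by_cases h : ∃ y : H, T3 y
  swap
  · refine Or.inl (c 1 (eq_top_iff.2 (hT.ge.trans ((closure_le _).2 fun g hg => ?_))))
    by_contra e; exact h ⟨g, fun e1 => e (by rw [e1]; exact one_mem _), hg⟩
  obtain ⟨y, hy⟩ := h
  have hS : closure (insert y {a | InU y a}) = ⊤ := eq_top_iff.2 (hT.ge.trans ((closure_le _).2 fun g hg => by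
    by_cases e : g = 1
    · rw [e]; exact one_mem _
    · exact hH.mem3 hy ⟨e, hg⟩))
  by_cases h : ∃ a, InU y a
  swap
  · refine Or.inl (c y (eq_top_iff.2 (hS.ge.trans ((closure_le _).2 ?_))))
    rintro _ (rfl | e)
    exacts [mem_zpowers _, absurd ⟨_, e⟩ h]
  obtain ⟨a, h⟩ := h
  obtain ⟨r, _, n, ρ, hf, hi⟩ := hH.exists_irr
  refine Or.inr (five_U hf hi hy h hS fun s hs => hs.imp id fun hs => ⟨hs, eq_top_iff.2 (hS.ge.trans ((closure_le _).2 ?_))⟩)
  rintro _ (rfl | e)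
  exacts [(h.le_TT hf hy hs).1, h.mem_TT hH hf hy hs e]

end Cfsg.Agent.Transfer.FC
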