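import Cfsg.Agent.Lib.Transfer.FC5
import Cfsg.Agent.S4115

set_option autoImplicit false
set_option linter.unusedSectionVars false
set_option linter.unusedVariables false
set_option linter.style.haveILetI false
set_option linter.unusedSimpArgs false

/-! π-separable groups with a TI-subgroup that is Hall in its normaliser -/
namespace Cfsg.Agent.Transfer.FC
open Subgroup MS
open scoped commutatorElement
universe u
variable {G : Type u} [Group G] [Finite G] {H K P Q R : Subgroup G} {p : ℕ}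

theorem sl25_perfect : _root_.commutator (SL2 (ZMod 5)) = ⊤ := by
  have n1 : (2 : ZMod 5) ≠ 0 := by decide
  have n2 : (2 : ZMod 5) ^ 2 ≠ 1 := by decide
  haveI : Fact (Nat.Prime 5) := ⟨Nat.prime_five⟩
  exact Matrix.SL2.commutator_eq_top n1 n2

theorem sl25_not_sol : ¬ Group.IsSolvable (SL2 (ZMod 5)) := fun h => by
  obtain ⟨-, -, -, c, -⟩ := sl25_gens
  haveI : Nontrivial (SL2 (ZMod 5)) := Finite.one_lt_card_iff_nontrivial.1 (by rw [c]; decide)
  have := Group.IsSolvable.commutator_lt_top_of_nontrivial (SL2 (ZMod 5))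
  rw [sl25_perfect] at this; exact lt_irrefl _ this

theorem FR.pg' [hp : Fact p.Prime] (hH : FR H) (h2 : p ≠ 2) (h : P ≤ H) (hP : IsPGroup p P) : IsCyclic P := by
  haveI := hH.pg (S := P.subgroupOf H) h2 (hP.of_equiv (subgroupOfEquivOfLe h).symm)
  exact isCyclic_of_surjective _ (subgroupOfEquivOfLe h).surjective

theorem zg_pg [hp : Fact p.Prime] (hH : IsZGroup H) (h : P ≤ H) (hP : IsPGroup p P) : IsCyclic P := by
  haveI := BG.isZGroup_of_le hH h
  haveI := IsPGroup.isCyclic_of_isZGroup (G := P) (P := ⊤) (hP.to_subgroup ⊤)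
  exact isCyclic_of_surjective _ (topEquiv (G := P)).surjective

/-- a perfect group acting on a `Z`-group acts trivially -/
theorem zg_cc_of_perfect (hH : IsZGroup H) (hR : ⁅R, R⁆ = R) (h : R ≤ NN H) : R ≤ CC H := by
  have e : F H ≤ CC R := F_le_of_O fun q hq _ => by
    haveI := Fact.mk hq
    exact cc_symm (hR.ge.trans (der_cc_of_cyc (zg_pg hH (O_le _ _) (O_pg H)) (nn_O h)))
  have e1 : ⁅R, H⁆ ≤ CC (F H) := by
    rw [← comm_eq_bot, eq_bot_iff]
    refine three_sub nn_normal nn_normal nn_normal ?_ ?_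
    · exact (commutator_mono (comm_le_right (nn_F (le_nn H))) le_rfl).trans (comm_eq_bot.2 e).le
    · rw [comm_eq_bot.2 e, Subgroup.commutator_bot_left]
  have e2 : ⁅⁅R, H⁆, R⁆ = ⊥ :=
    comm_eq_bot.2 ((le_inf (comm_le_right h) e1).trans ((cc_F_le inferInstance).trans e))
  rw [← comm_eq_bot, eq_bot_iff, ← hR]
  exact three_sub nn_normal nn_normal nn_normal e2.le (by rw [Subgroup.commutator_comm H, e2])

/-- coprime action on a `Z`-group -/
theorem zg_cop (hH : IsZGroup H) (h : Q ≤ NN H) (hc : (#Q).Coprime #H) : IsCyclic (⁅H, Q⁆ : Subgroup G) ∧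
    ⁅H, Q⁆ ⊔ (H ⊓ CC Q) = H ∧ (#(H ⊓ CC Q : Subgroup G)).Coprime #(⁅H, Q⁆ : Subgroup G) := by
  have hs : Group.IsSolvable H := inferInstance
  have l : ⁅H, Q⁆ ≤ H := comm_le_left h
  have e : ⁅H, Q⁆ ≤ CC ⁅H, H⁆ := (commutator_mono le_sup_left le_sup_right).trans
    (der_cc_of_cyc (zgroup_der_cyc hH) (A := H ⊔ Q) (sup_le (nn_comm (le_nn H) (le_nn H)) (nn_comm h h)))
  have c : IsCyclic (⁅H, Q⁆ : Subgroup G) := by
    haveI := BG.isZGroup_of_le hH l
    haveI : Group.IsNilpotent (⁅H, Q⁆ : Subgroup G) := (nilMod_of_der_le (N := ⁅H, H⁆ ⊓ CC ⁅H, Q⁆)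
      (le_inf (commutator_mono l l) (cc_symm (e.trans (cc_anti (commutator_mono l l)))))
      (nn_inf (l.trans (nn_comm (le_nn H) (le_nn H))) (nn_cc (le_nn _)))).nil_of_cc (cc_symm inf_le_right)
    infer_instance
  refine ⟨c, cop_comm_sup h hc hs, Nat.coprime_of_dvd fun q hq h1 h2 => ?_⟩
  haveI := Fact.mk hq
  have n : Q ≤ NN ⁅H, Q⁆ := nn_comm h (le_nn Q)
  have i := cop_ab_inf (ab_of_cyc c) n (hc.coprime_dvd_right (card_dvd_of_le l))
  rw [cop_comm_comm h hc hs] at i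
  obtain ⟨a, ha, e1⟩ := Solv.exists_subgroup_card_prime hq h1
  have e2 : #(zpowers a) = q := (Nat.card_zpowers a).trans e1
  have hB := nil_syl (p := q) (nil_of_ab (ab_of_cyc c))
  have m := cyc_line_le (zg_pg hH (sup_le (hB.le.trans l) (zpowers_le.2 ha.1)) (pg_sup_l hB.pgroup (pg_of_card e2)
    (nn_O ((zpowers_le.2 ha.1).trans (left_nn_comm H Q))))) le_sup_right e2 le_sup_left hB.pgroup (syl_ne_bot hB h2)
  have m' := hB.le (m (Subgroup.mem_zpowers a))
  rw [eq_one_of_inf i ⟨m', ha.2⟩ m', orderOf_one] at e1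
  exact hq.ne_one e1.symm

/-- the set-up -/
structure TS (H : Subgroup G) : Prop where
  ti : IsTISubset (H : Set G)
  nn : ¬ H.Normal
  hall : Hall {q | q ∣ #H} H (NN H)
  sep : FTC.Sep {q | q ∣ #H} G

theorem TS.mk' (hTI : IsTISubset (H : Set G)) (hnn : ¬ H.Normal)
    (hHall : (#H).Coprime (H.subgroupOf (NN H)).index)
    (hsep : ∃ (n : ℕ) (M : Fin (n + 1) → Subgroup G), M 0 = ⊥ ∧ M (Fin.last n) = ⊤ ∧ Monotone M ∧ (∀ i, (M i).Normal) ∧
      ∀ i : Fin n, (∀ q : ℕ, q.Prime → q ∣ (M i.castSucc).relIndex (M i.succ) → q ∣ Nat.card H) ∨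
        ((M i.castSucc).relIndex (M i.succ)).Coprime (Nat.card H)) : TS H := by
  obtain ⟨n, M, h0, h1, -, h2, h3⟩ := hsep
  exact ⟨hTI, hnn, hall_of_coprime (le_nn H) hHall, FTC.sep_of_chain M h0 h1 h2 fun i => (h3 i).imp id
    fun h q hq e1 e2 => hq.ne_one (Nat.eq_one_of_dvd_coprimes h e1 e2)⟩

theorem O_eq (H : Subgroup G) : sSup {K : Subgroup G | K.Normal ∧ (#K).Coprime #H} = O {q | q ∣ #H}ᶜ ⊤ :=
  le_antisymm (sSup_le fun K hK => by haveI := hK.1; exact le_O le_top nn_normal (pi_of_coprime hK.2))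
    (le_sSup ⟨normalizer_eq_top_iff.1 (eq_top_iff.2 (nn_O nn_top)), ((isPi_self H).coprime (O_pi _ _)).symm⟩)

namespace TS
variable (h : TS H)
include h

theorem nn_le (h1 : P ≤ H) (h0 : P ≠ ⊥) : NN P ≤ NN H := fun g hg => by_contra fun e => by
  obtain ⟨x, hx, h2⟩ := exists_ne_one h0
  exact h2 (h.ti g e x (h1 hx) (h1 ((mem_normalizer_iff.1 hg x).1 hx)))

theorem ne_bot : H ≠ ⊥ := fun e => h.nn (e ▸ inferInstance)

theorem hall_top : Hall {q | q ∣ #H} H ⊤ := hall_of_syls le_top (isPi_self H) fun q hq h1 _ => by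
  haveI := Fact.mk hq
  obtain ⟨P, hP⟩ := exists_isSyl q H
  refine ⟨P, syl_of_nn le_top ?_, hP.le⟩
  rw [top_inf_eq]
  exact (h.hall.syl_trans hP h1).mono (le_nn P) (h.nn_le hP.le (syl_ne_bot hP h1))

theorem sup : O {q | q ∣ #H}ᶜ ⊤ ⊔ NN H = ⊤ := by
  have n : (O {q | q ∣ #H}ᶜ (⊤ : Subgroup G)).Normal := normalizer_eq_top_iff.1 (eq_top_iff.2 (nn_O nn_top))
  obtain ⟨M, h1, h2, -, h3⟩ := h.sep _ ⊤ n inferInstance (lt_top_iff_ne_top.2 fun e =>
    h.ne_bot ((isPi_self H).eq_bot ((O_pi _ _).mono (le_top.trans e.ge))))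
  have np : ¬ IsPi {q | q ∣ #H}ᶜ M := fun e => h2.not_ge (le_O le_top nn_normal e)
  have h4 := h3.resolve_right fun e => np (IsPi.of_relIndex h2.le (O_pi _ _) e)
  have h5 := h.hall_top.inf_normal (K := M) le_top nn_normal
  have h6 : Hall {q | q ∣ #H}ᶜ (O {q | q ∣ #H}ᶜ ⊤) M := Hall.mk' h2.le (O_pi _ _) fun q hq e1 e2 => e1 (h4 q hq e2)
  obtain ⟨q, hq, e⟩ := Solv.exists_prime_dvd_card (h5.eq_bot_iff.not.2 np)
  haveI := Fact.mk hq
  obtain ⟨P, hP⟩ := exists_isSyl q (H ⊓ M)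
  have h7 : IsSyl q P M := h5.syl_trans hP (h5.pi q hq e)
  have h8 := frattini (M := ⊤) h7 le_top nn_normal
  refine eq_top_iff.2 (h8.ge.trans (sup_le ((h5.sup h6).ge.trans
    (sup_le ((inf_le_left.trans (le_nn H)).trans le_sup_right) le_sup_left)) ?_))
  exact (inf_le_right.trans (h.nn_le (hP.le.trans inf_le_left) (syl_ne_bot hP e))).trans le_sup_right

theorem normal : (O {q | q ∣ #H}ᶜ ⊤ ⊔ H).Normal := normalizer_eq_top_iff.1 (eq_top_iff.2 (h.sup.ge.trans
  (sup_le (le_sup_left.trans (le_nn _)) (nn_sup (nn_O nn_top) le_rfl))))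

theorem fr : FR H := by
  set O' := O {q | q ∣ #H}ᶜ (⊤ : Subgroup G)
  haveI n : O'.Normal := normalizer_eq_top_iff.1 (eq_top_iff.2 (nn_O nn_top))
  set L := O' ⊔ H
  have l : H ≤ L := le_sup_right
  have e : ∀ g : L, g ∈ NN (H.subgroupOf L) ↔ (g : G) ∈ NN H := fun g => by
    rw [← subgroupOf_normalizer_eq l]; rfl
  obtain ⟨h1, h2⟩ := S4115.result (H.subgroupOf L) (fun g hg x hx h1 => Subtype.ext (h.ti g (mt (e g).2 hg) x hx h1))
    (by
      rw [Solv.card_subgroupOf_of_le l]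
      refine (h.hall_top.mono l le_top).coprime.coprime_dvd_right ?_
      exact relIndex_dvd_index_of_le (le_nn _))
  obtain ⟨F', _, _, C, h3, ⟨f⟩⟩ := h2 (fun hn => h.nn (normalizer_eq_top_iff.1 (eq_top_iff.2 (h.sup.ge.trans
    (sup_le (fun x hx => (e ⟨x, mem_sup_left hx⟩).1 (by rw [normalizer_eq_top_iff.2 hn]; trivial)) le_rfl)))))
    (h1.2 ⟨O'.subgroupOf L, inferInstance, Solv.isComplement'_of_inf_eq_bot_of_sup_eq_top (by
      rw [subgroupOf, subgroupOf, ← comap_inf, inf_comm, (isPi_self H).inf (O_pi _ _)]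
      exact bot_subgroupOf L) (by rw [← BG.subgroupOf_sup' le_sup_left l, subgroupOf_self])⟩)
  exact FR.of_frob h3 ((subgroupOfEquivOfLe l).symm.trans f)

theorem cc_le : CC H ≤ H ⊔ O {q | q ∣ #H}ᶜ ⊤ := by
  have h1 := h.hall.normal_inf le_rfl (cc_le_nn H)
  obtain ⟨D, h2, h3⟩ := exists_compl h1 (nn_inf (cc_le_nn H) (le_nn _))
  have l : D ≤ CC H := le_sup_right.trans h2.le
  have h4 := h1.compl (nn_inf (l.trans (cc_le_nn H)) (l.trans (le_nn _))) h2 h3
  have h5 := h4.eq_O (h2.ge.trans (sup_le (inf_le_left.trans ((cc_symm l).trans (cc_le_nn D))) (le_nn D)))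
  have n : ⊤ ≤ NN (O {q | q ∣ #H}ᶜ ⊤ ⊔ D) := h.sup.ge.trans
    (sup_le (le_sup_left.trans (le_nn _)) (nn_sup (nn_O nn_top) (h5 ▸ nn_O (nn_cc le_rfl))))
  exact h2.ge.trans (sup_le_sup inf_le_left (le_sup_right.trans
    (le_O le_top n ((O_pi _ _).sup_l h4.pi (nn_O nn_top)))))

theorem sol (h1 : Group.IsSolvable (O {q | q ∣ #H}ᶜ (⊤ : Subgroup G))) (h2 : Group.IsSolvable H) :
    Group.IsSolvable G := by
  suffices e : Group.IsSolvable (NN H) by
    have := sol_sup_l h1 e (nn_O nn_top)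
    rw [h.sup] at this
    exact Group.isSolvable_of_surjective (f := (topEquiv (G := G)).toMonoidHom) topEquiv.surjective
  by_cases e : 2 ∣ #H
  · obtain ⟨D, h3, h4⟩ := exists_compl h.hall le_rfl
    have l : D ≤ NN H := le_sup_right.trans h3.le
    exact h3 ▸ sol_sup_l h2 (odd_sol (Nat.odd_iff.2 (Nat.two_dvd_ne_zero.1
      ((h.hall.compl l h3 h4).pi.not_dvd Nat.prime_two fun e1 => e1 e)))) l
  · by_contra hn
    obtain ⟨R, h3, h4, h5⟩ := exists_perfect hn
    have z : IsZGroup H := zg_of fun p hp P l hP => by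
      haveI := Fact.mk hp
      by_cases e1 : p = 2
      · subst e1
        rw [show P = ⊥ from by_contra fun e2 => e ((pg_dvd hP e2).trans (card_dvd l))]; exact cyc_bot
      · exact h.fr.pg' e1 l hP
    exact h5 (sol_mono (sol_sup_l h1 h2 (nn_O nn_top)) ((zg_cc_of_perfect z h4 h3).trans (h.cc_le.trans (sup_comm _ _).le)))

end TS
end Cfsg.Agent.Transfer.FC
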