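import Cfsg.Agent.Lib.Transfer.FC7
import Mathlib.NumberTheory.SumTwoSquares

set_option autoImplicit false
set_option linter.unusedSectionVars false
set_option linter.unusedVariables false
set_option linter.style.haveILetI false
set_option linter.unusedSimpArgs false

/-! Linear groups regular on the non-zero vectors -/
namespace Cfsg.Agent.Transfer.FC
open Subgroup MS
open scoped commutatorElement
universe u
variable {p : ℕ} [hp : Fact p.Prime] {V : Type*} [AddCommGroup V] [Module (ZMod p) V] [Finite V]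
  {G : Type u} [Group G] [Finite G] {ρ : G →* (V ≃ₗ[ZMod p] V)} {A B N Q S : Subgroup G} {W : Submodule (ZMod p) V}
  {g i j : G} {u v : V}

theorem iso_prod' (h1 : A ≤ CC B) (h2 : A ⊓ B = ⊥) (h3 : A ⊔ B = ⊤) : Nonempty (G ≃* A × B) := by
  have hc : ∀ (a : A) (b : B), Commute (A.subtype a) (B.subtype b) := fun a b => (mem_CC.1 (h1 a.2) b b.2).symm
  refine ⟨(MulEquiv.ofBijective (A.subtype.noncommCoprod B.subtype hc) ⟨
    (MonoidHom.noncommCoprod_injective _ _ hc).2 ⟨subtype_injective _, subtype_injective _, by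
      rw [range_subtype, range_subtype, disjoint_iff, h2]⟩, MonoidHom.range_eq_top.1 (by
      rw [MonoidHom.noncommCoprod_range, range_subtype, range_subtype, h3])⟩).symm⟩

/-- invariant subspaces -/
def Inv (ρ : G →* (V ≃ₗ[ZMod p] V)) (A : Subgroup G) (W : Submodule (ZMod p) V) : Prop := ∀ a ∈ A, ∀ v ∈ W, ρ a v ∈ W

theorem Inv.mono (h : Inv ρ A W) (h1 : B ≤ A) : Inv ρ B W := fun a ha => h a (h1 ha)

/-- the submodule generated by a vector -/
def Sp (ρ : G →* (V ≃ₗ[ZMod p] V)) (A : Subgroup G) (v : V) : Submodule (ZMod p) V :=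
  Submodule.span (ZMod p) {w | ∃ a ∈ A, ρ a v = w}

theorem mem_Sp : v ∈ Sp ρ A v := Submodule.subset_span ⟨1, one_mem _, by simp⟩

theorem Inv.sp_le (h : Inv ρ A W) (hv : v ∈ W) : Sp ρ A v ≤ W :=
  Submodule.span_le.2 (by rintro _ ⟨a, ha, rfl⟩; exact h a ha v hv)

theorem map_Sp_le [hA : A.Normal] (g : G) (v : V) : (Sp ρ A v).map (ρ g : V →ₗ[ZMod p] V) ≤ Sp ρ A (ρ g v) := by
  rw [Sp, Submodule.map_span]
  refine Submodule.span_mono ?_
  rintro _ ⟨_, ⟨a, ha, rfl⟩, rfl⟩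
  exact ⟨_, hA.conj_mem a ha g, by simp⟩

theorem inv_Sp : Inv ρ A (Sp ρ A v) := fun a ha w hw => by
  have : (Sp ρ A v).map (ρ a : V →ₗ[ZMod p] V) ≤ Sp ρ A v := by
    rw [Sp, Submodule.map_span]
    refine Submodule.span_mono ?_
    rintro _ ⟨_, ⟨b, hb, rfl⟩, rfl⟩
    exact ⟨_, mul_mem ha hb, by simp⟩
  exact this ⟨w, hw, rfl⟩

theorem card_pow (W : Submodule (ZMod p) V) : #W = p ^ Module.finrank (ZMod p) W := by
  rw [Module.natCard_eq_pow_finrank (K := ZMod p), Nat.card_zmod]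

theorem one_lt_card (h : W ≠ ⊥) : 1 < #W := Finite.one_lt_card_iff_nontrivial.2 (Submodule.nontrivial_iff_ne_bot.2 h)

/-- regular on the non-zero vectors -/
structure RG (ρ : G →* (V ≃ₗ[ZMod p] V)) : Prop where
  nt : Nontrivial V
  trans : ∀ v w : V, v ≠ 0 → w ≠ 0 → ∃ g, ρ g v = w
  reg : ∀ v : V, v ≠ 0 → ∀ g, ρ g v = v → g = 1

theorem RG.of_sub {H : Subgroup (V ≃ₗ[ZMod p] V)} [Nontrivial V]
    (h : ∀ v w : V, v ≠ 0 → w ≠ 0 → ∃! h : H, (h : V ≃ₗ[ZMod p] V) v = w) : RG H.subtype :=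
  ⟨inferInstance, fun v w h1 h2 => (h v w h1 h2).exists, fun v h1 g e => (h v v h1 h1).unique e rfl⟩

namespace RG
variable (h : RG ρ)
include h

theorem eq (hv : v ≠ 0) {a b : G} (e : ρ a v = ρ b v) : a = b :=
  (inv_mul_eq_one.1 (h.reg v hv (b⁻¹ * a) (by simp [e]))).symm

theorem card : #G + 1 = #V := by
  haveI := h.nt
  obtain ⟨v, hv⟩ := exists_ne (0 : V)
  rw [Nat.card_eq_of_bijective (fun g => (⟨ρ g v, by simpa using hv⟩ : {w : V // w ≠ 0}))
    ⟨fun a b e => h.eq hv (congrArg Subtype.val e), fun w => (h.trans v w hv w.2).imp fun g e => Subtype.ext e⟩]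
  classical
  rw [← Nat.card_congr (Equiv.optionSubtypeNe (0 : V)), Finite.card_option]

theorem fr : FR G := by
  haveI := h.nt
  exact FR.of_action (B := Multiplicative V) inferInstance
    (MonoidHom.mk' (fun g => AddEquiv.toMultiplicative (ρ g).toAddEquiv) fun a b => by ext; simp)
    fun g hg b e => by_contra fun e1 => hg (h.reg _ e1 g e)

theorem dvd (h1 : Inv ρ A W) : #A ∣ #W - 1 := by
  letI : MulAction A V := MulAction.compHom V (ρ.comp A.subtype)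
  have := Perm.card_dvd_ncard_of_semiregular (G := A) (S := (W : Set V) \ {0}) (Set.toFinite _)
    (fun a x hx => ⟨h1 a a.2 x hx.1, fun e => hx.2 ((ρ a).map_eq_zero_iff.1 e)⟩)
    fun x hx a e => Subtype.ext (h.reg x hx.2 a e)
  rwa [Set.ncard_diff_singleton_of_mem W.zero_mem] at this

theorem card_Sp [A.Normal] (hu : u ≠ 0) (hv : v ≠ 0) : #(Sp ρ A u) ≤ #(Sp ρ A v) := by
  obtain ⟨g, rfl⟩ := h.trans u v hu hv
  exact Nat.card_le_card_of_injective (fun x => (⟨ρ g x, map_Sp_le g u ⟨x, x.2, rfl⟩⟩ : Sp ρ A (ρ g u)))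
    fun x y e => Subtype.ext ((ρ g).injective (congrArg Subtype.val e))

theorem Sp_eq [A.Normal] (hu : u ≠ 0) (hv : v ≠ 0) (h1 : u ∈ Sp ρ A v) : Sp ρ A u = Sp ρ A v :=
  SetLike.ext' (Set.eq_of_subset_of_ncard_le (inv_Sp.sp_le h1) (h.card_Sp hv hu))

theorem sq_le [A.Normal] (h1 : Inv ρ A W) (h2 : W ≠ ⊥) (h3 : W ≠ ⊤) : ∃ w, 1 < w ∧ w * w ≤ #V ∧ #A ∣ w - 1 := by
  obtain ⟨v, hv, h4⟩ := (Submodule.ne_bot_iff W).1 h2
  obtain ⟨u, -, hu⟩ := SetLike.exists_of_lt h3.lt_top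
  have h5 : u ≠ 0 := fun e => hu (e ▸ W.zero_mem)
  refine ⟨_, one_lt_card ((Submodule.ne_bot_iff _).2 ⟨v, mem_Sp, h4⟩), (Nat.mul_le_mul_left _ (h.card_Sp h4 h5)).trans ?_,
    h.dvd inv_Sp⟩
  rw [← Nat.card_prod]
  refine Nat.card_le_card_of_injective (((Sp ρ A v).subtype.coprod (Sp ρ A u).subtype)) ?_
  rw [← LinearMap.ker_eq_bot, LinearMap.ker_coprod_of_disjoint_range, Submodule.ker_subtype, Submodule.ker_subtype,
    Submodule.prod_bot]
  rw [Submodule.range_subtype, Submodule.range_subtype, Submodule.disjoint_def]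
  intro x a1 a2
  by_contra e
  exact hu (h1.sp_le hv (h.Sp_eq e h4 a1 ▸ (h.Sp_eq e h5 a2).symm ▸ mem_Sp))

theorem not_cc_le [A.Normal] (hc : IsCyclic A) (h1 : Inv ρ A W) (h2 : W ≠ ⊥) (h3 : W ≠ ⊤) : ¬ CC A ≤ A := fun e => by
  obtain ⟨w, h4, h5, h6⟩ := h.sq_le h1 h2 h3
  have h7 := Nat.le_of_dvd (by omega) h6
  have h8 : A.index ≤ #A := by
    refine (Nat.le_of_dvd (Nat.pos_of_ne_zero index_ne_zero_of_finite) (index_dvd_of_le e)).trans ?_
    have := card_dvd_of_injective _ (QuotientGroup.kerLift_injective A.normalizerMonoidHom)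
    rw [normalizerMonoidHom_ker, IsCyclic.card_mulAut] at this
    change (CC A).relIndex (NN A) ∣ _ at this
    rw [normalizer_eq_top, relIndex_top_right] at this
    exact (Nat.le_of_dvd (Nat.totient_pos.2 Nat.card_pos) this).trans (Nat.totient_le _)
  have := h.card
  rw [← A.card_mul_index] at this
  obtain ⟨w, rfl⟩ := Nat.exists_eq_add_of_le' h4.le
  simp only [Nat.add_sub_cancel] at h7
  nlinarith

theorem line_ab (h1 : Inv ρ A W) (h2 : (#W).Prime) : IsMulCommutative A := by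
  have e : Module.finrank (ZMod p) W = 1 := by
    rw [card_pow] at h2; exact Nat.Prime.eq_one_of_pow h2
  obtain ⟨v, hv, h3⟩ := finrank_eq_one_iff'.1 e
  have hv' : (v : V) ≠ 0 := by simpa using hv
  refine ⟨⟨fun a b => Subtype.ext ?_⟩⟩
  refine h.eq (a := (a : G) * b) (b := (b : G) * a) hv' ?_
  obtain ⟨c, hc⟩ := h3 ⟨_, h1 a a.2 v v.2⟩
  obtain ⟨d, hd⟩ := h3 ⟨_, h1 b b.2 v v.2⟩
  have hc : ρ a v = c • (v : V) := (congrArg Subtype.val hc).symm
  have hd : ρ b v = d • (v : V) := (congrArg Subtype.val hd).symm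
  simp [hc, hd, smul_smul, mul_comm]

theorem neg (h1 : g ≠ 1) (h2 : g * g = 1) (v : V) : ρ g v = -v := by
  by_contra e
  refine h1 (h.reg (ρ g v + v) (fun e1 => e (eq_neg_of_add_eq_zero_left e1)) g ?_)
  rw [map_add, ← LinearEquiv.mul_apply, ← map_mul, h2, add_comm]; simp

theorem quat (h1 : orderOf i = 4) (h2 : j * j = i * i) (h3 : j * i * j⁻¹ = i⁻¹) :
    ∃ W : Submodule (ZMod p) V, #V = #W * #W ∧ Odd #W ∧ Inv ρ (C1 i ⊓ C1 j) W := by
  have z1 : i * i ≠ 1 := fun e => absurd (h1 ▸ orderOf_le_of_pow_eq_one two_pos (by rwa [pow_two])) (by decide)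
  have z2 : i * i * (i * i) = 1 := by rw [← pow_orderOf_eq_one i, h1]; simp [pow_succ, mul_assoc]
  have hI : ∀ v, ρ i (ρ i v) = -v := fun v => by rw [← h.neg z1 z2, map_mul]; rfl
  have hJ : ∀ v, ρ j (ρ j v) = -v := fun v => by rw [← h.neg z1 z2, ← h2, map_mul]; rfl
  have hK : ∀ v, ρ j (ρ i v) = -ρ i (ρ j v) := fun v => by
    apply (ρ i).injective
    rw [mul_inv_eq_iff_eq_mul, eq_inv_mul_iff_mul_eq, ← mul_assoc] at h3
    rw [map_neg, hI, neg_neg, ← LinearEquiv.mul_apply, ← LinearEquiv.mul_apply, ← map_mul, ← map_mul, h3]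
  have p2 : (2 : ZMod p) ≠ 0 := fun e => by
    haveI := h.nt
    obtain ⟨v, hv⟩ := exists_ne (0 : V)
    refine z1 (h.reg v hv _ ?_)
    rw [h.neg z1 z2, neg_eq_iff_add_eq_zero, ← two_smul (ZMod p), e, zero_smul]
  obtain ⟨a, b, hab⟩ := ZMod.sq_add_sq p (-1)
  let e : V →ₗ[ZMod p] V := a • (ρ i : V →ₗ[ZMod p] V) + b • (ρ j : V →ₗ[ZMod p] V)
  have he : ∀ v, e v = a • ρ i v + b • ρ j v := fun _ => rfl
  have e1 : ∀ v, e (e v) = v := fun v => by
    simp only [he, map_add, map_smul, hI, hJ, hK]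
    linear_combination (norm := module) (-hab) • v
  have e2 : ∀ v, e (ρ i (ρ j v)) = -ρ i (ρ j (e v)) := fun v => by
    simp only [he, map_add, map_smul, hI, hJ, hK, map_neg]
    module
  let W := LinearMap.eqLocus e LinearMap.id
  have hW : ∀ v, v ∈ W ↔ e v = v := fun _ => Iff.rfl
  refine ⟨W, ?_, ?_, fun g hg v hv => ?_⟩
  · rw [← Nat.card_prod]
    refine (Nat.card_eq_of_bijective (fun x : W × W => x.1.1 + ρ i (ρ j x.2.1)) ⟨fun x y e3 => ?_, fun v => ?_⟩).symm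
    · have e4 := congrArg e e3
      simp only [map_add, e2, (hW _).1 x.1.2, (hW _).1 x.2.2, (hW _).1 y.1.2, (hW _).1 y.2.2] at e4 e3
      have e5 : x.1.1 = y.1.1 := smul_right_injective V p2 (by linear_combination (norm := module) e3 + e4)
      rw [e5, add_right_inj] at e3
      exact Prod.ext (Subtype.ext e5) (Subtype.ext ((ρ j).injective ((ρ i).injective e3)))
    · refine ⟨(⟨(2 : ZMod p)⁻¹ • (v + e v), ?_⟩, ⟨(2 : ZMod p)⁻¹ • ρ i (ρ j (e v - v)), ?_⟩), ?_⟩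
      · rw [hW, map_smul, map_add, e1, add_comm]
      · rw [hW, map_smul, e2, map_sub e, e1, ← map_neg, ← map_neg, neg_sub]
      · simp only [map_smul, hK, map_neg, hI, hJ]
        rw [← smul_add, inv_smul_eq_iff₀ p2]; module
  · rw [card_pow]
    refine Odd.pow (hp.out.odd_of_ne_two ?_)
    rintro rfl; exact p2 rfl
  · have c : ∀ x, g ∈ C1 x → ∀ v, ρ x (ρ g v) = ρ g (ρ x v) := fun x hx v => by
      rw [← LinearEquiv.mul_apply, ← map_mul, ← mem_C1.1 hx, map_mul]; rfl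
    rw [hW, he, c i hg.1, c j hg.2, ← map_smul (ρ g), ← map_smul (ρ g), ← map_add, ← he, (hW _).1 hv]

theorem count (h1 : #V = #W * #W) (h2 : Inv ρ A W) : ∃ c, #W = #A * c + 1 ∧ (#W + 1) * c = A.index := by
  obtain ⟨c, hc⟩ := h.dvd h2
  have := h.card
  have h3 := Nat.card_pos (α := W)
  rw [← A.card_mul_index, h1] at this
  refine ⟨c, by omega, Nat.eq_of_mul_eq_mul_left (Nat.card_pos (α := A)) ?_⟩
  obtain ⟨w, hw⟩ := Nat.exists_eq_add_of_le' h3
  rw [hw] at this hc ⊢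
  rw [Nat.add_sub_cancel] at hc
  rw [mul_left_comm, ← hc]; linarith

open QuaternionGroup in
theorem q8 (h8 : IsQ8 Q) : ∃ W : Submodule (ZMod p) V, #V = #W * #W ∧ Odd #W ∧ Inv ρ (CC Q) W := by
  obtain ⟨e⟩ := h8
  let f := Q.subtype.comp e.symm.toMonoidHom
  have fi : Function.Injective f := Q.subtype_injective.comp e.symm.injective
  obtain ⟨W, h1, h2, h3⟩ := h.quat (i := f (a 1)) (j := f (xa 0)) (by rw [orderOf_injective f fi, orderOf_a_one])
    (by rw [← map_mul, ← map_mul]; congr 1) (by rw [← map_inv, ← map_inv, ← map_mul, ← map_mul]; congr 1)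
  exact ⟨W, h1, h2, h3.mono (le_inf (cc_le_C1 (e.symm _).2) (cc_le_C1 (e.symm _).2))⟩

theorem q8' [Q.Normal] (h8 : IsQ8 Q) (hI : ∀ A : Subgroup G, A.Normal → IsCyclic A →
    ∃ W : Submodule (ZMod p) V, W ≠ ⊥ ∧ W ≠ ⊤ ∧ Inv ρ A W) :
    ∃ W : Submodule (ZMod p) V, #V = #W * #W ∧ Inv ρ (CC Q) W ∧ (#W = 5 ∨ #W = 7 ∨ #W = 11 ∨ #W = 23) := by
  obtain ⟨W, h1, h2, h3⟩ := h.q8 h8
  obtain ⟨c, h4, h5⟩ := h.count h1 h3
  have h6 := h8.relIndex_dvd
  rw [normalizer_eq_top, relIndex_top_right, ← h5] at h6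
  have h7 := (Dvd.intro _ rfl).trans h6
  have h9 := Nat.le_of_dvd (by decide) h7
  have a1 := h.card
  have a2 := h8.card ▸ card_le_card_group Q
  refine ⟨W, h1, h3, ?_⟩
  have a3 : #W ≠ 3 := fun e => by
    obtain rfl := eq_top_of_card_eq Q (by rw [h8.card]; rw [e] at h1; omega)
    obtain ⟨x, hx, a3⟩ := h8.exists_four
    obtain ⟨U, b1, b2, b3⟩ := hI _ (normalizer_eq_top_iff.1 (eq_top_iff.2 (h8.ix2 hx a3).nn)) (cyc_zpowers x)
    haveI := normalizer_eq_top_iff.1 (eq_top_iff.2 (h8.ix2 hx a3).nn)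
    obtain ⟨w, b4, b5, b6⟩ := h.sq_le b3 b1 b2
    rw [Nat.card_zpowers, h8.ord4 hx a3] at b6
    have := Nat.le_of_dvd (by omega) b6
    have : 5 ≤ w := by omega
    rw [h1, e] at b5
    nlinarith
  rw [h1] at a1
  generalize #W = w at *
  obtain ⟨k, rfl⟩ := h2
  have : k ≤ 11 := by omega
  interval_cases k <;> omega

theorem ns {φ : G →* Equiv.Perm (Fin 5)} (hS : NS S φ) : ∃ W : Submodule (ZMod p) V, #V = #W * #W ∧ Inv ρ (CC S) W ∧
    S ⊔ O {2}ᶜ (CC S) = ⊤ ∧ (#W = 11 ∧ #(O {2}ᶜ (CC S)) = 1 ∨ #W = 29 ∧ #(O {2}ᶜ (CC S)) = 7 ∨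
      #W = 59 ∧ #(O {2}ᶜ (CC S)) = 29) := by
  obtain ⟨e⟩ := hS.iso
  let f := S.subtype.comp e.symm.toMonoidHom
  have fi : Function.Injective f := S.subtype_injective.comp e.symm.injective
  obtain ⟨a, b, a1, a2, a3, a4⟩ : ∃ a b : SL2 (ZMod 5), ¬ a ^ 2 ^ 1 = 1 ∧ a ^ 2 ^ (1 + 1) = 1 ∧ b * b = a * a ∧
      b * a * b⁻¹ = a⁻¹ := ⟨⟨!![0, -1; 1, 0], by decide⟩, ⟨!![2, 0; 0, 3], by decide⟩, by decide⟩
  obtain ⟨W, h1, ⟨k, hk⟩, h3⟩ := h.quat (i := f a) (j := f b) (by rw [orderOf_injective f fi, orderOf_eq_prime_pow a1 a2]; rfl)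
    (by rw [← map_mul, ← map_mul, a3]) (by rw [← map_inv, ← map_inv, ← map_mul, ← map_mul, a4])
  have h3 := h3.mono (le_inf (cc_le_C1 (e.symm _).2) (cc_le_C1 (e.symm _).2))
  have h4 := h.dvd (h3.mono (O_le {2}ᶜ _))
  haveI := hS.normal
  have h5 := card_sup_mul_card_inf (H := O {2}ᶜ (CC S)) (N := S) nn_normal
  rw [inf_comm, hS.inf, card_bot, sup_comm, ← hS.comap, hS.card, mul_one] at h5
  have h6 := ((alternatingGroup (Fin 5)).comap φ).card_mul_index
  have h7 := h.card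
  have h8 := hS.coprime
  rw [hk, Nat.add_sub_cancel] at h4
  obtain ⟨c, rfl⟩ := (h8.coprime_dvd_right (by decide : 2 ∣ 30)).dvd_of_dvd_mul_left h4
  have h9 : #W ≠ 119 := fun e => by
    rw [card_pow] at e
    have e1 := (Nat.prime_dvd_prime_iff_eq (by decide) hp.out).1 ((by decide : Nat.Prime 7).dvd_of_dvd_pow ((by decide : 7 ∣ 119).trans e.symm.dvd))
    have e2 := (Nat.prime_dvd_prime_iff_eq (by decide) hp.out).1 ((by decide : Nat.Prime 17).dvd_of_dvd_pow ((by decide : 17 ∣ 119).trans e.symm.dvd))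
    omega
  rw [← hS.comap, ← index_eq_one]
  refine ⟨W, h1, h3, ?_⟩
  have i := hS.index
  rw [h1, ← h6, h5, hk] at h7
  rw [hk] at h9 ⊢
  have m0 := Nat.card_pos (α := O {2}ᶜ (CC S))
  generalize #(O {2}ᶜ (CC S)) = m at *
  generalize ((alternatingGroup (Fin 5)).comap φ).index = d at *
  have e1 : c * (m * c + 1) = 30 * d := Nat.eq_of_mul_eq_mul_left m0 (by linarith)
  have e2 : c < 8 := by rcases i with rfl | rfl <;> nlinarith
  have e3 : m ≠ 3 := by rintro rfl; exact absurd h8 (by decide)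
  rcases i with rfl | rfl <;> interval_cases c <;> omega

end RG
end Cfsg.Agent.Transfer.FC
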