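import Cfsg.Agent.Lib.Transfer.Quad
import Cfsg.Agent.Lib.Transfer.Thom

/-!
Thompson factorization.
-/

set_option autoImplicit false
set_option linter.unusedSectionVars false
set_option linter.style.haveILetI false

namespace Cfsg.Agent.Transfer

open Subgroup
open scoped commutatorElement

variable {G : Type*} [Group G] {p : ℕ}

/-- `Ω₁(Z(S))` -/
abbrev OZ (p : ℕ) (S : Subgroup G) : Subgroup G := omegaOne p (S ⊓ centralizer (S : Set G))

/-- the subgroup generated by the `Ω₁(Z(S))`, `S` Sylow -/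
abbrev ZV (p : ℕ) (G : Type*) [Group G] : Subgroup G := ⨆ S : Sylow p G, OZ p (S : Subgroup G)

theorem cj_OZ (g : G) (S : Subgroup G) : cj g (OZ p S) = OZ p (cj g S) := by
  rw [cj_omegaOne, cj_inf_centralizer]

theorem map_OZ {G' : Type*} [Group G'] {f : G →* G'} {S : Subgroup G} (hf : S ⊓ f.ker = ⊥) :
    (OZ p S).map f = OZ p (S.map f) := by
  rw [map_omegaOne (le_bot_iff.1 (hf ▸ inf_le_inf_right _ inf_le_left)),
    map_inf_centralizer hf le_rfl le_rfl]

theorem OZ_le (S : Subgroup G) : OZ p S ≤ S := (omegaOne_le _).trans inf_le_left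

theorem OZ_le_centralizer (S : Subgroup G) : OZ p S ≤ centralizer (S : Set G) :=
  (omegaOne_le _).trans inf_le_right

theorem elem_OZ (S : Subgroup G) : IsElementaryAbelian p (OZ p S) :=
  elem_omegaOne (comm_inf_centralizer S)

theorem mem_OZ {S : Subgroup G} {x : G} :
    x ∈ OZ p S ↔ x ∈ S ∧ (∀ y ∈ S, x * y = y * x) ∧ x ^ p = 1 := by
  rw [mem_omegaOne_iff (comm_inf_centralizer S), mem_inf, and_assoc]
  exact and_congr_right fun _ => and_congr_left fun _ =>
    ⟨fun h y hy => (h y hy).symm, fun h y hy => (h y hy).symm⟩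

theorem OZ_le_ZV (S : Sylow p G) : OZ p (S : Subgroup G) ≤ ZV p G :=
  le_iSup (fun S : Sylow p G => OZ p (S : Subgroup G)) S

theorem cj_iSup {ι : Sort*} (g : G) (H : ι → Subgroup G) : cj g (⨆ i, H i) = ⨆ i, cj g (H i) :=
  Subgroup.map_iSup _ _

theorem normal_of_cj_le {H : Subgroup G} (h : ∀ g, cj g H ≤ H) : H.Normal :=
  ⟨fun _ hx g => h g (conj_mem_cj hx)⟩

theorem normal_of_top_le {H : Subgroup G} (h : ∀ g, g ∈ normalizer (H : Set G)) : H.Normal :=
  normalizer_eq_top_iff.1 (eq_top_iff.2 fun g _ => h g)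

instance instNormalZV : (ZV p G).Normal := normal_of_cj_le fun g => by
  rw [cj_iSup]
  exact iSup_le fun S => by rw [cj_OZ, cj_sylow]; exact OZ_le_ZV _

variable [hp : Fact p.Prime] [Finite G]

theorem ZV_le_of_forall_cj (S : Sylow p G) {K : Subgroup G} (h : ∀ g, cj g (OZ p (S : Subgroup G)) ≤ K) :
    ZV p G ≤ K := iSup_le fun T => by
  obtain ⟨g, hg⟩ := exists_cj_sylow_eq S T
  rw [← hg, ← cj_OZ]; exact h g

theorem ZV_le_center (hc : centralizer (pCore p G : Set G) ≤ pCore p G) :
    ZV p G ≤ OZ p (pCore p G) := iSup_le fun S => by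
  have : (S : Subgroup G) ⊓ centralizer ((S : Subgroup G) : Set G) ≤ centralizer (pCore p G : Set G) :=
    inf_le_right.trans (centralizer_le (Solv.pCore_le_sylow S))
  exact omegaOne_mono (le_inf (this.trans hc) this)

theorem elem_ZV (hc : centralizer (pCore p G : Set G) ≤ pCore p G) : IsElementaryAbelian p (ZV p G) :=
  elem_mono (elem_OZ _) (ZV_le_center hc)

theorem le_centralizer_ZV {D : Subgroup G} [D.Normal] (h : res p D ≤ centralizer (ZV p G : Set G)) :
    D ≤ centralizer (ZV p G : Set G) := by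
  rw [le_centralizer_iff]
  refine iSup_le fun S => le_centralizer_iff.1 ?_
  exact (isSyl_top S).le_of_res_le le_top le_normalizer_of_normal
    (h.trans (centralizer_le (OZ_le_ZV S))) (inf_le_left.trans (le_centralizer_iff.1 (OZ_le_centralizer _)))

theorem mem_centralizer_ZV_of_mk {a : G} (h : (QuotientGroup.mk a : G ⧸ centralizer (ZV p G : Set G)) ∈
    pCore p (G ⧸ centralizer (ZV p G : Set G))) : a ∈ centralizer (ZV p G : Set G) :=
  le_centralizer_ZV (mk_mem_pCore_iff.1 h) (subset_normalClosure rfl)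

theorem J_le_centralizer_ZV (hc : centralizer (pCore p G : Set G) ≤ pCore p G)
    (hst : IsPStableOn p (ZV p G)) : thompsonSubgroup p G ≤ centralizer (ZV p G : Set G) := by
  by_contra h
  rw [← J_top] at h
  obtain ⟨A, -, h1, h2⟩ := exists_quad_of_not_J_le (elem_ZV hc) le_top le_normalizer_of_normal h
  exact h2 fun a ha => mem_centralizer_ZV_of_mk (hst a (quad_mono le_rfl (zpowers_le.2 ha) h1))

theorem factor_of_J_le (h : thompsonSubgroup p G ≤ centralizer (ZV p G : Set G)) (S : Sylow p G)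
    (g : G) : ∃ c ∈ centralizer (ZV p G : Set G),
      ∃ n ∈ normalizer (thompsonSubgroupOf p (S : Subgroup G) : Set G), g = c * n :=
  (isSyl_top S).frattini_J le_top le_normalizer_of_normal
    (((isSyl_top S).J_le.trans J_top.le).trans h) (mem_top g)

theorem factorizable_of_J_le (h : thompsonSubgroup p G ≤ centralizer (ZV p G : Set G)) :
    IsThompsonFactorizable p G := fun S g => by
  obtain ⟨c, hc, n, hn, h⟩ := factor_of_J_le h S g
  exact ⟨1, one_mem _, c, centralizer_le (OZ_le_ZV S) hc, n, hn, by rwa [one_mul]⟩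

theorem J_le_of_factorizable (hO : pPrimeCore p G = ⊥) (h : IsThompsonFactorizable p G) :
    thompsonSubgroup p G ≤ centralizer (ZV p G : Set G) := by
  rw [thompsonSubgroup_eq_iSup]
  refine iSup_le fun S => le_centralizer_iff.1 (ZV_le_of_forall_cj S fun g => ?_)
  obtain ⟨x, hx, c, hc, n, hn, h1⟩ := h S g⁻¹
  rw [hO, mem_bot] at hx
  rw [hx, one_mul] at h1
  rw [show g = n⁻¹ * c⁻¹ by rw [← mul_inv_rev, ← h1, inv_inv], ← cj_cj,
    cj_eq_of_mem_normalizer (centralizer_le_normalizer _ (inv_mem hc)),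
    ← cj_eq_of_mem_normalizer (mem_normalizer_centralizer (inv_mem hn))]
  exact cj_mono _ ((OZ_le_centralizer _).trans (centralizer_le (J_le _)))

theorem map_mk_normalizer {N A : Subgroup G} [N.Normal] (hN : (Nat.card N).Coprime p)
    (hA : IsPGroup p A) : (normalizer (A : Set G)).map (QuotientGroup.mk' N) =
      normalizer ((A.map (QuotientGroup.mk' N) : Subgroup (G ⧸ N)) : Set (G ⧸ N)) := by
  obtain ⟨k, hk⟩ := hA.exists_card_eq
  haveI := hA.isNilpotent
  exact Solv.coprime_map_mk_normalizer (by rw [hk]; exact hN.symm.pow_left k) (Or.inl inferInstance)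

theorem map_mk_centralizer {N A : Subgroup G} [N.Normal] (hN : (Nat.card N).Coprime p)
    (hA : IsPGroup p A) : (centralizer (A : Set G)).map (QuotientGroup.mk' N) =
      centralizer ((A.map (QuotientGroup.mk' N) : Subgroup (G ⧸ N)) : Set (G ⧸ N)) := by
  obtain ⟨k, hk⟩ := hA.exists_card_eq
  haveI := hA.isNilpotent
  exact Solv.coprime_map_mk_centralizer (by rw [hk]; exact hN.symm.pow_left k) (Or.inl inferInstance)

theorem exists_sylow_map_eq {G' : Type*} [Group G'] {f : G →* G'} (hf : Function.Surjective f)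
    (T : Sylow p G') : ∃ S : Sylow p G, (S : Subgroup G).map f = T := by
  obtain ⟨S, hS⟩ := Sylow.mapSurjective_surjective hf p T
  exact ⟨S, by rw [← hS]; rfl⟩

theorem factorizable_iff_quotient :
    IsThompsonFactorizable p G ↔ IsThompsonFactorizable p (G ⧸ pPrimeCore p G) := by
  have hN := Solv.coprime_card_pPrimeCore (G := G) p
  have hf := QuotientGroup.mk'_surjective (pPrimeCore p G)
  have h1 : ∀ S : Sylow p G, (centralizer (OZ p (S : Subgroup G) : Set G)).map (QuotientGroup.mk' _) =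
      centralizer (OZ p ((S : Subgroup G).map (QuotientGroup.mk' (pPrimeCore p G))) :
        Set (G ⧸ pPrimeCore p G)) := fun S => by
    rw [map_mk_centralizer hN (S.isPGroup'.to_le (OZ_le _)), map_OZ (inf_ker_mk_eq_bot hN S.isPGroup')]
  have h2 : ∀ S : Sylow p G, (normalizer (thompsonSubgroupOf p (S : Subgroup G) : Set G)).map
      (QuotientGroup.mk' _) = normalizer (thompsonSubgroupOf p ((S : Subgroup G).map
        (QuotientGroup.mk' (pPrimeCore p G))) : Set (G ⧸ pPrimeCore p G)) := fun S => by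
    rw [map_mk_normalizer hN (S.isPGroup'.to_le (J_le _)), map_J (inf_ker_mk_eq_bot hN S.isPGroup')]
  constructor
  · intro h T g
    obtain ⟨S, hS⟩ := exists_sylow_map_eq hf T
    obtain ⟨g, rfl⟩ := hf g
    obtain ⟨x, hx, c, hc, n, hn, rfl⟩ := h S g
    rw [← hS]
    refine ⟨1, one_mem _, _, h1 S ▸ mem_map_of_mem _ hc, _, h2 S ▸ mem_map_of_mem _ hn, ?_⟩
    rw [map_mul, map_mul, show QuotientGroup.mk' _ x = 1 from (QuotientGroup.eq_one_iff x).2 hx]
  · intro h S g
    obtain ⟨x, hx, c, hc, n, hn, he⟩ := h (S.mapSurjective hf) (QuotientGroup.mk' _ g)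
    rw [Solv.pPrimeCore_quotient_pPrimeCore, mem_bot] at hx
    obtain ⟨c, hc', rfl⟩ := (h1 S).ge hc
    obtain ⟨n, hn', rfl⟩ := (h2 S).ge hn
    refine ⟨g * (c * n)⁻¹, ?_, c, hc', n, hn', by group⟩
    rw [← QuotientGroup.eq_one_iff]
    change QuotientGroup.mk' _ _ = 1
    rw [map_mul, he, hx, one_mul, map_inv, map_mul, mul_inv_cancel]

end Cfsg.Agent.Transfer
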