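import Cfsg.Agent.Lib.Transfer.Col
import Cfsg.Agent.Lib.Char.BrauerApp
import Cfsg.Agent.Lib.Char.Galois

/-!
The principal 2-block of a group with quaternion Sylow 2-subgroups of order 8.
-/

set_option linter.unusedSectionVars false
set_option linter.unusedVariables false
set_option linter.style.haveILetI false
set_option linter.unusedSimpArgs false

namespace Cfsg.Agent.Transfer

open Subgroup Cfsg.Agent.Blk Cfsg.Agent.Char
open scoped ComplexConjugate

section Comb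
variable {ι : Type*} {s : Finset ι} {a : ι → ℤ} {o : ι}

theorem sq_eq_of_sum_sq_le (ho : o ∈ s) (hao : a o = 1) (h : ∑ i ∈ s, a i ^ 2 ≤ 4) {i : ι}
    (hi : i ∈ s) : a i = 0 ∨ a i = 1 ∨ a i = -1 := by
  classical
  by_cases hio : i = o
  · exact .inr (.inl (hio ▸ hao))
  have h1 : ∑ j ∈ {i, o}, a j ^ 2 ≤ ∑ i ∈ s, a i ^ 2 :=
    Finset.sum_le_sum_of_subset_of_nonneg (by simp [Finset.insert_subset_iff, hi, ho])
      fun _ _ _ => sq_nonneg _
  rw [Finset.sum_pair hio, hao] at h1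
  have h2 : a i < 2 := by nlinarith
  have h3 : -2 < a i := by nlinarith
  omega

theorem card_supp_eq [DecidableEq ι] (h : ∀ i ∈ s, a i = 0 ∨ a i = 1 ∨ a i = -1) :
    ((s.filter fun i => a i ≠ 0).card : ℤ) = ∑ i ∈ s, a i ^ 2 := by
  rw [Finset.card_filter]
  push_cast
  refine Finset.sum_congr rfl fun i hi => ?_
  rcases h i hi with h | h | h <;> simp [h]

theorem exists_three_of_sum_sq (ho : o ∈ s) (hao : a o = 1) (h : ∑ i ∈ s, a i ^ 2 = 3) :
    ∃ i ∈ s, ∃ j ∈ s, i ≠ j ∧ i ≠ o ∧ j ≠ o ∧ (a i = 1 ∨ a i = -1) ∧ (a j = 1 ∨ a j = -1) ∧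
      ∀ k ∈ s, k ≠ o → k ≠ i → k ≠ j → a k = 0 := by
  classical
  have h1 := fun i hi => sq_eq_of_sum_sq_le ho hao (by omega) (i := i) hi
  have h2 := card_supp_eq h1
  have h3 : o ∈ s.filter fun i => a i ≠ 0 := by simp [ho, hao]
  have h4 : ((s.filter fun i => a i ≠ 0).erase o).card = 2 := by
    rw [Finset.card_erase_of_mem h3]; omega
  obtain ⟨i, j, hij, h5⟩ := Finset.card_eq_two.1 h4
  have h6 : ∀ k, k ≠ o ∧ k ∈ s ∧ a k ≠ 0 ↔ k = i ∨ k = j := fun k => by
    simpa using Finset.ext_iff.1 h5 k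
  obtain ⟨i1, i2, i3⟩ := (h6 i).2 (.inl rfl)
  obtain ⟨j1, j2, j3⟩ := (h6 j).2 (.inr rfl)
  refine ⟨i, i2, j, j2, hij, i1, j1, (h1 i i2).resolve_left i3, (h1 j j2).resolve_left j3,
    fun k hk k1 k2 k3 => ?_⟩
  by_contra h7
  exact ((h6 k).1 ⟨k1, hk, h7⟩).elim k2 k3

theorem exists_four_of_sum_sq (ho : o ∈ s) (hao : a o = 1) (h : ∑ i ∈ s, a i ^ 2 = 4) :
    ∃ f : Fin 4 → ι, Function.Injective f ∧ f 0 = o ∧ (∀ l, f l ∈ s ∧ (a (f l) = 1 ∨ a (f l) = -1)) ∧
      ∀ k ∈ s, (∀ l, k ≠ f l) → a k = 0 := by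
  classical
  have h1 := fun i hi => sq_eq_of_sum_sq_le ho hao (by omega) (i := i) hi
  have h2 := card_supp_eq h1
  have h3 : o ∈ s.filter fun i => a i ≠ 0 := by simp [ho, hao]
  have h4 : ((s.filter fun i => a i ≠ 0).erase o).card = 3 := by
    rw [Finset.card_erase_of_mem h3]; omega
  obtain ⟨i, j, k, hij, hik, hjk, h5⟩ := Finset.card_eq_three.1 h4
  have h6 : ∀ l, l ≠ o ∧ l ∈ s ∧ a l ≠ 0 ↔ l = i ∨ l = j ∨ l = k := fun l => by
    simpa using Finset.ext_iff.1 h5 l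
  obtain ⟨i1, i2, i3⟩ := (h6 i).2 (.inl rfl)
  obtain ⟨j1, j2, j3⟩ := (h6 j).2 (.inr (.inl rfl))
  obtain ⟨k1, k2, k3⟩ := (h6 k).2 (.inr (.inr rfl))
  refine ⟨![o, i, j, k], ?_, rfl, ?_, fun l hl h7 => ?_⟩
  · intro x y hxy
    fin_cases x <;> fin_cases y <;> simp_all [eq_comm]
  · intro l
    fin_cases l
    exacts [⟨ho, .inl hao⟩, ⟨i2, (h1 i i2).resolve_left i3⟩, ⟨j2, (h1 j j2).resolve_left j3⟩,
      ⟨k2, (h1 k k2).resolve_left k3⟩]
  · by_contra h8
    rcases (h6 l).1 ⟨h7 0, hl, h8⟩ with h | h | h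
    exacts [h7 1 h, h7 2 h, h7 3 h]

theorem sum_eq_three {R : Type*} [AddCommMonoid R] {i j : ι} (ho : o ∈ s) (hi : i ∈ s) (hj : j ∈ s)
    (hij : i ≠ j) (hio : i ≠ o) (hjo : j ≠ o) {f : ι → R}
    (h : ∀ k ∈ s, k ≠ o → k ≠ i → k ≠ j → f k = 0) : ∑ k ∈ s, f k = f o + f i + f j := by
  classical
  rw [← Finset.sum_subset (s₁ := {o, i, j}) (by simp [Finset.insert_subset_iff, hi, ho, hj]),
    Finset.sum_insert (by simp [hio.symm, hjo.symm]), Finset.sum_pair hij, add_assoc]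
  intro k hk h1
  simp only [Finset.mem_insert, Finset.mem_singleton, not_or] at h1
  exact h k hk h1.1 h1.2.1 h1.2.2

theorem sum_eq_range {R κ : Type*} [AddCommMonoid R] [Fintype κ] {g : κ → ι}
    (hg : Function.Injective g) (hs : ∀ l, g l ∈ s) {f : ι → R}
    (h : ∀ k ∈ s, (∀ l, k ≠ g l) → f k = 0) : ∑ k ∈ s, f k = ∑ l, f (g l) := by
  classical
  rw [← Finset.sum_subset (s₁ := Finset.univ.image g) (by simp [Finset.image_subset_iff, hs]),
    Finset.sum_image fun _ _ _ _ h => hg h]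
  intro k hk h1
  exact h k hk fun l h => h1 (by simp [h])

/-- `v` is `o + D i • i ± j` with `D j = 0`. -/
def Shape (s : Finset ι) (o : ι) (D v : ι → ℤ) (i j : ι) : Prop :=
  i ∈ s ∧ j ∈ s ∧ i ≠ j ∧ i ≠ o ∧ j ≠ o ∧ (v i = 1 ∨ v i = -1) ∧ (v j = 1 ∨ v j = -1) ∧
    D i = v i ∧ D j = 0 ∧ ∀ k ∈ s, k ≠ o → k ≠ i → k ≠ j → v k = 0

theorem exists_shape {D v : ι → ℤ} (ho : o ∈ s) (hD : D o = 1) (hv : v o = 1)
    (h1 : ∑ i ∈ s, D i ^ 2 = 4) (h2 : ∑ i ∈ s, v i ^ 2 = 3) (h3 : ∑ i ∈ s, v i * D i = 2) :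
    ∃ i j, Shape s o D v i j := by
  obtain ⟨i, hi, j, hj, hij, hio, hjo, vi, vj, h4⟩ := exists_three_of_sum_sq ho hv h2
  rw [sum_eq_three ho hi hj hij hio hjo fun k hk k1 k2 k3 => by simp [h4 k hk k1 k2 k3],
    hv, hD] at h3
  have di := sq_eq_of_sum_sq_le ho hD h1.le hi
  have dj := sq_eq_of_sum_sq_le ho hD h1.le hj
  by_cases h : D j = 0
  · refine ⟨i, j, hi, hj, hij, hio, hjo, vi, vj, ?_, h, h4⟩
    rcases vi with vi | vi <;> simp only [vi, h] at h3 ⊢ <;> omega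
  · refine ⟨j, i, hj, hi, hij.symm, hjo, hio, vj, vi, ?_, ?_, fun k hk k1 k2 k3 => h4 k hk k1 k3 k2⟩
    · rcases vi with vi | vi <;> rcases vj with vj | vj <;> simp only [vi, vj] at h3 ⊢ <;> omega
    · rcases vi with vi | vi <;> rcases vj with vj | vj <;> simp only [vi, vj] at h3 ⊢ <;> omega

theorem Shape.sum {D v : ι → ℤ} {i j : ι} (h : Shape s o D v i j) (ho : o ∈ s) {R : Type*} [Ring R]
    (f : ι → R) : ∑ k ∈ s, (v k : R) * f k = v o * f o + v i * f i + v j * f j := by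
  obtain ⟨hi, hj, hij, hio, hjo, -, -, -, -, h4⟩ := h
  exact sum_eq_three ho hi hj hij hio hjo fun k hk k1 k2 k3 => by simp [h4 k hk k1 k2 k3]

theorem Shape.other {D v w : ι → ℤ} {i j i' j' : ι} (h : Shape s o D v i j)
    (h' : Shape s o D w i' j') (ho : o ∈ s) (hv : v o = 1) (hw : w o = 1)
    (h1 : ∑ k ∈ s, v k * w k = 1) {d : ι → ℤ} (hd : ∀ k ∈ s, d k ≠ 0)
    (h2 : ∑ k ∈ s, v k * d k = 0) (h3 : ∑ k ∈ s, w k * d k = 0) : w i = 0 ∧ w j = 0 := by
  have e1 := h.sum ho w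
  have e2 := h.sum ho d
  have e3 := h'.sum ho d
  simp only [Int.cast_id] at e1 e2 e3
  rw [h1, hv, hw] at e1
  rw [h2, hv] at e2
  rw [h3, hw] at e3
  obtain ⟨hi, hj, hij, hio, hjo, vi, vj, di, dj, h4⟩ := h
  obtain ⟨hi', hj', hij', hio', hjo', wi, wj, di', dj', h4'⟩ := h'
  have key : w i = 0 := by
    by_contra h5
    have h6 : i = i' := by
      by_contra h6
      refine h5 (h4' i hi hio h6 ?_)
      rintro rfl
      rcases vi with vi | vi <;> omega
    subst h6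
    have h7 : w i = v i := di'.symm.trans di
    have h8 : v j * w j = -1 := by rcases vi with vi | vi <;> simp only [h7, vi] at e1 <;> omega
    have h9 : j = j' := by
      by_contra h9
      rw [h4' j hj hjo hij.symm h9] at h8
      omega
    subst h9
    have := hd j hj
    rw [h7] at e3
    rcases vj with vj | vj <;> rcases wj with wj | wj <;> simp only [vj, wj] at h8 e2 e3 <;> omega
  refine ⟨key, ?_⟩
  rcases vj with vj | vj <;> simp only [key, vj] at e1 <;> omega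

theorem eq_of_shape_rel {δ η z T U : ℤ} {x y : ℕ} (hx : x ≠ 0) (hy : y ≠ 0) (hδ : δ = 1 ∨ δ = -1)
    (hη : η = 1 ∨ η = -1) (hT : T = δ * z) (hU : U = η * (1 + z))
    (h1 : (1 : ℂ) + δ * x + η * y = 0) (h2 : (1 : ℂ) + δ * (T ^ 2 / x) + η * (U ^ 2 / y) = 0) :
    T = x := by
  have hx' : (x : ℂ) ≠ 0 := Nat.cast_ne_zero.2 hx
  have hy' : (y : ℂ) ≠ 0 := Nat.cast_ne_zero.2 hy
  field_simp at h2
  have h3 : (1 : ℤ) + δ * x + η * y = 0 := by exact_mod_cast h1
  have h4 : (x * y + δ * T ^ 2 * y + x * η * U ^ 2 : ℤ) = 0 := by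
    have : ((x * y + δ * T ^ 2 * y + x * η * U ^ 2 : ℤ) : ℂ) = 0 := by
      push_cast; linear_combination h2
    exact_mod_cast this
  have h5 : (T - x) ^ 2 = 0 := by
    subst hT hU
    rcases hδ with rfl | rfl <;> rcases hη with rfl | rfl
    · have : (y : ℤ) = -1 - x := by omega
      rw [this] at h4; linear_combination (-1 : ℤ) * h4
    · have : (y : ℤ) = 1 + x := by omega
      rw [this] at h4; linear_combination h4
    · have : (y : ℤ) = x - 1 := by omega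
      rw [this] at h4; linear_combination h4
    · have : (y : ℤ) = 1 - x := by omega
      rw [this] at h4; linear_combination (-1 : ℤ) * h4
  exact sub_eq_zero.1 (pow_eq_zero_iff two_ne_zero |>.1 h5)

end Comb

variable {G : Type*} [Group G] [Finite G] {M : Ideal AlgInt}

theorem int_irrOne {n : ℤ} {g : G} (h : (irrOne G : G → ℂ) g = n) : n = 1 := by
  rw [irrOne_apply] at h; exact_mod_cast h.symm

theorem charDegree_irrOne : charDegree (irrOne G : G → ℂ) = 1 := by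
  have := cast_deg (irrOne G)
  rw [irrOne_apply] at this; exact_mod_cast this

theorem isGen_piPart {θ : G → ℂ} (hθ : IsGeneralizedCharacter G θ) (π : Set ℕ) :
    IsGeneralizedCharacter G fun g => θ (piPart π g) := by
  refine brauer_char_nilpotent (fun g x => ?_) fun E hE => ?_
  · simp only [piPart_conj, hθ.isClassFunction.apply_conj]
  · have := hθ.comp (E.subtype.comp (piPartHom E π))
    simpa only [MonoidHom.comp_apply, piPartHom, MonoidHom.coe_mk, OneHom.coe_mk,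
      Subgroup.subtype_apply, coe_piPart] using this

theorem exists_sign_mul {θ : G → ℂ} (hθ : IsIrrCharacter G θ) {z : G} (hz : z ∈ center G)
    (h2 : z * z = 1) : (∀ u, θ (z * u) = θ u) ∨ ∀ u, θ (z * u) = -θ u := by
  obtain ⟨ω, h3, h4⟩ := exists_root_mul hθ hz
  have h5 : ω ^ 2 = 1 :=
    pow_eq_one_of_orderOf_dvd (orderOf_dvd_of_pow_eq_one (by rw [pow_two, h2])) h3
  rcases sq_eq_one_iff.1 h5 with rfl | rfl
  · exact .inl (by simpa using h4)
  · exact .inr (by simpa using h4)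

theorem classInner_central_mul [Fintype G] (φ ψ : G → ℂ) {z : G} (h2 : z * z = 1) :
    classInner (fun g => φ (z * g)) ψ = classInner φ fun g => ψ (z * g) := by
  rw [classInner, classInner, ← Equiv.sum_comp (Equiv.mulLeft z)]
  simp only [Equiv.coe_mulLeft, ← mul_assoc, h2, one_mul]

theorem isGen_central_mul {θ : G → ℂ} (hθ : IsGeneralizedCharacter G θ) {z : G}
    (hz : z ∈ center G) (h2 : z * z = 1) : IsGeneralizedCharacter G fun g => θ (z * g) := by
  haveI := Fintype.ofFinite G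
  refine IsClassFunction.isGen_of_int (fun g x => ?_) fun χ hχ => ?_
  · rw [← hθ.isClassFunction.apply_conj (z * g) x, ← mul_assoc, ← mul_assoc, ← mul_assoc,
      mem_center_iff.1 hz x]
  · obtain ⟨n, hn⟩ := hθ.classInner_eq_int hχ.isGen
    rw [classInner_central_mul _ _ h2]
    rcases exists_sign_mul hχ hz h2 with h | h
    · exact ⟨n, by simp only [h, hn]⟩
    · refine ⟨-n, ?_⟩
      simp only [h]
      rw [Int.cast_neg, ← hn, ← classInner_neg_right]; rfl

/-- relation for an involution in a group of 2-rank one -/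
theorem b0_invol_rank_one [PMod M 2]
    (hU : ∀ a b : G, orderOf a = 2 → orderOf b = 2 → Commute a b → a = b) {t : G}
    (ht : orderOf t = 2) {u : G} (hu : 2 ∣ orderOf u) :
    ∑ χ ∈ b0 M G, (χ : G → ℂ) t ^ 2 / (χ : G → ℂ) 1 * conj ((χ : G → ℂ) u) = 0 := by
  obtain ⟨x, hx⟩ := exists_isPPart 2 u
  simp only [pow_two]
  refine b0_class_mul (x := x) (fun a b z ha hb hp hz => ?_) hx (IsConj.refl _)
  have ha2 := (orderOf_of_isConj ha).symm.trans ht
  have hb2 := (orderOf_of_isConj hb).symm.trans ht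
  have h1 : 2 ∣ orderOf (a * b) := by
    by_contra h
    rw [hp.eq_one_iff.2 h, isConj_one_left] at hz
    exact hx.eq_one_iff.1 hz hu
  obtain ⟨w, -, h2, h3, h4⟩ := exists_invol_of_even (mul_self_of_orderOf ha2)
    (mul_self_of_orderOf hb2) (even_iff_two_dvd.2 h1)
  rw [← hU w a h2 ha2 h3, ← hU w b h2 hb2 h4, mul_self_of_orderOf h2, orderOf_one] at h1
  omega

/-- Fusion data of a group with quaternion Sylow 2-subgroups of order 8 and one class of
elements of order 4. -/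
structure Q8Data (x : G) : Prop where
  ord : orderOf x = 4
  cls : ∀ z : G, (∃ k : ℕ, orderOf z = 2 ^ k) → z = 1 ∨ IsConj (x * x) z ∨ IsConj x z
  inv : IsConj x x⁻¹
  npc : HasNormalPComplement 2 (Ce1 x)
  fac : (Nat.card (Ce1 x)).factorization 2 = 2
  uniq : ∀ a b : G, orderOf a = 2 → orderOf b = 2 → Commute a b → a = b

namespace Q8Data
variable {x : G}

theorem ord_sq (h : Q8Data x) : orderOf (x * x) = 2 := by
  rw [← pow_two, orderOf_pow_of_dvd two_ne_zero (by rw [h.ord]; norm_num), h.ord]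

theorem sq_mul_sq (h : Q8Data x) : x * x * (x * x) = 1 := mul_self_of_orderOf h.ord_sq

theorem sq_mul (h : Q8Data x) : x * x * x = x⁻¹ := by
  rw [eq_inv_iff_mul_eq_one, mul_assoc, h.sq_mul_sq]

theorem pelt (h : Q8Data x) : ∃ k : ℕ, orderOf x = 2 ^ k := ⟨2, h.ord⟩

theorem pelt_sq (h : Q8Data x) : ∃ k : ℕ, orderOf (x * x) = 2 ^ k := ⟨1, h.ord_sq⟩

theorem not_conj (h : Q8Data x) : ¬ IsConj (x * x) x := fun h' => by
  have := orderOf_of_isConj h'
  rw [h.ord, h.ord_sq] at this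
  omega

theorem ne_one (h : Q8Data x) : x ≠ 1 := fun h' => by
  have := h.ord
  rw [h', orderOf_one] at this
  omega

theorem mem_of_conj (h : Q8Data x) {g : G} (hg : g * x * g⁻¹ ∈ Ce1 (x * x)) : g ∈ Ce1 (x * x) := by
  have h1 : g * (x * x) * g⁻¹ = x * x := by
    refine h.uniq _ _ (by rw [orderOf_conj, h.ord_sq]) h.ord_sq ?_
    have h2 : Commute (g * x * g⁻¹) (x * x) := mem_Ce1.1 hg
    have h3 : g * (x * x) * g⁻¹ = g * x * g⁻¹ * (g * x * g⁻¹) := by group
    rw [h3]; exact h2.mul_left h2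
  rw [mem_Ce1, ← mul_inv_eq_iff_eq_mul, h1]

theorem mem_Ce1_sq (x : G) : x ∈ Ce1 (x * x) := mem_Ce1.2 (mul_assoc _ _ _).symm

theorem sub (h : Q8Data x) : Q8Data (⟨x, mem_Ce1_sq x⟩ : Ce1 (x * x)) := by
  have hle : Ce1 x ≤ Ce1 (x * x) := fun g hg =>
    mem_Ce1.2 ((Commute.mul_right (mem_Ce1.1 hg) (mem_Ce1.1 hg)) :)
  have he : Ce1 (⟨x, mem_Ce1_sq x⟩ : Ce1 (x * x)) = (Ce1 x).subgroupOf (Ce1 (x * x)) := by
    ext g
    rw [mem_subgroupOf, mem_Ce1, mem_Ce1, Subtype.ext_iff]; rfl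
  have key : ∀ z : Ce1 (x * x), IsConj x z → IsConj (⟨x, mem_Ce1_sq x⟩ : Ce1 (x * x)) z := by
    intro z hz
    obtain ⟨g, hg⟩ := isConj_iff.1 hz
    exact isConj_iff.2 ⟨⟨g, h.mem_of_conj (hg ▸ z.2)⟩, Subtype.ext hg⟩
  refine ⟨by rw [Subgroup.orderOf_mk, h.ord], fun z hz => ?_, key _ h.inv, ?_, ?_, fun a b ha hb hc =>
    Subtype.ext (h.uniq _ _ (by rwa [Subgroup.orderOf_coe]) (by rwa [Subgroup.orderOf_coe])
      (congrArg Subtype.val hc))⟩
  · rcases h.cls z (by rwa [Subgroup.orderOf_coe]) with h1 | h1 | h1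
    · exact .inl (Subtype.ext h1)
    · refine .inr (.inl ?_)
      have : (z : G) = x * x := h.uniq _ _ ((orderOf_of_isConj h1).symm.trans h.ord_sq) h.ord_sq
        (mem_Ce1.1 z.2)
      rw [show z = ⟨x, mem_Ce1_sq x⟩ * ⟨x, mem_Ce1_sq x⟩ from Subtype.ext this]
    · exact .inr (.inr (key z h1))
  · rw [he, hasNPC_congr (subgroupOfEquivOfLe hle)]; exact h.npc
  · rw [he, Nat.card_congr (subgroupOfEquivOfLe hle).toEquiv]; exact h.fac

theorem exists_int (h : Q8Data x) (χ : IrrCharacter G) : ∃ n : ℤ, (χ : G → ℂ) x = n := by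
  refine χ.2.isGen.exists_int_of_forall_pow x fun k hk => ?_
  rw [← pow_mod_orderOf, h.ord] at *
  have h1 : k % 4 = 1 ∨ k % 4 = 3 := by
    have : ¬ 2 ∣ k := fun h2 => by
      have := Nat.dvd_gcd h2 (by norm_num : 2 ∣ 4)
      rw [hk] at this; omega
    omega
  rcases h1 with h1 | h1 <;> rw [h1]
  · rw [pow_one]
  · rw [pow_three', h.sq_mul, ← χ.2.isClassFunction.eq_of_isConj h.inv]

variable [PMod M 2]

theorem sum_sq (h : Q8Data x) {D : IrrCharacter G → ℤ} (hD : ∀ χ : IrrCharacter G, (χ : G → ℂ) x = D χ) :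
    ∑ χ ∈ b0 M G, D χ ^ 2 = 4 := by
  have := b0_norm_of_hasNPC (M := M) h.pelt h.npc
  simp only [hD, h.fac, map_intCast, ← pow_two] at this
  exact_mod_cast this

section central
variable (h : Q8Data x) (hc : x * x ∈ center G)
include h hc

theorem isPPart_sq_mul {y : G} (hy : ¬ 2 ∣ orderOf y) : IsPPart 2 (x * x * y) (x * x) :=
  isPPart_mul (mem_center_iff.1 hc y).symm h.pelt_sq hy

theorem cases (g : G) : ¬ 2 ∣ orderOf g ∨ (∃ y, ¬ 2 ∣ orderOf y ∧ g = x * x * y) ∨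
    ∃ z, IsPPart 2 g z ∧ IsConj x z := by
  obtain ⟨z, hz⟩ := exists_isPPart 2 g
  rcases h.cls z hz.pelt with h1 | h1 | h1
  · exact .inl (hz.eq_one_iff.1 h1)
  · obtain ⟨c, rfl⟩ := isConj_iff.1 h1
    rw [mem_center_iff.1 hc c, mul_inv_cancel_right] at hz
    exact .inr (.inl ⟨_, hz.preg, by group⟩)
  · exact .inr (.inr ⟨z, hz, h1⟩)

theorem dvd_sq_mul {y : G} (hy : ¬ 2 ∣ orderOf y) : 2 ∣ orderOf (x * x * y) := by
  by_contra h1
  exact ne_one_of_orderOf h.ord_sq ((h.isPPart_sq_mul hc hy).eq_one_iff.2 h1)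

theorem sum_split [Fintype G] {F : G → ℂ} (h1 : ∀ g, F (x * x * g) = F g)
    (h2 : ∀ g z, IsPPart 2 g z → IsConj x z → F g = 0) : ∑ g, F g = 2 * ∑ g, reg 2 F g := by
  have key : ∀ g, F g = reg 2 F g + reg 2 F (x * x * g) := fun g => by
    rcases h.cases hc g with h3 | ⟨y, h3, rfl⟩ | ⟨z, h3, h4⟩
    · simp only [reg, if_neg h3, if_pos (h.dvd_sq_mul hc h3), add_zero]
    · rw [← mul_assoc (x * x) (x * x), h.sq_mul_sq, one_mul]
      simp only [reg, if_pos (h.dvd_sq_mul hc h3), if_neg h3, zero_add, h1]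
    · simp only [reg, h1, h2 g z h3 h4, ite_self, add_zero]
  rw [Finset.sum_congr rfl fun g _ => key g, Finset.sum_add_distrib, two_mul]
  congr 1
  exact Equiv.sum_comp (Equiv.mulLeft (x * x)) (reg 2 F)

theorem mul_of_ne_zero {ζ : IrrCharacter G} (h1 : (ζ : G → ℂ) x ≠ 0) (g : G) :
    (ζ : G → ℂ) (x * x * g) = (ζ : G → ℂ) g := by
  rcases exists_sign_mul ζ.2 hc h.sq_mul_sq with h2 | h2
  · exact h2 g
  · have := h2 x
    rw [h.sq_mul, ← ζ.2.isClassFunction.eq_of_isConj h.inv] at this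
    exact absurd (by linear_combination this / 2) h1

theorem mul_of_eq_zero {ζ : IrrCharacter G} (hζ : ζ ∈ b0 M G) (h1 : (ζ : G → ℂ) x = 0) (g : G) :
    (ζ : G → ℂ) (x * x * g) = -(ζ : G → ℂ) g := by
  haveI := Fintype.ofFinite G
  rcases exists_sign_mul ζ.2 hc h.sq_mul_sq with h2 | h2
  · exfalso
    have h3 := h.sum_split hc h2 fun g z h3 h4 => by rw [b0_apply_of_isConj h3 h4 h.npc hζ, h1]
    have h4 := ζ.2.classInner_of_ne isIrrCharacter_one (fun h => by simp [h] at h1)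
    rw [classInner_one_right, h3] at h4
    exact mul_ne_zero (inv_ne_zero (card_ne_zero' G))
      (mul_ne_zero two_ne_zero (b0_sum_reg_ne_zero hζ)) h4
  · exact h2 g

end central

theorem columns (h : Q8Data x) :
    ∃ (D T : IrrCharacter G → ℤ) (v : Fin 3 → IrrCharacter G → ℤ) (z : Fin 3 → ℤ),
      (∀ χ : IrrCharacter G, (χ : G → ℂ) x = D χ) ∧
      (∀ χ : IrrCharacter G, (χ : G → ℂ) (x * x) = T χ) ∧ z 0 + z 1 + z 2 = -1 ∧
      (∀ χ ∈ b0 M G, 2 * T χ = ∑ k, (1 + z k) * (2 * v k χ - D χ)) ∧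
      (∀ k, v k (irrOne G) = 1) ∧
      (∀ k l, ∑ χ ∈ b0 M G, v k χ * v l χ = if k = l then 3 else 1) ∧
      (∀ k, ∑ χ ∈ b0 M G, v k χ * D χ = 2) ∧
      (∀ φ : IrrCharacter G → ℂ, (∀ u : G, 2 ∣ orderOf u →
        ∑ χ ∈ b0 M G, φ χ * conj ((χ : G → ℂ) u) = 0) → ∀ k, ∑ χ ∈ b0 M G, v k χ * φ χ = 0) ∧
      ∀ χ ∈ b0 M G, D χ = 0 → (∀ k, v k χ = 0) → ∀ u : G, 2 ∣ orderOf u → (χ : G → ℂ) u = 0 := by
  classical
  haveI := Fintype.ofFinite (Ce1 (x * x))
  have h' := h.sub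
  set x' : Ce1 (x * x) := ⟨x, mem_Ce1_sq x⟩ with hx'
  have hc' : x' * x' ∈ center (Ce1 (x * x)) := mem_center_Ce1 (x * x)
  choose D hD using h.exists_int
  choose T hT using fun χ : IrrCharacter G => exists_int_of_invol χ h.sq_mul_sq
  choose D' hD' using h'.exists_int
  have hD1 : D (irrOne G) = 1 := int_irrOne (hD _)
  obtain ⟨ζ, hinj, hζ0, hζ, hrest⟩ := exists_four_of_sum_sq (one_mem_b0 (M := M))
    (int_irrOne (hD' _)) (h'.sum_sq hD')
  set ε : Fin 4 → ℤ := fun l => D' (ζ l) with hε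
  have hε2 : ∀ l, ε l * ε l = 1 := fun l => by rcases (hζ l).2 with h | h <;> simp [hε, h]
  have hε2' : ∀ l, (ε l : ℂ) * ε l = 1 := fun l => by exact_mod_cast hε2 l
  have hε0 : ε 0 = 1 := by
    simp only [hε, hζ0]; exact int_irrOne (hD' _)
  have hζt : ∀ l g, (ζ l : Ce1 (x * x) → ℂ) (x' * x' * g) = (ζ l : Ce1 (x * x) → ℂ) g :=
    fun l => h'.mul_of_ne_zero hc' (by
      rw [hD']; rcases (hζ l).2 with h | h <;> simp [h])
  have hξt : ∀ ξ ∈ b0 M (Ce1 (x * x)), (∀ l, ξ ≠ ζ l) → ∀ g,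
      (ξ : Ce1 (x * x) → ℂ) (x' * x' * g) = -(ξ : Ce1 (x * x) → ℂ) g := fun ξ h1 h2 =>
    h'.mul_of_eq_zero hc' h1 (by rw [hD', hrest ξ h1 h2, Int.cast_zero])
  have hreg : ∀ {y : Ce1 (x * x)}, ¬ 2 ∣ orderOf y → IsPPart 2 y 1 := isPPart_one_iff.2
  have H4 : ∀ y y' : Ce1 (x * x), ¬ 2 ∣ orderOf y → ¬ 2 ∣ orderOf y' →
      ∑ ξ ∈ b0 M (Ce1 (x * x)), (ξ : Ce1 (x * x) → ℂ) y * conj ((ξ : Ce1 (x * x) → ℂ) y') =
        2 * ∑ l, (ζ l : Ce1 (x * x) → ℂ) y * conj ((ζ l : Ce1 (x * x) → ℂ) y') := by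
    intro y y' hy hy'
    have h1 := b0_orth (M := M) (hreg hy) (h'.isPPart_sq_mul hc' hy')
      fun h => ne_one_of_orderOf h'.ord_sq (isConj_one_right.1 h)
    rw [← add_zero (∑ ξ ∈ _, _), ← h1, ← Finset.sum_add_distrib,
      sum_eq_range hinj (fun l => (hζ l).1) fun ξ h1 h2 => by rw [hξt ξ h1 h2]; simp,
      Finset.mul_sum]
    exact Finset.sum_congr rfl fun l _ => by rw [hζt]; ring
  have H5 : ∀ y : Ce1 (x * x), ¬ 2 ∣ orderOf y →
      ∑ l, (ε l : ℂ) * (ζ l : Ce1 (x * x) → ℂ) y = 0 := by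
    intro y hy
    have h1 := b0_orth (M := M) (hreg hy) (isPPart_self h'.pelt)
      fun h => h'.ne_one (isConj_one_right.1 h)
    rw [sum_eq_range hinj (fun l => (hζ l).1) fun ξ h1 h2 => by
      rw [hD', hrest ξ h1 h2]; simp] at h1
    rw [← h1]
    exact Finset.sum_congr rfl fun l _ => by rw [hD', map_intCast, mul_comm]
  set f : IrrCharacter G → Ce1 (x * x) → ℂ :=
    fun χ g => (χ : G → ℂ) (x' * x' * piPart {2}ᶜ g : Ce1 (x * x)) with hf
  have hfgen : ∀ χ, IsGeneralizedCharacter _ (f χ) := fun χ =>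
    isGen_piPart (isGen_central_mul (χ.2.isGen.res _) hc' h'.sq_mul_sq) _
  have hft : ∀ χ g, f χ (x' * x' * g) = f χ g := fun χ g => by
    have : piPart {2}ᶜ (x' * x' * g) = piPart {2}ᶜ g := by
      conv_lhs => rw [← piPart_mul_compl {2} g, ← mul_assoc]
      refine piPart_compl_mul ?_ ?_ (isPiElt_piPart _ _)
      · exact Commute.mul_left (mem_center_iff.1 hc' _).symm (commute_piPart _ _ _)
      · exact IsPiElt.mul ((isPiElt_singleton_iff Nat.prime_two).2 h'.pelt_sq)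
          (isPiElt_piPart _ _) (mem_center_iff.1 hc' _).symm
    simp only [hf, this]
  have hfy : ∀ χ (y : Ce1 (x * x)), ¬ 2 ∣ orderOf y → f χ y = (χ : G → ℂ) (x * x * y) :=
    fun χ y hy => by
      simp only [hf, piPart_of_isPiElt ((isPiElt_compl_singleton_iff Nat.prime_two).2 hy)]; rfl
  choose c hc using fun χ (ξ : IrrCharacter (Ce1 (x * x))) =>
    (hfgen χ).classInner_eq_int ξ.2.isGen
  set C : Fin 4 → IrrCharacter G → ℤ := fun l χ => ε l * c χ (ζ l) with hC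
  have Ka : ∀ χ ∈ b0 M G, ∀ y : Ce1 (x * x), ¬ 2 ∣ orderOf y →
      (χ : G → ℂ) (x * x * y) = ∑ l, (C l χ : ℂ) * (ε l * (ζ l : Ce1 (x * x) → ℂ) y) := by
    intro χ hχ y hy
    have h1 := b0_apply_eq_sum (x := x * x) (h := x' * x' * y) (h'.isPPart_sq_mul hc' hy).coe hχ
    have h2 := b0_part_eq_zero (M := M) (x := 1)
      (θ := (fun g : Ce1 (x * x) => (χ : G → ℂ) (x' * x' * g : Ce1 (x * x))) - f χ)
      (fun u z hu hz => by
        rw [isConj_one_right.1 hz] at hu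
        rw [Pi.sub_apply, hfy χ u (isPPart_one_iff.1 hu), sub_eq_zero]; rfl) (hreg hy)
      (IsConj.refl _)
    simp only [classInner_sub_left, sub_mul, Finset.sum_sub_distrib, sub_eq_zero] at h2
    have h3 : ∀ ξ : IrrCharacter (Ce1 (x * x)),
        classInner (fun g : Ce1 (x * x) => (χ : G → ℂ) g) ξ * (ξ : Ce1 (x * x) → ℂ) (x' * x' * y) =
        classInner (fun g : Ce1 (x * x) => (χ : G → ℂ) (x' * x' * g : Ce1 (x * x))) ξ *
          (ξ : Ce1 (x * x) → ℂ) y := fun ξ => by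
      rw [classInner_central_mul (fun g : Ce1 (x * x) => (χ : G → ℂ) g) _ h'.sq_mul_sq]
      rcases exists_sign_mul ξ.2 hc' h'.sq_mul_sq with h | h
      · simp only [h]
      · simp only [h]
        rw [show (fun g => -(ξ : Ce1 (x * x) → ℂ) g) = -(ξ : Ce1 (x * x) → ℂ) from rfl,
          classInner_neg_right]; ring
    refine h1.trans ?_
    simp only [h3]
    rw [h2, sum_eq_range hinj (fun l => (hζ l).1) fun ξ h1 h2 => ?_]
    · refine Finset.sum_congr rfl fun l _ => ?_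
      simp only [hC, hc, Int.cast_mul]
      linear_combination (-(c χ (ζ l) : ℂ) * (ζ l : Ce1 (x * x) → ℂ) y) * hε2' l
    · have h4 := classInner_central_mul (f χ) ξ h'.sq_mul_sq
      simp only [hft, hξt ξ h1 h2] at h4
      rw [show (fun g => -(ξ : Ce1 (x * x) → ℂ) g) = -(ξ : Ce1 (x * x) → ℂ) from rfl,
        classInner_neg_right] at h4
      have : classInner (f χ) ξ = 0 := by linear_combination h4 / 2
      rw [this, zero_mul]
  set w : (Fin 4 → ℤ) → Ce1 (x * x) → ℂ := fun s g => 2 * (Nat.card (Ce1 (x * x)) : ℂ)⁻¹ *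
    reg 2 (fun g => conj (∑ l, (s l * ε l : ℂ) * (ζ l : Ce1 (x * x) → ℂ) g)) g with hw
  have hw0 : ∀ s g, 2 ∣ orderOf g → w s g = 0 := fun s g hg => by simp [hw, reg, hg]
  have Kb : ∀ s : Fin 4 → ℤ, ∑ l, s l = 0 → ∀ F : Ce1 (x * x) → ℂ,
      (∀ g, F (x' * x' * g) = F g) →
      ∑ g, w s g * F g = ∑ l, (s l * ε l : ℂ) * classInner F (ζ l) := by
    intro s hs F hF
    have h1 := h'.sum_split hc' (F := fun g => F g *
      conj (∑ l, (s l * ε l : ℂ) * (ζ l : Ce1 (x * x) → ℂ) g)) (fun g => by simp only [hF, hζt])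
      fun g z h1 h2 => by
        have : ∀ l, (ζ l : Ce1 (x * x) → ℂ) g = ε l := fun l => by
          rw [b0_apply_of_isConj h1 h2 h'.npc (hζ l).1, hD']
        simp only [this, mul_assoc, hε2', mul_one]
        rw [← Int.cast_sum, hs]; simp
    calc ∑ g, w s g * F g = (Nat.card (Ce1 (x * x)) : ℂ)⁻¹ * (2 * ∑ g, reg 2 (fun g => F g *
          conj (∑ l, (s l * ε l : ℂ) * (ζ l : Ce1 (x * x) → ℂ) g)) g) := by
          rw [Finset.mul_sum, Finset.mul_sum]
          refine Finset.sum_congr rfl fun g _ => ?_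
          simp only [hw, reg]; split_ifs <;> ring
      _ = _ := by
          rw [← h1]
          simp only [classInner, map_sum, map_mul, map_intCast, Finset.mul_sum]
          rw [Finset.sum_comm]
          exact Finset.sum_congr rfl fun _ _ => Finset.sum_congr rfl fun _ _ => by ring
  set E : (Fin 4 → ℤ) → IrrCharacter G → ℤ := fun s χ => ∑ l, s l * C l χ with hE
  have KE : ∀ s : Fin 4 → ℤ, ∑ l, s l = 0 → ∀ χ : IrrCharacter G,
      (E s χ : ℂ) = ∑ g : Ce1 (x * x), w s g * (χ : G → ℂ) (x * x * g) := by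
    intro s hs χ
    have h1 := Kb s hs (f χ) (hft χ)
    simp only [hc] at h1
    simp only [hE, hC, Int.cast_sum, Int.cast_mul, ← mul_assoc]
    rw [← h1]
    refine Finset.sum_congr rfl fun g _ => ?_
    by_cases hg : 2 ∣ orderOf g
    · simp [hw0 s g hg]
    · rw [hfy χ g hg]
  have Kζ : ∀ s : Fin 4 → ℤ, ∑ l, s l = 0 → ∀ l,
      ∑ g, w s g * (ζ l : Ce1 (x * x) → ℂ) g = s l * ε l := by
    intro s hs l
    rw [Kb s hs _ (hζt l), Finset.sum_eq_single l]
    · rw [(ζ l).2.classInner_self, mul_one]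
    · intro m _ hm
      rw [classInner_irr, if_neg fun h => hm (hinj h).symm, mul_zero]
    · simp
  have Kc : ∀ s s' : Fin 4 → ℤ, ∑ l, s l = 0 → ∑ l, s' l = 0 →
      ∑ χ ∈ b0 M G, E s χ * E s' χ = 2 * ∑ l, s l * s' l := by
    intro s s' hs hs'
    have h1 := b0_inner_eq (M := M) (fun g : Ce1 (x * x) => x * x * g)
      (fun g : Ce1 (x * x) => x * x * g) (w s) (w s')
    simp only [← KE s hs, ← KE s' hs', map_intCast] at h1
    have h2 : ∀ g g' : Ce1 (x * x), w s g * conj (w s' g') *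
        ∑ χ ∈ b0 M G, (χ : G → ℂ) (x * x * g) * conj ((χ : G → ℂ) (x * x * g')) =
        2 * ∑ l, w s g * (ζ l : Ce1 (x * x) → ℂ) g *
          conj (w s' g' * (ζ l : Ce1 (x * x) → ℂ) g') := fun g g' => by
      by_cases hg : 2 ∣ orderOf g
      · simp [hw0 s g hg]
      by_cases hg' : 2 ∣ orderOf g'
      · simp [hw0 s' g' hg']
      rw [b0_section' h.pelt_sq hg hg', H4 g g' hg hg']
      simp only [Finset.mul_sum, map_mul]
      exact Finset.sum_congr rfl fun _ _ => by ring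
    simp only [h2, ← Finset.mul_sum] at h1
    rw [Finset.sum_congr rfl fun g _ => Finset.sum_comm, Finset.sum_comm] at h1
    simp only [← Finset.mul_sum, ← map_sum, ← Finset.sum_mul, Kζ s hs, Kζ s' hs'] at h1
    simp only [map_mul, map_intCast] at h1
    have h3 : ∀ l, (s l * ε l * (s' l * ε l) : ℂ) = s l * s' l := fun l => by
      linear_combination (s l * s' l : ℂ) * hε2' l
    try simp only [h3] at h1
    exact_mod_cast h1
  have Kd : ∀ s : Fin 4 → ℤ, ∑ l, s l = 0 → ∀ φ : IrrCharacter G → ℂ,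
      (∀ y : Ce1 (x * x), ¬ 2 ∣ orderOf y →
        ∑ χ ∈ b0 M G, φ χ * conj ((χ : G → ℂ) (x * x * y)) = 0) →
      ∑ χ ∈ b0 M G, E s χ * φ χ = 0 := by
    intro s hs φ hφ
    have h1 : ∀ χ, (E s χ : ℂ) * φ χ =
        ∑ g : Ce1 (x * x), conj (w s g) * (φ χ * conj ((χ : G → ℂ) (x * x * g))) := fun χ => by
      rw [← map_intCast (starRingEnd ℂ), KE s hs, map_sum, Finset.sum_mul]
      exact Finset.sum_congr rfl fun _ _ => by rw [map_mul]; ring
    simp only [h1]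
    rw [Finset.sum_comm]
    refine Finset.sum_eq_zero fun g _ => ?_
    rw [← Finset.mul_sum]
    by_cases hg : 2 ∣ orderOf g
    · simp [hw0 s g hg]
    · rw [hφ g hg, mul_zero]
  set z : Fin 4 → ℤ := fun l => ε l * charDegree (ζ l : Ce1 (x * x) → ℂ) with hz
  have hz0 : z 0 = 1 := by
    simp only [hz, hε0, hζ0, one_mul, charDegree_irrOne, Nat.cast_one]
  have hzs : z 0 + z 1 + z 2 + z 3 = 0 := by
    have := H5 1 preg_one
    simp only [← cast_deg, Fin.sum_univ_four] at this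
    simp only [hz]; exact_mod_cast this
  have hzo : ∀ l, Odd (z l) := fun l => by
    have := (ζ l).2.isGen.prime_dvd_of_sub_eq Nat.prime_two (Commute.one_right x') (k := 2)
      (by rw [← pow_orderOf_eq_one x', h'.ord]; rfl) (n := ε l - charDegree (ζ l : Ce1 (x * x) → ℂ))
      (by rw [mul_one, hD', ← cast_deg]; simp only [hε]; push_cast; rfl)
    simp only [hz]
    rw [Int.odd_iff]
    rcases (hζ l).2 with h | h <;> simp only [hε, h] at this ⊢ <;> omega
  have KT : ∀ χ ∈ b0 M G, T χ = ∑ l, C l χ * z l := fun χ hχ => by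
    have := Ka χ hχ 1 preg_one
    simp only [OneMemClass.coe_one, mul_one, hT, ← cast_deg] at this
    simp only [hz]; exact_mod_cast this
  set s : Fin 3 → Fin 4 → ℤ := ![![1, 1, -1, -1], ![1, -1, 1, -1], ![1, -1, -1, 1]] with hs
  have hs0 : ∀ k, ∑ l, s k l = 0 := by decide
  have hpar : ∀ k, ∀ χ ∈ b0 M G, 2 ∣ D χ + E (s k) χ := fun k χ hχ => by
    have h1 := χ.2.isGen.prime_dvd_of_sub_eq Nat.prime_two (Commute.refl x) (k := 2)
      (by rw [← pow_orderOf_eq_one x, h.ord]; rfl) (n := T χ - D χ) (by rw [hT, hD]; simp)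
    rw [KT χ hχ, Fin.sum_univ_four] at h1
    obtain ⟨a0, h0⟩ := hzo 0
    obtain ⟨a1, h1'⟩ := hzo 1
    obtain ⟨a2, h2⟩ := hzo 2
    obtain ⟨a3, h3⟩ := hzo 3
    rw [h0, h1', h2, h3] at h1
    have h4 : (2 : ℤ) ∣ C 0 χ + C 1 χ + C 2 χ + C 3 χ - D χ := by
      obtain ⟨m, hm⟩ := h1
      refine ⟨m - (C 0 χ * a0 + C 1 χ * a1 + C 2 χ * a2 + C 3 χ * a3), ?_⟩
      push_cast at hm
      linear_combination hm
    simp only [hE, Fin.sum_univ_four]
    fin_cases k <;> simp [hs] <;> omega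
  set v : Fin 3 → IrrCharacter G → ℤ := fun k χ => (D χ + E (s k) χ) / 2 with hv
  have hv2 : ∀ k, ∀ χ ∈ b0 M G, 2 * v k χ = D χ + E (s k) χ := fun k χ hχ =>
    Int.mul_ediv_cancel' (hpar k χ hχ)
  have hDE : ∀ k, ∑ χ ∈ b0 M G, E (s k) χ * D χ = 0 := fun k => by
    have := Kd (s k) (hs0 k) (fun χ => D χ) fun y hy => by
      simp only [← hD]
      exact b0_orth (isPPart_self h.pelt) (h'.isPPart_sq_mul hc' hy).coe fun h1 => h.not_conj h1.symm
    exact_mod_cast this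
  have hDD := h.sum_sq (M := M) hD
  refine ⟨D, T, v, fun k => z k.succ, hD, hT, ?_, fun χ hχ => ?_, fun k => ?_, fun k l => ?_,
    fun k => ?_, fun φ hφ k => ?_, fun χ hχ h1 h2 u hu => ?_⟩
  · change z 1 + z 2 + z 3 = -1
    omega
  · simp only [hv2 _ χ hχ, KT χ hχ, add_sub_cancel_left, hE, Fin.sum_univ_four, Fin.sum_univ_three]
    change _ = (1 + z 1) * _ + (1 + z 2) * _ + (1 + z 3) * _
    have : z 3 = -1 - z 1 - z 2 := by omega
    simp [hs, hz0, this]
    ring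
  · have h1 := hv2 k _ one_mem_b0
    have h2 : ∀ l, c (irrOne G) (ζ l) = if l = 0 then 1 else 0 := fun l => by
      have := hc (irrOne G) (ζ l)
      rw [show f (irrOne G) = (ζ 0 : Ce1 (x * x) → ℂ) by rw [hζ0]; rfl, classInner_irr] at this
      simp only [hinj.eq_iff, eq_comm (a := (0 : Fin 4))] at this
      split_ifs at this ⊢ <;> exact_mod_cast this.symm
    simp only [hE, hC, h2, hD1, Fin.sum_univ_four, hε0] at h1
    fin_cases k <;> simp [hs] at h1 ⊢ <;> omega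
  · have h1 : 4 * ∑ χ ∈ b0 M G, v k χ * v l χ = 4 + 2 * ∑ m, s k m * s l m := by
      rw [← Kc _ _ (hs0 k) (hs0 l), ← add_zero (4 + _), ← hDE k, ← add_zero (4 + _ + _), ← hDE l]
      nth_rewrite 2 [← hDD]
      simp only [Finset.mul_sum, ← Finset.sum_add_distrib]
      refine Finset.sum_congr rfl fun χ hχ => ?_
      linear_combination (2 * v l χ) * hv2 k χ hχ + (D χ + E (s k) χ) * hv2 l χ hχ
    have h2 : ∀ k l, ∑ m, s k m * s l m = if k = l then 4 else 0 := by decide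
    rw [h2] at h1
    split_ifs at h1 ⊢ <;> omega
  · have h1 : 2 * ∑ χ ∈ b0 M G, v k χ * D χ = 4 := by
      rw [← add_zero 4, ← hDE k, ← hDD]
      simp only [Finset.mul_sum, ← Finset.sum_add_distrib]
      refine Finset.sum_congr rfl fun χ hχ => ?_
      linear_combination (D χ) * hv2 k χ hχ
    omega
  · have h1 := Kd (s k) (hs0 k) φ fun y hy => hφ _ (by
      have := h'.dvd_sq_mul hc' hy
      rwa [← Subgroup.orderOf_coe] at this)
    have h2 := hφ x (by rw [h.ord]; norm_num)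
    simp only [hD, map_intCast] at h2
    have h3 : 2 * ∑ χ ∈ b0 M G, v k χ * φ χ = 0 := by
      rw [← (congrArg₂ (· + ·) h1 h2).trans (add_zero 0)]
      simp only [Finset.mul_sum, ← Finset.sum_add_distrib]
      refine Finset.sum_congr rfl fun χ hχ => ?_
      have : (2 * v k χ : ℂ) = D χ + E (s k) χ := by exact_mod_cast hv2 k χ hχ
      linear_combination φ χ * this
    exact (mul_eq_zero.1 h3).resolve_left two_ne_zero
  · obtain ⟨y, hy⟩ := exists_isPPart 2 u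
    rcases h.cls y hy.pelt with h3 | h3 | h3
    · exact absurd hu (hy.eq_one_iff.1 h3)
    · obtain ⟨g, rfl⟩ := isConj_iff.1 h3
      have h4 := hy.conj g⁻¹
      rw [show g⁻¹ * (g * (x * x) * g⁻¹) * g⁻¹⁻¹ = x * x by group] at h4
      rw [← χ.2.isClassFunction.apply_conj u g⁻¹]
      obtain ⟨y, h5, h6, -, h7⟩ := h4
      rw [← h5, Ka χ hχ ⟨y, mem_Ce1.2 h6.symm⟩ (by rwa [Subgroup.orderOf_mk])]
      have e0 := hv2 0 χ hχ
      have e1 := hv2 1 χ hχ
      have e2 := hv2 2 χ hχ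
      simp [hE, h1, h2, hs, Fin.sum_univ_four] at e0 e1 e2
      have e3 : ∀ l, C l χ = C 0 χ := fun l => by fin_cases l <;> simp <;> omega
      simp only [e3]
      rw [← Finset.mul_sum, H5 _ (by rwa [Subgroup.orderOf_mk]), mul_zero]
    · rw [b0_apply_of_isConj hy h3 h.npc hχ, hD, h1, Int.cast_zero]

theorem exists_ker_and_card (h : Q8Data x) :
    (∃ χ ∈ b0 M G, χ ≠ irrOne G ∧ (χ : G → ℂ) (x * x) = (χ : G → ℂ) 1) ∧ (b0 M G).card = 7 := by
  classical
  obtain ⟨D, T, v, z, hD, hT, hz, h2T, hv1, hvv, hvD, hφ, hvan⟩ := h.columns (M := M)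
  have hD1 : D (irrOne G) = 1 := int_irrOne (hD _)
  have hDD := h.sum_sq (M := M) hD
  have hsh : ∀ k, ∃ i j, Shape (b0 M G) (irrOne G) D (v k) i j := fun k =>
    exists_shape one_mem_b0 hD1 (hv1 k) hDD (by simpa [pow_two] using hvv k k) (hvD k)
  choose i j hij using hsh
  have hdeg : ∀ k, ∑ χ ∈ b0 M G, (v k χ : ℂ) * (χ : G → ℂ) 1 = 0 :=
    hφ _ fun u hu => by
      obtain ⟨y, hy⟩ := exists_isPPart 2 u
      exact b0_orth (isPPart_self pelt_one) hy fun h => hy.eq_one_iff.1 (isConj_one_right.1 h) hu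
  have hdeg' : ∀ k, ∑ χ ∈ b0 M G, v k χ * (charDegree (χ : G → ℂ) : ℤ) = 0 := fun k => by
    have := hdeg k
    simp only [← cast_deg] at this
    exact_mod_cast this
  have hoth : ∀ k l, k ≠ l → v l (i k) = 0 ∧ v l (j k) = 0 := fun k l hkl =>
    (hij k).other (hij l) one_mem_b0 (hv1 k) (hv1 l) (by simpa [hkl] using hvv k l)
      (fun χ _ => Nat.cast_ne_zero.2 (charDegree_ne_zero χ)) (hdeg' k) (hdeg' l)
  constructor
  · have e1 := ((hij 0).sum one_mem_b0 _).symm.trans (hdeg 0)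
    have e2 := ((hij 0).sum one_mem_b0 _).symm.trans
      (hφ _ (fun u hu => b0_invol_rank_one h.uniq h.ord_sq hu) 0)
    obtain ⟨hi, hj, -, hio, -, vi, vj, di, dj, -⟩ := hij 0
    have t1 := h2T _ hi
    have t2 := h2T _ hj
    simp only [Fin.sum_univ_three, hoth 0 1 (by decide), hoth 0 2 (by decide), di, dj] at t1 t2
    simp only [hv1, irrOne_apply, Int.cast_one, one_pow, div_one, mul_one] at e1 e2
    simp only [hT, ← cast_deg] at e1 e2
    refine ⟨i 0, hi, hio, ?_⟩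
    rw [hT, ← cast_deg]
    have := eq_of_shape_rel (z := z 0) (charDegree_ne_zero _) (charDegree_ne_zero _) vi vj
      (by have : z 2 = -1 - z 0 - z 1 := by omega
          rw [this] at t1; linarith) (by linarith) e1 e2
    exact_mod_cast this
  · have hi : ∀ k, i k ∈ b0 M G ∧ i k ≠ irrOne G ∧ D (i k) ≠ 0 ∧ v k (i k) ≠ 0 := fun k => by
      obtain ⟨hi, hj, -, hio, -, vi, vj, di, dj, -⟩ := hij k
      exact ⟨hi, hio, by omega, by omega⟩
    have hj : ∀ k, j k ∈ b0 M G ∧ j k ≠ irrOne G ∧ D (j k) = 0 ∧ v k (j k) ≠ 0 := fun k => by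
      obtain ⟨hi, hj, -, -, hjo, vi, vj, di, dj, -⟩ := hij k
      exact ⟨hj, hjo, dj, by omega⟩
    have hii : Function.Injective i := fun k l hkl => by
      by_contra h1
      exact (hi l).2.2.2 (hkl ▸ (hoth k l h1).1)
    have hjj : Function.Injective j := fun k l hkl => by
      by_contra h1
      exact (hj l).2.2.2 (hkl ▸ (hoth k l h1).2)
    have hsupp := card_supp_eq fun χ hχ => sq_eq_of_sum_sq_le one_mem_b0 hD1 hDD.le (i := χ) hχ
    have e1 : insert (irrOne G) (Finset.univ.image i) = (b0 M G).filter fun χ => D χ ≠ 0 := by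
      refine Finset.eq_of_subset_of_card_le ?_ ?_
      · simp [Finset.insert_subset_iff, Finset.image_subset_iff, hi, hD1, one_mem_b0]
      · rw [Finset.card_insert_of_notMem (by simp [hi]), Finset.card_image_of_injective _ hii]
        simp only [Finset.card_univ, Fintype.card_fin]; omega
    have e2 : Finset.univ.image j = (b0 M G).filter fun χ => ¬ D χ ≠ 0 := by
      ext χ
      simp only [Finset.mem_image, Finset.mem_univ, true_and, Finset.mem_filter, not_not]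
      refine ⟨fun ⟨k, hk⟩ => hk ▸ ⟨(hj k).1, (hj k).2.2.1⟩, fun ⟨h1, h2⟩ => ?_⟩
      by_contra h3
      have h4 : χ ≠ irrOne G := fun h => by rw [h] at h2; omega
      obtain ⟨g, h5, h6⟩ := b0_exists_ne_zero h1 h4
      refine h6 (hvan χ h1 h2 (fun k => ?_) g h5)
      exact (hij k).2.2.2.2.2.2.2.2.2 χ h1 h4 (fun h => (hi k).2.2.1 (h ▸ h2))
        fun h => h3 ⟨k, h.symm⟩
    rw [← Finset.card_filter_add_card_filter_not (fun χ => D χ ≠ 0), ← e2,
      Finset.card_image_of_injective _ hjj]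
    simp only [Finset.card_univ, Fintype.card_fin]; omega

end Q8Data

end Cfsg.Agent.Transfer
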