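import Cfsg.Agent.Lib.Transfer.Tet

set_option autoImplicit false
set_option linter.unusedSectionVars false

namespace Cfsg.Agent.Transfer
open Subgroup Cfsg.Agent.MS
open scoped commutatorElement

universe u
variable {G : Type u} [Group G] [Finite G]

theorem A2.der_le_of {S U K : Subgroup G} (h : A2 S U) (hK : ∀ u ∈ U, ∀ s ∈ S, s ∉ U → ⁅u, s⁆ ∈ K) : ⁅S, S⁆ ≤ K := by
  refine commutator_le.2 fun a ha b hb => ?_
  by_cases e : a ∈ U <;> by_cases e' : b ∈ U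
  · rw [commutatorElement_eq_one_iff_mul_comm.2 (h.comm e e')]; exact one_mem _
  · exact hK a e b hb e'
  · rw [← commutatorElement_inv]; exact inv_mem (hK b e' a ha e)
  · obtain ⟨u, hu, rfl⟩ := (h.cases ha e hb).resolve_left e'
    rw [show ⁅a, u * a⁆ = ⁅u, a⁆⁻¹ by simp only [commutatorElement_def]; group]
    exact inv_mem (hK u hu a ha e)

theorem MC.sq_quat {S : Subgroup G} {a b s : G} {n : ℕ} (h : MC S a b n) (h1 : b * b = a ^ 2 ^ n)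
    (h2 : b * a * b⁻¹ = a⁻¹) (hs : s ∈ S) (hs' : s ∉ zpowers a) : s * s = a ^ 2 ^ n := by
  obtain ⟨u, hu, rfl⟩ := (h.a2.cases h.mem_b h.notMem hs).resolve_left hs'
  rw [h.a2.sq_out, inverts_of_mem_zpowers h2 hu, h1, mul_inv_cancel, one_mul]

theorem coprime_of_odd {A : Subgroup G} (hA : IsPGroup 2 A) {g : G} (ho : Odd (orderOf g)) :
    (#(zpowers g)).Coprime #A := by
  obtain ⟨k, hk⟩ := IsPGroup.iff_card.1 hA
  rw [hk, Nat.card_zpowers]; exact (Nat.coprime_two_right.2 ho).pow_right k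

theorem odd_cc_of_invol {A : Subgroup G} (hA : IsPGroup 2 A) (hab : IsMulCommutative A) {g : G}
    (ho : Odd (orderOf g)) (h1 : g ∈ NN A) (h2 : ∀ u ∈ A, u * u = 1 → g * u * g⁻¹ = u) : g ∈ CC A := by
  have h3 : ⁅A, zpowers g⁆ ≤ A := comm_le_left (zpowers_le.2 h1)
  rw [← zpowers_le, ← comm_eq_bot']
  by_contra e
  obtain ⟨X, hX, h4⟩ := pg_exists_card (hA.to_le h3) e
  obtain ⟨u, hu, h5⟩ := exists_ne_one (prime_ne_bot (h4 ▸ Nat.prime_two))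
  refine h5 (eq_one_of_inf (cop_ab_inf hab (zpowers_le.2 h1) (coprime_of_odd hA ho)) ⟨h3 (hX hu), ?_⟩ (hX hu))
  rw [cc_zpowers]
  exact mem_C1_comm.1 (mem_C1_of_conj (h2 u (h3 (hX hu)) (sq u ▸ orderOf_dvd_iff_pow_eq_one.1 (h4 ▸ orderOf_dvd hu))))

theorem odd_cc_of_cyc {A : Subgroup G} (hA : IsPGroup 2 A) (hc : IsCyclic A) {g : G} (ho : Odd (orderOf g))
    (h1 : g ∈ NN A) : g ∈ CC A := by_contra fun e => not_ess_of_cyc hA hc ⟨g, h1, ho, e⟩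

/-- Automorphisms of a subgroup are induced by conjugation in the regular representation. -/
theorem ess_perm {B : Subgroup G} (h : ¬ IsPGroup 2 (MulAut B)) : Ess (B.map (MulAction.toPermHom G G)) := by
  obtain ⟨φ, hφ⟩ := not_forall.1 h
  obtain ⟨T, hT, -⟩ := B.exists_isComplement_right 1
  let g : Equiv.Perm G := hT.equiv.trans ((φ.toEquiv.prodCongr (Equiv.refl T)).trans hT.equiv.symm)
  have h1 : ∀ b : B, g * MulAction.toPermHom G G b * g⁻¹ = MulAction.toPermHom G G (φ b) := fun b => by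
    rw [mul_inv_eq_iff_eq_mul]
    ext a
    simp [g, hT.equiv_mul_left_of_mem b.2, Prod.map]
    exact mul_assoc _ _ _
  have h2 : ∀ k (b : B), g ^ k * MulAction.toPermHom G G b * (g ^ k)⁻¹ = MulAction.toPermHom G G ((φ ^ k) b) :=
    fun k => by
      induction k with
      | zero => simp
      | succ k ih => intro b; rw [pow_succ', pow_succ', MulAut.mul_apply, ← h1, ← ih]; group
  obtain ⟨k, hk⟩ := exists_pow_coprime (p := 2) g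
  refine ⟨g ^ 2 ^ k, mem_normalizer_of_conj_mem ?_, odd_iff_coprime_two.2 hk, fun e => hφ ⟨k, ?_⟩⟩
  · rintro _ ⟨b, hb, rfl⟩
    exact ⟨_, ((φ ^ 2 ^ k) ⟨b, hb⟩).2, (h2 _ ⟨b, hb⟩).symm⟩
  · ext b
    have := h2 (2 ^ k) b
    rw [conj_eq_of_cc e (mem_map_of_mem _ b.2)] at this
    exact (MulAction.toPerm_injective this).symm

abbrev ZZ (a b : G) : Subgroup G := zpowers a ⊔ zpowers b

theorem ZZ_mul (a b : G) : ZZ a (a * b) = ZZ a b :=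
  le_antisymm (sup_le le_sup_left (zpowers_le.2 (mul_mem (mem_sup_left (mem_zpowers a)) (mem_sup_right (mem_zpowers b)))))
    (sup_le le_sup_left (zpowers_le.2 ((Subgroup.mul_mem_cancel_left _ (mem_sup_left (mem_zpowers a))).1
      (mem_sup_right (mem_zpowers _)))))

/-- Wreathed 2-groups. -/
structure Wr (S : Subgroup G) (x y z : G) (n : ℕ) : Prop where
  one : 1 ≤ n
  ord : orderOf x = 2 ^ (n + 1)
  comm : Commute x y
  disj : zpowers x ⊓ zpowers y = ⊥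
  sq : z * z = 1
  cnj : z * x * z⁻¹ = y
  eq : S = ZZ x y ⊔ zpowers z

namespace Wr
variable {S B Q A K : Subgroup G} {x y z s r u g : G} {n : ℕ} (h : Wr S x y z n)
include h

theorem ord_y : orderOf y = 2 ^ (n + 1) := h.cnj ▸ (orderOf_conj z x).trans h.ord
theorem cnj' : z * y * z⁻¹ = x := by
  rw [← h.cnj, show z * (z * x * z⁻¹) * z⁻¹ = z * z * x * (z * z)⁻¹ by group, h.sq]; simp
omit h in
theorem xU : x ∈ ZZ x y := mem_sup_left (mem_zpowers x)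
omit h in
theorem yU : y ∈ ZZ x y := mem_sup_right (mem_zpowers y)
omit h in
theorem wU : zpowers (x * y) ≤ ZZ x y := zpowers_le.2 (mul_mem xU yU)
omit h in
theorem cU : zpowers (x * y⁻¹) ≤ ZZ x y := zpowers_le.2 (mul_mem xU (inv_mem yU))
theorem abU : IsMulCommutative (ZZ x y) := ab_iff.2 (by
  rw [cc_sup, cc_zpowers, cc_zpowers]
  exact sup_le (zpowers_le.2 ⟨self_mem_C1 x, mem_C1.2 h.comm⟩) (zpowers_le.2 ⟨mem_C1.2 h.comm.symm, self_mem_C1 y⟩))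
theorem eq_one (h1 : u ∈ zpowers x) (h2 : u ∈ zpowers y) : u = 1 := eq_one_of_inf h.disj h1 h2
theorem ord_x0 : orderOf (x ^ 2 ^ n) = 2 := by rw [orderOf_two_pow h.ord (by omega)]; simp
theorem ord_y0 : orderOf (y ^ 2 ^ n) = 2 := by rw [orderOf_two_pow h.ord_y (by omega)]; simp
theorem x0_ne : x ^ 2 ^ n ≠ 1 := ne_one_of_orderOf h.ord_x0
theorem notMem : z ∉ ZZ x y := fun e => h.x0_ne (by
  rw [h.eq_one (mem_zpowers x) (by rw [← h.cnj, conj_eq_of_cc (ab_cc h.abU e) xU]; exact mem_zpowers x), one_pow])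
theorem a2 : A2 S (ZZ x y) := by
  refine ⟨h.eq ▸ ix2_sup (mem_normalizer_of_cj_le ?_) (h.sq ▸ one_mem _) h.notMem, h.abU⟩
  rw [cj_sup, cj_zpowers, cj_zpowers, h.cnj, h.cnj', sup_comm]
theorem le : ZZ x y ≤ S := h.a2.le
theorem mem_z : z ∈ S := h.eq ▸ mem_sup_right (mem_zpowers z)
theorem card_U : #(ZZ x y) = 2 ^ (2 * (n + 1)) := by
  rw [card_sup_l (ab_nn h.abU le_sup_right le_sup_left) h.disj, Nat.card_zpowers, Nat.card_zpowers, h.ord, h.ord_y,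
    two_mul, pow_add 2 (n + 1)]
theorem card : #S = 2 ^ (2 * (n + 1) + 1) := by rw [h.a2.card, h.card_U, pow_succ']
theorem pg : IsPGroup 2 S := IsPGroup.of_card h.card
theorem cnj_x (hs : s ∈ S) (hs' : s ∉ ZZ x y) : s * x * s⁻¹ = y :=
  (h.a2.conj_eq hs hs' h.mem_z h.notMem xU).trans h.cnj
theorem cnj_y (hs : s ∈ S) (hs' : s ∉ ZZ x y) : s * y * s⁻¹ = x :=
  (h.a2.conj_eq hs hs' h.mem_z h.notMem yU).trans h.cnj'
theorem out (hs : s ∈ S) (hs' : s ∉ ZZ x y) (h1 : s * s = 1) : Wr S x y s n :=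
  ⟨h.one, h.ord, h.comm, h.disj, h1, h.cnj_x hs hs', h.a2.eq_sup hs hs'⟩

theorem ord_mul {v : G} (hv : zpowers v = zpowers y) : orderOf (x * v) = 2 ^ (n + 1) := by
  have h1 : v ∈ zpowers y := hv ▸ mem_zpowers v
  have h2 : Commute x v := h.a2.comm xU (mem_sup_right h1)
  have h3 : orderOf v = orderOf x := by rw [← Nat.card_zpowers, hv, Nat.card_zpowers, h.ord_y, h.ord]
  rw [← h.ord, orderOf_eq_orderOf_iff]
  refine fun k => ⟨fun e => h.eq_one (pow_mem (mem_zpowers x) k) ?_, fun e => ?_⟩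
  · rw [h2.mul_pow, mul_eq_one_iff_eq_inv] at e
    exact e ▸ inv_mem (pow_mem h1 k)
  · rw [h2.mul_pow, e, (orderOf_eq_orderOf_iff.1 h3 k).2 e, mul_one]

theorem ord_w : orderOf (x * y) = 2 ^ (n + 1) := h.ord_mul rfl
theorem ord_c : orderOf (x * y⁻¹) = 2 ^ (n + 1) := h.ord_mul zpowers_inv

theorem mem_xv {v : G} (hv : zpowers v = zpowers y) (hu : u ∈ ZZ x y) :
    ∃ i : ℕ, ∃ d ∈ zpowers (x * v), u = x ^ i * d := by
  have e : ZZ x (x * v) = ZZ x y := by rw [ZZ_mul, ZZ, hv]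
  obtain ⟨a, ha, d, hd, rfl⟩ := (mem_sup_l (ab_nn h.abU (e ▸ le_sup_right) le_sup_left)).1 (e.ge hu)
  obtain ⟨i, rfl⟩ := exists_pow_eq ha
  exact ⟨i, d, hd, rfl⟩

theorem w_cent : x * y ∈ CC S := h.a2.cent h.mem_z h.notMem (mul_mem xU yU) (by
  rw [← mul_inv_eq_iff_eq_mul, ← conj_mul, h.cnj, h.cnj', h.comm.eq])
theorem Z_cent : zpowers (x * y) ≤ CC S := zpowers_le.2 h.w_cent
theorem Z_le : zpowers (x * y) ≤ S := wU.trans h.le
theorem inv_c (hs : s ∈ S) (hs' : s ∉ ZZ x y) : s * (x * y⁻¹) * s⁻¹ = (x * y⁻¹)⁻¹ := by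
  rw [← conj_mul, ← conj_inv, h.cnj_x hs hs', h.cnj_y hs hs', mul_inv_rev, inv_inv]

theorem fix (hs : s ∈ S) (hs' : s ∉ ZZ x y) (hu : u ∈ ZZ x y) (e : s * u = u * s) : u ∈ zpowers (x * y) := by
  obtain ⟨i, d, hd, rfl⟩ := h.mem_xv rfl hu
  rw [← mul_inv_eq_iff_eq_mul, ← conj_mul, ← conj_pow, h.cnj_x hs hs', h.Z_cent hd s hs, mul_inv_cancel_right,
    mul_left_inj] at e
  rwa [h.eq_one (pow_mem (mem_zpowers x) i) (e ▸ pow_mem (mem_zpowers y) i), one_mul]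

theorem norm (hs : s ∈ S) (hs' : s ∉ ZZ x y) (hu : u ∈ ZZ x y) (e : s * u * s⁻¹ = u⁻¹) : u ∈ zpowers (x * y⁻¹) := by
  obtain ⟨i, d, hd, rfl⟩ := h.mem_xv zpowers_inv hu
  rw [← conj_mul, ← conj_pow, h.cnj_x hs hs', inverts_of_mem_zpowers (h.inv_c hs hs') hd, mul_inv_rev,
    h.a2.comm (inv_mem (cU hd)) (inv_mem (pow_mem xU i)), mul_left_inj] at e
  rwa [h.eq_one (pow_mem (mem_zpowers x) i) (inv_mem_iff.1 (e ▸ pow_mem (mem_zpowers y) i)), one_mul]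

theorem x0_notMem : x ^ 2 ^ n ∉ zpowers (x * y) := fun e => by
  have := conj_eq_of_C1 (mem_C1.2 (h.Z_cent e z h.mem_z))
  rw [← conj_pow, h.cnj] at this
  exact h.x0_ne (h.eq_one (pow_mem (mem_zpowers x) _) (this ▸ pow_mem (mem_zpowers y) _))

theorem not_ab : ¬ IsMulCommutative S := fun e =>
  h.x0_notMem (h.fix h.mem_z h.notMem (pow_mem xU _) (ab_cc e (h.le (pow_mem xU _)) z h.mem_z))

theorem center : S ⊓ CC S = zpowers (x * y) :=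
  le_antisymm (fun _ hu => h.fix h.mem_z h.notMem (h.a2.center_le_U h.not_ab hu) (hu.2 z h.mem_z))
    (le_inf h.Z_le h.Z_cent)

theorem sq_out (hs : s ∈ S) (hs' : s ∉ ZZ x y) : s * s ∈ zpowers (x * y) :=
  h.center.le ⟨mul_mem hs hs, h.a2.sq_cent hs hs'⟩

theorem conj_x (hs : s ∈ S) (hs' : s ∉ ZZ x y) (i : ℕ) : x ^ i * s * (x ^ i)⁻¹ = (x * y⁻¹) ^ i * s := by
  rw [h.a2.conj_out, ← conj_pow, h.cnj_x hs hs', h.comm.inv_right.mul_pow, inv_pow]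

theorem out_div (hs : s ∈ S) (hs' : s ∉ ZZ x y) (hr : r ∈ S) (hr' : r ∉ ZZ x y) (e : s * s = r * r) :
    r * s⁻¹ ∈ zpowers (x * y⁻¹) := by
  obtain ⟨u, hu, rfl⟩ := (h.a2.cases hs hs' hr).resolve_left hr'
  rw [h.a2.sq_out, eq_comm, mul_eq_right, mul_eq_one_iff_inv_eq] at e
  rw [mul_inv_cancel_right]
  exact h.norm hs hs' hu e.symm

theorem out_conj (hs : s ∈ S) (hs' : s ∉ ZZ x y) (hr : r ∈ S) (hr' : r ∉ ZZ x y) (e : s * s = r * r) :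
    ∃ u ∈ ZZ x y, u * s * u⁻¹ = r := by
  obtain ⟨i, hi⟩ := exists_pow_eq (h.out_div hs hs' hr hr' e)
  exact ⟨x ^ i, pow_mem xU i, by rw [h.conj_x hs hs', hi, inv_mul_cancel_right]⟩

theorem der : ⁅S, S⁆ = zpowers (x * y⁻¹) := by
  refine le_antisymm (h.a2.der_le_of fun u hu s hs hs' => ?_) (zpowers_le.2 ?_)
  · obtain ⟨i, d, hd, rfl⟩ := h.mem_xv rfl hu
    rw [commutatorElement_def, show x ^ i * d * s * (x ^ i * d)⁻¹ = x ^ i * (d * s * d⁻¹) * (x ^ i)⁻¹ by group,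
      conj_eq_of_cc (h.Z_cent hd) hs, h.conj_x hs hs', mul_inv_cancel_right]
    exact pow_mem (mem_zpowers _) i
  · have := commutator_mem_commutator (h.le xU) h.mem_z
    rwa [commutatorElement_def, show x * z * x⁻¹ * z⁻¹ = x * (z * x * z⁻¹)⁻¹ by group, h.cnj] at this

theorem t_eq : x ^ 2 ^ n * y ^ 2 ^ n = (x * y⁻¹) ^ 2 ^ n := by
  rw [h.comm.inv_right.mul_pow, inv_pow, inv_eq_of_mul_eq_one_right (mul_self_of_orderOf h.ord_y0)]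
theorem t_mem : (x * y⁻¹) ^ 2 ^ n ∈ zpowers (x * y) := by
  rw [← h.t_eq, ← h.comm.mul_pow]; exact pow_mem (mem_zpowers _) _
theorem ord_t : orderOf ((x * y⁻¹) ^ 2 ^ n) = 2 := by rw [orderOf_two_pow h.ord_c (by omega)]; simp
theorem t_ne : (x * y⁻¹) ^ 2 ^ n ≠ 1 := ne_one_of_orderOf h.ord_t
theorem t_mul : (x * y⁻¹) ^ 2 ^ n * (x * y⁻¹) ^ 2 ^ n = 1 := mul_self_of_orderOf h.ord_t
theorem Z_inv (hu : u ∈ zpowers (x * y)) (h1 : u * u = 1) : u = 1 ∨ u = (x * y⁻¹) ^ 2 ^ n := by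
  rw [← h.t_eq, ← h.comm.mul_pow]; exact Solv.eq_one_or_eq_of_sq h.ord_w hu (by rwa [pow_two])
theorem w_sq : x * y * (x * y) ≠ 1 := fun e => by
  have := orderOf_dvd_of_pow_eq_one (show (x * y) ^ 2 ^ 1 = 1 from (pow_two _).trans e)
  rw [h.ord_w, Nat.pow_dvd_pow_iff_le_right (by decide)] at this
  have := h.one; omega
theorem cnj_x0 (hs : s ∈ S) (hs' : s ∉ ZZ x y) : s * x ^ 2 ^ n * s⁻¹ = y ^ 2 ^ n := by rw [← conj_pow, h.cnj_x hs hs']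
theorem cw : (x * y⁻¹) ^ 2 ^ (n - 1) * (x * y) ^ 2 ^ (n - 1) = x ^ 2 ^ n := by
  rw [← Commute.mul_pow (h.a2.comm (cU (mem_zpowers _)) (wU (mem_zpowers _))), mul_assoc, h.comm.eq,
    inv_mul_cancel_left, ← pow_two, ← pow_mul, ← pow_succ', Nat.sub_add_cancel h.one]

theorem klein_T : IsKleinFour (ZZ (x ^ 2 ^ n) (y ^ 2 ^ n)) :=
  klein_closure h.ord_x0 h.ord_y0 (fun e => h.x0_ne (h.eq_one (pow_mem (mem_zpowers x) _)
    (e ▸ pow_mem (mem_zpowers y) _))) (h.comm.pow_pow _ _)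
omit h in
theorem T_le : ZZ (x ^ 2 ^ n) (y ^ 2 ^ n) ≤ ZZ x y := sup_le (zpowers_le.2 (pow_mem xU _)) (zpowers_le.2 (pow_mem yU _))
theorem t_T : (x * y⁻¹) ^ 2 ^ n ∈ ZZ (x ^ 2 ^ n) (y ^ 2 ^ n) := h.t_eq ▸ mul_mem xU yU

theorem inv_U (hu : u ∈ ZZ x y) (h1 : u * u = 1) :
    u = 1 ∨ u = x ^ 2 ^ n ∨ u = y ^ 2 ^ n ∨ u = (x * y⁻¹) ^ 2 ^ n := by
  obtain ⟨a, ha, b, hb, rfl⟩ := (mem_sup_l (ab_nn h.abU le_sup_right le_sup_left)).1 hu
  rw [← pow_two, Commute.mul_pow (h.a2.comm (mem_sup_left ha) (mem_sup_right hb)), mul_eq_one_iff_eq_inv] at h1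
  have h2 := h.eq_one (pow_mem ha 2) (h1 ▸ inv_mem (pow_mem hb 2))
  rw [h2, eq_comm, inv_eq_one] at h1
  rcases Solv.eq_one_or_eq_of_sq h.ord ha h2 with rfl | rfl <;>
    rcases Solv.eq_one_or_eq_of_sq h.ord_y hb h1 with rfl | rfl <;> simp [h.t_eq]

theorem mem_T (hu : u ∈ ZZ x y) (h1 : u * u = 1) : u ∈ ZZ (x ^ 2 ^ n) (y ^ 2 ^ n) := by
  rcases h.inv_U hu h1 with rfl | rfl | rfl | rfl
  exacts [one_mem _, xU, yU, h.t_T]

theorem invol (hs : s ∈ S) (h2 : orderOf s = 2) :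
    s = (x * y⁻¹) ^ 2 ^ n ∨ (∃ u ∈ S, u * x ^ 2 ^ n * u⁻¹ = s) ∨ ∃ u ∈ S, u * z * u⁻¹ = s := by
  by_cases e : s ∈ ZZ x y
  · rcases h.inv_U e (mul_self_of_orderOf h2) with rfl | rfl | rfl | rfl
    exacts [absurd rfl (ne_one_of_orderOf h2), .inr (.inl ⟨1, one_mem _, by simp⟩),
      .inr (.inl ⟨z, h.mem_z, h.cnj_x0 h.mem_z h.notMem⟩), .inl rfl]
  · obtain ⟨u, hu, e⟩ := h.out_conj h.mem_z h.notMem hs e (h.sq.trans (mul_self_of_orderOf h2).symm)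
    exact .inr (.inr ⟨u, h.le hu, e⟩)

theorem ord_z : orderOf z = 2 := orderOf_eq_two h.sq fun e => h.notMem (e ▸ one_mem _)

theorem mc (hs : s ∈ S) (hs' : s ∉ ZZ x y) (h1 : s * s ∈ zpowers (x * y⁻¹)) : MC (ZZ (x * y⁻¹) s) (x * y⁻¹) s n :=
  ⟨h.ord_c, fun e => hs' (cU e), rfl, h1, .inl (h.inv_c hs hs')⟩

theorem mem_s0 : x ^ 2 ^ n * z ∈ S := mul_mem (h.le (pow_mem xU _)) h.mem_z
theorem s0_out : x ^ 2 ^ n * z ∉ ZZ x y := by
  rw [Subgroup.mul_mem_cancel_left _ (pow_mem xU _)]; exact h.notMem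
theorem sq_s0 : x ^ 2 ^ n * z * (x ^ 2 ^ n * z) = (x * y⁻¹) ^ 2 ^ n := by
  rw [h.a2.sq_out, h.cnj_x0 h.mem_z h.notMem, h.sq, mul_one, h.t_eq]
theorem mcY : MC (ZZ (x * y⁻¹) (x ^ 2 ^ n * z)) (x * y⁻¹) (x ^ 2 ^ n * z) n :=
  h.mc h.mem_s0 h.s0_out (h.sq_s0 ▸ pow_mem (mem_zpowers _) _)
theorem Y_le : ZZ (x * y⁻¹) (x ^ 2 ^ n * z) ≤ S := sup_le (cU.trans h.le) (zpowers_le.2 h.mem_s0)
theorem nn_Y : S ≤ NN (ZZ (x * y⁻¹) (x ^ 2 ^ n * z)) := nn_of_der_le (h.der.le.trans le_sup_left) h.Y_le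
theorem quat_Y : Nonempty (ZZ (x * y⁻¹) (x ^ 2 ^ n * z) ≃* QuaternionGroup (2 ^ n)) := by
  rw [ZZ, ← closure_pair_eq]
  exact nonempty_quaternion_closure (by rw [h.ord_c, pow_succ']) (h.inv_c h.mem_s0 h.s0_out)
    (by rw [pow_two, h.sq_s0]) h.mcY.notMem
theorem Y_inf (hu : u ∈ ZZ (x * y⁻¹) (x ^ 2 ^ n * z)) (h1 : u ∈ ZZ x y) : u ∈ zpowers (x * y⁻¹) :=
  (h.mcY.a2.cases h.mcY.mem_b h.mcY.notMem hu).resolve_right fun ⟨v, hv, e⟩ =>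
    h.s0_out ((Subgroup.mul_mem_cancel_left _ (cU hv)).1 (e ▸ h1))
theorem mem_Y (hs : s ∈ S) (hs' : s ∉ ZZ x y) (h1 : s * s = (x * y⁻¹) ^ 2 ^ n) : s ∈ ZZ (x * y⁻¹) (x ^ 2 ^ n * z) :=
  (Subgroup.mul_mem_cancel_right _ (inv_mem yU)).1
    (mem_sup_left (h.out_div h.mem_s0 h.s0_out hs hs' (h.sq_s0.trans h1.symm)))

theorem quat_le {a b : G} {m : ℕ} (hQ : Q ≤ S) (h1 : MC Q a b m) (hm : 1 ≤ m) (h2 : b * b = a ^ 2 ^ m)
    (h3 : b * a * b⁻¹ = a⁻¹) : Q ≤ ZZ (x * y⁻¹) (x ^ 2 ^ n * z) := by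
  obtain ⟨s, hs, hs'⟩ := h.a2.out_of_nonab (h1.not_ab hm)
  refine (h.a2.inf hQ hs hs').le_of_out fun s hs hs' => ?_
  replace hs' : s ∉ ZZ x y := fun e => hs' ⟨hs, e⟩
  have h4 := h.sq_out (hQ hs) hs'
  have h5 : s * s ∈ zpowers (a ^ 2 ^ m) := (h1.center hm).le ⟨mul_mem hs hs, cc_anti hQ (h.Z_cent h4)⟩
  refine h.mem_Y (hQ hs) hs' ((h.Z_inv h4 ?_).resolve_left fun e => hs' ?_)
  · rcases (mem_zpowers_iff_of_sq h1.z_mul).1 h5 with e | e <;> rw [e]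
    exacts [mul_one _, h1.z_mul]
  · by_cases e1 : s ∈ zpowers a
    · rcases h1.inv_eq e1 e with rfl | rfl
      exacts [one_mem _, h2 ▸ h.a2.sq_mem (hQ h1.mem_b)]
    · exact absurd ((h1.sq_quat h2 h3 hs e1).symm.trans e) (ne_one_of_orderOf h1.ord_z)

theorem q8_le (hQ : Q ≤ S) (h8 : IsQ8 Q) : Q ≤ ZZ (x * y⁻¹) (x ^ 2 ^ n * z) :=
  let ⟨_, _, h1, h2, h3⟩ := mc_of_quaternion (m := 1) h8.some
  h.quat_le hQ h1 le_rfl h2 h3

theorem q8 (hQ : Q ≤ S) (h8 : IsQ8 Q) :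
    ∃ s ∈ S, s ∉ ZZ x y ∧ s * s = (x * y⁻¹) ^ 2 ^ n ∧ Q = Xk (x * y⁻¹) (n - 1) s :=
  let ⟨_, s, hs, hs', h1, h2⟩ := h.mcY.q8 (h.q8_le hQ h8) h8
  ⟨s, h.Y_le hs, fun e => hs' (h.Y_inf hs e), h1, h2⟩

theorem q8_X (hs : s ∈ S) (hs' : s ∉ ZZ x y) (h1 : s * s = (x * y⁻¹) ^ 2 ^ n) : IsQ8 (Xk (x * y⁻¹) (n - 1) s) :=
  (h.mc hs hs' (h1 ▸ pow_mem (mem_zpowers _) _)).q8_X h.one h1

theorem X_le (hs : s ∈ S) (k : ℕ) : Xk (x * y⁻¹) k s ≤ S :=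
  sup_le (zpowers_le.2 (h.le (cU (pow_mem (mem_zpowers _) _)))) (zpowers_le.2 hs)

theorem q8_conj {Q' : Subgroup G} (hQ : Q ≤ S) (h8 : IsQ8 Q) (hQ' : Q' ≤ S) (h8' : IsQ8 Q') :
    ∃ u ∈ S, cj u Q = Q' ∧ cj u (Q ⊔ zpowers (x * y)) = Q' ⊔ zpowers (x * y) := by
  obtain ⟨s, hs, hs', h1, rfl⟩ := h.q8 hQ h8
  obtain ⟨r, hr, hr', h2, rfl⟩ := h.q8 hQ' h8'
  obtain ⟨u, hu, rfl⟩ := h.out_conj hs hs' hr hr' (h1.trans h2.symm)
  have : cj u (Xk (x * y⁻¹) (n - 1) s) = Xk (x * y⁻¹) (n - 1) (u * s * u⁻¹) := by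
    rw [cj_sup, cj_zpowers, cj_zpowers, h.a2.conj_in hu (cU (pow_mem (mem_zpowers _) _))]
  exact ⟨u, h.le hu, this, by rw [cj_sup, this, cj_cc (cc_symm h.Z_cent (h.le hu))]⟩

theorem map {G' : Type u} [Group G'] [Finite G'] {f : G →* G'} (hf : Function.Injective f) :
    Wr (S.map f) (f x) (f y) (f z) n :=
  ⟨h.one, (orderOf_injective f hf x).trans h.ord, h.comm.map f, by
    rw [← MonoidHom.map_zpowers, ← MonoidHom.map_zpowers, ← Subgroup.map_inf _ _ _ hf, h.disj, Subgroup.map_bot],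
    by rw [← map_mul, h.sq, map_one], by rw [← h.cnj, map_mul, map_mul, map_inv],
    by simp only [h.eq, Subgroup.map_sup, MonoidHom.map_zpowers]⟩

end Wr

theorem wr_top (h : IsWreathed G) : ∃ x y z n, Wr (⊤ : Subgroup G) x y z n := by
  obtain ⟨_ | n, hn, hc, x, y, z, h1, h2, h3, h4, h5⟩ := h
  · omega
  have h : Wr _ x y z n := ⟨by omega, h1, h2, h3, mul_self_of_orderOf h4, h5, rfl⟩
  have e : ZZ x y ⊔ zpowers z = ⊤ := eq_of_card_le le_top (by rw [card_top, hc, h.card])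
  exact ⟨x, y, z, n, e ▸ h⟩

theorem wr_of {S : Subgroup G} (h : IsWreathed S) : ∃ x y z n, Wr S x y z n := by
  obtain ⟨x, y, z, n, h⟩ := wr_top h
  have := h.map S.subtype_injective
  rw [← MonoidHom.range_eq_map, range_subtype] at this
  exact ⟨_, _, _, _, this⟩

end Cfsg.Agent.Transfer
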