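import Cfsg.Agent.Lib.Transfer.Wr

set_option autoImplicit false
set_option linter.unusedSectionVars false

namespace Cfsg.Agent.Transfer
open Subgroup Cfsg.Agent.MS
open scoped commutatorElement

universe u
variable {G : Type u} [Group G] [Finite G]

namespace Wr
variable {S B Q A K : Subgroup G} {x y z s r u g : G} {n : ℕ} (h : Wr S x y z n)
include h

theorem ab_le (hA : A ≤ S) (hab : IsMulCommutative A) (hs : s ∈ A) (hs' : s ∉ ZZ x y) :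
    A ⊓ ZZ x y ≤ zpowers (x * y) := fun _ hu => h.fix (hA hs) hs' hu.2 (ab_cc hab hu.1 s hs)

theorem eq_U (hA : A ≤ S) (hab : IsMulCommutative A) (hc : #A = 2 ^ (2 * (n + 1))) : A = ZZ x y := by
  refine eq_of_card_le (by_contra fun e => ?_) (by rw [hc, h.card_U])
  obtain ⟨s, hs, hs'⟩ := SetLike.not_le_iff_exists.1 e
  have h1 := card_le_of_le (h.ab_le hA hab hs hs')
  have h2 := (h.a2.inf hA hs hs').card
  rw [Nat.card_zpowers, h.ord_w] at h1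
  have h3 : 2 ^ (2 * (n + 1)) ≤ 2 ^ (n + 2) := by rw [← hc, h2, pow_succ' 2 (n + 1)]; omega
  have := (Nat.pow_le_pow_iff_right (by decide)).1 h3
  have := h.one; omega

theorem odd_cc (hA : A ≤ ZZ x y) (ho : Odd (orderOf g)) (h1 : g ∈ NN A) (h2 : g ∈ C1 ((x * y⁻¹) ^ 2 ^ n)) :
    g ∈ CC A := by
  refine odd_cc_of_invol (h.pg.to_le (hA.trans h.le)) (ab_mono h.abU hA) ho h1 fun u hu h3 => ?_
  by_cases e : ZZ (x ^ 2 ^ n) (y ^ 2 ^ n) ≤ A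
  · have h4 : g ∈ NN (ZZ (x ^ 2 ^ n) (y ^ 2 ^ n)) := mem_normalizer_of_conj_mem fun v hv =>
      h.mem_T (hA (conj_mem_of_mem_normalizer h1 (e hv))) (conj_mul_self (elem_mul_self (klein_elem h.klein_T) hv) g)
    refine conj_eq_of_cc (by_contra fun e1 => h.x0_notMem ?_) (h.mem_T (hA hu) h3)
    obtain ⟨c, hc, e2⟩ := klein_conj_of_odd h.klein_T h4 ho e1 h.t_T h.t_ne xU h.x0_ne
    rw [← e2, conj_eq_of_C1 (zpowers_le.2 h2 hc)]; exact h.t_mem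
  have key : ∀ u ∈ A, u * u = 1 → u ≠ 1 → u ≠ (x * y⁻¹) ^ 2 ^ n → (u = x ^ 2 ^ n ∧ x ^ 2 ^ n ∈ A) ∨
      (u = y ^ 2 ^ n ∧ y ^ 2 ^ n ∈ A) := fun u hu h3 h4 h5 => by
    rcases h.inv_U (hA hu) h3 with rfl | rfl | rfl | rfl
    exacts [absurd rfl h4, .inl ⟨rfl, hu⟩, .inr ⟨rfl, hu⟩, absurd rfl h5]
  by_cases e1 : u = 1
  · simp [e1]
  by_cases e2 : u = (x * y⁻¹) ^ 2 ^ n
  · rw [e2, conj_eq_of_C1 h2]
  have h4 := key _ (conj_mem_of_mem_normalizer h1 hu) (conj_mul_self h3 g) (mt conj_eq_one_iff.1 e1) fun e3 => e2 (by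
    rwa [← conj_eq_of_C1 h2, mul_left_inj, mul_right_inj] at e3)
  rcases key u hu h3 e1 e2 with a | a <;> rcases h4 with b | b
  exacts [b.1.trans a.1.symm, absurd (sup_le (zpowers_le.2 a.2) (zpowers_le.2 b.2)) e,
    absurd (sup_le (zpowers_le.2 b.2) (zpowers_le.2 a.2)) e, b.1.trans a.1.symm]

theorem center_eq (hB : B ≤ S) (hn : ¬ IsMulCommutative B) (hZ : zpowers (x * y) ≤ B) : B ⊓ CC B = zpowers (x * y) :=
  le_antisymm ((le_inf (inf_le_left.trans hB) (h.a2.center_le hB hn)).trans h.center.le)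
    (le_inf hZ (h.Z_cent.trans (cc_anti hB)))

section V
variable (hQ : Q ≤ S) (h8 : IsQ8 Q)
include hQ h8

omit h8 in
theorem V_le : Q ⊔ zpowers (x * y) ≤ S := sup_le hQ h.Z_le
omit h hQ in
theorem V_not_ab : ¬ IsMulCommutative (Q ⊔ zpowers (x * y) : Subgroup G) := fun e => h8.not_ab (ab_mono e le_sup_left)
theorem center_V : (Q ⊔ zpowers (x * y)) ⊓ CC (Q ⊔ zpowers (x * y) : Subgroup G) = zpowers (x * y) :=
  h.center_eq (h.V_le hQ) (V_not_ab h8) le_sup_right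
omit h8 in
theorem Q_cc : Q ≤ CC (zpowers (x * y)) := cc_symm (h.Z_cent.trans (cc_anti hQ))

theorem card_V : #(Q ⊔ zpowers (x * y) : Subgroup G) = 2 ^ (n + 3) := by
  have h1 := card_sup_mul_card_inf (nn_of_cc (h.Q_cc hQ))
  have h2 : Q ⊓ zpowers (x * y) = Q ⊓ CC Q := le_antisymm (inf_le_inf_left _ (h.Z_cent.trans (cc_anti hQ)))
    (le_inf inf_le_left ((le_inf (inf_le_left.trans hQ) (h.a2.center_le hQ h8.not_ab)).trans h.center.le))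
  rw [h2, h8.card_center, h8.card, Nat.card_zpowers, h.ord_w] at h1
  refine Nat.eq_of_mul_eq_mul_right two_pos (h1.trans ?_); ring

theorem t_Q : (x * y⁻¹) ^ 2 ^ n ∈ Q := by
  obtain ⟨s, hs, hs', h1, rfl⟩ := h.q8 hQ h8
  exact h1 ▸ mul_mem yU yU

theorem V_inf_Y : (Q ⊔ zpowers (x * y)) ⊓ ZZ (x * y⁻¹) (x ^ 2 ^ n * z) = Q := by
  rw [dedekind' (h.q8_le hQ h8) (nn_of_cc (h.Q_cc hQ)), sup_eq_left]
  exact ((inf_comm _ _).le.trans (inf_le_inf_left _ (h.Z_cent.trans (cc_anti h.Y_le)))).trans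
    ((h.mcY.center h.one).le.trans (zpowers_le.2 (h.t_Q hQ h8)))

theorem nn_Q : NN (Q ⊔ zpowers (x * y) : Subgroup G) ≤ NN Q := fun g hg => mem_normalizer_of_cj_le
  ((le_inf (cj_le le_sup_left hg) (h.q8_le ((cj_le le_sup_left hg).trans (h.V_le hQ)) (h8.cj g))).trans
    (h.V_inf_Y hQ h8).le)

theorem nn_Z : NN (Q ⊔ zpowers (x * y) : Subgroup G) ≤ NN (zpowers (x * y)) :=
  (nn_inf le_rfl (nn_cc le_rfl)).trans (by rw [h.center_V hQ h8])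

theorem odd_Z (ho : Odd (orderOf g)) (h1 : g ∈ NN (Q ⊔ zpowers (x * y) : Subgroup G)) : g ∈ CC (zpowers (x * y)) :=
  odd_cc_of_cyc (h.pg.to_le h.Z_le) (cyc_zpowers _) ho (h.nn_Z hQ h8 h1)

theorem ess_V : Ess (Q ⊔ zpowers (x * y)) → ∃ g ∈ NN Q, Odd (orderOf g) ∧ g ∉ CC Q ∧ g ∈ CC (zpowers (x * y)) :=
  fun ⟨g, h1, h2, h3⟩ => ⟨g, h.nn_Q hQ h8 h1, h2, fun e => h3 ((cc_sup _ _).ge ⟨e, h.odd_Z hQ h8 h2 h1⟩),
    h.odd_Z hQ h8 h2 h1⟩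

theorem c1_Q : (x * y⁻¹) ^ 2 ^ (n - 1) ∈ Q := by
  obtain ⟨s, hs, hs', h1, rfl⟩ := h.q8 hQ h8
  exact xU

theorem x0_V : x ^ 2 ^ n ∈ Q ⊔ zpowers (x * y) :=
  h.cw ▸ mul_mem (mem_sup_left (h.c1_Q hQ h8)) (mem_sup_right (pow_mem (mem_zpowers _) _))

theorem ix2_V : Ix2 (S ⊓ NN (Q ⊔ zpowers (x * y) : Subgroup G)) (Q ⊔ zpowers (x * y)) := by
  have a1 := h.x0_V hQ h8
  have a2 := h.nn_Q hQ h8
  have a3 := h.V_le hQ
  have a4 := h.Q_cc hQ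
  obtain ⟨s, hs, hs', h1, rfl⟩ := h.q8 hQ h8
  have hm := h.mc hs hs' (h1 ▸ pow_mem (mem_zpowers _) _)
  have hn := h.one
  have b1 : x ^ 2 ^ (n - 1) * x ^ 2 ^ (n - 1) = x ^ 2 ^ n := by
    rw [← pow_two, ← pow_mul, ← pow_succ, Nat.sub_add_cancel hn]
  have b2 : x ^ 2 ^ (n - 1) ∈ NN (Xk (x * y⁻¹) (n - 1) s ⊔ zpowers (x * y) : Subgroup G) := by
    refine mem_normalizer_of_cj_le ?_
    rw [cj_sup, cj_sup, cj_zpowers, cj_zpowers, cj_cc (cc_symm h.Z_cent (h.le (pow_mem xU _))), h.conj_x hs hs',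
      h.a2.conj_in (pow_mem xU _) (cU (pow_mem (mem_zpowers _) _))]
    exact sup_le_sup_right (sup_le le_sup_left (zpowers_le.2 (mul_mem xU yU))) _
  have b3 : x ^ 2 ^ (n - 1) ∉ Xk (x * y⁻¹) (n - 1) s ⊔ zpowers (x * y) := fun e => by
    obtain ⟨q, hq, d, hd, e⟩ := (mem_sup_r (nn_of_cc a4)).1 e
    have c1 : q ∈ ZZ x y := (Subgroup.mul_mem_cancel_right _ (wU hd)).1 (e ▸ pow_mem xU _)
    obtain ⟨k, rfl⟩ := exists_pow_eq (hm.X_inf (by omega) (h.Y_inf (h.q8_le hQ h8 hq) c1) hq)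
    refine h.x0_notMem ?_
    rw [← b1, e, ← pow_two, Commute.mul_pow (h.a2.comm c1 (wU hd)), ← pow_mul, mul_comm k, pow_mul, pow_two,
      hm.w_mul hn]
    exact mul_mem (pow_mem h.t_mem k) (pow_mem hd 2)
  have b4 := ix2_sup b2 (b1 ▸ a1) b3
  convert b4 using 1
  refine le_antisymm ?_ (le_inf (sup_le a3 (zpowers_le.2 (h.le (pow_mem xU _)))) (sup_le (le_nn _) (zpowers_le.2 b2)))
  have b5 : s ∈ Xk (x * y⁻¹) (n - 1) s ⊔ zpowers (x * y) := mem_sup_left yU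
  refine (h.a2.inf inf_le_left ⟨hs, le_nn _ b5⟩ hs').le_of ⟨hs, le_nn _ b5⟩ (fun e => hs' e.2) (fun u hu => ?_)
    (mem_sup_left b5)
  obtain ⟨i, d, hd, rfl⟩ := h.mem_xv rfl hu.2
  refine mul_mem (mem_sup_right ?_) (mem_sup_left (mem_sup_right hd))
  have c1 := conj_mem_of_mem_normalizer (a2 ((Subgroup.mul_mem_cancel_right _ (le_nn _ (mem_sup_right hd))).1 hu.1.2))
    (yU : s ∈ _)
  rw [h.conj_x hs hs', Subgroup.mul_mem_cancel_right _ yU] at c1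
  have c2 := (hm.mem_pow_iff (by omega) (pow_mem (mem_zpowers _) i)).1
    (hm.X_inf (by omega) (pow_mem (mem_zpowers _) i) c1)
  rw [mem_zpowers_pow_iff h.ord (by omega) (pow_mem (mem_zpowers _) i), ← pow_mul]
  rwa [← pow_mul, ← orderOf_dvd_iff_pow_eq_one, h.ord_c, ← h.ord, orderOf_dvd_iff_pow_eq_one] at c2

theorem cc_V : S ⊓ CC (Q ⊔ zpowers (x * y) : Subgroup G) ≤ Q ⊔ zpowers (x * y) := by
  obtain ⟨s, hs, hs'⟩ := h.a2.out_of_nonab (V_not_ab (x := x) (y := y) h8)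
  have h1 := h.V_le hQ hs
  rintro u ⟨hu, h2⟩
  by_cases e : u ∈ ZZ x y
  · exact mem_sup_right (h.fix h1 hs' e (h2 s hs))
  · exact absurd (h.fix hu e (pow_mem xU _) (h2 _ (h.x0_V hQ h8)).symm) h.x0_notMem

end V

theorem ess_cases (hB : B ≤ S) (hC : S ⊓ CC B ≤ B) (he : Ess B) :
    B = ZZ x y ∨ ∃ s ∈ S, s ∉ ZZ x y ∧ s * s = (x * y⁻¹) ^ 2 ^ n ∧ B = Xk (x * y⁻¹) (n - 1) s ⊔ zpowers (x * y) := by
  have hZ : zpowers (x * y) ≤ B := (le_inf h.Z_le (h.Z_cent.trans (cc_anti hB))).trans hC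
  by_cases e : B ≤ ZZ x y
  · exact .inl (le_antisymm e ((le_inf h.le (ab_le_cc h.abU le_rfl e)).trans hC))
  obtain ⟨s, hs, hs'⟩ := SetLike.not_le_iff_exists.1 e
  have hA := h.a2.inf' hB hs hs'
  have a1 : ¬ B ⊓ ZZ x y ≤ zpowers (x * y) := fun e => by
    obtain e1 | e1 := ess_cyc (h.pg.to_le hB) hA.toIx2 (cyc_mono (cyc_zpowers _) e) he
    · exact h.w_sq (elem_mul_self (klein_elem e1) (hZ (mem_zpowers _)))
    · exact h.w_sq (e1.center_sq ⟨hZ (mem_zpowers _), cc_anti hB h.w_cent⟩)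
  have a2 : ¬ IsMulCommutative B := fun e => a1 (h.ab_le hB e hs hs')
  obtain ⟨g, h1, h2, h3⟩ := he
  have a3 : g ∈ CC (zpowers (x * y)) := odd_cc_of_cyc (h.pg.to_le h.Z_le) (cyc_zpowers _) h2
    ((h.center_eq hB a2 hZ ▸ nn_inf le_rfl (nn_cc le_rfl) : NN B ≤ _) h1)
  have a4 : x ^ 2 ^ n ∈ B := by
    obtain ⟨u, hu, hu'⟩ := SetLike.not_le_iff_exists.1 a1
    obtain ⟨i, d, hd, rfl⟩ := h.mem_xv rfl hu.2
    have b1 : x ^ i ∈ B := (Subgroup.mul_mem_cancel_right _ (hZ hd)).1 hu.1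
    obtain ⟨X, hX, b2⟩ := pg_exists_card (h.pg.to_le (zpowers_le.2 (hB b1)))
      (mt zpowers_eq_bot.1 fun e => hu' (by rwa [e, one_mul]))
    exact (hX.trans (zpowers_le.2 b1)) ((cyc_eq (cyc_zpowers x) (hX.trans (zpowers_le.2 (pow_mem (mem_zpowers x) i)))
      (zpowers_le.2 (pow_mem (mem_zpowers x) _)) (by rw [b2, Nat.card_zpowers, h.ord_x0])).ge (mem_zpowers _))
  have a5 : B ⊓ C1 (x ^ 2 ^ n) ≤ B ⊓ ZZ x y := fun u hu => ⟨hu.1, by_contra fun e =>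
    h.x0_notMem (h.fix (hB hu.1) e (pow_mem xU _) (mem_C1.1 hu.2))⟩
  have a6 := conj_mem_of_mem_normalizer h1 a4
  have a7 : g * x ^ 2 ^ n * g⁻¹ ∉ ZZ x y := fun e => by
    refine h3 (hA.odd_cc (h.pg.to_le hB) h2 h1 (h.odd_cc inf_le_right h2 (inv_mem_iff.1 (mem_normalizer_of_cj_le ?_))
      (cc_le_C1 h.t_mem a3)))
    refine (le_inf (cj_le inf_le_left (inv_mem h1)) (cj_le_iff_le_cj_inv.2 ?_)).trans a5
    rw [inv_inv, ← cc_zpowers, cj_centralizer, cj_zpowers]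
    exact ab_le_cc h.abU inf_le_right (zpowers_le.2 e)
  set r := g * x ^ 2 ^ n * g⁻¹ with hr
  have b1 : x ^ 2 ^ n * r ∉ ZZ x y := by rwa [Subgroup.mul_mem_cancel_left _ (pow_mem xU _)]
  have b2 : x ^ 2 ^ n * r * (x ^ 2 ^ n * r) = (x * y⁻¹) ^ 2 ^ n := by
    rw [h.a2.sq_out, h.cnj_x0 (hB a6) a7, conj_mul_self (mul_self_of_orderOf h.ord_x0), mul_one, h.t_eq]
  have b3 := hB (mul_mem a4 a6)
  refine .inr ⟨_, b3, b1, b2, (eq_of_card_le (sup_le (sup_le (zpowers_le.2 ?_) (zpowers_le.2 (mul_mem a4 a6))) hZ)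
    ?_).symm⟩
  · exact (Subgroup.mul_mem_cancel_right _ (hZ (pow_mem (mem_zpowers _) _))).1 (h.cw ▸ a4)
  have b4 : cj g (B ⊓ ZZ x y) ≤ S := (cj_le inf_le_left h1).trans hB
  have b5 : r ∈ cj g (B ⊓ ZZ x y) := conj_mem_cj ⟨a4, pow_mem xU _⟩
  have b6 := card_le_of_le (h.ab_le b4 (ab_cj hA.ab g) b5 a7)
  have b7 := (h.a2.inf b4 b5 a7).card
  rw [card_cj] at b7
  rw [Nat.card_zpowers, h.ord_w] at b6
  rw [h.card_V (h.X_le b3 _) (h.q8_X b3 b1 b2), hA.card, b7, pow_succ, pow_succ]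
  omega

theorem ess_cases' (hB : B ≤ S) (hC : S ⊓ CC B ≤ B) (he : Ess B) :
    B = ZZ x y ∨ ∃ Q ≤ S, IsQ8 Q ∧ B = Q ⊔ zpowers (x * y) :=
  (h.ess_cases hB hC he).imp_right fun ⟨_, hs, hs', h1, h2⟩ => ⟨_, h.X_le hs _, h.q8_X hs hs' h1, h2⟩

theorem aut_cases (hB : B ≤ S) (hC : S ⊓ CC B ≤ B) (he : ¬ IsPGroup 2 (MulAut B)) :
    B = ZZ x y ∨ ∃ Q ≤ S, IsQ8 Q ∧ B = Q ⊔ zpowers (x * y) := by
  have hf : Function.Injective (MulAction.toPermHom G G) := MulAction.toPerm_injective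
  obtain e | ⟨_, ⟨s, hs, rfl⟩, hs', h1, e⟩ := (h.map hf).ess_cases (map_mono hB) (by
    rw [← map_inf_centralizer (inf_ker_eq_bot_of_injective hf S) le_rfl hB]; exact map_mono hC) (ess_perm he)
  · exact .inl (map_injective hf (by simp only [e, Subgroup.map_sup, MonoidHom.map_zpowers]))
  · have h2 : s ∉ ZZ x y := fun e => hs' (by
      simpa only [Subgroup.map_sup, MonoidHom.map_zpowers] using mem_map_of_mem (MulAction.toPermHom G G) e)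
    exact .inr ⟨_, h.X_le hs _, h.q8_X hs h2 (hf (by simpa only [map_mul, map_pow, map_inv] using h1)),
      map_injective hf (by simp only [e, Subgroup.map_sup, MonoidHom.map_zpowers, map_mul, map_pow, map_inv])⟩

theorem odd_T (ho : Odd (orderOf g)) (h1 : g ∈ NN (ZZ x y)) (h2 : g ∉ CC (ZZ x y)) :
    g ∈ NN (ZZ (x ^ 2 ^ n) (y ^ 2 ^ n)) ∧ g ∉ CC (ZZ (x ^ 2 ^ n) (y ^ 2 ^ n)) :=
  ⟨mem_normalizer_of_conj_mem fun _ hv => h.mem_T (conj_mem_of_mem_normalizer h1 (T_le hv))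
    (conj_mul_self (elem_mul_self (klein_elem h.klein_T) hv) g), fun e => h2 (h.odd_cc le_rfl ho h1 (cc_le_C1 h.t_T e))⟩

theorem isConj_tx (h1 : Ess (ZZ x y)) : IsConj ((x * y⁻¹) ^ 2 ^ n) (x ^ 2 ^ n) := by
  obtain ⟨g, h1, h2, h3⟩ := h1
  obtain ⟨c, -, e⟩ := klein_conj_of_odd h.klein_T (h.odd_T h2 h1 h3).1 h2 (h.odd_T h2 h1 h3).2 h.t_T h.t_ne xU h.x0_ne
  exact isConj_iff.2 ⟨c, e⟩

theorem U_le_res (h1 : Ess (ZZ x y)) : ZZ x y ≤ pResidual 2 G := by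
  obtain ⟨g, h1, h2, h3⟩ := h1
  have hU := h.pg.to_le h.le
  rw [← cop_comm_eq (zpowers_le.2 h1) (coprime_of_odd hU h2) (sol_of_pg hU) (by_contra fun e => ?_)]
  · exact (comm_le_right nn_normal).trans' (commutator_mono le_rfl (zpowers_le.2 (mem_pResidual_of_coprime
      (odd_iff_coprime_two.1 h2))))
  obtain ⟨X, hX, h4⟩ := pg_exists_card (hU.to_le inf_le_left) e
  obtain ⟨u, hu, h5⟩ := exists_ne_one (prime_ne_bot (h4 ▸ Nat.prime_two))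
  have h6 := h.mem_T (hX hu).1 (pow_two u ▸ orderOf_dvd_iff_pow_eq_one.1 (h4 ▸ orderOf_dvd hu))
  have key : ∀ v ∈ ZZ (x ^ 2 ^ n) (y ^ 2 ^ n), v ≠ 1 → u = v := fun v hv h7 => by
    obtain ⟨c, hc, e⟩ := klein_conj_of_odd h.klein_T (h.odd_T h2 h1 h3).1 h2 (h.odd_T h2 h1 h3).2 h6 h5 hv h7
    rw [← e, (hX hu).2 c hc, mul_inv_cancel_right]
  exact h.x0_notMem ((key _ xU h.x0_ne).symm.trans (key _ h.t_T h.t_ne) ▸ h.t_mem)

theorem isConj_xz (hQ : Q ≤ S) (h8 : IsQ8 Q) (h1 : Ess (Q ⊔ zpowers (x * y))) : IsConj (x ^ 2 ^ n) z := by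
  obtain ⟨g, h1, h2, h3, h4⟩ := h.ess_V hQ h8 h1
  have a1 := h.c1_Q hQ h8
  have a2 := sup_le (h.Q_cc hQ) (zpowers_le.2 h4)
  obtain ⟨s, hs, hs', h5, e⟩ := h.q8 hQ h8
  obtain ⟨c, hc, e1⟩ := h8.trans h2 h1 h3 a1 (h.mcY.w_mul h.one ▸ h.t_ne) (e ▸ yU : s ∈ Q) (h5 ▸ h.t_ne)
  have hd : (x * y) ^ 2 ^ (n - 1) ∈ zpowers (x * y) := pow_mem (mem_zpowers _) _
  obtain ⟨u, -, e2⟩ := h.out_conj (mul_mem hs (h.Z_le hd)) (by rwa [Subgroup.mul_mem_cancel_right _ (wU hd)])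
    h.mem_z h.notMem (by
      rw [h.sq, ← e1, ← conj_eq_of_cc (a2 hc) hd, conj_mul, h.cw, conj_mul_self (mul_self_of_orderOf h.ord_x0)])
  refine (isConj_iff.2 ⟨c, ?_⟩).trans (isConj_iff.2 ⟨u, e2⟩)
  rw [← h.cw, ← conj_mul, e1, conj_eq_of_cc (a2 hc) hd]

theorem Y_le_res (hQ : Q ≤ S) (h8 : IsQ8 Q) (h1 : Ess (Q ⊔ zpowers (x * y))) :
    ZZ (x * y⁻¹) (x ^ 2 ^ n * z) ≤ pResidual 2 G := by
  obtain ⟨g, h1, h2, h3, -⟩ := h.ess_V hQ h8 h1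
  have a1 := h.c1_Q hQ h8
  have a2 := mul_mem (conj_mem_of_mem_normalizer h1 a1) (inv_mem a1)
  have a3 := h.q8_le hQ h8 a2
  have a4 : g * (x * y⁻¹) ^ 2 ^ (n - 1) * g⁻¹ * ((x * y⁻¹) ^ 2 ^ (n - 1))⁻¹ ∉ ZZ x y := fun e => by
    obtain ⟨s, hs, hs', h5, rfl⟩ := h.q8 hQ h8
    exact h8.conj_notMem h2 h1 h3 a1 (h.mcY.w_mul h.one ▸ h.t_ne) ((Subgroup.mul_mem_cancel_right _
      (inv_mem (mem_zpowers _))).1 ((h.mc hs hs' (h5 ▸ pow_mem (mem_zpowers _) _)).X_inf (by omega) (h.Y_inf a3 e) a2))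
  have a5 := comm_mem_res h2 ((x * y⁻¹) ^ 2 ^ (n - 1))
  refine h.mcY.a2.le_of a3 (fun e => a4 (cU e)) (zpowers_le.2 ?_) a5
  have a6 := (inferInstance : (pResidual 2 G).Normal).conj_mem _ a5 (x ^ 1)
  rwa [h.conj_x (h.Y_le a3) a4, Subgroup.mul_mem_cancel_right _ a5, pow_one] at a6

section Fus
variable {P : Sylow 2 G} (hP : Wr (P : Subgroup G) x y z n) (hQ : Q ≤ P) (h8 : IsQ8 Q)
omit h
include hP

theorem relIndex_U : (CC (ZZ x y)).relIndex (NN (ZZ x y)) = 2 ∨ (CC (ZZ x y)).relIndex (NN (ZZ x y)) = 6 := by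
  have h1 : NN (ZZ x y) ≤ NN (ZZ (x ^ 2 ^ n) (y ^ 2 ^ n)) := fun g hg => mem_normalizer_of_conj_mem fun _ hv =>
    hP.mem_T (conj_mem_of_mem_normalizer hg (T_le hv)) (conj_mul_self (elem_mul_self (klein_elem hP.klein_T) hv) g)
  have h2 : NN (ZZ x y) ⊓ CC (ZZ (x ^ 2 ^ n) (y ^ 2 ^ n)) ≤ CC (ZZ x y) := fun g hg => by
    obtain ⟨a, ha, s, hs, rfl⟩ := (((isSyl_top P).mono hP.a2.nn le_top).inf_of_le_normalizer inf_le_left
      (nn_inf (le_nn _) (nn_cc h1))).exists_res_mul hg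
    refine mul_mem (res_le_iff.2 (fun g hg ho => hP.odd_cc le_rfl (odd_iff_coprime_two.2 ho) (mem_inf.1 hg).1
      (cc_le_C1 hP.t_T (mem_inf.1 hg).2)) ha) (ab_cc hP.abU (by_contra fun e => hP.x0_notMem ?_))
    exact hP.fix hs.1 e (pow_mem xU _) (hs.2.2 _ xU).symm
  refine two_or_six ?_ (nn_cc le_rfl) (hP.a2.nn hP.mem_z) (fun e => hP.notMem ((hP.a2.cc_eq hP.not_ab).le ⟨hP.mem_z, e⟩))
    (hP.pg.to_le (zpowers_le.2 hP.mem_z))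
  rw [← inf_relIndex_left, le_antisymm (inf_le_inf_left _ (cc_anti T_le)) (le_inf inf_le_left h2), inf_relIndex_left]
  exact BG.relIndex_Ct_dvd_of_el_two ⟨klein_elem hP.klein_T, hP.klein_T.card_four⟩ h1

theorem essV {Q' : Subgroup G} (hQ : Q ≤ P) (h8 : IsQ8 Q) (hQ' : Q' ≤ P) (h8' : IsQ8 Q') :
    Ess (Q ⊔ zpowers (x * y)) ↔ Ess (Q' ⊔ zpowers (x * y)) := by
  obtain ⟨u, -, -, e⟩ := hP.q8_conj hQ h8 hQ' h8'
  rw [← e, ess_cj]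

theorem invol' {t : G} (ht : orderOf t = 2) : IsConj ((x * y⁻¹) ^ 2 ^ n) t ∨ IsConj (x ^ 2 ^ n) t ∨ IsConj z t := by
  obtain ⟨v, hv, h1, h2⟩ := exists_conj_invol_mem_sylow P ht
  obtain rfl | ⟨u, -, e⟩ | ⟨u, -, e⟩ := hP.invol hv h1
  exacts [.inl h2, .inr (.inl ((isConj_iff.2 ⟨u, e⟩).trans h2)), .inr (.inr ((isConj_iff.2 ⟨u, e⟩).trans h2))]

theorem nn_cc_Z (hQ : Q ≤ P) (h8 : IsQ8 Q) : NN (Q ⊔ zpowers (x * y) : Subgroup G) ≤ CC (zpowers (x * y)) := by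
  refine le_of_pg fun q hq _ R hR h1 => ?_
  by_cases e : q = 2
  · subst e
    obtain ⟨g, hg⟩ := exists_cj_le_sylow P (pg_sup_l (hP.pg.to_le (hP.V_le hQ)) h1 hR)
    have h2 := hP.a2.center_le ((cj_mono g le_sup_left).trans hg) fun e => V_not_ab (x := x) (y := y) h8 (by
      have := ab_cj e g⁻¹; rwa [cj_inv_cj] at this)
    rw [← cj_centralizer, ← cj_inf, hP.center_V hQ h8] at h2
    rw [← cj_le_cj_iff (g := g), cj_centralizer]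
    exact cc_symm (h2.trans (cc_anti ((cj_mono g le_sup_right).trans hg)))
  · haveI := Fact.mk hq
    intro g hg
    obtain ⟨k, hk⟩ := Solv.exists_orderOf_eq_pow h1 hg
    exact hP.odd_Z hQ h8 (hk ▸ (hq.odd_of_ne_two e).pow) (hR hg)

theorem Z_closed (h1 : ¬ Ess (ZZ x y)) (hu : u ∈ zpowers (x * y)) (hg : g * u * g⁻¹ ∈ P) : g * u * g⁻¹ = u := by
  have key : ∀ k ∈ CC (zpowers (x * y)), ∀ a, a ∈ zpowers (x * y) ∨ k * a * k⁻¹ ∈ zpowers (x * y) →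
      a = k * a * k⁻¹ := fun k hk a e => e.elim (fun e => (conj_eq_of_cc hk e).symm) fun e => by
    simpa [mul_assoc] using conj_eq_of_cc (inv_mem hk) e
  refine (fusion_ess P (fun a b => a ∈ zpowers (x * y) ∨ b ∈ zpowers (x * y) → a = b)
    (fun _ _ _ _ e e1 => (e e1.symm).symm) (fun a _ b _ c _ e1 e2 e => ?_)
    (fun s hs a _ => key s (cc_symm hP.Z_cent hs) a) (fun B hB h2 he k hk a _ => ?_) (hP.Z_le hu) hg (.inl hu)).symm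
  · rcases e with e | e
    exacts [(e1 (.inl e)).trans (e2 (.inl (e1 (.inl e) ▸ e))), (e1 (.inr (e2 (.inr e) ▸ e))).trans (e2 (.inr e))]
  · obtain rfl | ⟨Q, hQ, h8, rfl⟩ := hP.ess_cases' hB h2 he
    exacts [absurd he h1, key k (hP.nn_cc_Z hQ h8 hk) a]

theorem not_isConj_t (h1 : ¬ Ess (ZZ x y)) (hs : s ∈ P) (h2 : s ∉ zpowers (x * y)) :
    ¬ IsConj ((x * y⁻¹) ^ 2 ^ n) s := fun e => by
  obtain ⟨g, rfl⟩ := isConj_iff.1 e
  exact h2 ((hP.Z_closed h1 hP.t_mem hs).symm ▸ hP.t_mem)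

include hQ h8

theorem relIndex_V : (Q ⊔ zpowers (x * y) ⊔ CC (Q ⊔ zpowers (x * y) : Subgroup G)).relIndex
    (NN (Q ⊔ zpowers (x * y) : Subgroup G)) = 2 ∨ (Q ⊔ zpowers (x * y) ⊔ CC (Q ⊔ zpowers (x * y) : Subgroup G)).relIndex
    (NN (Q ⊔ zpowers (x * y) : Subgroup G)) = 6 := by
  have h1 := hP.nn_Q hQ h8
  have h2 := hP.nn_cc_Z hQ h8
  have h3 := hP.V_le hQ
  have h4 := hP.cc_V hQ h8
  obtain ⟨s, hs, hs'⟩ := (hP.ix2_V hQ h8).exists_out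
  have h5 : (CC (Q ⊔ zpowers (x * y) : Subgroup G)).relIndex Q = 4 := by
    rw [cc_sup, inf_comm, ← inf_relIndex_right, inf_right_comm, inf_eq_right.2 (hP.Q_cc hQ), inf_comm,
      inf_relIndex_right, h8.relIndex_cc]
  have h6 : (CC (Q ⊔ zpowers (x * y) : Subgroup G)).relIndex (NN (Q ⊔ zpowers (x * y) : Subgroup G)) ∣ 24 := by
    rw [cc_sup, inf_comm, ← inf_relIndex_right, inf_right_comm, inf_eq_right.2 h2, inf_comm, inf_relIndex_right]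
    exact (relIndex_dvd_of_nn (cc_le_nn _) h1 (nn_cc h1)).trans h8.relIndex_dvd
  have h7 : Q ⊔ zpowers (x * y) ⊔ CC (Q ⊔ zpowers (x * y) : Subgroup G) = Q ⊔ CC (Q ⊔ zpowers (x * y) : Subgroup G) := by
    rw [sup_assoc, sup_eq_right.2 (hP.Z_cent.trans (cc_anti h3))]
  set V := Q ⊔ zpowers (x * y)
  rw [← relIndex_mul_relIndex _ (V ⊔ CC V) _ le_sup_right (sup_le (le_nn _) (cc_le_nn _)), h7,
    relIndex_sup_of_le_normalizer (nn_cc (le_sup_left.trans (le_nn V))), h5, ← h7] at h6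
  exact two_or_six (Nat.dvd_of_mul_dvd_mul_left (by decide : 0 < 4) h6) (nn_sup le_rfl (nn_cc le_rfl)) hs.2
    (fun e => hs' (sup_le le_rfl ((inf_comm _ _).le.trans h4) ((dedekind' h3 (nn_cc (le_nn V))).le ⟨e, hs.1⟩)))
    (hP.pg.to_le (zpowers_le.2 hs.1))

theorem U_closed (h1 : ¬ Ess (Q ⊔ zpowers (x * y))) (hu : u ∈ ZZ x y) (hs : s ∈ P) (e : IsConj u s) : s ∈ ZZ x y := by
  obtain ⟨g, rfl⟩ := isConj_iff.1 e
  refine (fusion_ess P (fun a b => a ∈ ZZ x y ↔ b ∈ ZZ x y) (fun _ _ _ _ => Iff.symm) (fun _ _ _ _ _ _ => Iff.trans)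
    (fun s hs a _ => mem_normalizer_iff.1 (hP.a2.nn hs) a) (fun B hB h2 he k hk a _ => ?_) (hP.le hu) hs).1 hu
  obtain rfl | ⟨Q', hQ', h8', rfl⟩ := hP.ess_cases' hB h2 he
  exacts [mem_normalizer_iff.1 hk a, absurd ((hP.essV hQ h8 hQ' h8').2 he) h1]

theorem res_eq_Y (h1 : ¬ Ess (ZZ x y)) (h2 : Ess (Q ⊔ zpowers (x * y))) :
    (P : Subgroup G) ⊓ pResidual 2 G = ZZ (x * y⁻¹) (x ^ 2 ^ n * z) := by
  refine le_antisymm (inf_res_le P (hP.der.le.trans le_sup_left) fun B hB h3 he k hk a ha => ?_)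
    (le_inf hP.Y_le (hP.Y_le_res hQ h8 h2))
  obtain rfl | ⟨Q, hQ, h8, rfl⟩ := hP.ess_cases' hB h3 he
  · exact absurd he h1
  obtain ⟨q, hq, d, hd, rfl⟩ := (mem_sup_r (nn_of_cc (hP.Q_cc hQ))).1 ha
  rw [← conj_mul, conj_eq_of_cc (hP.nn_cc_Z hQ h8 hk) hd, mul_inv_rev, ← mul_assoc, mul_inv_cancel_right]
  exact hP.q8_le hQ h8 (mul_mem (conj_mem_of_mem_normalizer (hP.nn_Q hQ h8 hk) hq) (inv_mem hq))

theorem res_eq_U (h1 : Ess (ZZ x y)) (h2 : ¬ Ess (Q ⊔ zpowers (x * y))) : (P : Subgroup G) ⊓ pResidual 2 G = ZZ x y := by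
  refine le_antisymm (inf_res_le P hP.a2.der_le fun B hB h3 he k hk a ha => ?_) (le_inf hP.le (hP.U_le_res h1))
  obtain rfl | ⟨Q', hQ', h8', rfl⟩ := hP.ess_cases' hB h3 he
  exacts [mul_mem (conj_mem_of_mem_normalizer hk ha) (inv_mem ha), absurd ((hP.essV hQ h8 hQ' h8').2 he) h2]

theorem le_res (h1 : Ess (ZZ x y)) (h2 : Ess (Q ⊔ zpowers (x * y))) : (P : Subgroup G) ≤ pResidual 2 G :=
  hP.a2.le_of hP.mem_s0 hP.s0_out (hP.U_le_res h1) (hP.Y_le_res hQ h8 h2 yU)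

theorem npc (h1 : ¬ Ess (ZZ x y)) (h2 : ¬ Ess (Q ⊔ zpowers (x * y))) : HasNormalPComplement 2 G :=
  npc_ess P fun B hB h3 he => by
    obtain rfl | ⟨Q', hQ', h8', rfl⟩ := hP.ess_cases' hB h3 he
    exacts [h1 he, h2 ((hP.essV hQ h8 hQ' h8').2 he)]

theorem isConj_t (h1 : Ess (ZZ x y)) (h2 : Ess (Q ⊔ zpowers (x * y))) {t : G} (ht : orderOf t = 2) :
    IsConj ((x * y⁻¹) ^ 2 ^ n) t :=
  (hP.invol' ht).elim id fun e => (hP.isConj_tx h1).trans (e.elim id (hP.isConj_xz hQ h8 h2).trans)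

theorem ess_of_le (h1 : (P : Subgroup G) ≤ pResidual 2 G) : Ess (ZZ x y) ∧ Ess (Q ⊔ zpowers (x * y)) := by
  have h2 := inf_eq_left.2 h1
  by_cases e1 : Ess (ZZ x y) <;> by_cases e2 : Ess (Q ⊔ zpowers (x * y))
  · exact ⟨e1, e2⟩
  · exact absurd ((hP.res_eq_U hQ h8 e1 e2).symm.trans h2) hP.a2.ne
  · have := hP.mcY.card
    rw [← hP.res_eq_Y hQ h8 e1 e2, h2, hP.card] at this
    have := Nat.pow_right_injective le_rfl this; omega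
  · rw [(hasNPC_iff_inf_eq_bot P).1 (hP.npc hQ h8 e1 e2)] at h2
    exact absurd (mem_bot.1 (h2.ge hP.mem_z)) (ne_one_of_orderOf hP.ord_z)

end Fus
end Wr

end Cfsg.Agent.Transfer
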